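import Cfsg.Agent.Lib_H9_SG

set_option autoImplicit false

namespace Cfsg.Agent.H9

open Cfsg
open scoped Pointwise

/-- elements of prime order `p`, where `p` divides the group order only once, are conjugate up to powers -/
theorem conj_of_prime_order {G : Type*} [Group G] [Finite G] (p : ℕ) [hp : Fact p.Prime]
    (hp2 : ¬ p ^ 2 ∣ Nat.card G) {x y : G} (hx : orderOf x = p) (hy : orderOf y = p) :
    ∃ g : G, ∃ k : ℕ, k < p ∧ k ≠ 0 ∧ y = g * x ^ k * g⁻¹ := by
  classical
  have hdG : p ∣ Nat.card G := hx ▸ orderOf_dvd_natCard x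
  have hfac : (Nat.card G).factorization p = 1 := by
    have hne : Nat.card G ≠ 0 := Nat.card_pos.ne'
    have h1 : 1 ≤ (Nat.card G).factorization p :=
      (hp.out.dvd_iff_one_le_factorization hne).mp hdG
    have h2 : ¬ 2 ≤ (Nat.card G).factorization p := by
      intro h
      exact hp2 ((hp.out.pow_dvd_iff_le_factorization hne).mpr h)
    omega
  let P : Sylow p G := Sylow.ofCard (Subgroup.zpowers x) (by rw [Nat.card_zpowers, hx, hfac, pow_one])
  let Q : Sylow p G := Sylow.ofCard (Subgroup.zpowers y) (by rw [Nat.card_zpowers, hy, hfac, pow_one])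
  obtain ⟨g, hg⟩ := MulAction.exists_smul_eq G P Q
  have hyQ : y ∈ (Q : Subgroup G) := Subgroup.mem_zpowers y
  rw [← hg, Sylow.coe_subgroup_smul, Subgroup.mem_smul_pointwise_iff_exists] at hyQ
  obtain ⟨s, hs, rfl⟩ := hyQ
  have hs' : s ∈ Subgroup.zpowers x := hs
  rw [← mem_powers_iff_mem_zpowers, mem_powers_iff_mem_range_orderOf] at hs'
  simp only [Finset.mem_image, Finset.mem_range] at hs'
  obtain ⟨k, hk, rfl⟩ := hs'
  refine ⟨g, k, hx ▸ hk, ?_, by rw [MulAut.smul_def, MulAut.conj_apply]⟩
  rintro rfl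
  rw [pow_zero, smul_one, orderOf_one] at hy
  exact hp.out.one_lt.ne hy

def fixCnt (X p f : ℕ) : Bool :=
  allBelow (fun k => Nat.beq k 0 ||
    Nat.beq (countBelow (fun i => Nat.beq (itN k (app X) i) i) 24) f) p

theorem card_M24_sub : Nat.card (↥M24) = 244823040 := card_M24

theorem fix_of_order {X p f : ℕ} [hp : Fact p.Prime] (hX : inM24 X = true)
    (hpw : allBelow (fun i => Nat.beq (itN p (app X) i) i) 24 = true) (hf : f < 24)
    (hcnt : fixCnt X p f = true) (hp2 : ¬ p ^ 2 ∣ 244823040)
    {g : Equiv.Perm GolayPt} (hg : g ∈ M24) (ho : orderOf g = p) : (fixF g).card = f := by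
  have hXp := inM24_isPerm hX
  have h1 : permOf X ^ p = 1 := permOf_pow_one hXp hpw
  have hcard : ∀ k < p, k ≠ 0 → (fixF (permOf X ^ k)).card = f := by
    intro k hk hk0
    have := (allBelow_iff _ _).mp hcnt k hk
    rw [Bool.or_eq_true] at this
    rcases this with h | h
    · exact absurd (Nat.eq_of_beq_eq_true h) hk0
    · rw [card_fixF (f := itN k (app X))
        (fun i hi => (itN_spec (g := permOf X) (f := app X) (fun j hj => permOf_pt hXp hj)
          (fun j hj => app_lt hXp hj) k hi).1)
        (fun i hi => (itN_spec (g := permOf X) (f := app X) (fun j hj => permOf_pt hXp hj)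
          (fun j hj => app_lt hXp hj) k hi).2)]
      exact Nat.eq_of_beq_eq_true h
  have hX1 : permOf X ≠ 1 := by
    have h24 := hcard 1 hp.out.one_lt (by norm_num)
    rw [pow_one] at h24
    exact ne_one_of_fixF (by omega)
  have hoX : orderOf (permOf X) = p := orderOf_eq_prime h1 hX1
  have hXM := permOf_mem_M24 hX
  have hox : orderOf (⟨permOf X, hXM⟩ : M24) = p := by
    rw [← hoX]; exact Subgroup.orderOf_mk _ _
  have hoy : orderOf (⟨g, hg⟩ : M24) = p := by
    rw [← ho]; exact Subgroup.orderOf_mk _ _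
  obtain ⟨c, k, hk, hk0, he⟩ := conj_of_prime_order p (by rw [card_M24_sub]; exact hp2) hox hoy
  have he' : g = c.1 * permOf X ^ k * c.1⁻¹ := congrArg Subtype.val he
  rw [he', card_fixF_conj, hcard k hk hk0]

namespace Ordp
def x23 : ℕ := 807018250935707719028778518556264757
def x11 : ℕ := 978325040621691264596254644135575687
def x7 : ℕ := 900906812602501304854683879130664963
def x5 : ℕ := 975027498242181834114057799776444970
end Ordp

theorem fix23 {g : Equiv.Perm GolayPt} (hg : g ∈ M24) (ho : orderOf g = 23) : (fixF g).card = 1 :=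
  haveI : Fact (Nat.Prime 23) := ⟨by norm_num⟩
  fix_of_order (X := Ordp.x23) (by decide +kernel) (by decide +kernel) (by norm_num) (by decide +kernel)
    (by decide) hg ho

theorem fix11 {g : Equiv.Perm GolayPt} (hg : g ∈ M24) (ho : orderOf g = 11) : (fixF g).card = 2 :=
  haveI : Fact (Nat.Prime 11) := ⟨by norm_num⟩
  fix_of_order (X := Ordp.x11) (by decide +kernel) (by decide +kernel) (by norm_num) (by decide +kernel)
    (by decide) hg ho

theorem fix7 {g : Equiv.Perm GolayPt} (hg : g ∈ M24) (ho : orderOf g = 7) : (fixF g).card = 3 :=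
  haveI : Fact (Nat.Prime 7) := ⟨by norm_num⟩
  fix_of_order (X := Ordp.x7) (by decide +kernel) (by decide +kernel) (by norm_num) (by decide +kernel)
    (by decide) hg ho

theorem fix5 {g : Equiv.Perm GolayPt} (hg : g ∈ M24) (ho : orderOf g = 5) : (fixF g).card = 4 :=
  haveI : Fact (Nat.Prime 5) := ⟨by norm_num⟩
  fix_of_order (X := Ordp.x5) (by decide +kernel) (by decide +kernel) (by norm_num) (by decide +kernel)
    (by decide) hg ho

/-- an invariant set and its fixed points have the same size modulo `p` -/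
theorem card_inv_mod {σ : Equiv.Perm GolayPt} {p : ℕ} [hp : Fact p.Prime] (hσ : σ ^ p = 1)
    {O : Finset GolayPt} (hO : σ • O = O) : (O ∩ fixF σ).card ≡ O.card [MOD p] := by
  have hmem : ∀ x, σ x ∈ O ↔ x ∈ O := fun x => apply_mem_iff_of_smul_eq hO
  have h1 : (σ.subtypePerm hmem) ^ p ^ 1 = 1 := by
    rw [pow_one]
    ext x
    simp [Equiv.Perm.subtypePerm_pow, hσ]
  have h2 := Equiv.Perm.card_compl_support_modEq h1
  rw [Fintype.card_coe] at h2
  have h3 : (σ.subtypePerm hmem).supportᶜ = Finset.subtype (· ∈ O) (fixF σ) := by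
    ext x
    simp [mem_fixF, Subtype.ext_iff]
  rw [h3, Finset.card_subtype, Finset.filter_mem_eq_inter, Finset.inter_comm] at h2
  exact h2

end Cfsg.Agent.H9
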