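import Cfsg.Agent.Lib_H9_Aut9

set_option autoImplicit false

namespace Cfsg.Agent.H9

open Cfsg
open scoped Pointwise

theorem N22_cases {σ : Equiv.Perm GolayPt} (h : σ ∈ N22) :
    (σ none = none ∧ σ (some 0) = some 0) ∨ (σ none = some 0 ∧ σ (some 0) = none) := by
  have hs : σ • ({none, some 0} : Finset GolayPt) = {none, some 0} := h.2
  have h1 : σ none ∈ ({none, some 0} : Finset GolayPt) := apply_mem_of_smul_eq hs (by simp)
  have h2 : σ (some 0) ∈ ({none, some 0} : Finset GolayPt) := apply_mem_of_smul_eq hs (by simp)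
  have hne : σ none ≠ σ (some 0) := fun h => none_ne (σ.injective h)
  simp only [Finset.mem_insert, Finset.mem_singleton] at h1 h2
  rcases h1 with h1 | h1 <;> rcases h2 with h2 | h2
  · exact absurd (h1.trans h2.symm) hne
  · exact Or.inl ⟨h1, h2⟩
  · exact Or.inr ⟨h1, h2⟩
  · exact absurd (h1.trans h2.symm) hne

theorem M22_le_N22 : Spor.M22 ≤ N22 := by
  intro g hg
  rw [mem_M22] at hg
  refine ⟨hg.1, smul_eq_of_fix ?_⟩
  intro a ha
  rcases Finset.mem_insert.mp ha with rfl | ha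
  · exact hg.2.1
  · rw [Finset.mem_singleton.mp ha]; exact hg.2.2

theorem N22_norm {σ : Equiv.Perm GolayPt} (hσ : σ ∈ N22) {g : Equiv.Perm GolayPt} (hg : g ∈ Spor.M22) :
    σ * g * σ⁻¹ ∈ Spor.M22 := by
  rw [mem_M22] at hg ⊢
  refine ⟨M24.mul_mem (M24.mul_mem hσ.1 hg.1) (M24.inv_mem hσ.1), ?_, ?_⟩
  · rw [Equiv.Perm.mul_apply, Equiv.Perm.mul_apply]
    rcases N22_cases (N22.inv_mem hσ) with h | h
    · rw [h.1, hg.2.1]; exact (Equiv.Perm.inv_eq_iff_eq.mp h.1).symm
    · rw [h.1, hg.2.2]; exact (Equiv.Perm.inv_eq_iff_eq.mp h.1).symm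
  · rw [Equiv.Perm.mul_apply, Equiv.Perm.mul_apply]
    rcases N22_cases (N22.inv_mem hσ) with h | h
    · rw [h.2, hg.2.2]; exact (Equiv.Perm.inv_eq_iff_eq.mp h.2).symm
    · rw [h.2, hg.2.1]; exact (Equiv.Perm.inv_eq_iff_eq.mp h.2).symm

theorem N22_cent {σ : Equiv.Perm GolayPt} (hσ : σ ∈ N22) (h : ∀ g ∈ Spor.M22, σ * g * σ⁻¹ = g) : σ = 1 := by
  by_contra h1
  have h8 := fix_le_eight hσ.1 h1
  have hsub : (Finset.univ \ {none, some 0} : Finset GolayPt) ⊆ fixF σ := by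
    intro r hr
    simp only [Finset.mem_sdiff, Finset.mem_univ, true_and, Finset.mem_insert, Finset.mem_singleton,
      not_or] at hr
    rw [mem_fixF]
    by_contra hne
    have hr' : σ r ≠ none ∧ σ r ≠ some 0 := by
      rcases N22_cases hσ with hc | hc
      · exact ⟨fun e => hr.1 (σ.injective (e.trans hc.1.symm)), fun e => hr.2 (σ.injective (e.trans hc.2.symm))⟩
      · exact ⟨fun e => hr.2 (σ.injective (e.trans hc.2.symm)), fun e => hr.1 (σ.injective (e.trans hc.1.symm))⟩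
    obtain ⟨g, hg, hg1, hg2⟩ := M22_h3 hr.1 hr.2 hr'.1 hr'.2 (Ne.symm hne)
    apply hg2
    have e := h g hg
    have e2 : σ * g = g * σ := by
      have := congrArg (fun t => t * σ) e
      simpa [mul_assoc] using this
    have e3 := congrArg (fun t : Equiv.Perm GolayPt => t r) e2
    simp only [Equiv.Perm.mul_apply, hg1] at e3
    exact e3.symm
  have := Finset.card_le_card hsub
  rw [Finset.card_univ_sdiff, card_pts, Finset.card_pair none_ne] at this
  omega

theorem N22_idx {g0 : Equiv.Perm GolayPt} (hg0 : g0 ∈ M24) (h1 : g0 none = some 0) (h2 : g0 (some 0) = none)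
    {σ : Equiv.Perm GolayPt} (hσ : σ ∈ N22) :
    (σ ∈ Spor.M22 ∧ σ * g0 ∉ Spor.M22) ∨ (σ ∉ Spor.M22 ∧ σ * g0 ∈ Spor.M22) := by
  rcases N22_cases hσ with h | h
  · refine Or.inl ⟨mem_M22.mpr ⟨hσ.1, h.1, h.2⟩, fun hm => ?_⟩
    have := (mem_M22.mp hm).2.1
    rw [Equiv.Perm.mul_apply, h1, h.2] at this
    exact none_ne this.symm
  · refine Or.inr ⟨fun hm => ?_, mem_M22.mpr ⟨M24.mul_mem hσ.1 hg0, ?_, ?_⟩⟩
    · have := (mem_M22.mp hm).2.1
      rw [h.1] at this
      exact none_ne this.symm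
    · rw [Equiv.Perm.mul_apply, h1, h.2]
    · rw [Equiv.Perm.mul_apply, h2, h.1]

theorem swap_mem_N22 {g0 : Equiv.Perm GolayPt} (hg0 : g0 ∈ M24) (h1 : g0 none = some 0)
    (h2 : g0 (some 0) = none) : g0 ∈ N22 := by
  refine ⟨hg0, ?_⟩
  show g0 • ({none, some 0} : Finset GolayPt) = {none, some 0}
  rw [Finset.smul_finset_insert, Finset.smul_finset_singleton, Equiv.Perm.smul_def, Equiv.Perm.smul_def,
    h1, h2, Finset.pair_comm]

theorem out_M22 : Nat.card (Out ↥Spor.M22) = 2 := by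
  obtain ⟨g0, hg0, h⟩ := M24_list [none, some 0] [some 0, none] (by simp) (by simp) rfl (by simp)
  simp only [List.map_cons, List.map_nil, List.cons.injEq, and_true] at h
  apply out_two_of M22_le_N22 (fun σ hσ g hg => N22_norm hσ hg) (swap_mem_N22 hg0 h.1 h.2) (g0 := g0)
  · intro hm
    have := (mem_M22.mp hm).2.1
    rw [h.1] at this
    exact none_ne this.symm
  · intro σ hσ
    rcases N22_idx hg0 h.1 h.2 hσ with hh | hh
    · exact Or.inl hh.1
    · exact Or.inr hh.2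
  · intro σ hσ hc
    exact N22_cent hσ hc
  · exact M22_aut

end Cfsg.Agent.H9
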