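import Cfsg.Agent.Lib_H9_Aut10

set_option autoImplicit false

namespace Cfsg.Agent.H9

open Cfsg
open scoped Pointwise

namespace O8
def UT : ℕ := 492294579307981885141534248190052139196530832012946317328097620590847131180762601107078170746707599391068899554663995131541468020788626492899982352827841614086582179433093405042820073638498110870819435731471549331821892761231833385491048810362315553937014012159837968116549011792429243465864873034150671010744517741999271001610675632778744374062395119794799851400975324443530163115414848470649667859645848523767512950768439110809160910663568976939946838632386670293915608294803043914983484795528248077098935514844189707799878967470039067409380000263311058440828980184480329130204831127656725662406278338380282961405644055101680212701512861945941213647925983138349795130116865852805259765894698769467355654426973295180986654844973923703743273911838780894510982122234177606528165665746312516372005736509979131101266469422621009719724279488315586452347332401364149079105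
theorem ut_ok : utChk UT 16777185 1 2 3 4 = true := by decide +kernel
def Q (U S T : ℕ) : Bool := anyBelow (fun i => Nat.beq (cf3 U S T i) i) 24
theorem enum_ok : enumChk 8 UT 16777185 Q = true := by decide +kernel
end O8

theorem pow_fix {g : Equiv.Perm GolayPt} {a : GolayPt} {d : ℕ} (h : (g ^ d) a = a) (k : ℕ) :
    (g ^ (d * k)) a = a := by
  rw [pow_mul]
  exact Equiv.Perm.pow_apply_eq_self_of_apply_eq_self h k

/-- every element of order eight has a fixed point -/
theorem order8_fix {g : Equiv.Perm GolayPt} (hg : g ∈ M24) (ho : orderOf g = 8) : ∃ x, g x = x := by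
  have h8 : g ^ 8 = 1 := by rw [← ho]; exact pow_orderOf_eq_one g
  have h4 : g ^ 4 ≠ 1 := by
    intro h
    have := orderOf_dvd_of_pow_eq_one h
    rw [ho] at this
    norm_num at this
  obtain ⟨a, ha⟩ : ∃ a, (g ^ 4) a ≠ a := by
    by_contra hcon
    push Not at hcon
    exact h4 (Equiv.ext hcon)
  have hd : ∀ d, 1 ≤ d → d ≤ 4 → (g ^ d) a ≠ a := by
    intro d h1 h2 h
    interval_cases d
    · exact ha (pow_fix h 4)
    · exact ha (pow_fix h 2)
    · have h9 := pow_fix h 3
      have e : g ^ (3 * 3) = g ^ 1 := by
        have : g ^ (3 * 3) = g ^ 8 * g ^ 1 := by rw [← pow_add]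
        rw [this, h8, one_mul]
      rw [e] at h9
      exact ha (pow_fix h9 4)
    · exact ha h
  have key : ∀ i j, i < j → j ≤ 4 → (g ^ i) a ≠ (g ^ j) a := by
    intro i j hij hj h
    have e : g ^ j = g ^ i * g ^ (j - i) := by rw [← pow_add]; congr 1; omega
    rw [e, Equiv.Perm.mul_apply] at h
    exact hd (j - i) (by omega) (by omega) ((g ^ i).injective h).symm
  obtain ⟨h, hh, hmap⟩ := M24_list [pt 0, pt 1, pt 2, pt 3, pt 4]
    [(g ^ 0) a, (g ^ 1) a, (g ^ 2) a, (g ^ 3) a, (g ^ 4) a] std5_nodup (by
      simp only [List.nodup_cons, List.mem_cons, List.not_mem_nil, or_false, not_or, not_false_eq_true,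
        List.nodup_nil, and_true]
      exact ⟨⟨key 0 1 (by norm_num) (by norm_num), key 0 2 (by norm_num) (by norm_num),
        key 0 3 (by norm_num) (by norm_num), key 0 4 (by norm_num) (by norm_num)⟩,
        ⟨key 1 2 (by norm_num) (by norm_num), key 1 3 (by norm_num) (by norm_num),
        key 1 4 (by norm_num) (by norm_num)⟩, ⟨key 2 3 (by norm_num) (by norm_num),
        key 2 4 (by norm_num) (by norm_num)⟩, key 3 4 (by norm_num) (by norm_num)⟩) rfl (by simp)
  simp only [List.map_cons, List.map_nil, List.cons.injEq, and_true] at hmap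
  obtain ⟨m0, m1, m2, m3, m4⟩ := hmap
  set g' := h⁻¹ * g * h with hg'
  have hg'M : g' ∈ M24 := M24.mul_mem (M24.mul_mem (M24.inv_mem hh) hg) hh
  have hstep : ∀ i : ℕ, g ((g ^ i) a) = (g ^ (i + 1)) a := by
    intro i; rw [pow_succ', Equiv.Perm.mul_apply]
  have s0 : g' (pt 0) = pt 1 := by
    rw [hg', Equiv.Perm.mul_apply, Equiv.Perm.mul_apply, m0, hstep, Equiv.Perm.inv_eq_iff_eq, m1]
  have s1 : g' (pt 1) = pt 2 := by
    rw [hg', Equiv.Perm.mul_apply, Equiv.Perm.mul_apply, m1, hstep, Equiv.Perm.inv_eq_iff_eq, m2]
  have s2 : g' (pt 2) = pt 3 := by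
    rw [hg', Equiv.Perm.mul_apply, Equiv.Perm.mul_apply, m2, hstep, Equiv.Perm.inv_eq_iff_eq, m3]
  have s3 : g' (pt 3) = pt 4 := by
    rw [hg', Equiv.Perm.mul_apply, Equiv.Perm.mul_apply, m3, hstep, Equiv.Perm.inv_eq_iff_eq, m4]
  have h8' : g' ^ 8 = 1 := by
    have : g' = MulAut.conj h⁻¹ g := by rw [hg', MulAut.conj_apply, inv_inv]
    rw [this, ← map_pow, h8, map_one]
  have hf : idx (g' (pt 4)) < 24 := idx_lt _
  have hFm : (16777185 : ℕ).testBit (idx (g' (pt 4))) = true := by
    have hne : ∀ i, i < 4 → idx (g' (pt 4)) ≠ i + 1 := by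
      intro i hi he
      have e1 : g' (pt 4) = pt (i + 1) := by rw [← he, pt_idx]
      have e2 : g' (pt i) = pt (i + 1) := by
        interval_cases i
        · exact s0
        · exact s1
        · exact s2
        · exact s3
      have := pt_injective (by norm_num) (by omega) (g'.injective (e1.trans e2.symm))
      omega
    generalize idx (g' (pt 4)) = f at hf hne
    have h1 := hne 0 (by norm_num)
    have h2 := hne 1 (by norm_num)
    have h3 := hne 2 (by norm_num)
    have h4 := hne 3 (by norm_num)
    interval_cases f <;> first | rfl | omega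
  obtain ⟨U, S, T, hpt, _, hQ⟩ := pattern_enum O8.ut_ok O8.enum_ok hg'M h8' s0 s1 s2 s3 hf hFm (pt_idx _).symm
  obtain ⟨i, hi, hi'⟩ := (anyBelow_iff _ _).mp hQ
  refine ⟨h (pt i), ?_⟩
  have e := hpt i hi
  rw [Nat.eq_of_beq_eq_true hi', hg', Equiv.Perm.mul_apply, Equiv.Perm.mul_apply,
    Equiv.Perm.inv_eq_iff_eq] at e
  exact e

end Cfsg.Agent.H9
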