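import Cfsg.Agent.Lib_H9_M12

set_option autoImplicit false

namespace Cfsg.Agent.H9

open Cfsg
open scoped Pointwise

theorem card_stab_mul_orbit {X : Type*} [MulAction M24 X] (x : X) :
    (MulAction.orbit M24 x).ncard * Nat.card (MulAction.stabilizer M24 x) = 244823040 := by
  rw [← MulAction.index_stabilizer, Subgroup.index_mul_card, card_M24]

theorem card_inf_stab {G X : Type*} [Group G] [MulAction G X] (H : Subgroup G) (p : X) :
    Nat.card H = (MulAction.orbit H p).ncard * Nat.card (H ⊓ MulAction.stabilizer G p : Subgroup G) := by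
  have e1 : (MulAction.stabilizer H p).index * Nat.card (MulAction.stabilizer H p) = Nat.card H :=
    Subgroup.index_mul_card _
  have e2 : (MulAction.stabilizer H p).index = (MulAction.orbit H p).ncard := MulAction.index_stabilizer H p
  have e4 : MulAction.stabilizer H p = (H ⊓ MulAction.stabilizer G p).subgroupOf H := by
    ext g
    rw [MulAction.mem_stabilizer_iff, Subgroup.mem_subgroupOf, Subgroup.mem_inf,
      MulAction.mem_stabilizer_iff]
    constructor
    · intro h; exact ⟨g.2, h⟩
    · intro h; exact h.2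
  rw [← e1, e2, e4, card_subgroupOf_of_le inf_le_left]

theorem ncard_dodecads : dodecads.ncard = 2576 := by
  unfold dodecads
  rw [ncard_wordsOfWeight]
  decide +kernel

theorem orbit_dodecad {d : Finset GolayPt} (hd : d ∈ dodecads) : MulAction.orbit M24 d = dodecads := by
  ext e
  rw [MulAction.mem_orbit_iff]
  constructor
  · rintro ⟨g, rfl⟩; exact smul_mem_dodecads g.2 hd
  · intro he
    obtain ⟨g, hg, h⟩ := M24_trans_dodecads hd he
    exact ⟨⟨g, hg⟩, h⟩

theorem orbit_octad {d : Finset GolayPt} (hd : d ∈ octads) : MulAction.orbit M24 d = octads := by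
  ext e
  rw [MulAction.mem_orbit_iff]
  constructor
  · rintro ⟨g, rfl⟩; exact smul_mem_octads g.2 hd
  · intro he
    obtain ⟨g, hg, h⟩ := M24_trans_octads hd he
    exact ⟨⟨g, hg⟩, h⟩

theorem card_stab_dodecad {d : Finset GolayPt} (hd : d ∈ dodecads) :
    Nat.card (MulAction.stabilizer M24 d) = 95040 := by
  have := card_stab_mul_orbit d
  rw [orbit_dodecad hd, ncard_dodecads] at this
  omega

theorem card_stab_octad {d : Finset GolayPt} (hd : d ∈ octads) :
    Nat.card (MulAction.stabilizer M24 d) = 322560 := by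
  have := card_stab_mul_orbit d
  rw [orbit_octad hd, ncard_octads] at this
  omega

/-- single-point transitivity of a dodecad stabiliser on the dodecad -/
theorem dod_one {d : Finset GolayPt} (hd : d ∈ dodecads) {p q : GolayPt} (hp : p ∈ d) (hq : q ∈ d) :
    ∃ g ∈ M24, g • d = d ∧ g p = q := by
  -- extend p and q to five-tuples
  have ext : ∀ p ∈ d, ∃ x : Fin 5 ↪ GolayPt, (∀ i, x i ∈ d) ∧ x 0 = p := by
    intro p hp
    obtain ⟨s, hs, hs4⟩ := Finset.exists_subset_card_eq (s := d.erase p) (n := 4)
      (by rw [Finset.card_erase_of_mem hp, hd.2]; norm_num)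
    have hps : p ∉ s := fun h => (Finset.mem_erase.mp (hs h)).1 rfl
    have hc : (insert p s).card = 5 := by rw [Finset.card_insert_of_notMem hps, hs4]
    let e := ((insert p s).equivFinOfCardEq hc)
    let i0 := e ⟨p, Finset.mem_insert_self p s⟩
    let x : Fin 5 ↪ GolayPt :=
      ((Equiv.swap 0 i0).trans e.symm).toEmbedding.trans (Function.Embedding.subtype _)
    refine ⟨x, fun i => ?_, ?_⟩
    · have := (((Equiv.swap 0 i0).trans e.symm) i).2
      rcases Finset.mem_insert.mp this with h | h
      · show ((((Equiv.swap 0 i0).trans e.symm) i : GolayPt)) ∈ d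
        rw [h]; exact hp
      · exact Finset.mem_of_mem_erase (hs h)
    · simp [x, i0]
  obtain ⟨x, hx, hx0⟩ := ext p hp
  obtain ⟨y, hy, hy0⟩ := ext q hq
  obtain ⟨g, hg, hgd, hgxy⟩ := dod_five hd x y hx hy
  exact ⟨g, hg, hgd, by rw [← hx0, ← hy0]; exact hgxy 0⟩

theorem card_stab_dodecad_pt {d : Finset GolayPt} (hd : d ∈ dodecads) {p : GolayPt} (hp : p ∈ d) :
    Nat.card ↥(MulAction.stabilizer M24 d ⊓ MulAction.stabilizer M24 p) = 7920 := by
  have h := card_inf_stab (MulAction.stabilizer M24 d) p
  have ho : MulAction.orbit (MulAction.stabilizer M24 d) p = ↑d := by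
    ext q
    rw [MulAction.mem_orbit_iff, Finset.mem_coe]
    constructor
    · rintro ⟨g, rfl⟩
      have hg : (g : M24) • d = d := g.2
      have hg' : ((g : M24) : Equiv.Perm GolayPt) • d = d := hg
      exact apply_mem_of_smul_eq hg' hp
    · intro hq
      obtain ⟨g, hg, hgd, hgp⟩ := dod_one hd hp hq
      exact ⟨⟨⟨g, hg⟩, hgd⟩, hgp⟩
  rw [ho, card_stab_dodecad hd, Set.ncard_coe_finset, hd.2] at h
  omega

end Cfsg.Agent.H9
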