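import Cfsg.Statements.S0389
import Cfsg.Agent.Lib_H9_Card

set_option autoImplicit false
open scoped Pointwise
open Cfsg

namespace Cfsg.Agent.S0389

open Cfsg.Agent.H9 in
theorem flag_orbit {d : Finset Cfsg.GolayPt} (hd : d ∈ Cfsg.dodecads) {p : Cfsg.GolayPt} (hp : p ∈ d) :
    ∃ h ∈ Cfsg.M24, h • ofMask 340831 = d ∧ h (pt 0) = p := by
  obtain ⟨h, hh, rfl⟩ := dodecad_orbit hd
  have h0 : pt 0 ∈ ofMask 340831 := by rw [mem_ofMask, idx_pt (by norm_num)]; decide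
  obtain ⟨k, hk, hkd, hkp⟩ := dod_one D0_mem h0 (Finset.inv_smul_mem_iff.mpr hp)
  refine ⟨h * k, Cfsg.M24.mul_mem hh hk, by rw [mul_smul, hkd], ?_⟩
  rw [Equiv.Perm.mul_apply, hkp]
  show h (h⁻¹ p) = p
  simp

open Cfsg.Agent.H9 in

/-- The stabiliser of a dodecad and a point on it is 3-transitive on the complementary dodecad. -/
theorem result (d : Finset Cfsg.GolayPt) (hd : d ∈ Cfsg.dodecads) (p : Cfsg.GolayPt) (hp : p ∈ d) (x y : Fin 3 ↪ Cfsg.GolayPt) (hx : ∀ i, x i ∉ d) (hy : ∀ i, y i ∉ d) : ∃ g ∈ MulAction.stabilizer Cfsg.M24 d ⊓ MulAction.stabilizer Cfsg.M24 p, ∀ i, (g : Equiv.Perm Cfsg.GolayPt) (x i) = y i := by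
  obtain ⟨h, hh, hd0, hp0⟩ := flag_orbit hd hp
  subst hd0
  have hmem : ∀ z : Cfsg.GolayPt, z ∉ h • ofMask 340831 → (h⁻¹ : Equiv.Perm Cfsg.GolayPt) z ∈ ofMask 16436384 := by
    intro z hz
    rw [ofMask_compl_D0, Finset.mem_compl]
    intro hc
    exact hz (Finset.inv_smul_mem_iff.mp hc)
  obtain ⟨g, hg, hgxy⟩ := chain_spec₂ M12d.chain11c_ok GS_inv_D0c
    (x.trans (h⁻¹ : Equiv.Perm Cfsg.GolayPt).toEmbedding) (y.trans (h⁻¹ : Equiv.Perm Cfsg.GolayPt).toEmbedding)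
    (fun i => hmem _ (hx i)) (fun i => hmem _ (hy i))
  have hgM : h * g * h⁻¹ ∈ Cfsg.M24 := Cfsg.M24.mul_mem (Cfsg.M24.mul_mem hh hg.1) (Cfsg.M24.inv_mem hh)
  refine ⟨⟨h * g * h⁻¹, hgM⟩, ?_, fun i => ?_⟩
  · rw [Subgroup.mem_inf, MulAction.mem_stabilizer_iff, MulAction.mem_stabilizer_iff]
    constructor
    · show (h * g * h⁻¹) • (h • ofMask 340831) = h • ofMask 340831
      rw [mul_smul, mul_smul, inv_smul_smul, GS_inv_D0 g hg]
    · show (h * g * h⁻¹) p = p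
      have hg0 : g (pt 0) = pt 0 := hg.2.1 _ (by rw [mem_ofMask, idx_pt (by norm_num)]; decide)
      rw [← hp0, Equiv.Perm.mul_apply, Equiv.Perm.mul_apply]
      simp [hg0]
  · have := hgxy i
    simp only [Function.Embedding.trans_apply, Equiv.coe_toEmbedding] at this
    show (h * g * h⁻¹) (x i) = y i
    rw [Equiv.Perm.mul_apply, Equiv.Perm.mul_apply, this]
    simp

end Cfsg.Agent.S0389
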