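import Cfsg.Agent.Lib_H9_Aut11
import Cfsg.Agent.S0389

set_option autoImplicit false

namespace Cfsg.Agent.H9

open Cfsg
open scoped Pointwise

namespace A12
def g8 : ℕ := 606514449205632349240368577872531528
theorem g8_in : inGS g8 8192 [340831] = true := by decide +kernel
theorem g8_pow8 : allBelow (fun i => Nat.beq (itN 8 (app g8) i) i) 24 = true := by decide +kernel
theorem g8_pow4 : Nat.beq (itN 4 (app g8) 1) 1 = false := by decide +kernel
theorem g8_bit : bit 340831 13 = true := by decide +kernel
def BT : ℕ := 71818081992485429572744277547407094691334454264325706789292195023389863881708120002561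
def ST : ℕ := 496546767670252222634588218388365553393115148310921670289904445340714726691967685329759
def ZT : ℕ := 5070593938470568914225014321119874560453750455675424410004197193622876509850105239508088430572657481247137492023359759021123297969608151281860502898409698645038399803505836275178957569397066529255625663446810314592106013169168382014135935413553788912449583471091095677303662855725423170504718776527668921079214283233095595088901252111557777102004033691119602409264701153337530146040488799233748611274734350268622091976405262309536896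
def bs (j : ℕ) : ℕ := Nat.land (Nat.shiftRight BT (Nat.mul 24 j)) 16777215
theorem sel_ok : allBelow (fun t => Nat.beq (gen t) (xorSel bs 12 (fld ST 12 4095 t))) 24 = true := by
  decide +kernel
theorem inv_ok : invChk ZT bs 0 [340831] 0 12 = true := by decide +kernel
end A12

theorem compl_mem_dodecads {d : Finset GolayPt} (hd : d ∈ dodecads) : dᶜ ∈ dodecads :=
  ⟨compl_mem_CC hd.1, by rw [Finset.card_compl, card_pts, hd.2]⟩

theorem SG_compl (d P : Finset GolayPt) : SG dᶜ P = SG d P := by
  ext g
  rw [mem_SG, mem_SG, smul_compl, compl_inj_iff]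

theorem stabP_SG (d P : Finset GolayPt) (c : GolayPt) : stabP (SG d P) c = SG d (insert c P) := by
  ext g
  rw [mem_stabP, mem_SG, mem_SG]
  simp only [Finset.mem_insert, forall_eq_or_imp]
  tauto

theorem order_g8 : orderOf (permOf A12.g8) = 8 := by
  have hp := inGS_isPerm A12.g8_in
  have h8 : permOf A12.g8 ^ 2 ^ (2 + 1) = 1 := permOf_pow_one hp A12.g8_pow8
  have h4 : ¬ permOf A12.g8 ^ 2 ^ 2 = 1 := by
    intro h
    have e := (itN_spec (g := permOf A12.g8) (f := app A12.g8) (fun j hj => permOf_pt hp hj)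
      (fun j hj => app_lt hp hj) 4 (i := 1) (by norm_num))
    have h' : permOf A12.g8 ^ 4 = 1 := h
    rw [h'] at e
    have e1 : pt 1 = pt (itN 4 (app A12.g8) 1) := e.1
    have := pt_injective (by norm_num) e.2 e1
    have h2 := A12.g8_pow4
    rw [← this] at h2
    simp at h2
  have : Fact (Nat.Prime 2) := ⟨by norm_num⟩
  exact orderOf_eq_prime_pow h4 h8

/-- each point stabiliser in a dodecad stabiliser contains an element of order eight -/
theorem dod_order8 {d : Finset GolayPt} (hd : d ∈ dodecads) {c : GolayPt} (hc : c ∈ d) :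
    ∃ g ∈ SG d ∅, g c = c ∧ orderOf g = 8 := by
  obtain ⟨h, hh, hd', hl⟩ := dod_std hd [c] [pt 13] (by simp) (by simp) rfl (by simp) (by simpa using hc)
    (by
      intro a ha
      rw [List.mem_singleton.mp ha, mem_ofMask, idx_pt (by norm_num), ← bit_eq]
      exact A12.g8_bit)
  simp only [List.map_cons, List.map_nil, List.cons.injEq, and_true] at hl
  have hg := permOf_mem_GS A12.g8_in
  refine ⟨h * permOf A12.g8 * h⁻¹, ⟨M24.mul_mem (M24.mul_mem hh hg.1) (M24.inv_mem hh), ?_, by simp⟩, ?_, ?_⟩
  · rw [← hd', mul_smul, mul_smul, inv_smul_smul, GS_inv_D0 _ hg]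
  · have hfix : permOf A12.g8 (pt 13) = pt 13 := hg.2.1 _ (by
      rw [mem_ofMask, idx_pt (by norm_num)]; decide)
    rw [← hl, Equiv.Perm.mul_apply, Equiv.Perm.mul_apply]
    simp [hfix]
  · have : h * permOf A12.g8 * h⁻¹ = MulAut.conj h (permOf A12.g8) := rfl
    rw [this, MulEquiv.orderOf_eq, order_g8]

theorem LT_of_emb {k : ℕ} {H : Subgroup (Equiv.Perm GolayPt)} {Ω : Finset GolayPt} (hΩ : k ≤ Ω.card)
    (hk : ∀ x y : Fin k ↪ GolayPt, (∀ i, x i ∈ Ω) → (∀ i, y i ∈ Ω) → ∃ g ∈ H, ∀ i, g (x i) = y i) :
    LT k H Ω := by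
  intro l l' hl hl' hlen h5 hld hld'
  obtain ⟨m, h1, h2, h3⟩ := extend_list Ω k hΩ (k - l.length) l hl hld (by omega)
  obtain ⟨m', h1', h2', h3'⟩ := extend_list Ω k hΩ (k - l.length) l' hl' hld' (by omega)
  have e1 : (l ++ m).length = k := by rw [List.length_append, h2]; omega
  have e2 : (l' ++ m').length = k := by rw [List.length_append, h2']; omega
  let x : Fin k ↪ GolayPt := (Fin.castOrderIso e1.symm).toEmbedding.trans ⟨(l ++ m).get, h1.injective_get⟩
  let y : Fin k ↪ GolayPt := (Fin.castOrderIso e2.symm).toEmbedding.trans ⟨(l' ++ m').get, h1'.injective_get⟩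
  obtain ⟨g, hg, h⟩ := hk x y (fun i => h3 _ (List.get_mem _ _)) (fun i => h3' _ (List.get_mem _ _))
  refine ⟨g, hg, ?_⟩
  have hall : (l ++ m).map g = l' ++ m' := by
    apply List.ext_get (by rw [List.length_map, e1, e2])
    intro n hn1 hn2
    have := h ⟨n, by rw [← e2]; exact hn2⟩
    rw [List.get_eq_getElem, List.getElem_map]
    simpa [x, y] using this
  rw [List.map_append] at hall
  exact (List.append_inj hall (by rw [List.length_map, hlen])).1

theorem LT3_compl {d : Finset GolayPt} (hd : d ∈ dodecads) {c : GolayPt} (hc : c ∈ d) :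
    LT 3 (SG d {c}) dᶜ := by
  apply LT_of_emb (by rw [(compl_mem_dodecads hd).2]; norm_num)
  intro x y hx hy
  obtain ⟨g, hg, hgxy⟩ := Cfsg.Agent.S0389.result d hd c hc x y
    (fun i => Finset.mem_compl.mp (hx i)) (fun i => Finset.mem_compl.mp (hy i))
  refine ⟨g.1, ⟨g.2, hg.1, ?_⟩, hgxy⟩
  intro p hp
  rw [Finset.mem_singleton.mp hp]
  exact hg.2

theorem dod_h3 {d : Finset GolayPt} (hd : d ∈ dodecads) {c c' : GolayPt} (hc : c ∈ d) (hne : c ≠ c') :
    ∃ g ∈ SG d ∅, g c = c ∧ g c' ≠ c' := by
  by_cases hc' : c' ∈ d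
  · obtain ⟨x, hxd, hx⟩ := Finset.exists_mem_notMem_of_card_lt_card (s := {c, c'}) (t := d)
      (lt_of_le_of_lt Finset.card_le_two (by rw [hd.2]; norm_num))
    simp only [Finset.mem_insert, Finset.mem_singleton, not_or] at hx
    obtain ⟨g, hg, h⟩ := LT_dod hd [c, c'] [c, x] (by simpa using hne) (by simpa using Ne.symm hx.1) rfl
      (by simp) (by simp [hc, hc']) (by simp [hc, hxd])
    simp only [List.map_cons, List.map_nil, List.cons.injEq, and_true] at h
    exact ⟨g, hg, h.1, by rw [h.2]; exact hx.2⟩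
  · have hcard : (dᶜ).card = 12 := (compl_mem_dodecads hd).2
    obtain ⟨x, hxd, hx⟩ := Finset.exists_mem_notMem_of_card_lt_card (s := {c'}) (t := dᶜ)
      (by rw [hcard, Finset.card_singleton]; norm_num)
    rw [Finset.mem_singleton] at hx
    obtain ⟨g, hg, h⟩ := LT3_compl hd hc [c'] [x] (by simp) (by simp) rfl (by simp) (by simpa using hc')
      (by simpa using hxd)
    simp only [List.map_cons, List.map_nil, List.cons.injEq, and_true] at h
    exact ⟨g, ⟨hg.1, hg.2.1, by simp⟩, hg.2.2 c (by simp), by rw [h]; exact hx⟩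

end Cfsg.Agent.H9
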