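import Cfsg.Agent.Lib_H9_Aut12

set_option autoImplicit false

namespace Cfsg.Agent.H9

open Cfsg
open scoped Pointwise

/-- inside an invariant set of twelve points, a group containing an element of order 11 has a fixed point or
is transitive -/
theorem orbit_in_dod {H : Subgroup (Equiv.Perm GolayPt)} (hH : H ≤ M24) {d : Finset GolayPt}
    (hd : d.card = 12) (hinv : ∀ g ∈ H, g • d = d) {y : Equiv.Perm GolayPt} (hy : y ∈ H)
    (hy11 : orderOf y = 11) : ∃ c ∈ d, (∀ g ∈ H, g c = c) ∨ orbF H c = d := by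
  have : Fact (Nat.Prime 11) := ⟨by norm_num⟩
  have hpow : y ^ 11 = 1 := by rw [← hy11]; exact pow_orderOf_eq_one y
  have h2 := fix11 (hH hy) hy11
  have hm := card_inv_mod (p := 11) hpow (hinv y hy)
  rw [hd] at hm
  have hle : (d ∩ fixF y).card ≤ 2 := by
    rw [← h2]; exact Finset.card_le_card Finset.inter_subset_right
  have h1 : (d ∩ fixF y).card = 1 := by
    unfold Nat.ModEq at hm
    omega
  obtain ⟨c, hc⟩ := Finset.card_eq_one.mp h1
  have hc' : c ∈ d ∩ fixF y := by rw [hc]; exact Finset.mem_singleton_self c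
  rw [Finset.mem_inter] at hc'
  refine ⟨c, hc'.1, ?_⟩
  have hsub : orbF H c ⊆ d := by
    intro z hz
    obtain ⟨g, hg, rfl⟩ := mem_orbF.mp hz
    exact apply_mem_of_smul_eq (hinv g hg) hc'.1
  have hm2 := card_inv_mod (p := 11) hpow (smul_orbF (c := c) hy)
  have hint : orbF H c ∩ fixF y = {c} := by
    apply Finset.Subset.antisymm
    · rw [← hc]; exact Finset.inter_subset_inter_right hsub
    · intro z hz
      rw [Finset.mem_singleton.mp hz]
      exact Finset.mem_inter.mpr ⟨self_mem_orbF H c, hc'.2⟩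
  rw [hint, Finset.card_singleton] at hm2
  have hle2 : (orbF H c).card ≤ 12 := hd ▸ Finset.card_le_card hsub
  have hcases : (orbF H c).card = 1 ∨ (orbF H c).card = 12 := by
    unfold Nat.ModEq at hm2
    omega
  rcases hcases with h | h
  · left
    intro g hg
    obtain ⟨e, he⟩ := Finset.card_eq_one.mp h
    have e1 : c = e := Finset.mem_singleton.mp (he ▸ self_mem_orbF H c)
    have e2 : g c = e := Finset.mem_singleton.mp (he ▸ mem_orbF.mpr ⟨g, hg, rfl⟩)
    exact e2.trans e1.symm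
  · right
    exact Finset.eq_of_subset_of_card_le hsub (by rw [hd, h])

theorem orbF_eq_of_mem {H : Subgroup (Equiv.Perm GolayPt)} {c x : GolayPt} (hx : x ∈ orbF H c) :
    orbF H x = orbF H c := by
  obtain ⟨h, hh, rfl⟩ := mem_orbF.mp hx
  ext y
  rw [mem_orbF, mem_orbF]
  constructor
  · rintro ⟨g, hg, rfl⟩
    exact ⟨g * h, H.mul_mem hg hh, rfl⟩
  · rintro ⟨g, hg, rfl⟩
    exact ⟨g * h⁻¹, H.mul_mem hg (H.inv_mem hh), by simp⟩

/-- subgroups of order 7920 of a dodecad stabiliser containing an element of order 8 fix a point -/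
theorem M12_fixed_point {d : Finset GolayPt} (hd : d ∈ dodecads) {H : Subgroup (Equiv.Perm GolayPt)}
    (hH : H ≤ SG d ∅) (hc : Nat.card H = 7920) (h8 : ∃ g ∈ H, orderOf g = 8) : ∃ c, ∀ g ∈ H, g c = c := by
  have : Fact (Nat.Prime 11) := ⟨by norm_num⟩
  have hHM : H ≤ M24 := fun g hg => (hH hg).1
  obtain ⟨y, hy, hy11⟩ := exists_order (L := H) (p := 11) (by rw [hc]; norm_num)
  obtain ⟨c, _, h1⟩ := orbit_in_dod hHM hd.2 (fun g hg => (hH hg).2.1) hy hy11
  obtain ⟨c', _, h2⟩ := orbit_in_dod hHM (compl_mem_dodecads hd).2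
    (fun g hg => by rw [smul_compl, (hH hg).2.1]) hy hy11
  rcases h1 with h1 | h1
  · exact ⟨c, h1⟩
  rcases h2 with h2 | h2
  · exact ⟨c', h2⟩
  exfalso
  obtain ⟨g, hg, hg8⟩ := h8
  obtain ⟨x, hx⟩ := order8_fix (hHM hg) hg8
  have horb : (orbF H x).card = 12 := by
    by_cases hxd : x ∈ d
    · rw [orbF_eq_of_mem (h1 ▸ hxd), h1, hd.2]
    · rw [orbF_eq_of_mem (h2 ▸ Finset.mem_compl.mpr hxd), h2, (compl_mem_dodecads hd).2]
  have hmul := card_orbF_mul H x
  rw [hc, horb] at hmul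
  have h660 : Nat.card (stabP H x) = 660 := by omega
  have hgm : g ∈ stabP H x := mem_stabP.mpr ⟨hg, hx⟩
  have hdvd : orderOf (⟨g, hgm⟩ : stabP H x) ∣ 660 := h660 ▸ orderOf_dvd_natCard _
  rw [Subgroup.orderOf_mk, hg8] at hdvd
  norm_num at hdvd

theorem mem_dod_or {d : Finset GolayPt} (c : GolayPt) : c ∈ d ∨ c ∈ dᶜ := by
  by_cases h : c ∈ d
  · exact Or.inl h
  · exact Or.inr (Finset.mem_compl.mpr h)

theorem dod_card_stab {d : Finset GolayPt} (hd : d ∈ dodecads) (c : GolayPt) :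
    Nat.card (stabP (SG d ∅) c) = 7920 := by
  rcases mem_dod_or (d := d) c with h | h
  · rw [stabP_SG, insert_empty_eq]; exact card_SG_dod1 hd h
  · rw [← SG_compl, stabP_SG, insert_empty_eq]; exact card_SG_dod1 (compl_mem_dodecads hd) h

theorem dod_order8' {d : Finset GolayPt} (hd : d ∈ dodecads) (c : GolayPt) :
    ∃ g ∈ SG d ∅, g c = c ∧ orderOf g = 8 := by
  rcases mem_dod_or (d := d) c with h | h
  · exact dod_order8 hd h
  · rw [← SG_compl]; exact dod_order8 (compl_mem_dodecads hd) h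

theorem dod_h3' {d : Finset GolayPt} (hd : d ∈ dodecads) {c c' : GolayPt} (hne : c ≠ c') :
    ∃ g ∈ SG d ∅, g c = c ∧ g c' ≠ c' := by
  rcases mem_dod_or (d := d) c with h | h
  · exact dod_h3 hd h hne
  · rw [← SG_compl]; exact dod_h3 (compl_mem_dodecads hd) h hne

/-- the stabiliser of the pair formed by a dodecad and its complement -/
def N12 (d : Finset GolayPt) : Subgroup (Equiv.Perm GolayPt) where
  carrier := {σ | σ ∈ M24 ∧ (σ • d = d ∨ σ • d = dᶜ)}
  one_mem' := ⟨M24.one_mem, Or.inl (one_smul _ _)⟩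
  mul_mem' := by
    rintro a b ⟨a1, a2⟩ ⟨b1, b2⟩
    refine ⟨M24.mul_mem a1 b1, ?_⟩
    rw [mul_smul]
    rcases b2 with b2 | b2 <;> rcases a2 with a2 | a2
    · left; rw [b2, a2]
    · right; rw [b2, a2]
    · right; rw [b2, smul_compl, a2]
    · left; rw [b2, smul_compl, a2, compl_compl]
  inv_mem' := by
    rintro a ⟨a1, a2⟩
    refine ⟨M24.inv_mem a1, ?_⟩
    rcases a2 with a2 | a2
    · left; rw [inv_smul_eq_iff, a2]
    · right; rw [inv_smul_eq_iff, smul_compl, a2, compl_compl]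

theorem inv_set_dod {d : Finset GolayPt} (hd : d ∈ dodecads) {S : Finset GolayPt} (hS : S.card = 12)
    (hinv : ∀ g ∈ SG d ∅, g • S = S) : S = d ∨ S = dᶜ := by
  have key : ∀ e : Finset GolayPt, e ∈ dodecads → SG e ∅ = SG d ∅ → (∃ s ∈ S, s ∈ e) → S = e := by
    intro e he hee ⟨s, hsS, hse⟩
    symm
    apply Finset.eq_of_subset_of_card_le _ (by rw [hS, he.2])
    intro y hy
    obtain ⟨g, hg, h⟩ := LT_dod he [s] [y] (by simp) (by simp) rfl (by simp) (by simpa using hse)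
      (by simpa using hy)
    simp only [List.map_cons, List.map_nil, List.cons.injEq, and_true] at h
    rw [← h]
    exact apply_mem_of_smul_eq (hinv g (hee ▸ hg)) hsS
  obtain ⟨s, hs⟩ : S.Nonempty := Finset.card_pos.mp (by omega)
  rcases mem_dod_or (d := d) s with h | h
  · exact Or.inl (key d hd rfl ⟨s, hs, h⟩)
  · exact Or.inr (key dᶜ (compl_mem_dodecads hd) (SG_compl d ∅) ⟨s, hs, h⟩)

theorem M12_aut (α : SG (ofMask 340831) ∅ ≃* SG (ofMask 340831) ∅) :
    ∃ σ ∈ N12 (ofMask 340831), ∀ g : SG (ofMask 340831) ∅, (α g).1 = σ * g.1 * σ⁻¹ := by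
  obtain ⟨π, _, _, hπ'⟩ := aut_perm_on (G := SG (ofMask 340831) ∅) (Ω := Finset.univ) (n := 7920) (m := 8)
    (fun _ _ _ _ => Finset.mem_univ _)
    (fun H hH hc h8 => by
      obtain ⟨c, h⟩ := M12_fixed_point D0_mem hH hc h8
      exact ⟨c, Finset.mem_univ c, h⟩)
    (fun c _ => dod_card_stab D0_mem c) (fun c _ => dod_order8' D0_mem c)
    (fun c _ c' _ hne => dod_h3' D0_mem hne) α
  have hπ : ∀ g : SG (ofMask 340831) ∅, (α g).1 = π * g.1 * π⁻¹ := by
    intro g
    apply Equiv.ext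
    intro x
    rw [Equiv.Perm.mul_apply, Equiv.Perm.mul_apply, ← hπ' g _ (Finset.mem_univ _)]
    simp
  have hGS : ∀ z ∈ GS 0 [340831], z ∈ SG (ofMask 340831) ∅ :=
    fun z hz => ⟨hz.1, GS_inv_D0 z hz, by simp⟩
  have hM : π ∈ M24 := by
    apply perm_mem_of_basis A12.sel_ok
    intro j hj
    obtain ⟨z, hz, hz2, hzf, hzc⟩ := invChk_spec A12.inv_ok (Nat.zero_le j) hj
    rw [← hzf]
    refine (smul_fix_octad hz2 (by rw [hzf, hzc]; norm_num) ?_).1
    rw [← hπ ⟨z, hGS z hz⟩]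
    exact (α ⟨z, hGS z hz⟩).2.1
  refine ⟨π, ⟨hM, ?_⟩, hπ⟩
  apply inv_set_dod D0_mem (by rw [Finset.card_smul_finset, D0_mem.2])
  intro g hg
  have h := hπ (α.symm ⟨g, hg⟩)
  rw [MulEquiv.apply_symm_apply] at h
  have h' : g = π * (α.symm ⟨g, hg⟩).1 * π⁻¹ := h
  generalize (α.symm ⟨g, hg⟩) = w at h'
  rw [h', mul_smul, mul_smul, inv_smul_smul, w.2.2.1]

theorem out_SG12 : Nat.card (Out ↥(SG (ofMask 340831) ∅)) = 2 := by
  obtain ⟨g0, hg0, h0⟩ := M24_trans_dodecads D0_mem (compl_mem_dodecads D0_mem)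
  have hne : (ofMask 340831)ᶜ ≠ ofMask 340831 := by
    intro h
    have h1 : pt 0 ∈ (ofMask 340831)ᶜ := h ▸ pt0_mem_D0
    exact (Finset.mem_compl.mp h1) pt0_mem_D0
  apply out_two_of (N := N12 (ofMask 340831)) (g0 := g0)
  · intro g hg
    exact ⟨hg.1, Or.inl hg.2.1⟩
  · intro σ hσ g hg
    refine ⟨M24.mul_mem (M24.mul_mem hσ.1 hg.1) (M24.inv_mem hσ.1), ?_, by simp⟩
    rw [mul_smul, mul_smul]
    rcases ((N12 (ofMask 340831)).inv_mem hσ).2 with h | h
    · rw [h, hg.2.1]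
      exact (inv_smul_eq_iff.mp h).symm
    · rw [h, smul_compl, hg.2.1]
      exact (inv_smul_eq_iff.mp h).symm
  · exact ⟨hg0, Or.inr h0⟩
  · intro hm
    exact hne (h0.symm.trans hm.2.1)
  · intro σ hσ
    rcases hσ.2 with h | h
    · exact Or.inl ⟨hσ.1, h, by simp⟩
    · exact Or.inr ⟨M24.mul_mem hσ.1 hg0, by rw [mul_smul, h0, smul_compl, h, compl_compl], by simp⟩
  · intro σ _ hc
    apply Equiv.ext
    intro r
    by_contra hne'
    obtain ⟨g, hg, hg1, hg2⟩ := dod_h3' D0_mem (c := r) (c' := σ r) (Ne.symm hne')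
    apply hg2
    have e := hc g hg
    have e2 : σ * g = g * σ := by
      have := congrArg (fun t => t * σ) e
      simpa [mul_assoc] using this
    have e3 := congrArg (fun t : Equiv.Perm GolayPt => t r) e2
    simp only [Equiv.Perm.mul_apply, hg1] at e3
    exact e3.symm
  · exact M12_aut

theorem squareDodecad_eq : Spor.squareDodecad = ofMask 340831 := by
  unfold Spor.squareDodecad
  have : qrWord 0 = wordOf (gen 0) := by
    funext p
    exact qrWord_eq 0 p
  rw [this, support₂_wordOf]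
  rfl

theorem M12_eq : Spor.M12 = SG (ofMask 340831) ∅ := by
  ext g
  unfold Spor.M12
  rw [Subgroup.mem_inf, MulAction.mem_stabilizer_iff, squareDodecad_eq, mem_SG]
  simp

theorem out_M12 : Nat.card (Out ↥Spor.M12) = 2 := by
  rw [M12_eq]; exact out_SG12

end Cfsg.Agent.H9
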