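import Cfsg.Agent.Lib_H9_Aut13

set_option autoImplicit false

namespace Cfsg.Agent.H9

open Cfsg
open scoped Pointwise

namespace A11
def BT : ℕ := 71818089034093623164148475422237701960746559918105937418950727481311653593798175838209
def ST : ℕ := 496789630917318278806890522987403434542650222101350057023717158087852682498344424801117
def ZT : ℕ := 5070593938470568914225014321119874564566440383527044403596598482699722953718708674541491196496078631961691671608452262886747930773761971033395737077360931578881269810107461521477979479542598136287388013802461913447854994901512339135246788732044591814886199488877302509265320924968238933314668312217051063546992282319348430055262028865572098611059885950382537706495832897902716019570289357825671167007466904185859522644086120082846848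
def bs (j : ℕ) : ℕ := Nat.land (Nat.shiftRight BT (Nat.mul 24 j)) 16777215
theorem sel_ok : allBelow (fun t => Nat.beq (gen t) (xorSel bs 12 (fld ST 12 4095 t))) 24 = true := by
  decide +kernel
theorem inv_ok : invChk ZT bs 1 [340831] 0 12 = true := by decide +kernel
end A11

/-- an element of a dodecad stabiliser fixing five points of the dodecad is trivial -/
theorem dod_sharp_card {d : Finset GolayPt} (hd : d ∈ dodecads) {g : Equiv.Perm GolayPt} (hg : g ∈ M24)
    (hgd : g • d = d) (h5 : 5 ≤ (d ∩ fixF g).card) : g = 1 := by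
  obtain ⟨s, hs, hs5⟩ := Finset.exists_subset_card_eq h5
  let x : Fin 5 ↪ GolayPt := (s.equivFinOfCardEq hs5).symm.toEmbedding.trans (Function.Embedding.subtype _)
  have hx : ∀ i, x i ∈ s := fun i => ((s.equivFinOfCardEq hs5).symm i).2
  exact dod_sharp hd x (fun i => (Finset.mem_inter.mp (hs (hx i))).1) hg hgd
    (fun i => mem_fixF.mp (Finset.mem_inter.mp (hs (hx i))).2)

theorem M11_fixed_point1 {d : Finset GolayPt} (hd : d ∈ dodecads) {p : GolayPt} (hp : p ∈ d)
    {H : Subgroup (Equiv.Perm GolayPt)} (hH : H ≤ SG d {p}) (hc : Nat.card H = 720) :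
    ∃ c ∈ d \ {p}, ∀ g ∈ H, g c = c := by
  have : Fact (Nat.Prime 5) := ⟨by norm_num⟩
  have hHM : H ≤ M24 := fun g hg => (hH hg).1
  have hfixp : ∀ g ∈ H, g p = p := fun g hg => (hH hg).2.2 p (by simp)
  have hΩinv : ∀ g ∈ H, g • (d \ {p}) = d \ {p} := by
    intro g hg
    rw [Finset.smul_finset_sdiff, (hH hg).2.1, Finset.smul_finset_singleton]
    have : g • p = p := hfixp g hg
    rw [this]
  have hΩcard : (d \ {p}).card = 11 := by
    rw [Finset.card_sdiff_of_subset (by simpa using hp), hd.2, Finset.card_singleton]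
  obtain ⟨w, hw, hw5⟩ := exists_order (L := H) (p := 5) (by rw [hc]; norm_num)
  have hpow : w ^ 5 = 1 := by rw [← hw5]; exact pow_orderOf_eq_one w
  have h4 := fix5 (hHM hw) hw5
  have hm := card_inv_mod (p := 5) hpow (hΩinv w hw)
  rw [hΩcard] at hm
  have hle : ((d \ {p}) ∩ fixF w).card + 1 ≤ 4 := by
    rw [← h4, ← Finset.card_singleton p, ← Finset.card_union_of_disjoint]
    · apply Finset.card_le_card
      apply Finset.union_subset Finset.inter_subset_right
      intro z hz
      rw [Finset.mem_singleton.mp hz]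
      exact mem_fixF.mpr (hfixp w hw)
    · rw [Finset.disjoint_singleton_right]
      intro hm'
      have := (Finset.mem_sdiff.mp (Finset.mem_inter.mp hm').1).2
      exact this (Finset.mem_singleton_self p)
  have h1 : ((d \ {p}) ∩ fixF w).card = 1 := by
    unfold Nat.ModEq at hm
    omega
  obtain ⟨c, hcs⟩ := Finset.card_eq_one.mp h1
  have hc' : c ∈ (d \ {p}) ∩ fixF w := by rw [hcs]; exact Finset.mem_singleton_self c
  rw [Finset.mem_inter] at hc'
  refine ⟨c, hc'.1, ?_⟩
  have hsub : orbF H c ⊆ d \ {p} := by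
    intro z hz
    obtain ⟨g, hg, rfl⟩ := mem_orbF.mp hz
    exact apply_mem_of_smul_eq (hΩinv g hg) hc'.1
  have hm2 := card_inv_mod (p := 5) hpow (smul_orbF (c := c) hw)
  have hint : orbF H c ∩ fixF w = {c} := by
    apply Finset.Subset.antisymm
    · rw [← hcs]; exact Finset.inter_subset_inter_right hsub
    · intro z hz
      rw [Finset.mem_singleton.mp hz]
      exact Finset.mem_inter.mpr ⟨self_mem_orbF H c, hc'.2⟩
  rw [hint, Finset.card_singleton] at hm2
  have hle2 : (orbF H c).card ≤ 11 := hΩcard ▸ Finset.card_le_card hsub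
  have hmul := card_orbF_mul H c
  rw [hc] at hmul
  have hcases : (orbF H c).card = 1 ∨ (orbF H c).card = 6 ∨ (orbF H c).card = 11 := by
    unfold Nat.ModEq at hm2
    omega
  rcases hcases with h | h | h
  · intro g hg
    obtain ⟨e, he⟩ := Finset.card_eq_one.mp h
    have e1 : c = e := Finset.mem_singleton.mp (he ▸ self_mem_orbF H c)
    have e2 : g c = e := Finset.mem_singleton.mp (he ▸ mem_orbF.mpr ⟨g, hg, rfl⟩)
    exact e2.trans e1.symm
  · exfalso
    set S0 : Finset GolayPt := (d \ {p}) \ orbF H c with hS0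
    have hS0inv : ∀ g ∈ H, g • S0 = S0 := by
      intro g hg
      rw [hS0, Finset.smul_finset_sdiff, hΩinv g hg, smul_orbF hg]
    have hS0card : S0.card = 5 := by
      rw [hS0, Finset.card_sdiff_of_subset hsub, hΩcard, h]
    have hS0d : ∀ x ∈ S0, x ∈ d ∧ x ≠ p := by
      intro x hx
      have := Finset.mem_sdiff.mp (Finset.mem_sdiff.mp hx).1
      exact ⟨this.1, by simpa using this.2⟩
    obtain ⟨a1, ha1⟩ : S0.Nonempty := Finset.card_pos.mp (by omega)
    obtain ⟨b1, i1⟩ := card_le_of_inv hS0inv ha1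
    have c1 : (S0.erase a1).card = 4 := by rw [Finset.card_erase_of_mem ha1, hS0card]
    obtain ⟨a2, ha2⟩ : (S0.erase a1).Nonempty := Finset.card_pos.mp (by omega)
    obtain ⟨b2, i2⟩ := card_le_of_inv i1 ha2
    have c2 : ((S0.erase a1).erase a2).card = 3 := by rw [Finset.card_erase_of_mem ha2, c1]
    obtain ⟨a3, ha3⟩ : ((S0.erase a1).erase a2).Nonempty := Finset.card_pos.mp (by omega)
    obtain ⟨b3, i3⟩ := card_le_of_inv i2 ha3
    have c3 : (((S0.erase a1).erase a2).erase a3).card = 2 := by rw [Finset.card_erase_of_mem ha3, c2]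
    obtain ⟨a4, ha4⟩ : (((S0.erase a1).erase a2).erase a3).Nonempty := Finset.card_pos.mp (by omega)
    obtain ⟨b4, _⟩ := card_le_of_inv i3 ha4
    have m2 := Finset.mem_erase.mp ha2
    have m3 := Finset.mem_erase.mp ha3
    have m3' := Finset.mem_erase.mp m3.2
    have m4 := Finset.mem_erase.mp ha4
    have m4' := Finset.mem_erase.mp m4.2
    have m4'' := Finset.mem_erase.mp m4'.2
    have htriv : Nat.card (stabP (stabP (stabP (stabP H a1) a2) a3) a4) = 1 := by
      rw [Nat.card_eq_one_iff_unique]
      refine ⟨⟨fun x y => ?_⟩, ⟨1⟩⟩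
      have key : ∀ z : stabP (stabP (stabP (stabP H a1) a2) a3) a4, z.1 = 1 := by
        intro z
        have hz := z.2
        apply dod_sharp_card hd (hHM hz.1.1.1.1) (hH hz.1.1.1.1).2.1
        have hsub5 : ({a4, a3, a2, a1, p} : Finset GolayPt) ⊆ d ∩ fixF z.1 := by
          intro t ht
          simp only [Finset.mem_insert, Finset.mem_singleton] at ht
          rw [Finset.mem_inter, mem_fixF]
          rcases ht with rfl | rfl | rfl | rfl | rfl
          · exact ⟨(hS0d _ m4''.2).1, hz.2⟩
          · exact ⟨(hS0d _ m3'.2).1, hz.1.2⟩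
          · exact ⟨(hS0d _ m2.2).1, hz.1.1.2⟩
          · exact ⟨(hS0d _ ha1).1, hz.1.1.1.2⟩
          · exact ⟨hp, hfixp _ hz.1.1.1.1⟩
        have hcard5 : ({a4, a3, a2, a1, p} : Finset GolayPt).card = 5 := by
          rw [Finset.card_insert_of_notMem, Finset.card_insert_of_notMem, Finset.card_insert_of_notMem,
            Finset.card_pair (hS0d _ ha1).2]
          · simp [m2.1, (hS0d _ m2.2).2]
          · simp [m3.1, m3'.1, (hS0d _ m3'.2).2]
          · simp [m4.1, m4'.1, m4''.1, (hS0d _ m4''.2).2]
        rw [← hcard5]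
        exact Finset.card_le_card hsub5
      exact Subtype.ext ((key x).trans (key y).symm)
    rw [hc, hS0card] at b1
    rw [c1] at b2
    rw [c2] at b3
    rw [c3, htriv] at b4
    nlinarith
  · exfalso
    rw [h] at hmul
    omega

theorem M11_fixed_point2 {d : Finset GolayPt} (hd : d ∈ dodecads) {p : GolayPt} (hp : p ∈ d)
    {H : Subgroup (Equiv.Perm GolayPt)} (hH : H ≤ SG d {p}) (hc : Nat.card H = 660) :
    ∃ c ∈ dᶜ, ∀ g ∈ H, g c = c := by
  have : Fact (Nat.Prime 11) := ⟨by norm_num⟩
  have : Fact (Nat.Prime 3) := ⟨by norm_num⟩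
  have hHM : H ≤ M24 := fun g hg => (hH hg).1
  obtain ⟨y, hy, hy11⟩ := exists_order (L := H) (p := 11) (by rw [hc]; norm_num)
  obtain ⟨c, hcd, h1⟩ := orbit_in_dod hHM (compl_mem_dodecads hd).2
    (fun g hg => by rw [smul_compl, (hH hg).2.1]) hy hy11
  rcases h1 with h1 | h1
  · exact ⟨c, hcd, h1⟩
  exfalso
  obtain ⟨u, hu, hu3⟩ := exists_order (L := H) (p := 3) (by rw [hc]; norm_num)
  have hup : u p = p := (hH hu).2.2 p (by simp)
  have h6 : (fixF u).card = 6 := by
    rcases ord3_cases (hHM hu) hu3 with ⟨_, _, _, h⟩ | ⟨_, _, _, h⟩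
    · exact h
    · exfalso
      have : p ∈ fixF u := mem_fixF.mpr hup
      rw [Finset.card_eq_zero] at h
      rw [h] at this
      simp at this
  have hsub : fixF u ⊆ d := by
    intro x hx
    by_contra hxd
    have horb : (orbF H x).card = 12 := by
      rw [orbF_eq_of_mem (h1 ▸ Finset.mem_compl.mpr hxd), h1, (compl_mem_dodecads hd).2]
    have hmul := card_orbF_mul H x
    rw [hc, horb] at hmul
    have h55 : Nat.card (stabP H x) = 55 := by omega
    have hum : u ∈ stabP H x := mem_stabP.mpr ⟨hu, mem_fixF.mp hx⟩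
    have hdvd : orderOf (⟨u, hum⟩ : stabP H x) ∣ 55 := h55 ▸ orderOf_dvd_natCard _
    rw [Subgroup.orderOf_mk, hu3] at hdvd
    norm_num at hdvd
  have : u = 1 := dod_sharp_card hd (hHM hu) (hH hu).2.1 (by
    rw [Finset.inter_eq_right.mpr hsub, h6]; norm_num)
  rw [this, orderOf_one] at hu3
  norm_num at hu3

end Cfsg.Agent.H9
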