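import Cfsg.Agent.Lib_H9_Aut14

set_option autoImplicit false

namespace Cfsg.Agent.H9

open Cfsg
open scoped Pointwise

theorem SG_compl_inv {d P : Finset GolayPt} {g : Equiv.Perm GolayPt} (hg : g ∈ SG d P) : g • dᶜ = dᶜ := by
  rw [smul_compl, hg.2.1]

theorem orbF_M11_compl {d : Finset GolayPt} (hd : d ∈ dodecads) {p : GolayPt} (hp : p ∈ d) {c : GolayPt}
    (hc : c ∈ dᶜ) : orbF (SG d {p}) c = dᶜ := by
  ext y
  rw [mem_orbF]
  constructor
  · rintro ⟨g, hg, rfl⟩
    exact apply_mem_of_smul_eq (SG_compl_inv hg) hc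
  · intro hy
    obtain ⟨g, hg, h⟩ := LT3_compl hd hp [c] [y] (by simp) (by simp) rfl (by simp) (by simpa using hc)
      (by simpa using hy)
    simp only [List.map_cons, List.map_nil, List.cons.injEq, and_true] at h
    exact ⟨g, hg, h⟩

theorem card_M11_compl {d : Finset GolayPt} (hd : d ∈ dodecads) {p : GolayPt} (hp : p ∈ d) {c : GolayPt}
    (hc : c ∈ dᶜ) : Nat.card (stabP (SG d {p}) c) = 660 := by
  have := card_orbF_mul (SG d {p}) c
  rw [orbF_M11_compl hd hp hc, (compl_mem_dodecads hd).2, card_SG_dod1 hd hp] at this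
  omega

theorem LT_h3 {k : ℕ} (hk : 2 ≤ k) {H : Subgroup (Equiv.Perm GolayPt)} {Ω : Finset GolayPt} (hL : LT k H Ω)
    (hΩ : 3 ≤ Ω.card) {c c' : GolayPt} (hc : c ∈ Ω) (hc' : c' ∈ Ω) (hne : c ≠ c') :
    ∃ g ∈ H, g c = c ∧ g c' ≠ c' := by
  obtain ⟨x, hxd, hx⟩ := Finset.exists_mem_notMem_of_card_lt_card (s := {c, c'}) (t := Ω)
    (lt_of_le_of_lt Finset.card_le_two (by omega))
  simp only [Finset.mem_insert, Finset.mem_singleton, not_or] at hx
  obtain ⟨g, hg, h⟩ := hL [c, c'] [c, x] (by simpa using hne) (by simpa using Ne.symm hx.1) rfl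
    (by simpa using hk)
    (by
      intro z hz
      simp only [List.mem_cons, List.not_mem_nil, or_false] at hz
      rcases hz with rfl | rfl <;> assumption)
    (by
      intro z hz
      simp only [List.mem_cons, List.not_mem_nil, or_false] at hz
      rcases hz with rfl | rfl <;> assumption)
  simp only [List.map_cons, List.map_nil, List.cons.injEq, and_true] at h
  exact ⟨g, hg, h.1, by rw [h.2]; exact hx.2⟩

theorem out_SG11 : Nat.card (Out ↥(SG (ofMask 340831) {pt 0})) = 1 := by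
  apply out_card_one
  intro α
  have hd := D0_mem
  have hp := pt0_mem_D0
  have hΩ1card : (ofMask 340831 \ {pt 0}).card = 11 := by
    rw [Finset.card_sdiff_of_subset (by simpa using hp), hd.2, Finset.card_singleton]
  obtain ⟨π1, a1, b1, e1⟩ := aut_perm_on (G := SG (ofMask 340831) {pt 0}) (Ω := ofMask 340831 \ {pt 0})
    (n := 720) (m := 1) (fun g hg c hc => SG_apply_mem hg hc)
    (fun H hH hc _ => M11_fixed_point1 hd hp hH hc)
    (fun c hc => by
      rw [stabP_SG]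
      have hc' := Finset.mem_sdiff.mp hc
      exact card_SG_dod2 hd hp hc'.1 (by
        intro h; exact hc'.2 (by rw [h]; exact Finset.mem_singleton_self c)))
    (fun c _ => ⟨1, Subgroup.one_mem _, rfl, orderOf_one⟩)
    (fun c hc c' hc' hne => LT_h3 (by norm_num) (LT4_dod hd hp) (by rw [hΩ1card]; norm_num) hc hc' hne) α
  obtain ⟨π2, a2, b2, e2⟩ := aut_perm_on (G := SG (ofMask 340831) {pt 0}) (Ω := (ofMask 340831)ᶜ)
    (n := 660) (m := 1) (fun g hg c hc => apply_mem_of_smul_eq (SG_compl_inv hg) hc)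
    (fun H hH hc _ => M11_fixed_point2 hd hp hH hc)
    (fun c hc => card_M11_compl hd hp hc)
    (fun c _ => ⟨1, Subgroup.one_mem _, rfl, orderOf_one⟩)
    (fun c hc c' hc' hne => LT_h3 (by norm_num) (LT3_compl hd hp)
      (by rw [(compl_mem_dodecads hd).2]; norm_num) hc hc' hne) α
  have hcase : ∀ c : GolayPt, c = pt 0 ∨ c ∈ ofMask 340831 \ {pt 0} ∨ c ∈ (ofMask 340831)ᶜ := by
    intro c
    by_cases h0 : c = pt 0
    · exact Or.inl h0
    · by_cases h1 : c ∈ ofMask 340831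
      · exact Or.inr (Or.inl (Finset.mem_sdiff.mpr ⟨h1, by simpa using h0⟩))
      · exact Or.inr (Or.inr (Finset.mem_compl.mpr h1))
  have hdisj : ∀ c, c ∈ ofMask 340831 \ {pt 0} → c ∉ (ofMask 340831)ᶜ := by
    intro c hc h
    exact (Finset.mem_compl.mp h) (Finset.mem_sdiff.mp hc).1
  have hπ1 : ∀ c ∈ ofMask 340831 \ {pt 0}, (π1 * π2) c = π1 c := by
    intro c hc
    rw [Equiv.Perm.mul_apply, a2 c (hdisj c hc)]
  have hπ2 : ∀ c ∈ (ofMask 340831)ᶜ, (π1 * π2) c = π2 c := by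
    intro c hc
    rw [Equiv.Perm.mul_apply, a1 _ (fun h => hdisj _ h (b2 c hc))]
  have hπ0 : (π1 * π2) (pt 0) = pt 0 := by
    rw [Equiv.Perm.mul_apply, a2 _ (fun h => (Finset.mem_compl.mp h) hp), a1 _ (by simp)]
  have hequiv : ∀ (g : SG (ofMask 340831) {pt 0}) (c : GolayPt),
      (α g).1 ((π1 * π2) c) = (π1 * π2) (g.1 c) := by
    intro g c
    rcases hcase c with rfl | hc | hc
    · rw [hπ0, (α g).2.2.2 _ (by simp), g.2.2.2 _ (by simp), hπ0]
    · rw [hπ1 c hc, hπ1 _ (SG_apply_mem g.2 hc), e1 g c hc]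
    · rw [hπ2 c hc, hπ2 _ (apply_mem_of_smul_eq (SG_compl_inv g.2) hc), e2 g c hc]
  have hπ : ∀ g : SG (ofMask 340831) {pt 0}, (α g).1 = (π1 * π2) * g.1 * (π1 * π2)⁻¹ := by
    intro g
    apply Equiv.ext
    intro x
    rw [Equiv.Perm.mul_apply, Equiv.Perm.mul_apply, ← hequiv]
    simp
  have hGS : ∀ z ∈ GS 1 [340831], z ∈ SG (ofMask 340831) {pt 0} := by
    intro z hz
    rw [← GS_eq_SG11]; exact hz
  have hM : π1 * π2 ∈ M24 := by
    apply perm_mem_of_basis A11.sel_ok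
    intro j hj
    obtain ⟨z, hz, hz2, hzf, hzc⟩ := invChk_spec A11.inv_ok (Nat.zero_le j) hj
    rw [← hzf]
    refine (smul_fix_octad hz2 (by rw [hzf, hzc]; norm_num) ?_).1
    rw [← hπ ⟨z, hGS z hz⟩]
    exact (α ⟨z, hGS z hz⟩).2.1
  have hD : (π1 * π2) • ofMask 340831 = ofMask 340831 := by
    apply Finset.eq_of_subset_of_card_le
    · intro y hy
      obtain ⟨x, hx, rfl⟩ := Finset.mem_smul_finset.mp hy
      show (π1 * π2) x ∈ _
      rcases hcase x with rfl | hc | hc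
      · rw [hπ0]; exact hp
      · rw [hπ1 x hc]; exact (Finset.mem_sdiff.mp (b1 x hc)).1
      · exact absurd hx (Finset.mem_compl.mp hc)
    · rw [Finset.card_smul_finset]
  refine ⟨⟨π1 * π2, ⟨hM, hD, ?_⟩⟩, ?_⟩
  · intro q hq
    rw [Finset.mem_singleton.mp hq]; exact hπ0
  · apply MulEquiv.ext
    intro g
    apply Subtype.ext
    exact hπ g

theorem M11_eq : Spor.M11 = SG (ofMask 340831) {pt 0} := by
  ext g
  unfold Spor.M11
  rw [Subgroup.mem_inf, M12_eq, MulAction.mem_stabilizer_iff, mem_SG, mem_SG]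
  constructor
  · rintro ⟨⟨h1, h2, _⟩, h3⟩
    refine ⟨h1, h2, ?_⟩
    intro q hq
    rw [Finset.mem_singleton.mp hq]; exact h3
  · rintro ⟨h1, h2, h3⟩
    exact ⟨⟨h1, h2, by simp⟩, h3 _ (Finset.mem_singleton_self _)⟩

theorem out_M11 : Nat.card (Out ↥Spor.M11) = 1 := by
  rw [M11_eq]; exact out_SG11

end Cfsg.Agent.H9
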