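import Cfsg.Agent.Lib_H9_Aut

set_option autoImplicit false

namespace Cfsg.Agent.H9

open Cfsg
open scoped Pointwise

open Classical in
/-- the orbit of a point, as a finite set -/
noncomputable def orbF (L : Subgroup (Equiv.Perm GolayPt)) (c : GolayPt) : Finset GolayPt :=
  Finset.univ.filter (fun y => ∃ g ∈ L, g c = y)

theorem mem_orbF {L : Subgroup (Equiv.Perm GolayPt)} {c y : GolayPt} :
    y ∈ orbF L c ↔ ∃ g ∈ L, g c = y := by
  unfold orbF; simp

theorem self_mem_orbF (L : Subgroup (Equiv.Perm GolayPt)) (c : GolayPt) : c ∈ orbF L c :=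
  mem_orbF.mpr ⟨1, L.one_mem, rfl⟩

def stabP (L : Subgroup (Equiv.Perm GolayPt)) (c : GolayPt) : Subgroup (Equiv.Perm GolayPt) :=
  L ⊓ MulAction.stabilizer (Equiv.Perm GolayPt) c

theorem mem_stabP {L : Subgroup (Equiv.Perm GolayPt)} {c : GolayPt} {g : Equiv.Perm GolayPt} :
    g ∈ stabP L c ↔ g ∈ L ∧ g c = c := Iff.rfl

theorem card_orbF_mul (L : Subgroup (Equiv.Perm GolayPt)) (c : GolayPt) :
    Nat.card L = (orbF L c).card * Nat.card (stabP L c) :=
  card_eq_orbit_mul L (stabP L c) c (orbF L c) (fun _ => mem_stabP)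
    (fun g hg => mem_orbF.mpr ⟨g, hg, rfl⟩) (fun _ hb => mem_orbF.mp hb)

theorem smul_orbF {L : Subgroup (Equiv.Perm GolayPt)} {c : GolayPt} {g : Equiv.Perm GolayPt} (hg : g ∈ L) :
    g • orbF L c = orbF L c := by
  ext y
  rw [← Finset.inv_smul_mem_iff, mem_orbF, mem_orbF]
  constructor
  · rintro ⟨h, hh, he⟩
    refine ⟨g * h, L.mul_mem hg hh, ?_⟩
    rw [Equiv.Perm.mul_apply, he]
    simp
  · rintro ⟨h, hh, he⟩
    refine ⟨g⁻¹ * h, L.mul_mem (L.inv_mem hg) hh, ?_⟩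
    rw [Equiv.Perm.mul_apply, he]
    rfl

theorem orbF_disjoint {L : Subgroup (Equiv.Perm GolayPt)} {F : Finset GolayPt}
    (hF : ∀ g ∈ L, ∀ a ∈ F, g a = a) {c : GolayPt} (hc : c ∉ F) : Disjoint (orbF L c) F := by
  rw [Finset.disjoint_left]
  intro y hy hyF
  obtain ⟨g, hg, rfl⟩ := mem_orbF.mp hy
  have := hF g hg _ hyF
  exact hc (g.injective this ▸ hyF)

theorem exists_order {L : Subgroup (Equiv.Perm GolayPt)} {p : ℕ} [Fact p.Prime] (hp : p ∣ Nat.card L) :
    ∃ x ∈ L, orderOf x = p := by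
  obtain ⟨x, hx⟩ := exists_prime_orderOf_dvd_card' p hp
  exact ⟨x.1, x.2, by rw [Subgroup.orderOf_coe, hx]⟩

theorem step_orbit {L : Subgroup (Equiv.Perm GolayPt)} (hL : L ≤ M24) {F : Finset GolayPt}
    (hF : ∀ g ∈ L, ∀ a ∈ F, g a = a) {p : ℕ} [hp' : Fact p.Prime] (hp : p ∣ Nat.card L)
    (fp : ∀ g ∈ M24, orderOf g = p → (fixF g).card = F.card + 1) :
    ∃ c ∉ F, (orbF L c).card % p = 1 := by
  obtain ⟨x, hxL, hx⟩ := exists_order hp
  have hsub : F ⊆ fixF x := fun a ha => mem_fixF.mpr (hF x hxL a ha)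
  have h1 : (fixF x \ F).card = 1 := by
    rw [Finset.card_sdiff_of_subset hsub, fp x (hL hxL) hx]; omega
  obtain ⟨c, hc⟩ := Finset.card_eq_one.mp h1
  have hc' : c ∈ fixF x \ F := by rw [hc]; exact Finset.mem_singleton_self c
  rw [Finset.mem_sdiff] at hc'
  refine ⟨c, hc'.2, ?_⟩
  have hmod := card_inv_mod (p := p) (σ := x) (by rw [← hx]; exact pow_orderOf_eq_one x)
    (smul_orbF (c := c) hxL)
  have hint : orbF L c ∩ fixF x = {c} := by
    ext y
    rw [Finset.mem_inter, Finset.mem_singleton]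
    constructor
    · rintro ⟨h1, h2⟩
      have : y ∈ fixF x \ F :=
        Finset.mem_sdiff.mpr ⟨h2, fun h => (Finset.disjoint_left.mp (orbF_disjoint hF hc'.2)) h1 h⟩
      rw [hc] at this
      exact Finset.mem_singleton.mp this
    · rintro rfl
      exact ⟨self_mem_orbF L y, hc'.1⟩
  rw [hint, Finset.card_singleton] at hmod
  have := hmod.symm
  unfold Nat.ModEq at this
  rw [this, Nat.mod_eq_of_lt hp'.out.one_lt]

theorem orbit_mod_zero {L : Subgroup (Equiv.Perm GolayPt)} (hL : L ≤ M24) {F : Finset GolayPt}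
    (hF : ∀ g ∈ L, ∀ a ∈ F, g a = a) {q : ℕ} [Fact q.Prime] (hq : q ∣ Nat.card L)
    (fq : ∀ g ∈ M24, orderOf g = q → (fixF g).card = F.card) {c : GolayPt} (hc : c ∉ F) :
    (orbF L c).card % q = 0 := by
  obtain ⟨x, hxL, hx⟩ := exists_order hq
  have hsub : F ⊆ fixF x := fun a ha => mem_fixF.mpr (hF x hxL a ha)
  have heq : F = fixF x := Finset.eq_of_subset_of_card_le hsub (by rw [fq x (hL hxL) hx])
  have hmod := card_inv_mod (p := q) (σ := x) (by rw [← hx]; exact pow_orderOf_eq_one x)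
    (smul_orbF (c := c) hxL)
  rw [← heq, Finset.disjoint_iff_inter_eq_empty.mp (orbF_disjoint hF hc), Finset.card_empty] at hmod
  have := hmod.symm
  unfold Nat.ModEq at this
  rw [this, Nat.zero_mod]

/-- there is a subgroup of order `n` of the group of the code fixing `k` points -/
def Cfg (k n : ℕ) : Prop :=
  ∃ L : Subgroup (Equiv.Perm GolayPt), L ≤ M24 ∧ ∃ F : Finset GolayPt, F.card = k ∧
    (∀ g ∈ L, ∀ a ∈ F, g a = a) ∧ Nat.card L = n

theorem orbF_card_le {L : Subgroup (Equiv.Perm GolayPt)} {F : Finset GolayPt}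
    (hF : ∀ g ∈ L, ∀ a ∈ F, g a = a) {c : GolayPt} (hc : c ∉ F) : (orbF L c).card + F.card ≤ 24 := by
  rw [← Finset.card_union_of_disjoint (orbF_disjoint hF hc), ← card_univ_pts]
  exact Finset.card_le_card (Finset.subset_univ _)

theorem Cfg.step {k n : ℕ} (h : Cfg k n) (p q m : ℕ) [Fact p.Prime] [Fact q.Prime] (hp : p ∣ n) (hq : q ∣ n)
    (fp : ∀ g ∈ M24, orderOf g = p → (fixF g).card = k + 1)
    (fq : ∀ g ∈ M24, orderOf g = q → (fixF g).card = k)
    (harith : ∀ s, 0 < s → s + k ≤ 24 → s % p = 1 → s % q = 0 → s + k = 24)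
    (hm : n = (24 - k) * m) (hk : k < 24) : Cfg (k + 1) m := by
  obtain ⟨L, hL, F, hFk, hF, hn⟩ := h
  subst hFk
  obtain ⟨c, hc, h1⟩ := step_orbit hL hF (p := p) (by rw [hn]; exact hp) fp
  have h0 := orbit_mod_zero hL hF (q := q) (by rw [hn]; exact hq) fq hc
  have hs := harith _ (Finset.card_pos.mpr ⟨c, self_mem_orbF L c⟩) (orbF_card_le hF hc) h1 h0
  refine ⟨stabP L c, fun g hg => hL hg.1, insert c F, Finset.card_insert_of_notMem hc, ?_, ?_⟩
  · intro g hg a ha
    rcases Finset.mem_insert.mp ha with rfl | ha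
    · exact hg.2
    · exact hF g hg.1 a ha
  · have := card_orbF_mul L c
    rw [hn, hm, show (orbF L c).card = 24 - F.card by omega] at this
    exact (Nat.eq_of_mul_eq_mul_left (by omega) this).symm

end Cfsg.Agent.H9
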