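import Cfsg.Agent.Lib_H9_Aut2

set_option autoImplicit false

namespace Cfsg.Agent.H9

open Cfsg
open scoped Pointwise

theorem fac_eq_one {n p : ℕ} (hp : p.Prime) (hn : n ≠ 0) (h1 : p ∣ n) (h2 : ¬ p ^ 2 ∣ n) :
    n.factorization p = 1 := by
  have a1 : 1 ≤ n.factorization p := (hp.dvd_iff_one_le_factorization hn).mp h1
  have a2 : ¬ 2 ≤ n.factorization p := fun h => h2 ((hp.pow_dvd_iff_le_factorization hn).mpr h)
  omega

/-- a group of order 40 contains an involution commuting with an element of order 5 -/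
theorem order40 {L : Type*} [Group L] (hn : Nat.card L = 40) :
    ∃ v w : L, orderOf v = 2 ∧ orderOf w = 5 ∧ w * v * w⁻¹ = v := by
  have : Finite L := Nat.finite_of_card_ne_zero (by rw [hn]; norm_num)
  have : Fact (Nat.Prime 5) := ⟨by norm_num⟩
  have : Fact (Nat.Prime 2) := ⟨by norm_num⟩
  let P : Sylow 5 L := default
  have hPcard : Nat.card P = 5 := by
    rw [Sylow.card_eq_multiplicity, hn, fac_eq_one (by norm_num) (by norm_num) (by norm_num) (by norm_num),
      pow_one]
  have hidx : (P : Subgroup L).index = 8 := by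
    have := (P : Subgroup L).index_mul_card
    have hP' : Nat.card (P : Subgroup L) = 5 := hPcard
    rw [hP', hn] at this
    omega
  have hn5 : Nat.card (Sylow 5 L) = 1 := by
    have h1 := card_sylow_modEq_one 5 L
    have h2 := Sylow.card_dvd_index P
    rw [hidx] at h2
    have h3 : Nat.card (Sylow 5 L) ≤ 8 := Nat.le_of_dvd (by norm_num) h2
    unfold Nat.ModEq at h1
    generalize Nat.card (Sylow 5 L) = n at *
    interval_cases n <;> simp_all
  have : Subsingleton (Sylow 5 L) := (Nat.card_eq_one_iff_unique.mp hn5).1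
  have hconj : ∀ t w : L, w ∈ (P : Subgroup L) → t * w * t⁻¹ ∈ (P : Subgroup L) := by
    intro t w hw
    have h1 : t • P = P := Subsingleton.elim _ _
    have h2 : MulAut.conj t • w ∈ MulAut.conj t • (P : Subgroup L) := Subgroup.smul_mem_pointwise_smul _ _ _ hw
    rw [← Sylow.coe_subgroup_smul, h1] at h2
    simpa [MulAut.smul_def] using h2
  obtain ⟨w', hw'⟩ := exists_prime_orderOf_dvd_card' (G := (P : Subgroup L)) 5 (by
    have hP' : Nat.card (P : Subgroup L) = 5 := hPcard
    rw [hP'])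
  obtain ⟨T, hT⟩ := Sylow.exists_subgroup_card_pow_prime (G := L) 2 (n := 3) (by rw [hn]; norm_num)
  let f : T → (P : Subgroup L) := fun t => ⟨t.1 * w'.1 * t.1⁻¹, hconj _ _ w'.2⟩
  have hninj : ¬ Function.Injective f := by
    intro hinj
    have h := Nat.card_le_card_of_injective f hinj
    have hP' : Nat.card (P : Subgroup L) = 5 := hPcard
    rw [hP', hT] at h
    norm_num at h
  obtain ⟨t1, t2, hf, hne⟩ := Function.not_injective_iff.mp hninj
  have hf' : t1.1 * w'.1 * t1.1⁻¹ = t2.1 * w'.1 * t2.1⁻¹ := congrArg Subtype.val hf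
  set u : T := t2⁻¹ * t1 with hu
  have hu1 : u ≠ 1 := by
    intro h
    apply hne
    have := congrArg (fun z => t2 * z) h
    simpa [hu] using this
  have hcomm : Commute u.1 w'.1 := by
    show (t2⁻¹ * t1).1 * w'.1 = w'.1 * (t2⁻¹ * t1).1
    have : t2.1⁻¹ * (t1.1 * w'.1 * t1.1⁻¹) * t1.1 = t2.1⁻¹ * (t2.1 * w'.1 * t2.1⁻¹) * t1.1 := by rw [hf']
    simpa [mul_assoc] using this
  have hou : orderOf u ∣ 2 ^ 3 := hT ▸ orderOf_dvd_natCard u
  obtain ⟨k, _, hk⟩ := (Nat.dvd_prime_pow Nat.prime_two).mp hou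
  have hk0 : k ≠ 0 := by
    rintro rfl
    rw [pow_zero, orderOf_eq_one_iff] at hk
    exact hu1 hk
  have h2 : 2 ∣ orderOf u.1 := by
    rw [Subgroup.orderOf_coe, hk]
    exact dvd_pow_self 2 hk0
  refine ⟨u.1 ^ (orderOf u.1 / 2), w'.1, orderOf_pow_orderOf_div (orderOf_pos _).ne' h2, ?_, ?_⟩
  · rw [Subgroup.orderOf_coe, hw']
  · have := (hcomm.pow_left (orderOf u.1 / 2)).eq
    rw [← this]; group

theorem invol_fix_octad {g : Equiv.Perm GolayPt} (hg : g ∈ M24) (h2 : orderOf g = 2)
    (h0 : (fixF g).card ≠ 0) : fixF g ∈ octads := by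
  rcases invol_cases hg h2 with ⟨k, hk, he, _⟩ | ⟨_, _, _, h⟩
  · have h1 : fixF (k * g * k⁻¹) = ofMask 3444840 := by rw [he, fixF_r2A]
    rw [fixF_conj] at h1
    have h3 : fixF g = k⁻¹ • ofMask 3444840 := by rw [← h1, inv_smul_smul]
    rw [h3]
    exact smul_mem_octads (M24.inv_mem hk) (isOct_spec m2A_oct).2
  · exact absurd h h0

theorem not_Cfg_4_40 : ¬ Cfg 4 40 := by
  rintro ⟨L, hL, F, hF4, hF, hn⟩
  obtain ⟨v, w, hv, hw, hvw⟩ := order40 hn
  have hV : orderOf v.1 = 2 := by rw [Subgroup.orderOf_coe, hv]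
  have hW : orderOf w.1 = 5 := by rw [Subgroup.orderOf_coe, hw]
  have hvw' : w.1 * v.1 * w.1⁻¹ = v.1 := congrArg Subtype.val hvw
  have hFV : F ⊆ fixF v.1 := fun a ha => mem_fixF.mpr (hF v.1 v.2 a ha)
  have hFW : F ⊆ fixF w.1 := fun a ha => mem_fixF.mpr (hF w.1 w.2 a ha)
  have hFW' : F = fixF w.1 := Finset.eq_of_subset_of_card_le hFW (by rw [fix5 (hL w.2) hW, hF4])
  have h8 : (fixF v.1).card = 8 := by
    have := invol_fix_octad (hL v.2) hV (by
      have := Finset.card_le_card hFV
      omega)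
    exact this.2
  have hinv : w.1 • fixF v.1 = fixF v.1 := by rw [← fixF_conj, hvw']
  have : Fact (Nat.Prime 5) := ⟨by norm_num⟩
  have hmod := card_inv_mod (p := 5) (σ := w.1) (by rw [← hW]; exact pow_orderOf_eq_one _) hinv
  rw [← hFW', Finset.inter_eq_right.mpr hFV, hF4, h8] at hmod
  revert hmod
  decide

/-- a subgroup of index 24 fixes a point -/
theorem M24_fixed_point {H : Subgroup (Equiv.Perm GolayPt)} (hH : H ≤ M24) (hc : Nat.card H = 10200960) :
    ∃ c, ∀ g ∈ H, g c = c := by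
  by_contra hcon
  push Not at hcon
  have : Fact (Nat.Prime 23) := ⟨by norm_num⟩
  have : Fact (Nat.Prime 11) := ⟨by norm_num⟩
  have : Fact (Nat.Prime 7) := ⟨by norm_num⟩
  have : Fact (Nat.Prime 5) := ⟨by norm_num⟩
  obtain ⟨c, _, h1⟩ := step_orbit hH (F := ∅) (by simp) (p := 23) (by rw [hc]; norm_num)
    (fun g hg ho => by simpa using fix23 hg ho)
  have hle : (orbF H c).card ≤ 24 := by
    rw [← card_univ_pts]; exact Finset.card_le_card (Finset.subset_univ _)
  have hcases : (orbF H c).card = 1 ∨ (orbF H c).card = 24 := by omega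
  rcases hcases with h | h
  · obtain ⟨g, hg, hgc⟩ := hcon c
    obtain ⟨a, ha⟩ := Finset.card_eq_one.mp h
    have e1 : c = a := Finset.mem_singleton.mp (ha ▸ self_mem_orbF H c)
    have e2 : g c = a := Finset.mem_singleton.mp (ha ▸ mem_orbF.mpr ⟨g, hg, rfl⟩)
    exact hgc (e2.trans e1.symm)
  · have c1 : Cfg 1 425040 := by
      refine ⟨stabP H c, fun g hg => hH hg.1, {c}, Finset.card_singleton c, ?_, ?_⟩
      · intro g hg a ha
        rw [Finset.mem_singleton.mp ha]; exact hg.2
      · have := card_orbF_mul H c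
        rw [hc, h] at this
        omega
    have c2 : Cfg 2 18480 := c1.step 11 23 18480 (by norm_num) (by norm_num) (fun g hg ho => fix11 hg ho)
      (fun g hg ho => fix23 hg ho) (by intro s; omega) (by norm_num) (by norm_num)
    have c3 : Cfg 3 840 := c2.step 7 11 840 (by norm_num) (by norm_num) (fun g hg ho => fix7 hg ho)
      (fun g hg ho => fix11 hg ho) (by intro s; omega) (by norm_num) (by norm_num)
    have c4 : Cfg 4 40 := c3.step 5 7 40 (by norm_num) (by norm_num) (fun g hg ho => fix5 hg ho)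
      (fun g hg ho => fix7 hg ho) (by intro s; omega) (by norm_num) (by norm_num)
    exact not_Cfg_4_40 c4

/-- a subgroup of index 23 of a point stabiliser fixes a second point -/
theorem M23_fixed_point {H : Subgroup (Equiv.Perm GolayPt)} (hH : H ≤ M24) {a : GolayPt}
    (ha : ∀ g ∈ H, g a = a) (hc : Nat.card H = 443520) : ∃ c, c ≠ a ∧ ∀ g ∈ H, g c = c := by
  have : Fact (Nat.Prime 11) := ⟨by norm_num⟩
  have : Fact (Nat.Prime 7) := ⟨by norm_num⟩
  have hF : ∀ g ∈ H, ∀ b ∈ ({a} : Finset GolayPt), g b = b := by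
    intro g hg b hb
    rw [Finset.mem_singleton.mp hb]; exact ha g hg
  obtain ⟨c, hcF, h1⟩ := step_orbit hH hF (p := 11) (by rw [hc]; norm_num)
    (fun g hg ho => by simpa using fix11 hg ho)
  have hle := orbF_card_le hF hcF
  rw [Finset.card_singleton] at hle
  have hmul := card_orbF_mul H c
  rw [hc] at hmul
  refine ⟨c, by simpa using hcF, ?_⟩
  have hcases : (orbF H c).card = 1 ∨ (orbF H c).card = 12 ∨ (orbF H c).card = 23 := by omega
  rcases hcases with h | h | h
  · intro g hg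
    obtain ⟨b, hb⟩ := Finset.card_eq_one.mp h
    have e1 : c = b := Finset.mem_singleton.mp (hb ▸ self_mem_orbF H c)
    have e2 : g c = b := Finset.mem_singleton.mp (hb ▸ mem_orbF.mpr ⟨g, hg, rfl⟩)
    exact e2.trans e1.symm
  · exfalso
    obtain ⟨z, hzH, hz⟩ := exists_order (L := H) (p := 7) (by rw [hc]; norm_num)
    have hmod := card_inv_mod (p := 7) (σ := z) (by rw [← hz]; exact pow_orderOf_eq_one _)
      (smul_orbF (c := c) hzH)
    rw [h] at hmod
    have h3 : (orbF H c ∩ fixF z).card ≤ 3 := by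
      rw [← fix7 (hH hzH) hz]
      exact Finset.card_le_card Finset.inter_subset_right
    unfold Nat.ModEq at hmod
    omega
  · exfalso
    rw [h] at hmul
    omega

end Cfsg.Agent.H9
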