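import Cfsg.Agent.Lib_H9_Aut3
import Cfsg.Prelude.Def_KGroupFacts
import Cfsg.Prelude.Def_Spor_Mathieu

set_option autoImplicit false

namespace Cfsg.Agent.H9

open Cfsg
open scoped Pointwise

/-- if the subgroups with the order of a point stabiliser all fix a point, every automorphism is induced by
a permutation of the points -/
theorem aut_is_perm {G : Subgroup (Equiv.Perm GolayPt)} {Ω : Finset GolayPt} {n : ℕ}
    (hinv : ∀ g ∈ G, ∀ c ∈ Ω, g c ∈ Ω)
    (hout : ∀ g ∈ G, ∀ c ∉ Ω, g c = c)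
    (h1 : ∀ H : Subgroup (Equiv.Perm GolayPt), H ≤ G → Nat.card H = n → ∃ c ∈ Ω, ∀ g ∈ H, g c = c)
    (h2 : ∀ c ∈ Ω, Nat.card (stabP G c) = n)
    (h3 : ∀ c ∈ Ω, ∀ c' ∈ Ω, c ≠ c' → ∃ g ∈ G, g c = c ∧ g c' ≠ c')
    (α : G ≃* G) : ∃ π : Equiv.Perm GolayPt, (∀ c ∉ Ω, π c = c) ∧ ∀ g : G, (α g).1 = π * g.1 * π⁻¹ := by
  classical
  let φ : G →* Equiv.Perm GolayPt := G.subtype.comp α.toMonoidHom
  have hφ : Function.Injective φ := fun a b h => α.injective (Subtype.ext h)
  let A : GolayPt → Subgroup (Equiv.Perm GolayPt) := fun c => ((stabP G c).subgroupOf G).map φ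
  have hAmem : ∀ c x, x ∈ A c ↔ ∃ g : G, g.1 c = c ∧ (α g).1 = x := by
    intro c x
    constructor
    · rintro ⟨g, hg, rfl⟩
      exact ⟨g, (Subgroup.mem_subgroupOf.mp hg).2, rfl⟩
    · rintro ⟨g, hg, rfl⟩
      exact ⟨g, Subgroup.mem_subgroupOf.mpr ⟨g.2, hg⟩, rfl⟩
  have hAcard : ∀ c ∈ Ω, Nat.card (A c) = n := by
    intro c hc
    rw [Subgroup.card_map_of_injective hφ, card_subgroupOf_of_le (H := G) (K := stabP G c) inf_le_left, h2 c hc]
  have hAG : ∀ c, A c ≤ G := by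
    intro c x hx
    obtain ⟨g, _, rfl⟩ := (hAmem c x).mp hx
    exact (α g).2
  let Fx : GolayPt → GolayPt → Prop := fun c c' => ∀ g : G, g.1 c = c → (α g).1 c' = c'
  have hex : ∀ c ∈ Ω, ∃ c' ∈ Ω, Fx c c' := by
    intro c hc
    obtain ⟨c', hc', h⟩ := h1 (A c) (hAG c) (hAcard c hc)
    exact ⟨c', hc', fun g hg => h _ ((hAmem c _).mpr ⟨g, hg, rfl⟩)⟩
  have hsurj : ∀ c ∈ Ω, ∀ c' ∈ Ω, Fx c c' → ∀ k ∈ G, k c' = c' → ∃ g : G, g.1 c = c ∧ (α g).1 = k := by
    intro c hc c' hc' hF k hk hkc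
    have hle : A c ≤ stabP G c' := by
      intro x hx
      obtain ⟨g, hg, rfl⟩ := (hAmem c x).mp hx
      exact ⟨(α g).2, hF g hg⟩
    have heq : A c = stabP G c' := Subgroup.eq_of_le_of_card_ge hle (by rw [hAcard c hc, h2 c' hc'])
    exact (hAmem c k).mp (heq ▸ (⟨hk, hkc⟩ : k ∈ stabP G c'))
  have huniq : ∀ c ∈ Ω, ∀ c' ∈ Ω, ∀ c'' ∈ Ω, Fx c c' → Fx c c'' → c' = c'' := by
    intro c hc c' hc' c'' hc'' hF' hF''
    by_contra hne
    obtain ⟨k, hk, hk1, hk2⟩ := h3 c' hc' c'' hc'' hne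
    obtain ⟨g, hg, rfl⟩ := hsurj c hc c' hc' hF' k hk hk1
    exact hk2 (hF'' g hg)
  have hinj0 : ∀ c1 ∈ Ω, ∀ c2 ∈ Ω, ∀ c' ∈ Ω, Fx c1 c' → Fx c2 c' → c1 = c2 := by
    intro c1 hc1 c2 hc2 c' hc' hF1 hF2
    by_contra hne
    obtain ⟨g, hg, hg1, hg2⟩ := h3 c1 hc1 c2 hc2 hne
    obtain ⟨g2, hg2', he⟩ := hsurj c2 hc2 c' hc' hF2 (α ⟨g, hg⟩).1 (α ⟨g, hg⟩).2 (hF1 ⟨g, hg⟩ hg1)
    have : g2 = ⟨g, hg⟩ := α.injective (Subtype.ext he)
    rw [this] at hg2'
    exact hg2 hg2'
  let f : GolayPt → GolayPt := fun c => if h : c ∈ Ω then (hex c h).choose else c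
  have hf1 : ∀ c (h : c ∈ Ω), f c ∈ Ω ∧ Fx c (f c) := by
    intro c h
    have : f c = (hex c h).choose := dif_pos h
    rw [this]
    exact (hex c h).choose_spec
  have hf2 : ∀ c, c ∉ Ω → f c = c := fun c h => dif_neg h
  have hfinj : Function.Injective f := by
    intro a b hab
    by_cases ha : a ∈ Ω <;> by_cases hb : b ∈ Ω
    · exact hinj0 a ha b hb (f a) (hf1 a ha).1 (hf1 a ha).2 (hab ▸ (hf1 b hb).2)
    · exfalso
      rw [hf2 b hb] at hab
      exact hb (hab ▸ (hf1 a ha).1)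
    · exfalso
      rw [hf2 a ha] at hab
      exact ha (hab ▸ (hf1 b hb).1)
    · rw [hf2 a ha, hf2 b hb] at hab; exact hab
  let π : Equiv.Perm GolayPt := Equiv.ofBijective f (Finite.injective_iff_bijective.mp hfinj)
  have hπ : ∀ c, π c = f c := fun _ => rfl
  have hequiv : ∀ (g : G) (c : GolayPt), (α g).1 (f c) = f (g.1 c) := by
    intro g c
    by_cases hc : c ∈ Ω
    · have hgc := hinv g.1 g.2 c hc
      refine huniq (g.1 c) hgc _ (hinv _ (α g).2 _ (hf1 c hc).1) _ (hf1 _ hgc).1 ?_ (hf1 _ hgc).2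
      intro h hh
      have h1' : (g⁻¹ * h * g).1 c = c := by
        show g.1⁻¹ (h.1 (g.1 c)) = c
        rw [hh]; simp
      have h2' := (hf1 c hc).2 _ h1'
      rw [map_mul, map_mul, map_inv] at h2'
      have h3' : (α g).1⁻¹ ((α h).1 ((α g).1 (f c))) = f c := h2'
      rw [Equiv.Perm.inv_eq_iff_eq] at h3'
      exact h3'
    · rw [hf2 c hc, hout _ (α g).2 c hc, hout g.1 g.2 c hc, hf2 c hc]
  refine ⟨π, fun c hc => by rw [hπ, hf2 c hc], fun g => ?_⟩
  apply Equiv.ext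
  intro x
  rw [Equiv.Perm.mul_apply, Equiv.Perm.mul_apply, hπ, ← hequiv, ← hπ]
  simp

theorem out_card_one {G : Type*} [Group G] (h : ∀ α : MulAut G, ∃ g : G, α = MulAut.conj g) :
    Nat.card (Out G) = 1 := by
  show (Inn G).index = 1
  rw [Subgroup.index_eq_one, eq_top_iff]
  intro α _
  obtain ⟨g, rfl⟩ := h α
  exact ⟨g, rfl⟩

namespace Spn
def BT : ℕ := 442260735586855050719899000918915512341588166267706593305857524960884712046018064502785
def ST : ℕ := 497032405293948776656465738984847222508780477114364043038691775983203259631399231808348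
def bs (j : ℕ) : ℕ := Nat.land (Nat.shiftRight BT (Nat.mul 24 j)) 16777215
theorem bs_ok : allBelow (fun j => isOct (bs j) && bit (bs j) 23) 12 = true := by decide +kernel
theorem sel_ok : allBelow (fun t => Nat.beq (gen t) (xorSel bs 12 (fld ST 12 4095 t))) 24 = true := by
  decide +kernel
end Spn

theorem smul_symmDiff' (σ : Equiv.Perm GolayPt) (a b : Finset GolayPt) :
    σ • symmDiff a b = symmDiff (σ • a) (σ • b) := by
  ext p
  simp only [Finset.mem_symmDiff, ← Finset.inv_smul_mem_iff]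

theorem empty_mem_CC : (∅ : Finset GolayPt) ∈ CC := by
  have := symmDiff_mem_CC univ_mem_CC univ_mem_CC
  rwa [symmDiff_self] at this

/-- a permutation taking the octads through the extra point to octads belongs to the group of the code -/
theorem perm_mem_M24 {π : Equiv.Perm GolayPt} (h : ∀ o ∈ octads, none ∈ o → π • o ∈ octads) : π ∈ M24 := by
  have hb : ∀ j < 12, π • ofMask (Spn.bs j) ∈ CC := by
    intro j hj
    have := (allBelow_iff _ _).mp Spn.bs_ok j hj
    rw [Bool.and_eq_true, bit_eq] at this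
    refine (h _ (isOct_spec this.1).2 ?_).1
    rw [mem_ofMask]
    exact this.2
  have hx : ∀ k ≤ 12, ∀ n, π • ofMask (xorSel Spn.bs k n) ∈ CC := by
    intro k
    induction k with
    | zero =>
      intro _ n
      have : xorSel Spn.bs 0 n = 0 := rfl
      rw [this]
      have h0 : ofMask 0 = ∅ := by
        ext p; simp [mem_ofMask]
      rw [h0, Finset.smul_finset_empty]
      exact empty_mem_CC
    | succ k ih =>
      intro hk n
      rw [xorSel_succ, ofMask_xor, smul_symmDiff']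
      apply symmDiff_mem_CC (ih (by omega) n)
      cases n.testBit k
      · have h0 : ofMask (false.toNat * Spn.bs k) = ∅ := by
          ext p; simp [mem_ofMask]
        rw [h0, Finset.smul_finset_empty]
        exact empty_mem_CC
      · simpa using hb k (by omega)
  apply mem_M24_of_gens
  intro j hj
  rw [Nat.eq_of_beq_eq_true ((allBelow_iff _ _).mp Spn.sel_ok j hj)]
  exact hx 12 le_rfl _

/-- every octad is the set of fixed points of an involution -/
theorem octad_is_fix {o : Finset GolayPt} (ho : o ∈ octads) : ∃ z ∈ M24, orderOf z = 2 ∧ fixF z = o := by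
  obtain ⟨h, hh, rfl⟩ := M24_trans_octads (isOct_spec m2A_oct).2 ho
  refine ⟨h * permOf r2A * h⁻¹, M24.mul_mem (M24.mul_mem hh (permOf_mem_M24 r2A_in)) (M24.inv_mem hh), ?_, ?_⟩
  · have : h * permOf r2A * h⁻¹ = MulAut.conj h (permOf r2A) := rfl
    rw [this, MulEquiv.orderOf_eq, order_r2A]
  · rw [fixF_conj, fixF_r2A]

/-- a permutation normalising enough of the group of the code belongs to it -/
theorem normalizer_mem_M24 {π : Equiv.Perm GolayPt}
    (h : ∀ z ∈ M24, z none = none → π * z * π⁻¹ ∈ M24) : π ∈ M24 := by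
  apply perm_mem_M24
  intro o ho hn
  obtain ⟨z, hz, hz2, rfl⟩ := octad_is_fix ho
  rw [← fixF_conj]
  apply invol_fix_octad (h z hz (mem_fixF.mp hn))
  · have : π * z * π⁻¹ = MulAut.conj π z := rfl
    rw [this, MulEquiv.orderOf_eq, hz2]
  · rw [card_fixF_conj, ho.2]; norm_num

end Cfsg.Agent.H9
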