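import Cfsg.Agent.Lib_H9_Aut4

set_option autoImplicit false

namespace Cfsg.Agent.H9

open Cfsg
open scoped Pointwise

theorem M24_list (l l' : List GolayPt) (hl : l.Nodup) (hl' : l'.Nodup) (hlen : l.length = l'.length)
    (h5 : l.length ≤ 5) : ∃ g ∈ M24, l.map g = l' :=
  six_list l l' hl hl' hlen (by omega) (by omega)

theorem orbF_M24 (c : GolayPt) : orbF M24 c = Finset.univ := by
  ext y
  simp only [mem_orbF, Finset.mem_univ, iff_true]
  obtain ⟨g, hg, h⟩ := M24_list [c] [y] (by simp) (by simp) rfl (by simp)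
  simp only [List.map_cons, List.map_nil, List.cons.injEq, and_true] at h
  exact ⟨g, hg, h⟩

theorem card_stabP1 (c : GolayPt) : Nat.card (stabP M24 c) = 10200960 := by
  have := card_orbF_mul M24 c
  rw [orbF_M24, card_univ_pts, card_M24] at this
  omega

theorem orbF_M23 {a c : GolayPt} (hac : c ≠ a) : orbF (stabP M24 a) c = Finset.univ \ {a} := by
  ext y
  simp only [mem_orbF, Finset.mem_sdiff, Finset.mem_univ, true_and, Finset.mem_singleton]
  constructor
  · rintro ⟨g, hg, rfl⟩ h
    exact hac (g.injective (h.trans hg.2.symm))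
  · intro hy
    obtain ⟨g, hg, h⟩ := M24_list [a, c] [a, y] (by simpa using Ne.symm hac) (by simpa using Ne.symm hy) rfl
      (by simp)
    simp only [List.map_cons, List.map_nil, List.cons.injEq, and_true] at h
    exact ⟨g, ⟨hg, h.1⟩, h.2⟩

theorem card_stabP2 {a c : GolayPt} (hac : c ≠ a) : Nat.card (stabP (stabP M24 a) c) = 443520 := by
  have := card_orbF_mul (stabP M24 a) c
  rw [orbF_M23 hac, Finset.card_univ_sdiff, card_pts, Finset.card_singleton, card_stabP1] at this
  omega

theorem exists_third (s : Finset GolayPt) (hs : s.card < 24) : ∃ x, x ∉ s := by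
  by_contra h
  push Not at h
  have : s = Finset.univ := Finset.eq_univ_iff_forall.mpr h
  rw [this, card_univ_pts] at hs
  omega

theorem out_M24 : Nat.card (Out ↥M24) = 1 := by
  apply out_card_one
  intro α
  obtain ⟨π, _, hπ⟩ := aut_is_perm (G := M24) (Ω := Finset.univ) (n := 10200960)
    (fun _ _ _ _ => Finset.mem_univ _) (fun _ _ c hc => absurd (Finset.mem_univ c) hc)
    (fun H hH hc => by
      obtain ⟨c, h⟩ := M24_fixed_point hH hc
      exact ⟨c, Finset.mem_univ c, h⟩)
    (fun c _ => card_stabP1 c)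
    (fun c _ c' _ hne => by
      obtain ⟨x, hx⟩ := exists_third {c, c'} (lt_of_le_of_lt Finset.card_le_two (by norm_num))
      simp only [Finset.mem_insert, Finset.mem_singleton, not_or] at hx
      obtain ⟨g, hg, h⟩ := M24_list [c, c'] [c, x] (by simpa using hne) (by simpa using Ne.symm hx.1) rfl
        (by simp)
      simp only [List.map_cons, List.map_nil, List.cons.injEq, and_true] at h
      exact ⟨g, hg, h.1, by rw [h.2]; exact hx.2⟩) α
  have hπM : π ∈ M24 := normalizer_mem_M24 (fun z hz _ => by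
    rw [← hπ ⟨z, hz⟩]; exact (α ⟨z, hz⟩).2)
  refine ⟨⟨π, hπM⟩, ?_⟩
  apply MulEquiv.ext
  intro g
  apply Subtype.ext
  exact hπ g

theorem out_M23 : Nat.card (Out ↥Spor.M23) = 1 := by
  apply out_card_one
  intro α
  have hG : Spor.M23 = stabP M24 none := rfl
  obtain ⟨π, hπ0, hπ⟩ := aut_is_perm (G := Spor.M23) (Ω := Finset.univ \ {none}) (n := 443520)
    (fun g hg c hc => by
      simp only [Finset.mem_sdiff, Finset.mem_univ, true_and, Finset.mem_singleton] at hc ⊢
      intro h
      exact hc (g.injective (h.trans hg.2.symm)))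
    (fun g hg c hc => by
      simp only [Finset.mem_sdiff, Finset.mem_univ, true_and, Finset.mem_singleton, not_not] at hc
      rw [hc]; exact hg.2)
    (fun H hH hc => by
      obtain ⟨c, hc1, h⟩ := M23_fixed_point (a := none) (fun g hg => (hH hg).1) (fun g hg => (hH hg).2) hc
      exact ⟨c, by simpa using hc1, h⟩)
    (fun c hc => by
      rw [hG]
      exact card_stabP2 (by simpa using hc))
    (fun c hc c' hc' hne => by
      simp only [Finset.mem_sdiff, Finset.mem_univ, true_and, Finset.mem_singleton] at hc hc'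
      obtain ⟨x, hx⟩ := exists_third {none, c, c'} (lt_of_le_of_lt Finset.card_le_three (by norm_num))
      simp only [Finset.mem_insert, Finset.mem_singleton, not_or] at hx
      obtain ⟨g, hg, h⟩ := M24_list [none, c, c'] [none, c, x]
        (by simp [Ne.symm hc, Ne.symm hc', hne]) (by simp [Ne.symm hc, Ne.symm hx.1, Ne.symm hx.2.1]) rfl
        (by simp)
      simp only [List.map_cons, List.map_nil, List.cons.injEq, and_true] at h
      exact ⟨g, ⟨hg, h.1⟩, h.2.1, by rw [h.2.2]; exact hx.2.2⟩) α
  have hπM : π ∈ M24 := normalizer_mem_M24 (fun z hz hzn => by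
    rw [← hπ ⟨z, ⟨hz, hzn⟩⟩]; exact (α ⟨z, ⟨hz, hzn⟩⟩).2.1)
  refine ⟨⟨π, ⟨hπM, hπ0 none (by simp)⟩⟩, ?_⟩
  apply MulEquiv.ext
  intro g
  apply Subtype.ext
  exact hπ g

end Cfsg.Agent.H9
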