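import Cfsg.Agent.Lib_H9_Aut5

set_option autoImplicit false

namespace Cfsg.Agent.H9

open Cfsg
open scoped Pointwise

/-! ### enumeration of the elements with a given pattern -/

def enumChk (n UT Fm : ℕ) (Q : ℕ → ℕ → ℕ → Bool) : Bool :=
  allBelow (fun f => !(bit Fm f) || force (entry UT f) (fun U =>
    allBelow (fun a => !(bit 5248 a) || force (entry trTab5 a) (fun S =>
      allBelow (fun b => !(bit 16771936 b) || force (entry trTab6 b) (fun T =>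
        !(allBelow (fun i => Nat.beq (itN n (cf3 U S T) i) i) 24) || Q U S T)) 24)) 24)) 24

theorem pattern_enum {n UT Fm y0 y1 y2 y3 : ℕ} {Q : ℕ → ℕ → ℕ → Bool}
    (hU : utChk UT Fm y0 y1 y2 y3 = true) (hK : enumChk n UT Fm Q = true)
    {g : Equiv.Perm GolayPt} (hg : g ∈ M24) (hn : g ^ n = 1)
    (h0 : g (pt 0) = pt y0) (h1 : g (pt 1) = pt y1) (h2 : g (pt 2) = pt y2) (h3 : g (pt 3) = pt y3)
    {f : ℕ} (hf : f < 24) (hFm : Fm.testBit f = true) (h4 : g (pt 4) = pt f) :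
    ∃ U S T : ℕ, (∀ i < 24, g (pt i) = pt (cf3 U S T i)) ∧ (∀ i < 24, cf3 U S T i < 24) ∧ Q U S T = true := by
  have u1 := (allBelow_iff _ _).mp hU f hf
  rw [bit_eq, hFm, force_eq] at u1
  simp only [Bool.not_true, Bool.false_or, Bool.and_eq_true, beq_iff] at u1
  obtain ⟨⟨⟨⟨⟨uM, u0⟩, u1'⟩, u2⟩, u3⟩, u4⟩ := u1
  have hUp := inM24_isPerm uM
  obtain ⟨a, ha, b, hb, hba, hbb, he⟩ := coset_enum (permOf_mem_M24 uM) hg (by
    intro i hi
    rw [permOf_pt hUp (by omega)]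
    interval_cases i
    · rw [h0, u0]
    · rw [h1, u1']
    · rw [h2, u2]
    · rw [h3, u3]
    · rw [h4, u4])
  obtain ⟨hS, _, _⟩ := levelCheck_spec' (by norm_num) level5 ha hba
  obtain ⟨hT, _, _⟩ := levelCheck_spec' (by norm_num) level6 hb hbb
  have hpt : ∀ i < 24, g (pt i) = pt (cf3 (entry UT f) (entry trTab5 a) (entry trTab6 b) i) := by
    intro i hi; rw [he]; exact (cf3_spec hUp hS hT hi).1
  have hlt : ∀ i < 24, cf3 (entry UT f) (entry trTab5 a) (entry trTab6 b) i < 24 :=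
    fun i hi => (cf3_spec hUp hS hT hi).2
  have c0 := (allBelow_iff _ _).mp hK f hf
  rw [bit_eq, hFm, force_eq] at c0
  simp only [Bool.not_true, Bool.false_or] at c0
  have c1 := (allBelow_iff _ _).mp c0 a ha
  rw [bit_eq, hba, force_eq] at c1
  simp only [Bool.not_true, Bool.false_or] at c1
  have c2 := (allBelow_iff _ _).mp c1 b hb
  rw [bit_eq, hbb, force_eq] at c2
  simp only [Bool.not_true, Bool.false_or] at c2
  have hpow : allBelow (fun i => Nat.beq (itN n (cf3 (entry UT f) (entry trTab5 a) (entry trTab6 b)) i) i) 24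
      = true := by
    rw [allBelow_iff]
    intro i hi
    rw [beq_iff]
    obtain ⟨e1, e2⟩ := itN_spec hpt hlt n hi
    rw [hn] at e1
    exact (pt_injective hi e2 e1).symm
  rw [hpow] at c2
  simp only [Bool.not_true, Bool.false_or] at c2
  exact ⟨_, _, _, hpt, hlt, c2⟩

/-! ### automorphisms and permutations -/

theorem aut_perm_on {G : Subgroup (Equiv.Perm GolayPt)} {Ω : Finset GolayPt} {n m : ℕ}
    (hinv : ∀ g ∈ G, ∀ c ∈ Ω, g c ∈ Ω)
    (h1 : ∀ H : Subgroup (Equiv.Perm GolayPt), H ≤ G → Nat.card H = n → (∃ g ∈ H, orderOf g = m) →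
      ∃ c ∈ Ω, ∀ g ∈ H, g c = c)
    (h2 : ∀ c ∈ Ω, Nat.card (stabP G c) = n)
    (h2' : ∀ c ∈ Ω, ∃ g ∈ G, g c = c ∧ orderOf g = m)
    (h3 : ∀ c ∈ Ω, ∀ c' ∈ Ω, c ≠ c' → ∃ g ∈ G, g c = c ∧ g c' ≠ c')
    (α : G ≃* G) : ∃ π : Equiv.Perm GolayPt, (∀ c ∉ Ω, π c = c) ∧ (∀ c ∈ Ω, π c ∈ Ω) ∧
      ∀ g : G, ∀ c ∈ Ω, (α g).1 (π c) = π (g.1 c) := by
  classical
  let φ : G →* Equiv.Perm GolayPt := G.subtype.comp α.toMonoidHom
  have hφ : Function.Injective φ := fun a b h => α.injective (Subtype.ext h)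
  let A : GolayPt → Subgroup (Equiv.Perm GolayPt) := fun c => ((stabP G c).subgroupOf G).map φ
  have hAmem : ∀ c x, x ∈ A c ↔ ∃ g : G, g.1 c = c ∧ (α g).1 = x := by
    intro c x
    constructor
    · rintro ⟨g, hg, rfl⟩
      exact ⟨g, (Subgroup.mem_subgroupOf.mp hg).2, rfl⟩
    · rintro ⟨g, hg, rfl⟩
      exact ⟨g, Subgroup.mem_subgroupOf.mpr ⟨g.2, hg⟩, rfl⟩
  have hAcard : ∀ c ∈ Ω, Nat.card (A c) = n := by
    intro c hc
    rw [Subgroup.card_map_of_injective hφ, card_subgroupOf_of_le (H := G) (K := stabP G c) inf_le_left, h2 c hc]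
  have hAG : ∀ c, A c ≤ G := by
    intro c x hx
    obtain ⟨g, _, rfl⟩ := (hAmem c x).mp hx
    exact (α g).2
  let Fx : GolayPt → GolayPt → Prop := fun c c' => ∀ g : G, g.1 c = c → (α g).1 c' = c'
  have hex : ∀ c ∈ Ω, ∃ c' ∈ Ω, Fx c c' := by
    intro c hc
    obtain ⟨g0, hg0, hg0c, hg0m⟩ := h2' c hc
    obtain ⟨c', hc', h⟩ := h1 (A c) (hAG c) (hAcard c hc)
      ⟨(α ⟨g0, hg0⟩).1, (hAmem c _).mpr ⟨⟨g0, hg0⟩, hg0c, rfl⟩, by
        rw [Subgroup.orderOf_coe, MulEquiv.orderOf_eq, ← hg0m]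
        exact Subgroup.orderOf_mk _ _⟩
    exact ⟨c', hc', fun g hg => h _ ((hAmem c _).mpr ⟨g, hg, rfl⟩)⟩
  have hsurj : ∀ c ∈ Ω, ∀ c' ∈ Ω, Fx c c' → ∀ k ∈ G, k c' = c' → ∃ g : G, g.1 c = c ∧ (α g).1 = k := by
    intro c hc c' hc' hF k hk hkc
    have hle : A c ≤ stabP G c' := by
      intro x hx
      obtain ⟨g, hg, rfl⟩ := (hAmem c x).mp hx
      exact ⟨(α g).2, hF g hg⟩
    have heq : A c = stabP G c' := Subgroup.eq_of_le_of_card_ge hle (by rw [hAcard c hc, h2 c' hc'])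
    exact (hAmem c k).mp (heq ▸ (⟨hk, hkc⟩ : k ∈ stabP G c'))
  have huniq : ∀ c ∈ Ω, ∀ c' ∈ Ω, ∀ c'' ∈ Ω, Fx c c' → Fx c c'' → c' = c'' := by
    intro c hc c' hc' c'' hc'' hF' hF''
    by_contra hne
    obtain ⟨k, hk, hk1, hk2⟩ := h3 c' hc' c'' hc'' hne
    obtain ⟨g, hg, rfl⟩ := hsurj c hc c' hc' hF' k hk hk1
    exact hk2 (hF'' g hg)
  have hinj0 : ∀ c1 ∈ Ω, ∀ c2 ∈ Ω, ∀ c' ∈ Ω, Fx c1 c' → Fx c2 c' → c1 = c2 := by
    intro c1 hc1 c2 hc2 c' hc' hF1 hF2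
    by_contra hne
    obtain ⟨g, hg, hg1, hg2⟩ := h3 c1 hc1 c2 hc2 hne
    obtain ⟨g2, hg2', he⟩ := hsurj c2 hc2 c' hc' hF2 (α ⟨g, hg⟩).1 (α ⟨g, hg⟩).2 (hF1 ⟨g, hg⟩ hg1)
    have : g2 = ⟨g, hg⟩ := α.injective (Subtype.ext he)
    rw [this] at hg2'
    exact hg2 hg2'
  let f : GolayPt → GolayPt := fun c => if h : c ∈ Ω then (hex c h).choose else c
  have hf1 : ∀ c (h : c ∈ Ω), f c ∈ Ω ∧ Fx c (f c) := by
    intro c h
    have : f c = (hex c h).choose := dif_pos h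
    rw [this]
    exact (hex c h).choose_spec
  have hf2 : ∀ c, c ∉ Ω → f c = c := fun c h => dif_neg h
  have hfinj : Function.Injective f := by
    intro a b hab
    by_cases ha : a ∈ Ω <;> by_cases hb : b ∈ Ω
    · exact hinj0 a ha b hb (f a) (hf1 a ha).1 (hf1 a ha).2 (hab ▸ (hf1 b hb).2)
    · exfalso
      rw [hf2 b hb] at hab
      exact hb (hab ▸ (hf1 a ha).1)
    · exfalso
      rw [hf2 a ha] at hab
      exact ha (hab ▸ (hf1 b hb).1)
    · rw [hf2 a ha, hf2 b hb] at hab; exact hab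
  let π : Equiv.Perm GolayPt := Equiv.ofBijective f (Finite.injective_iff_bijective.mp hfinj)
  have hπ : ∀ c, π c = f c := fun _ => rfl
  refine ⟨π, fun c hc => by rw [hπ, hf2 c hc], fun c hc => by rw [hπ]; exact (hf1 c hc).1, ?_⟩
  intro g c hc
  rw [hπ, hπ]
  have hgc := hinv g.1 g.2 c hc
  refine huniq (g.1 c) hgc _ (hinv _ (α g).2 _ (hf1 c hc).1) _ (hf1 _ hgc).1 ?_ (hf1 _ hgc).2
  intro h hh
  have h1' : (g⁻¹ * h * g).1 c = c := by
    show g.1⁻¹ (h.1 (g.1 c)) = c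
    rw [hh]; simp
  have h2' := (hf1 c hc).2 _ h1'
  rw [map_mul, map_mul, map_inv] at h2'
  have h3' : (α g).1⁻¹ ((α h).1 ((α g).1 (f c))) = f c := h2'
  rw [Equiv.Perm.inv_eq_iff_eq] at h3'
  exact h3'

/-- conjugation by a normalising permutation, as an automorphism -/
def conjAut {G : Subgroup (Equiv.Perm GolayPt)} (σ : Equiv.Perm GolayPt)
    (h1 : ∀ g ∈ G, σ * g * σ⁻¹ ∈ G) (h2 : ∀ g ∈ G, σ⁻¹ * g * σ ∈ G) : MulAut G where
  toFun g := ⟨σ * g.1 * σ⁻¹, h1 g.1 g.2⟩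
  invFun g := ⟨σ⁻¹ * g.1 * σ, h2 g.1 g.2⟩
  left_inv g := by apply Subtype.ext; show σ⁻¹ * (σ * g.1 * σ⁻¹) * σ = g.1; group
  right_inv g := by apply Subtype.ext; show σ * (σ⁻¹ * g.1 * σ) * σ⁻¹ = g.1; group
  map_mul' a b := by
    apply Subtype.ext; show σ * (a.1 * b.1) * σ⁻¹ = (σ * a.1 * σ⁻¹) * (σ * b.1 * σ⁻¹); group

theorem out_two_of {G N : Subgroup (Equiv.Perm GolayPt)} (hGN : G ≤ N)
    (hnorm : ∀ σ ∈ N, ∀ g ∈ G, σ * g * σ⁻¹ ∈ G) {g0 : Equiv.Perm GolayPt} (hg0 : g0 ∈ N) (hg0G : g0 ∉ G)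
    (hidx : ∀ σ ∈ N, σ ∈ G ∨ σ * g0 ∈ G)
    (hcent : ∀ σ ∈ N, (∀ g ∈ G, σ * g * σ⁻¹ = g) → σ = 1)
    (haut : ∀ α : G ≃* G, ∃ σ ∈ N, ∀ g : G, (α g).1 = σ * g.1 * σ⁻¹) : Nat.card (Out G) = 2 := by
  show (Inn G).index = 2
  rw [Subgroup.index_eq_two_iff]
  have hn2 : ∀ g ∈ G, g0⁻¹ * g * g0 ∈ G := by
    intro g hg
    have := hnorm g0⁻¹ (N.inv_mem hg0) g hg
    simpa using this
  refine ⟨conjAut g0 (hnorm g0 hg0) hn2, fun β => ?_⟩
  have hnot : conjAut g0 (hnorm g0 hg0) hn2 ∉ Inn G := by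
    rintro ⟨h, hh⟩
    apply hg0G
    have hc : h.1⁻¹ * g0 = 1 := by
      apply hcent _ (N.mul_mem (N.inv_mem (hGN h.2)) hg0)
      intro g hg
      have e := congrArg (fun γ : MulAut G => (γ ⟨g, hg⟩).1) hh
      have e' : h.1 * g * h.1⁻¹ = g0 * g * g0⁻¹ := e
      have : h.1⁻¹ * g0 * g * (h.1⁻¹ * g0)⁻¹ = h.1⁻¹ * (g0 * g * g0⁻¹) * h.1 := by group
      rw [this, ← e']; group
    have : g0 = h.1 := by
      have := congrArg (fun t => h.1 * t) hc
      simpa using this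
    rw [this]; exact h.2
  obtain ⟨σ, hσ, hβ⟩ := haut β
  have hinn : ∀ (γ : MulAut G) (ρ : Equiv.Perm GolayPt), ρ ∈ G → (∀ g : G, (γ g).1 = ρ * g.1 * ρ⁻¹) →
      γ ∈ Inn G := by
    intro γ ρ hρ h
    refine ⟨⟨ρ, hρ⟩, ?_⟩
    apply MulEquiv.ext
    intro g
    apply Subtype.ext
    exact (h g).symm
  rcases hidx σ hσ with h | h
  · have hb : β ∈ Inn G := hinn β σ h hβ
    refine Or.inr ⟨hb, fun hba => hnot ?_⟩
    have := (Inn G).mul_mem ((Inn G).inv_mem hb) hba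
    simpa using this
  · have hba : β * conjAut g0 (hnorm g0 hg0) hn2 ∈ Inn G := by
      apply hinn _ (σ * g0) h
      intro g
      show (β (conjAut g0 (hnorm g0 hg0) hn2 g)).1 = _
      rw [hβ]
      show σ * (g0 * g.1 * g0⁻¹) * σ⁻¹ = _
      group
    refine Or.inl ⟨hba, fun hb => hnot ?_⟩
    have := (Inn G).mul_mem ((Inn G).inv_mem hb) hba
    simpa using this

/-! ### membership in the group of the code through a basis -/

theorem perm_mem_of_basis {bs : ℕ → ℕ} {ST : ℕ}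
    (hsel : allBelow (fun t => Nat.beq (gen t) (xorSel bs 12 (fld ST 12 4095 t))) 24 = true)
    {π : Equiv.Perm GolayPt} (hb : ∀ j < 12, π • ofMask (bs j) ∈ CC) : π ∈ M24 := by
  have hx : ∀ k ≤ 12, ∀ n, π • ofMask (xorSel bs k n) ∈ CC := by
    intro k
    induction k with
    | zero =>
      intro _ n
      have : xorSel bs 0 n = 0 := rfl
      rw [this]
      have h0 : ofMask 0 = ∅ := by
        ext p; simp [mem_ofMask]
      rw [h0, Finset.smul_finset_empty]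
      exact empty_mem_CC
    | succ k ih =>
      intro hk n
      rw [xorSel_succ, ofMask_xor, smul_symmDiff']
      apply symmDiff_mem_CC (ih (by omega) n)
      cases n.testBit k
      · have h0 : ofMask (false.toNat * bs k) = ∅ := by
          ext p; simp [mem_ofMask]
        rw [h0, Finset.smul_finset_empty]
        exact empty_mem_CC
      · simpa using hb k (by omega)
  apply mem_M24_of_gens
  intro j hj
  rw [Nat.eq_of_beq_eq_true ((allBelow_iff _ _).mp hsel j hj)]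
  exact hx 12 le_rfl _

theorem smul_fix_octad {π z : Equiv.Perm GolayPt} (hz2 : orderOf z = 2) (hc : (fixF z).card ≠ 0)
    (hM : π * z * π⁻¹ ∈ M24) : π • fixF z ∈ octads := by
  rw [← fixF_conj]
  apply invol_fix_octad hM
  · have : π * z * π⁻¹ = MulAut.conj π z := rfl
    rw [this, MulEquiv.orderOf_eq, hz2]
  · rw [card_fixF_conj]; exact hc

/-- a table of involutions of `GS F L` whose sets of fixed points are given octads -/
def invChk (ZT : ℕ) (bs : ℕ → ℕ) (F : ℕ) (L : List ℕ) (lo hi : ℕ) : Bool :=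
  allBelow (fun j => Nat.blt j lo || force (entry ZT j) (fun Z => inGS Z F L &&
    allBelow (fun i => Nat.beq (app Z (app Z i)) i) 24 &&
    allBelow (fun i => (Nat.beq (app Z i) i) == (bit (bs j) i)) 24 && Nat.beq (pop (bs j)) 8 &&
    Nat.blt (bs j) 16777216)) hi

theorem invChk_spec {ZT : ℕ} {bs : ℕ → ℕ} {F : ℕ} {L : List ℕ} {lo hi : ℕ}
    (h : invChk ZT bs F L lo hi = true) {j : ℕ} (hlo : lo ≤ j) (hj : j < hi) :
    ∃ z ∈ GS F L, orderOf z = 2 ∧ fixF z = ofMask (bs j) ∧ (ofMask (bs j)).card = 8 := by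
  have h1 := (allBelow_iff _ _).mp h j hj
  rw [force_eq, Bool.or_eq_true] at h1
  rcases h1 with h1 | h1
  · have : j < lo := Nat.blt_eq ▸ h1
    omega
  simp only [Bool.and_eq_true] at h1
  obtain ⟨⟨⟨⟨a1, a2⟩, a3⟩, a4⟩, a5⟩ := h1
  have hp := inGS_isPerm a1
  have hlt : bs j < 2 ^ 24 := Nat.blt_eq ▸ a5
  have hfix : fixF (permOf (entry ZT j)) = ofMask (bs j) := fixF_permOf hp a3
  have hcard : (ofMask (bs j)).card = 8 := by
    rw [← pop_eq hlt]; exact Nat.eq_of_beq_eq_true a4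
  refine ⟨permOf (entry ZT j), permOf_mem_GS a1, ?_, hfix, hcard⟩
  exact orderOf_eq_prime (permOf_pow_one hp a2) (ne_one_of_fixF (by rw [hfix, hcard]; norm_num))

end Cfsg.Agent.H9
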