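import Cfsg.Agent.Lib_H9_Aut6

set_option autoImplicit false

namespace Cfsg.Agent.H9

open Cfsg
open scoped Pointwise

theorem Cfg5_dvd {n : ℕ} (h : Cfg 5 n) : n ∣ 48 := by
  obtain ⟨L, hL, F, hF5, hF, hn⟩ := h
  have hle : L ≤ M24 ⊓ fixingSubgroup (Equiv.Perm GolayPt) (F : Set GolayPt) := by
    intro g hg
    refine Subgroup.mem_inf.mpr ⟨hL hg, ?_⟩
    rw [mem_fixingSubgroup_iff]
    intro a ha
    exact hF g hg a ha
  have hc : Nat.card (M24 ⊓ fixingSubgroup (Equiv.Perm GolayPt) (F : Set GolayPt) : Subgroup _) = 48 := by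
    rw [← card_fixingSubgroup_M24]
    have := card_fixing_mul (k := 5) le_rfl (F : Set GolayPt) (by rw [Set.ncard_coe_finset, hF5])
    have e : (48 : ℕ) * (24 : ℕ).factorial = 244823040 * (24 - 5).factorial := by decide +kernel
    rw [← e] at this
    exact Nat.eq_of_mul_eq_mul_right (Nat.factorial_pos _) this
  rw [← hn, ← hc]
  exact Subgroup.card_dvd_of_le hle

theorem smul_eq_of_fix {g : Equiv.Perm GolayPt} {F : Finset GolayPt} (h : ∀ a ∈ F, g a = a) : g • F = F := by
  ext p
  rw [← Finset.inv_smul_mem_iff]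
  constructor
  · intro hp
    have := h _ hp
    have e : g (g⁻¹ • p) = p := by simp
    rw [e] at this
    rw [this]; exact hp
  · intro hp
    have : g⁻¹ • p = p := by
      rw [inv_smul_eq_iff]; exact (h p hp).symm
    rw [this]; exact hp

theorem card_le_of_inv {L : Subgroup (Equiv.Perm GolayPt)} {S : Finset GolayPt} (hS : ∀ g ∈ L, g • S = S)
    {a : GolayPt} (ha : a ∈ S) :
    Nat.card L ≤ S.card * Nat.card (stabP L a) ∧ ∀ g ∈ stabP L a, g • S.erase a = S.erase a := by
  constructor
  · rw [card_orbF_mul L a]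
    apply Nat.mul_le_mul_right
    apply Finset.card_le_card
    intro y hy
    obtain ⟨g, hg, rfl⟩ := mem_orbF.mp hy
    exact apply_mem_of_smul_eq (hS g hg) ha
  · intro g hg
    have h1 : S.erase a = S \ {a} := Finset.erase_eq S a
    rw [h1, Finset.smul_finset_sdiff, hS g hg.1, Finset.smul_finset_singleton]
    have : g • a = a := hg.2
    rw [this]

/-- a subgroup of index 22 of a two point stabiliser fixes a third point -/
theorem M22_fixed_point {H : Subgroup (Equiv.Perm GolayPt)} (hH : H ≤ M24) {a b : GolayPt} (hab : a ≠ b)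
    (ha : ∀ g ∈ H, g a = a) (hb : ∀ g ∈ H, g b = b) (hc : Nat.card H = 20160) :
    ∃ c, c ≠ a ∧ c ≠ b ∧ ∀ g ∈ H, g c = c := by
  have : Fact (Nat.Prime 7) := ⟨by norm_num⟩
  have : Fact (Nat.Prime 5) := ⟨by norm_num⟩
  have hF : ∀ g ∈ H, ∀ x ∈ ({a, b} : Finset GolayPt), g x = x := by
    intro g hg x hx
    rcases Finset.mem_insert.mp hx with rfl | hx
    · exact ha g hg
    · rw [Finset.mem_singleton.mp hx]; exact hb g hg
  have hF2 : ({a, b} : Finset GolayPt).card = 2 := Finset.card_pair hab
  obtain ⟨c, hcF, h1⟩ := step_orbit hH hF (p := 7) (by rw [hc]; norm_num)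
    (fun g hg ho => by rw [hF2]; exact fix7 hg ho)
  have hle := orbF_card_le hF hcF
  rw [hF2] at hle
  have hmul := card_orbF_mul H c
  rw [hc] at hmul
  simp only [Finset.mem_insert, Finset.mem_singleton, not_or] at hcF
  refine ⟨c, hcF.1, hcF.2, ?_⟩
  have hcF' : c ∉ ({a, b} : Finset GolayPt) := by simp [hcF.1, hcF.2]
  have hcases : (orbF H c).card = 1 ∨ (orbF H c).card = 8 ∨ (orbF H c).card = 15 ∨ (orbF H c).card = 22 := by
    omega
  rcases hcases with h | h | h | h
  · intro g hg
    obtain ⟨e, he⟩ := Finset.card_eq_one.mp h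
    have e1 : c = e := Finset.mem_singleton.mp (he ▸ self_mem_orbF H c)
    have e2 : g c = e := Finset.mem_singleton.mp (he ▸ mem_orbF.mpr ⟨g, hg, rfl⟩)
    exact e2.trans e1.symm
  · exfalso
    obtain ⟨w, hwH, hw⟩ := exists_order (L := H) (p := 5) (by rw [hc]; norm_num)
    have hmod := card_inv_mod (p := 5) (σ := w) (by rw [← hw]; exact pow_orderOf_eq_one _)
      (smul_orbF (c := c) hwH)
    rw [h] at hmod
    have hdis : Disjoint (orbF H c ∩ fixF w) {a, b} :=
      Finset.disjoint_of_subset_left Finset.inter_subset_left (orbF_disjoint hF hcF')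
    have hsub : (orbF H c ∩ fixF w) ∪ {a, b} ⊆ fixF w := by
      apply Finset.union_subset Finset.inter_subset_right
      intro x hx
      exact mem_fixF.mpr (hF w hwH x hx)
    have h4 := Finset.card_le_card hsub
    rw [Finset.card_union_of_disjoint hdis, hF2, fix5 (hH hwH) hw] at h4
    unfold Nat.ModEq at hmod
    omega
  · exfalso
    -- the remaining seven points
    set S0 : Finset GolayPt := (orbF H c ∪ {a, b})ᶜ with hS0
    have hS0inv : ∀ g ∈ H, g • S0 = S0 := by
      intro g hg
      rw [hS0, smul_compl, Finset.smul_finset_union, smul_orbF hg, smul_eq_of_fix (hF g hg)]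
    have hS0card : S0.card = 7 := by
      rw [hS0, Finset.card_compl, card_pts, Finset.card_union_of_disjoint (orbF_disjoint hF hcF'), h, hF2]
    have hS0F : ∀ x ∈ S0, x ≠ a ∧ x ≠ b := by
      intro x hx
      rw [hS0, Finset.mem_compl, Finset.mem_union, not_or] at hx
      simpa using hx.2
    obtain ⟨a1, ha1⟩ : S0.Nonempty := Finset.card_pos.mp (by omega)
    obtain ⟨b1, i1⟩ := card_le_of_inv hS0inv ha1
    have c1 : (S0.erase a1).card = 6 := by rw [Finset.card_erase_of_mem ha1, hS0card]
    obtain ⟨a2, ha2⟩ : (S0.erase a1).Nonempty := Finset.card_pos.mp (by omega)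
    obtain ⟨b2, i2⟩ := card_le_of_inv i1 ha2
    have c2 : ((S0.erase a1).erase a2).card = 5 := by rw [Finset.card_erase_of_mem ha2, c1]
    obtain ⟨a3, ha3⟩ : ((S0.erase a1).erase a2).Nonempty := Finset.card_pos.mp (by omega)
    obtain ⟨b3, _⟩ := card_le_of_inv i2 ha3
    have m2 := Finset.mem_erase.mp ha2
    have m3 := Finset.mem_erase.mp ha3
    have m3' := Finset.mem_erase.mp m3.2
    have cfg : Cfg 5 (Nat.card (stabP (stabP (stabP H a1) a2) a3)) := by
      refine ⟨stabP (stabP (stabP H a1) a2) a3, fun g hg => hH hg.1.1.1, {a3, a2, a1, a, b}, ?_, ?_, rfl⟩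
      · have n1 := hS0F a1 ha1
        have n2 := hS0F a2 m2.2
        have n3 := hS0F a3 m3'.2
        rw [Finset.card_insert_of_notMem, Finset.card_insert_of_notMem, Finset.card_insert_of_notMem, hF2]
        · simp [n1.1, n1.2]
        · simp [m2.1, n2.1, n2.2]
        · simp [m3.1, m3'.1, n3.1, n3.2]
      · intro g hg x hx
        simp only [Finset.mem_insert, Finset.mem_singleton] at hx
        rcases hx with rfl | rfl | rfl | rfl | rfl
        · exact hg.2
        · exact hg.1.2
        · exact hg.1.1.2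
        · exact ha g hg.1.1.1
        · exact hb g hg.1.1.1
    have h48 := Nat.le_of_dvd (by norm_num) (Cfg5_dvd cfg)
    rw [hc, hS0card] at b1
    rw [c1] at b2
    rw [c2] at b3
    nlinarith
  · exfalso
    rw [h] at hmul
    omega

end Cfsg.Agent.H9
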