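import Cfsg.Agent.Lib_H9_Aut7

set_option autoImplicit false

namespace Cfsg.Agent.H9

open Cfsg
open scoped Pointwise

namespace A22
def BT : ℕ := 466787076755836543907245688091774525251224616248452999019200806633882548891249515212804
def ST : ℕ := 495696731545632252458786062106401801245351459640830733395740518592356928450505156059987
def ZT : ℕ := 22539806537656334867306642632041617392153237822912236896903915260219715822630844246695906830407377764047945372586123923777790575701016197912587869699481323243457821847547423253665045635584301438751580263519515128717393450797546335701359524935046217079946263874163163329665945202052671009617633923010971285103212988828314075077661796659323233037778174990610460801592481827461602527995498473263760914431032594544063297915265753821478912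
def bs (j : ℕ) : ℕ := Nat.land (Nat.shiftRight BT (Nat.mul 24 j)) 16777215
theorem sel_ok : allBelow (fun t => Nat.beq (gen t) (xorSel bs 12 (fld ST 12 4095 t))) 24 = true := by
  decide +kernel
theorem inv_ok : invChk ZT bs 8388609 [] 1 12 = true := by decide +kernel
theorem bs_ok : allBelow (fun j => isOct (bs j) && bit (bs j) 23 &&
    ((Nat.beq j 0) == !(bit (bs j) 0))) 12 = true := by decide +kernel
set_option maxRecDepth 100000 in
theorem par_ok : allBelow (fun σ => !(allBelow (fun j => Nat.beq j 0 ||
    Nat.beq (Nat.land (pop (Nat.land (leadOf σ) (bs j))) 1) 0) 12) || Nat.beq (leadOf σ) 0 ||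
    Nat.beq (leadOf σ) 8388609) 4096 = true := by decide +kernel
end A22

set_option maxRecDepth 100000 in
theorem weight4_check : allBelow (fun i => Nat.beq (Nat.land (pop (enc i)) 3) 0) 4096 = true := by
  decide +kernel

theorem four_dvd_card {s : Finset GolayPt} (hs : s ∈ CC) : 4 ∣ s.card := by
  obtain ⟨i, hi, rfl⟩ := exists_of_mem_CC hs
  have := Nat.eq_of_beq_eq_true ((allBelow_iff _ _).mp weight4_check i hi)
  rw [← pop_eq (enc_lt i)]
  have h2 : pop (enc i) &&& 3 = 0 := this
  have h3 : pop (enc i) % 4 = 0 := by
    have : pop (enc i) &&& 3 = pop (enc i) % 4 := Nat.and_two_pow_sub_one_eq_mod (pop (enc i)) 2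
    omega
  exact Nat.dvd_of_mod_eq_zero h3

theorem even_inter {s t : Finset GolayPt} (hs : s ∈ CC) (ht : t ∈ CC) : Even (s ∩ t).card := by
  have h1 := four_dvd_card hs
  have h2 := four_dvd_card ht
  have h3 := four_dvd_card (symmDiff_mem_CC hs ht)
  have h4 := card_symmDiff_add s t
  rw [Nat.even_iff]
  omega

end Cfsg.Agent.H9
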