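import Cfsg.Agent.Lib_H9_Aut8

set_option autoImplicit false

namespace Cfsg.Agent.H9

open Cfsg
open scoped Pointwise

theorem pt23 : pt 23 = none := rfl
theorem pt0 : pt 0 = some 0 := rfl

theorem ofMask_pair : ofMask 8388609 = {none, some 0} := by
  have : (8388609 : ℕ) = 2 ^ 23 ||| 2 ^ 0 := by decide
  rw [this, ofMask_or, ofMask_two_pow (by norm_num), ofMask_two_pow (by norm_num), pt23, pt0]
  rfl

theorem inter_symmDiff' (a b c : Finset GolayPt) : symmDiff a b ∩ c = symmDiff (a ∩ c) (b ∩ c) := by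
  ext p
  simp only [Finset.mem_inter, Finset.mem_symmDiff]
  tauto

theorem A22_oct {j : ℕ} (hj : j < 12) : A22.bs j < 2 ^ 24 ∧ ofMask (A22.bs j) ∈ octads ∧
    none ∈ ofMask (A22.bs j) ∧ (some 0 ∈ ofMask (A22.bs j) ↔ j ≠ 0) := by
  have := (allBelow_iff _ _).mp A22.bs_ok j hj
  simp only [Bool.and_eq_true, beq_iff_eq, bit_eq] at this
  obtain ⟨⟨h1, h2⟩, h3⟩ := this
  refine ⟨(isOct_spec h1).1, (isOct_spec h1).2, by rw [mem_ofMask]; exact h2, ?_⟩
  rw [mem_ofMask]
  have e : idx (some 0 : GolayPt) = 0 := rfl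
  rw [e]
  cases hb : (A22.bs j).testBit 0
  · rw [hb] at h3
    simp only [Bool.not_false] at h3
    have : j = 0 := Nat.eq_of_beq_eq_true h3
    simp [this]
  · rw [hb] at h3
    simp only [Bool.not_true] at h3
    have : j ≠ 0 := by
      rintro rfl
      simp at h3
    simp [this]

theorem mem_or_of_even {X : Finset GolayPt}
    (h : ∀ j, 1 ≤ j → j < 12 → Even (X ∩ ofMask (A22.bs j)).card) :
    X ∈ CC ∨ symmDiff X {none, some 0} ∈ CC := by
  have hc := symmDiff_leadS X
  have hσ : syn (toMask X) < 4096 := syn_lt (toMask_lt X)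
  have hl : leadS X = ofMask (leadOf (syn (toMask X))) := rfl
  generalize syn (toMask X) = σ at hσ hl
  have hpar : ∀ j, 1 ≤ j → j < 12 → Even (ofMask (leadOf σ) ∩ ofMask (A22.bs j)).card := by
    intro j h1 h2
    have e1 := even_inter hc (A22_oct h2).2.1.1
    have e2 := h j h1 h2
    rw [inter_symmDiff', hl] at e1
    have e4 := card_symmDiff_add (X ∩ ofMask (A22.bs j)) (ofMask (leadOf σ) ∩ ofMask (A22.bs j))
    rw [Nat.even_iff] at e1 e2 ⊢
    omega
  have ht := (allBelow_iff _ _).mp A22.par_ok σ hσ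
  have hin : allBelow (fun j => Nat.beq j 0 ||
      Nat.beq (Nat.land (pop (Nat.land (leadOf σ) (A22.bs j))) 1) 0) 12 = true := by
    rw [allBelow_iff]
    intro j hj
    rw [Bool.or_eq_true, beq_iff, beq_iff]
    by_cases h0 : j = 0
    · exact Or.inl h0
    · right
      have e := hpar j (by omega) hj
      rw [← ofMask_and, ← pop_eq (and_lt_two_pow24 _ (leadOf_lt σ)), Nat.even_iff] at e
      have e2 : pop (leadOf σ &&& A22.bs j) &&& 1 = pop (leadOf σ &&& A22.bs j) % 2 :=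
        Nat.and_two_pow_sub_one_eq_mod _ 1
      show pop (leadOf σ &&& A22.bs j) &&& 1 = 0
      omega
  rw [hin] at ht
  simp only [Bool.not_true, Bool.false_or, Bool.or_eq_true, beq_iff] at ht
  rcases ht with h0 | h1
  · left
    rw [hl, h0, ofMask_zero] at hc
    have e : symmDiff X ∅ = X := symmDiff_bot X
    rwa [e] at hc
  · right
    rw [hl, h1, ofMask_pair] at hc
    exact hc

theorem swap_smul_one {a b : GolayPt} {X : Finset GolayPt} (ha : a ∈ X) (hb : b ∉ X) :
    Equiv.swap a b • X = symmDiff X {a, b} := by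
  have hab : a ≠ b := fun h => hb (h ▸ ha)
  ext p
  rw [← Finset.inv_smul_mem_iff, Equiv.swap_inv, Equiv.Perm.smul_def, Finset.mem_symmDiff]
  by_cases h1 : p = a
  · subst h1
    simp [hb, ha]
  · by_cases h2 : p = b
    · subst h2
      simp [hb, ha]
    · rw [Equiv.swap_apply_of_ne_of_ne h1 h2]
      simp [h1, h2]

theorem swap_smul_both {a b : GolayPt} {X : Finset GolayPt} (ha : a ∈ X) (hb : b ∈ X) :
    Equiv.swap a b • X = X := by
  ext p
  rw [← Finset.inv_smul_mem_iff, Equiv.swap_inv, Equiv.Perm.smul_def]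
  by_cases h1 : p = a
  · subst h1
    simp [hb, ha]
  · by_cases h2 : p = b
    · subst h2
      simp [hb, ha]
    · rw [Equiv.swap_apply_of_ne_of_ne h1 h2]

theorem swap_conj {a b : GolayPt} {g : Equiv.Perm GolayPt} (ha : g a = a) (hb : g b = b) :
    Equiv.swap a b * g * (Equiv.swap a b)⁻¹ = g := by
  have h := Equiv.mul_swap_eq_swap_mul g a b
  rw [ha, hb] at h
  rw [← h]; group

/-- the setwise stabiliser of the pair -/
def N22 : Subgroup (Equiv.Perm GolayPt) :=
  M24 ⊓ MulAction.stabilizer (Equiv.Perm GolayPt) ({none, some 0} : Finset GolayPt)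

theorem none_ne : (none : GolayPt) ≠ some 0 := by simp

theorem mem_M22 {g : Equiv.Perm GolayPt} : g ∈ Spor.M22 ↔ g ∈ M24 ∧ g none = none ∧ g (some 0) = some 0 :=
  ⟨fun h => ⟨h.1.1, h.1.2, h.2⟩, fun h => ⟨⟨h.1, h.2.1⟩, h.2.2⟩⟩

theorem M22_eq : Spor.M22 = stabP (stabP M24 none) (some 0) := rfl

theorem orbF_M22 {c : GolayPt} (h1 : c ≠ none) (h2 : c ≠ some 0) :
    orbF Spor.M22 c = Finset.univ \ {none, some 0} := by
  ext y
  simp only [mem_orbF, Finset.mem_sdiff, Finset.mem_univ, true_and, Finset.mem_insert,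
    Finset.mem_singleton, not_or]
  constructor
  · rintro ⟨g, hg, rfl⟩
    rw [mem_M22] at hg
    exact ⟨fun h => h1 (g.injective (h.trans hg.2.1.symm)), fun h => h2 (g.injective (h.trans hg.2.2.symm))⟩
  · rintro ⟨hy1, hy2⟩
    obtain ⟨g, hg, h⟩ := M24_list [none, some 0, c] [none, some 0, y]
      (by simp [Ne.symm h1, Ne.symm h2]) (by simp [Ne.symm hy1, Ne.symm hy2]) rfl (by simp)
    simp only [List.map_cons, List.map_nil, List.cons.injEq, and_true] at h
    exact ⟨g, mem_M22.mpr ⟨hg, h.1, h.2.1⟩, h.2.2⟩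

theorem card_M22 : Nat.card Spor.M22 = 443520 := by
  rw [M22_eq]; exact card_stabP2 (by simp)

theorem card_stabP3 {c : GolayPt} (h1 : c ≠ none) (h2 : c ≠ some 0) :
    Nat.card (stabP Spor.M22 c) = 20160 := by
  have := card_orbF_mul Spor.M22 c
  rw [orbF_M22 h1 h2, Finset.card_univ_sdiff, card_pts, Finset.card_pair none_ne, card_M22] at this
  omega

theorem M22_h3 {c c' : GolayPt} (h1 : c ≠ none) (h2 : c ≠ some 0) (h1' : c' ≠ none) (h2' : c' ≠ some 0)
    (hne : c ≠ c') : ∃ g ∈ Spor.M22, g c = c ∧ g c' ≠ c' := by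
  obtain ⟨x, hx⟩ := exists_third {none, some 0, c, c'} (lt_of_le_of_lt Finset.card_le_four (by norm_num))
  simp only [Finset.mem_insert, Finset.mem_singleton, not_or] at hx
  obtain ⟨g, hg, h⟩ := M24_list [none, some 0, c, c'] [none, some 0, c, x]
    (by simp [Ne.symm h1, Ne.symm h2, Ne.symm h1', Ne.symm h2', hne])
    (by simp [Ne.symm h1, Ne.symm h2, Ne.symm hx.1, Ne.symm hx.2.1, Ne.symm hx.2.2.1]) rfl (by simp)
  simp only [List.map_cons, List.map_nil, List.cons.injEq, and_true] at h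
  exact ⟨g, mem_M22.mpr ⟨hg, h.1, h.2.1⟩, h.2.2.1, by rw [h.2.2.2]; exact hx.2.2.2⟩

theorem M22_aut (α : Spor.M22 ≃* Spor.M22) : ∃ σ ∈ N22, ∀ g : Spor.M22, (α g).1 = σ * g.1 * σ⁻¹ := by
  have hmemΩ : ∀ c : GolayPt, c ∈ (Finset.univ \ {none, some 0} : Finset GolayPt) ↔ c ≠ none ∧ c ≠ some 0 := by
    intro c; simp
  obtain ⟨π, hπ0, hπ⟩ := aut_is_perm (G := Spor.M22) (Ω := Finset.univ \ {none, some 0}) (n := 20160)
    (fun g hg c hc => by
      rw [hmemΩ] at hc ⊢
      rw [mem_M22] at hg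
      exact ⟨fun h => hc.1 (g.injective (h.trans hg.2.1.symm)),
        fun h => hc.2 (g.injective (h.trans hg.2.2.symm))⟩)
    (fun g hg c hc => by
      rw [mem_M22] at hg
      rw [hmemΩ, not_and_or, not_not, not_not] at hc
      rcases hc with rfl | rfl
      · exact hg.2.1
      · exact hg.2.2)
    (fun H hH hc => by
      obtain ⟨c, hc1, hc2, h⟩ := M22_fixed_point (a := none) (b := some 0) (fun g hg => (hH hg).1.1) none_ne
        (fun g hg => (hH hg).1.2) (fun g hg => (hH hg).2) hc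
      exact ⟨c, (hmemΩ c).mpr ⟨hc1, hc2⟩, h⟩)
    (fun c hc => card_stabP3 ((hmemΩ c).mp hc).1 ((hmemΩ c).mp hc).2)
    (fun c hc c' hc' hne => M22_h3 ((hmemΩ c).mp hc).1 ((hmemΩ c).mp hc).2 ((hmemΩ c').mp hc').1
      ((hmemΩ c').mp hc').2 hne) α
  have hπn : π none = none := hπ0 none (by simp)
  have hπz : π (some 0) = some 0 := hπ0 (some 0) (by simp)
  have hGS : ∀ z ∈ GS 8388609 [], z ∈ Spor.M22 := by
    intro z hz
    refine mem_M22.mpr ⟨hz.1, hz.2.1 _ ?_, hz.2.1 _ ?_⟩ <;> rw [ofMask_pair] <;> simp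
  have hfw : ∀ z ∈ Spor.M22, π * z * π⁻¹ ∈ M24 := by
    intro z hz
    rw [← hπ ⟨z, hz⟩]; exact (α ⟨z, hz⟩).2.1.1
  have hbw : ∀ z ∈ Spor.M22, π⁻¹ * z * π⁻¹⁻¹ ∈ M24 := by
    intro z hz
    have h := hπ (α.symm ⟨z, hz⟩)
    rw [MulEquiv.apply_symm_apply] at h
    have h' : z = π * (α.symm ⟨z, hz⟩).1 * π⁻¹ := h
    generalize (α.symm ⟨z, hz⟩) = w at h'
    have : π⁻¹ * z * π⁻¹⁻¹ = w.1 := by rw [h']; group
    rw [this]; exact w.2.1.1
  have hoct : ∀ j, 1 ≤ j → j < 12 → π • ofMask (A22.bs j) ∈ octads ∧ π⁻¹ • ofMask (A22.bs j) ∈ octads := by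
    intro j h1 h2
    obtain ⟨z, hz, hz2, hzf, hzc⟩ := invChk_spec A22.inv_ok h1 h2
    rw [← hzf]
    exact ⟨smul_fix_octad hz2 (by rw [hzf, hzc]; norm_num) (hfw z (hGS z hz)),
      smul_fix_octad hz2 (by rw [hzf, hzc]; norm_num) (hbw z (hGS z hz))⟩
  have hpair : π • ({none, some 0} : Finset GolayPt) = {none, some 0} := by
    apply smul_eq_of_fix
    intro a ha
    rcases Finset.mem_insert.mp ha with rfl | ha
    · exact hπn
    · rw [Finset.mem_singleton.mp ha]; exact hπz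
  rcases mem_or_of_even (X := π • ofMask (A22.bs 0)) (by
    intro j h1 h2
    rw [← card_inter_inv_smul]
    exact even_inter (A22_oct (by norm_num)).2.1.1 (hoct j h1 h2).2.1) with hX | hX
  · have hM : π ∈ M24 := by
      apply perm_mem_of_basis A22.sel_ok
      intro j hj
      by_cases h0 : j = 0
      · rw [h0]; exact hX
      · exact (hoct j (by omega) hj).1.1
    exact ⟨π, ⟨hM, hpair⟩, hπ⟩
  · have hn0 : none ∈ π • ofMask (A22.bs 0) := by
      rw [← hπn]; exact Finset.smul_mem_smul_finset (a := π) (A22_oct (j := 0) (by norm_num)).2.2.1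
    have hz0 : some 0 ∉ π • ofMask (A22.bs 0) := by
      intro h
      rw [← Finset.inv_smul_mem_iff] at h
      have e : π⁻¹ • (some 0 : GolayPt) = some 0 := by rw [inv_smul_eq_iff]; exact hπz.symm
      rw [e, (A22_oct (j := 0) (by norm_num)).2.2.2] at h
      exact h rfl
    have hM : Equiv.swap none (some 0) * π ∈ M24 := by
      apply perm_mem_of_basis A22.sel_ok
      intro j hj
      rw [mul_smul]
      by_cases h0 : j = 0
      · rw [h0, swap_smul_one hn0 hz0]; exact hX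
      · rw [swap_smul_both]
        · exact (hoct j (by omega) hj).1.1
        · rw [← hπn]; exact Finset.smul_mem_smul_finset (a := π) (A22_oct hj).2.2.1
        · rw [← hπz]; exact Finset.smul_mem_smul_finset (a := π) ((A22_oct hj).2.2.2.mpr h0)
    refine ⟨Equiv.swap none (some 0) * π, ⟨hM, ?_⟩, fun g => ?_⟩
    · show (Equiv.swap none (some 0) * π) • ({none, some 0} : Finset GolayPt) = {none, some 0}
      rw [mul_smul, hpair, swap_smul_both (by simp) (by simp)]
    · have h1 := (α g).2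
      rw [mem_M22] at h1
      have h2 := swap_conj h1.2.1 h1.2.2
      rw [hπ g] at h2
      rw [hπ g, ← h2]
      group

end Cfsg.Agent.H9
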