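import Cfsg.Agent.Lib_H9_Orb

set_option autoImplicit false

namespace Cfsg.Agent.H9

open Cfsg
open scoped Pointwise

def levelCheckS (T F : ℕ) (L : List ℕ) (b O : ℕ) : Bool :=
  allBelow (fun c => !(bit O c) || (inGS (entry T c) F L && Nat.beq (app (entry T c) b) c)) 24

theorem levelCheckS_spec {T F b O : ℕ} {L : List ℕ} (hb : b < 24) (h : levelCheckS T F L b O = true)
    {c : ℕ} (hc : c < 24) (hO : O.testBit c = true) : ∃ g ∈ GS F L, g (pt b) = pt c := by
  have := (allBelow_iff _ _).mp h c hc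
  rw [bit_eq, hO] at this
  simp only [Bool.not_true, Bool.false_or, Bool.and_eq_true] at this
  obtain ⟨h1, h3⟩ := this
  refine ⟨permOf (entry T c), permOf_mem_GS h1, ?_⟩
  rw [permOf_pt (inGS_isPerm h1) hb, Nat.eq_of_beq_eq_true h3]

/-- the fixed mask after `j` levels -/
def Fk (F bT : ℕ) (j : ℕ) : ℕ :=
  Nat.rec (motive := fun _ => ℕ) F (fun i ih => Nat.lor ih (Nat.shiftLeft 1 (fld bT 5 31 i))) j

theorem Fk_succ (F bT j : ℕ) : Fk F bT (j + 1) = Fk F bT j ||| 2 ^ (fld bT 5 31 j) := by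
  show Nat.lor (Fk F bT j) (Nat.shiftLeft 1 (fld bT 5 31 j)) = _
  have : Nat.shiftLeft 1 (fld bT 5 31 j) = 2 ^ (fld bT 5 31 j) := Nat.one_shiftLeft _
  rw [this]; rfl

theorem testBit_Fk (F bT j c : ℕ) :
    (Fk F bT j).testBit c = true ↔ F.testBit c = true ∨ ∃ i < j, fld bT 5 31 i = c := by
  induction j with
  | zero => simp [Fk]
  | succ j ih =>
    rw [Fk_succ, Nat.testBit_or, Bool.or_eq_true, ih, Nat.testBit_two_pow, decide_eq_true_eq]
    constructor
    · rintro ((h | ⟨i, hi, h⟩) | h)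
      · exact Or.inl h
      · exact Or.inr ⟨i, by omega, h⟩
      · exact Or.inr ⟨j, by omega, h⟩
    · rintro (h | ⟨i, hi, h⟩)
      · exact Or.inl (Or.inl h)
      · rcases Nat.lt_succ_iff_lt_or_eq.mp hi with h' | h'
        · exact Or.inl (Or.inr ⟨i, h', h⟩)
        · exact Or.inr (h' ▸ h)

def chainCheck (TT bT F : ℕ) (L : List ℕ) (S k : ℕ) : Bool :=
  Nat.beq (Nat.land S F) 0 &&
  allBelow (fun j => Nat.blt (fld bT 5 31 j) 24 &&
    levelCheckS (Nat.shiftRight TT (Nat.mul 2880 j)) (Fk F bT j) L (fld bT 5 31 j)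
      (Nat.land S (Nat.xor 16777215 (Fk F bT j)))) k

theorem GS_mono {F F' : ℕ} {L : List ℕ} (h : ∀ c, F.testBit c = true → F'.testBit c = true) :
    GS F' L ≤ GS F L := by
  rintro g ⟨h1, h2, h3⟩
  exact ⟨h1, fun p hp => h2 p (mem_ofMask.mpr (h _ (mem_ofMask.mp hp))), h3⟩

theorem chain_spec {TT bT F S k : ℕ} {L : List ℕ} (h : chainCheck TT bT F L S k = true)
    (hS : ∀ g ∈ GS F L, g • ofMask S = ofMask S) (x : ℕ → GolayPt)
    (hinj : ∀ i < k, ∀ j < k, x i = x j → i = j) (hxS : ∀ i < k, x i ∈ ofMask S) :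
    ∃ g ∈ GS F L, ∀ i < k, g (pt (fld bT 5 31 i)) = x i := by
  unfold chainCheck at h
  rw [Bool.and_eq_true] at h
  obtain ⟨hdisj, hlev⟩ := h
  have hdisj' : S &&& F = 0 := Nat.eq_of_beq_eq_true hdisj
  have key : ∀ j ≤ k, ∃ g ∈ GS F L, ∀ i < j, g (pt (fld bT 5 31 i)) = x i := by
    intro j
    induction j with
    | zero => intro _; exact ⟨1, (GS F L).one_mem, fun i hi => by omega⟩
    | succ j ih =>
      intro hj
      refine chain_step (GS F L) (ofMask S) hS (fun i => pt (fld bT 5 31 i)) x j ?_ (hxS j (by omega)) ?_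
        (ih (by omega))
      · intro i hi he
        have := hinj i (by omega) j (by omega) he
        omega
      · intro a haS hne
        have hl := (allBelow_iff _ _).mp hlev j (by omega)
        rw [Bool.and_eq_true] at hl
        obtain ⟨hb, hl⟩ := hl
        have hb' : fld bT 5 31 j < 24 := Nat.blt_eq ▸ hb
        have hbit : (Nat.land S (Nat.xor 16777215 (Fk F bT j))).testBit (idx a) = true := by
          show (S &&& (16777215 ^^^ Fk F bT j)).testBit (idx a) = true
          rw [Nat.testBit_and, Nat.testBit_xor, mem_ofMask.mp haS]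
          have hfull : (16777215 : ℕ).testBit (idx a) = true := by
            have : a ∈ ofMask 16777215 := by rw [ofMask_full]; exact Finset.mem_univ a
            exact mem_ofMask.mp this
          rw [hfull]
          have hnot : (Fk F bT j).testBit (idx a) = false := by
            rw [← Bool.not_eq_true, testBit_Fk]
            rintro (hF | ⟨i, hi, hi'⟩)
            · have : (S &&& F).testBit (idx a) = true := by
                rw [Nat.testBit_and, mem_ofMask.mp haS, hF]; rfl
              rw [hdisj'] at this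
              simp at this
            · exact hne i hi (by rw [hi', pt_idx])
          rw [hnot]; rfl
        obtain ⟨g, hg, hga⟩ := levelCheckS_spec hb' hl (idx_lt a) hbit
        refine ⟨g, GS_mono (fun c hc => (testBit_Fk F bT j c).mpr (Or.inl hc)) hg, ?_, by rw [hga, pt_idx]⟩
        intro i hi
        have hbi := (allBelow_iff _ _).mp hlev i (by omega)
        rw [Bool.and_eq_true] at hbi
        have hbi' : fld bT 5 31 i < 24 := Nat.blt_eq ▸ hbi.1
        apply hg.2.1
        rw [mem_ofMask, idx_pt hbi', testBit_Fk]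
        exact Or.inr ⟨i, hi, rfl⟩
  exact key k le_rfl

/-- two tuples version -/
theorem chain_spec₂ {TT bT F S k : ℕ} {L : List ℕ} (h : chainCheck TT bT F L S k = true)
    (hS : ∀ g ∈ GS F L, g • ofMask S = ofMask S) (x y : Fin k ↪ GolayPt)
    (hx : ∀ i, x i ∈ ofMask S) (hy : ∀ i, y i ∈ ofMask S) :
    ∃ g ∈ GS F L, ∀ i, g (x i) = y i := by
  have ext : ∀ z : Fin k ↪ GolayPt, (∀ i, z i ∈ ofMask S) →
      ∃ g ∈ GS F L, ∀ i : Fin k, g (pt (fld bT 5 31 i)) = z i := by
    intro z hz
    have h1 : ∀ i < k, ∀ j < k, (fun i => if hi : i < k then z ⟨i, hi⟩ else pt 0) i =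
        (fun i => if hi : i < k then z ⟨i, hi⟩ else pt 0) j → i = j := by
      intro i hi j hj he
      simp only [hi, hj, dif_pos] at he
      have := z.injective he
      simpa using this
    have h2 : ∀ i < k, (fun i => if hi : i < k then z ⟨i, hi⟩ else pt 0) i ∈ ofMask S := by
      intro i hi
      simp only [hi, dif_pos]
      exact hz _
    obtain ⟨g, hg, hgz⟩ := chain_spec h hS _ h1 h2
    refine ⟨g, hg, fun i => ?_⟩
    have := hgz i i.2
    simpa [i.2] using this
  obtain ⟨g, hg, hgx⟩ := ext x hx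
  obtain ⟨g', hg', hgy⟩ := ext y hy
  refine ⟨g' * g⁻¹, (GS F L).mul_mem hg' ((GS F L).inv_mem hg), fun i => ?_⟩
  rw [Equiv.Perm.mul_apply, ← hgx i, ← hgy i]
  simp

end Cfsg.Agent.H9
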