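import Cfsg.Agent.Lib_H9_Cls23

set_option autoImplicit false

namespace Cfsg.Agent.H9

open Cfsg
open scoped Pointwise

theorem fixF_permOf {R m : ℕ} (hR : isPerm R = true)
    (h : allBelow (fun i => (Nat.beq (app R i) i) == (bit m i)) 24 = true) : fixF (permOf R) = ofMask m := by
  ext p
  rw [mem_fixF, mem_ofMask, ← bit_eq]
  have hi := idx_lt p
  have h1 := (allBelow_iff _ _).mp h _ hi
  rw [beq_iff_eq] at h1
  rw [← h1, beq_iff]
  conv_lhs => rw [← pt_idx p, permOf_pt hR hi]
  constructor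
  · intro he; exact pt_injective (app_lt hR hi) hi he
  · intro he; rw [he]

theorem permOf_pow_one {R n : ℕ} (hR : isPerm R = true)
    (h : allBelow (fun i => Nat.beq (itN n (app R) i) i) 24 = true) : permOf R ^ n = 1 := by
  apply eq_one_of_pts
  intro i hi
  rw [(itN_spec (g := permOf R) (f := app R) (fun j hj => permOf_pt hR hj) (fun j hj => app_lt hR hj) n hi).1,
    Nat.eq_of_beq_eq_true ((allBelow_iff _ _).mp h i hi)]

theorem fixF_r2A : fixF (permOf r2A) = ofMask 3444840 := fixF_permOf (inM24_isPerm r2A_in) (by decide +kernel)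
theorem fixF_r2B : fixF (permOf r2B) = ofMask 0 := fixF_permOf (inM24_isPerm r2B_in) (by decide +kernel)
theorem fixF_r3A : fixF (permOf r3A) = ofMask 2886145 := fixF_permOf (inM24_isPerm r3A_in) (by decide +kernel)
theorem fixF_r3B : fixF (permOf r3B) = ofMask 0 := fixF_permOf (inM24_isPerm r3B_in) (by decide +kernel)
theorem m2A_oct : isOct 3444840 = true := by decide +kernel
theorem m3A_card : (ofMask 2886145).card = 6 := by rw [← pop_eq (by norm_num)]; decide +kernel
theorem r2A_pow : permOf r2A ^ 2 = 1 := permOf_pow_one (inM24_isPerm r2A_in) (by decide +kernel)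
theorem r2B_pow : permOf r2B ^ 2 = 1 := permOf_pow_one (inM24_isPerm r2B_in) (by decide +kernel)
theorem r3A_pow : permOf r3A ^ 3 = 1 := permOf_pow_one (inM24_isPerm r3A_in) (by decide +kernel)
theorem r3B_pow : permOf r3B ^ 3 = 1 := permOf_pow_one (inM24_isPerm r3B_in) (by decide +kernel)

theorem fixF_one : fixF 1 = Finset.univ := by
  ext p; simp [mem_fixF]

theorem ne_one_of_fixF {g : Equiv.Perm GolayPt} (h : (fixF g).card < 24) : g ≠ 1 := by
  rintro rfl
  rw [fixF_one, Finset.card_univ, card_pts] at h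
  omega

theorem card_fixF_conj (k g : Equiv.Perm GolayPt) : (fixF (k * g * k⁻¹)).card = (fixF g).card := by
  rw [fixF_conj, Finset.card_smul_finset]

theorem fixF_empty_iff {g : Equiv.Perm GolayPt} : (fixF g).card = 0 ↔ ∀ p, g p ≠ p := by
  rw [Finset.card_eq_zero, Finset.eq_empty_iff_forall_notMem]
  exact forall_congr' (fun p => not_congr mem_fixF)

theorem card_r2A : (fixF (permOf r2A)).card = 8 := by rw [fixF_r2A]; exact (isOct_spec m2A_oct).2.2
theorem card_r2B : (fixF (permOf r2B)).card = 0 := by rw [fixF_r2B, ofMask_zero]; rfl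
theorem card_r3A : (fixF (permOf r3A)).card = 6 := by rw [fixF_r3A]; exact m3A_card
theorem card_r3B : (fixF (permOf r3B)).card = 0 := by rw [fixF_r3B, ofMask_zero]; rfl

theorem order_r2A : orderOf (permOf r2A) = 2 :=
  orderOf_eq_prime r2A_pow (ne_one_of_fixF (by rw [card_r2A]; norm_num))
theorem order_r2B : orderOf (permOf r2B) = 2 :=
  orderOf_eq_prime r2B_pow (ne_one_of_fixF (by rw [card_r2B]; norm_num))
theorem order_r3A : orderOf (permOf r3A) = 3 :=
  orderOf_eq_prime r3A_pow (ne_one_of_fixF (by rw [card_r3A]; norm_num))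
theorem order_r3B : orderOf (permOf r3B) = 3 :=
  orderOf_eq_prime r3B_pow (ne_one_of_fixF (by rw [card_r3B]; norm_num))

theorem ne_one_of_order {g : Equiv.Perm GolayPt} {n : ℕ} (h : orderOf g = n) (hn : n ≠ 1) : g ≠ 1 := by
  rintro rfl
  rw [orderOf_one] at h
  exact hn h.symm

theorem invol_cases {g : Equiv.Perm GolayPt} (hg : g ∈ M24) (h2 : orderOf g = 2) :
    (∃ k ∈ M24, k * g * k⁻¹ = permOf r2A ∧ (fixF g).card = 8) ∨
    (∃ k ∈ M24, k * g * k⁻¹ = permOf r2B ∧ (fixF g).card = 0) := by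
  obtain ⟨k, hk, h | h⟩ := invol_class hg (by rw [← h2]; exact pow_orderOf_eq_one g)
    (ne_one_of_order h2 (by norm_num))
  · exact Or.inl ⟨k, hk, h, by rw [← card_fixF_conj k, h, card_r2A]⟩
  · exact Or.inr ⟨k, hk, h, by rw [← card_fixF_conj k, h, card_r2B]⟩

theorem ord3_cases {g : Equiv.Perm GolayPt} (hg : g ∈ M24) (h3 : orderOf g = 3) :
    (∃ k ∈ M24, k * g * k⁻¹ = permOf r3A ∧ (fixF g).card = 6) ∨
    (∃ k ∈ M24, k * g * k⁻¹ = permOf r3B ∧ (fixF g).card = 0) := by
  obtain ⟨k, hk, h | h⟩ := ord3_class hg (by rw [← h3]; exact pow_orderOf_eq_one g)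
    (ne_one_of_order h3 (by norm_num))
  · exact Or.inl ⟨k, hk, h, by rw [← card_fixF_conj k, h, card_r3A]⟩
  · exact Or.inr ⟨k, hk, h, by rw [← card_fixF_conj k, h, card_r3B]⟩

/-! ### counting invariant objects -/

theorem ncard_fixed_conj {X : Type*} [MulAction (Equiv.Perm GolayPt) X] (Ω : Set X)
    (hΩ : ∀ g ∈ M24, ∀ x ∈ Ω, g • x ∈ Ω) {g k r : Equiv.Perm GolayPt} (hk : k ∈ M24)
    (h : k * g * k⁻¹ = r) : {x | x ∈ Ω ∧ g • x = x}.ncard = {x | x ∈ Ω ∧ r • x = x}.ncard := by
  have : {x | x ∈ Ω ∧ r • x = x} = (fun x => k • x) '' {x | x ∈ Ω ∧ g • x = x} := by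
    ext y
    constructor
    · rintro ⟨hy, hry⟩
      refine ⟨k⁻¹ • y, ⟨hΩ _ (M24.inv_mem hk) y hy, ?_⟩, smul_inv_smul _ _⟩
      rw [← h, mul_smul, mul_smul] at hry
      exact (eq_inv_smul_iff.mpr hry)
    · rintro ⟨x, ⟨hx, hgx⟩, rfl⟩
      refine ⟨hΩ _ hk x hx, ?_⟩
      show r • k • x = k • x
      rw [← h, mul_smul, mul_smul, inv_smul_smul, hgx]
  rw [this, Set.ncard_image_of_injective _ (MulAction.injective k)]

theorem smul_famP_iff {t r X : ℕ} (ht : isPerm t = true) (hX : distinctP r X = true) :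
    permOf t • famP r X = famP r X ↔ subP t r X X = true := by
  constructor
  · intro h
    unfold subP
    rw [allBelow_iff]
    intro j hj
    rw [force_eq, force_eq, anyBelow_iff]
    have h1 : permOf t • ofMask (part X j) ∈ famP r X := by
      rw [← h]; exact Finset.smul_mem_smul_finset (mem_famP.mpr ⟨j, hj, rfl⟩)
    obtain ⟨i, hi, he⟩ := mem_famP.mp h1
    rw [smul_ofMask ht] at he
    exact ⟨i, hi, (beq_iff _ _).mpr ((ofMask_inj (part_lt _ _) (applyMask_lt ht _)).mp he).symm⟩
  · exact smul_famP ht hX hX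

theorem count_fixed_code {R : ℕ} (hR : isPerm R = true) (w : ℕ) :
    {o : Finset GolayPt | (o ∈ CC ∧ o.card = w) ∧ permOf R • o = o}.ncard =
      countBelow (fun i => force (enc i) (fun c => Nat.beq (pop c) w && Nat.beq (applyMask R c) c)) 4096 := by
  have := ncard_CC_filter (fun c => Nat.beq (pop c) w && Nat.beq (applyMask R c) c)
  simp only [force_eq]
  rw [← this]
  apply congrArg Set.ncard
  ext o
  simp only [Set.mem_ofPred_eq, Bool.and_eq_true, beq_iff, ← card_eq_pop, and_assoc]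
  apply and_congr_right
  intro _
  apply and_congr_right
  intro _
  conv_lhs => rw [← ofMask_toMask o, smul_ofMask hR, ofMask_inj (applyMask_lt hR _) (toMask_lt o)]

theorem count_fixed_sx {R : ℕ} (hR : isPerm R = true) :
    {S | S ∈ sextets ∧ permOf R • S = S}.ncard =
      countBelow (fun σ => isSx σ && force (sxX σ) (fun X => subP R 6 X X)) 4096 :=
  count_sextets _ _ (fun σ hσ hv => by rw [force_eq]; exact smul_famP_iff hR (sxX_spec hσ hv).1)

theorem count_fixed_tr {R : ℕ} (hR : isPerm R = true) :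
    {T | T ∈ trios ∧ permOf R • T = T}.ncard =
      countBelow (fun k => true && force (trX k) (fun X => subP R 3 X X)) 3795 :=
  count_trios _ _ (fun k hk => by rw [force_eq]; exact smul_famP_iff hR (trX_spec hk).1)

end Cfsg.Agent.H9
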