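import Cfsg.Agent.Lib_H9_Card

set_option autoImplicit false

namespace Cfsg.Agent.H9

open scoped Pointwise

theorem ncard_fiber_sum {X : Type*} (Ω : Set X) (hΩ : Ω.Finite) (c : X → ℕ) (J : Finset ℕ) :
    {y | y ∈ Ω ∧ c y ∈ J}.ncard = ∑ j ∈ J, {y | y ∈ Ω ∧ c y = j}.ncard := by
  classical
  have e1 : {y | y ∈ Ω ∧ c y ∈ J} = ↑(hΩ.toFinset.filter (fun y => c y ∈ J)) := by
    ext y; simp
  have e2 : ∀ j, {y | y ∈ Ω ∧ c y = j} = ↑(hΩ.toFinset.filter (fun y => c y = j)) := by
    intro j; ext y; simp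
  rw [e1, Set.ncard_coe_finset]
  simp_rw [e2, Set.ncard_coe_finset]
  rw [Finset.card_eq_sum_card_fiberwise (f := c) (t := J)]
  · apply Finset.sum_congr rfl
    intro j hj
    congr 1
    ext y
    simp only [Finset.mem_filter, Set.Finite.mem_toFinset]
    constructor
    · rintro ⟨⟨h1, _⟩, h3⟩; exact ⟨h1, h3⟩
    · rintro ⟨h1, h3⟩; exact ⟨⟨h1, h3 ▸ hj⟩, h3⟩
  · intro y hy
    simp only [Finset.coe_filter, Set.mem_ofPred_eq] at hy
    exact hy.2

/-- a point stabiliser is maximal when no proper union of suborbits has size dividing the degree -/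
theorem coatom_of_rank {G X : Type*} [Group G] [Finite G] [MulAction G X] (x : X) (c : X → ℕ)
    (C : Finset ℕ) (n : ℕ → ℕ)
    (hc : ∀ y ∈ MulAction.orbit G x, c y ∈ C)
    (hn : ∀ j ∈ C, {y | y ∈ MulAction.orbit G x ∧ c y = j}.ncard = n j)
    (hx : ∀ y ∈ MulAction.orbit G x, c y = c x → y = x)
    (htr : ∀ y ∈ MulAction.orbit G x, ∀ z ∈ MulAction.orbit G x, c y = c z →
      ∃ h ∈ MulAction.stabilizer G x, h • y = z)
    (harith : ∀ J ∈ C.powerset, c x ∈ J → (∑ j ∈ J, n j) ∣ (∑ j ∈ C, n j) → J = {c x} ∨ J = C)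
    (hne : ∃ y ∈ MulAction.orbit G x, y ≠ x) : IsCoatom (MulAction.stabilizer G x) := by
  classical
  have hfin : (MulAction.orbit G x).Finite := Set.finite_range _
  constructor
  · intro htop
    obtain ⟨y, ⟨g, rfl⟩, hy⟩ := hne
    apply hy
    have : g ∈ MulAction.stabilizer G x := htop ▸ Subgroup.mem_top g
    exact this
  · intro K hK
    have hle : MulAction.stabilizer G x ≤ K := hK.le
    set Δ : Set X := MulAction.orbit K x with hΔ
    have hΔΩ : ∀ y ∈ Δ, y ∈ MulAction.orbit G x := by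
      rintro y ⟨k, rfl⟩
      exact ⟨k.1, rfl⟩
    set J : Finset ℕ := C.filter (fun j => ∃ y ∈ Δ, c y = j) with hJ
    have hΔeq : Δ = {y | y ∈ MulAction.orbit G x ∧ c y ∈ J} := by
      ext y
      constructor
      · intro hy
        exact ⟨hΔΩ y hy, Finset.mem_filter.mpr ⟨hc y (hΔΩ y hy), y, hy, rfl⟩⟩
      · rintro ⟨hy, hyJ⟩
        obtain ⟨_, z, hz, hzy⟩ := Finset.mem_filter.mp hyJ
        obtain ⟨h, hh, hhz⟩ := htr z (hΔΩ z hz) y hy hzy
        obtain ⟨k, rfl⟩ := hz
        refine ⟨⟨h, hle hh⟩ * k, ?_⟩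
        rw [← hhz]
        exact mul_smul _ _ _
    have hcardΔ : Δ.ncard = ∑ j ∈ J, n j := by
      rw [hΔeq, ncard_fiber_sum _ hfin]
      exact Finset.sum_congr rfl (fun j hj => hn j (Finset.mem_filter.mp hj).1)
    have hcardΩ : (MulAction.orbit G x).ncard = ∑ j ∈ C, n j := by
      have : MulAction.orbit G x = {y | y ∈ MulAction.orbit G x ∧ c y ∈ C} := by
        ext y; exact ⟨fun hy => ⟨hy, hc y hy⟩, fun hy => hy.1⟩
      rw [this, ncard_fiber_sum _ hfin]
      exact Finset.sum_congr rfl (fun j hj => by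
        have := hn j hj
        rw [← this])
    have hK1 : Nat.card K = Δ.ncard * Nat.card (MulAction.stabilizer G x) := by
      have := card_inf_stab K x
      rwa [inf_eq_right.mpr hle] at this
    have hG1 : Nat.card G = (MulAction.orbit G x).ncard * Nat.card (MulAction.stabilizer G x) := by
      rw [← MulAction.index_stabilizer, Subgroup.index_mul_card]
    have hpos : 0 < Nat.card (MulAction.stabilizer G x) := Nat.card_pos
    have hdvd : Δ.ncard ∣ (MulAction.orbit G x).ncard := by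
      have := Subgroup.card_subgroup_dvd_card K
      rw [hK1, hG1] at this
      exact Nat.dvd_of_mul_dvd_mul_right hpos this
    have hxΔ : x ∈ Δ := MulAction.mem_orbit_self x
    have hxJ : c x ∈ J := Finset.mem_filter.mpr ⟨hc x (MulAction.mem_orbit_self x), x, hxΔ, rfl⟩
    rcases harith J (Finset.mem_powerset.mpr (Finset.filter_subset _ _)) hxJ
      (by rw [← hcardΔ, ← hcardΩ]; exact hdvd) with h1 | h1
    · exfalso
      apply hK.not_ge
      intro k hk
      have hkx : k • x ∈ Δ := ⟨⟨k, hk⟩, rfl⟩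
      rw [hΔeq] at hkx
      have := hkx.2
      rw [h1, Finset.mem_singleton] at this
      exact hx _ hkx.1 this
    · apply Subgroup.eq_top_of_card_eq
      rw [hK1, hG1, hcardΔ, hcardΩ, h1]

end Cfsg.Agent.H9
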