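import Cfsg.Agent.Lib_H9_Trio

set_option autoImplicit false

namespace Cfsg.Agent.H9

open Cfsg
open scoped Pointwise

/-! ### orbits of a stabiliser from a class function -/

section generic

variable {𝒜 X : Type*} [MulAction (Equiv.Perm GolayPt) 𝒜] [MulAction (Equiv.Perm GolayPt) X]

/-- the classes of `c A` on `Ω` are the orbits of the stabiliser of `A`, with the listed sizes -/
structure ClassData (Ω : Set X) (c : 𝒜 → X → ℕ) (A : 𝒜) (J : List (ℕ × ℕ)) : Prop where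
  tr : ∀ x ∈ Ω, ∀ y ∈ Ω, c A x = c A y → ∃ g ∈ M24, g • A = A ∧ g • x = y
  cnt : ∀ jn ∈ J, {y | y ∈ Ω ∧ c A y = jn.1}.ncard = jn.2
  cov : ∀ y ∈ Ω, ∃ jn ∈ J, c A y = jn.1

theorem ClassData.smul {Ω : Set X} {c : 𝒜 → X → ℕ} {A : 𝒜} {J : List (ℕ × ℕ)} (D : ClassData Ω c A J)
    (hΩ : ∀ g ∈ M24, ∀ x ∈ Ω, g • x ∈ Ω)
    (hc : ∀ (g : Equiv.Perm GolayPt) (A : 𝒜) (x : X), c (g • A) (g • x) = c A x)
    {h : Equiv.Perm GolayPt} (hh : h ∈ M24) : ClassData Ω c (h • A) J := by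
  have hc' : ∀ x, c (h • A) x = c A (h⁻¹ • x) := fun x => by
    conv_lhs => rw [← smul_inv_smul h x]
    exact hc _ _ _
  refine ⟨?_, ?_, ?_⟩
  · intro x hx y hy hxy
    rw [hc', hc'] at hxy
    obtain ⟨g, hg, hgA, hgx⟩ := D.tr _ (hΩ _ (M24.inv_mem hh) x hx) _ (hΩ _ (M24.inv_mem hh) y hy) hxy
    refine ⟨h * g * h⁻¹, conj_mem_M24 hh hg, ?_, ?_⟩
    · rw [mul_smul, mul_smul, inv_smul_smul, hgA]
    · rw [mul_smul, mul_smul, hgx, smul_inv_smul]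
  · intro jn hjn
    rw [← D.cnt jn hjn]
    have : {y | y ∈ Ω ∧ c (h • A) y = jn.1} = (fun y => h • y) '' {y | y ∈ Ω ∧ c A y = jn.1} := by
      ext y
      constructor
      · rintro ⟨hy, hcy⟩
        exact ⟨h⁻¹ • y, ⟨hΩ _ (M24.inv_mem hh) y hy, by rw [← hc']; exact hcy⟩, smul_inv_smul _ _⟩
      · rintro ⟨z, ⟨hz, hcz⟩, rfl⟩
        exact ⟨hΩ _ hh z hz, by show c (h • A) (h • z) = _; rw [hc]; exact hcz⟩
    rw [this, Set.ncard_image_of_injective _ (MulAction.injective h)]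
  · intro y hy
    rw [hc']
    exact D.cov _ (hΩ _ (M24.inv_mem hh) y hy)

theorem ClassData.orbit_eq {Ω : Set X} {c : 𝒜 → X → ℕ} {A : 𝒜} {J : List (ℕ × ℕ)} (D : ClassData Ω c A J)
    (hΩ : ∀ g ∈ M24, ∀ x ∈ Ω, g • x ∈ Ω)
    (hc : ∀ (g : Equiv.Perm GolayPt) (A : 𝒜) (x : X), c (g • A) (g • x) = c A x)
    {x : X} (hx : x ∈ Ω) :
    MulAction.orbit (MulAction.stabilizer M24 A) x = {y | y ∈ Ω ∧ c A y = c A x} := by
  ext y
  rw [MulAction.mem_orbit_iff]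
  constructor
  · rintro ⟨g, rfl⟩
    have hgA : (g.1.1 : Equiv.Perm GolayPt) • A = A := g.2
    refine ⟨hΩ g.1.1 g.1.2 x hx, ?_⟩
    show c A (g.1.1 • x) = c A x
    have := hc g.1.1 A x
    rwa [hgA] at this
  · rintro ⟨hy, hcy⟩
    obtain ⟨g, hg, hgA, hgx⟩ := D.tr x hx y hy hcy.symm
    exact ⟨⟨⟨g, hg⟩, hgA⟩, hgx⟩

theorem ClassData.rep {Ω : Set X} {c : 𝒜 → X → ℕ} {A : 𝒜} {J : List (ℕ × ℕ)} (D : ClassData Ω c A J)
    (hΩ : ∀ g ∈ M24, ∀ x ∈ Ω, g • x ∈ Ω)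
    (hc : ∀ (g : Equiv.Perm GolayPt) (A : 𝒜) (x : X), c (g • A) (g • x) = c A x)
    {j n : ℕ} (hjn : (j, n) ∈ J) (hn : n ≠ 0) :
    ∃ x ∈ Ω, MulAction.orbit (MulAction.stabilizer M24 A) x = {y | y ∈ Ω ∧ c A y = j} ∧
      (MulAction.orbit (MulAction.stabilizer M24 A) x).ncard = n := by
  have h1 := D.cnt _ hjn
  have h2 : {y | y ∈ Ω ∧ c A y = j}.Nonempty := by
    apply Set.nonempty_of_ncard_ne_zero
    rw [h1]; exact hn
  obtain ⟨x, hx, hcx⟩ := h2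
  have h3 := D.orbit_eq hΩ hc hx
  rw [hcx] at h3
  exact ⟨x, hx, h3, by rw [h3]; exact h1⟩

theorem ClassData.decomp3 {Ω : Set X} {c : 𝒜 → X → ℕ} {A : 𝒜} {j₁ j₂ j₃ n₁ n₂ n₃ : ℕ}
    (D : ClassData Ω c A [(j₁, n₁), (j₂, n₂), (j₃, n₃)])
    (hΩ : ∀ g ∈ M24, ∀ x ∈ Ω, g • x ∈ Ω)
    (hc : ∀ (g : Equiv.Perm GolayPt) (A : 𝒜) (x : X), c (g • A) (g • x) = c A x)
    (p₁ : n₁ ≠ 0) (p₂ : n₂ ≠ 0) (p₃ : n₃ ≠ 0) :
    ∃ X₁ ∈ Ω, ∃ X₂ ∈ Ω, ∃ X₃ ∈ Ω,
      (MulAction.orbit (MulAction.stabilizer M24 A) X₁).ncard = n₁ ∧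
      (MulAction.orbit (MulAction.stabilizer M24 A) X₂).ncard = n₂ ∧
      (MulAction.orbit (MulAction.stabilizer M24 A) X₃).ncard = n₃ ∧
      Ω = MulAction.orbit (MulAction.stabilizer M24 A) X₁ ∪ MulAction.orbit (MulAction.stabilizer M24 A) X₂ ∪
        MulAction.orbit (MulAction.stabilizer M24 A) X₃ := by
  obtain ⟨X₁, h₁, e₁, c₁⟩ := D.rep hΩ hc (j := j₁) (n := n₁) (by simp) p₁
  obtain ⟨X₂, h₂, e₂, c₂⟩ := D.rep hΩ hc (j := j₂) (n := n₂) (by simp) p₂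
  obtain ⟨X₃, h₃, e₃, c₃⟩ := D.rep hΩ hc (j := j₃) (n := n₃) (by simp) p₃
  refine ⟨X₁, h₁, X₂, h₂, X₃, h₃, c₁, c₂, c₃, ?_⟩
  rw [e₁, e₂, e₃]
  ext y
  simp only [Set.mem_union, Set.mem_ofPred_eq]
  constructor
  · intro hy
    obtain ⟨jn, hjn, hcy⟩ := D.cov y hy
    simp only [List.mem_cons, List.not_mem_nil, or_false] at hjn
    rcases hjn with rfl | rfl | rfl
    · exact Or.inl (Or.inl ⟨hy, hcy⟩)
    · exact Or.inl (Or.inr ⟨hy, hcy⟩)
    · exact Or.inr ⟨hy, hcy⟩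
  · rintro ((h | h) | h) <;> exact h.1

theorem ClassData.decomp4 {Ω : Set X} {c : 𝒜 → X → ℕ} {A : 𝒜} {j₁ j₂ j₃ j₄ n₁ n₂ n₃ n₄ : ℕ}
    (D : ClassData Ω c A [(j₁, n₁), (j₂, n₂), (j₃, n₃), (j₄, n₄)])
    (hΩ : ∀ g ∈ M24, ∀ x ∈ Ω, g • x ∈ Ω)
    (hc : ∀ (g : Equiv.Perm GolayPt) (A : 𝒜) (x : X), c (g • A) (g • x) = c A x)
    (p₁ : n₁ ≠ 0) (p₂ : n₂ ≠ 0) (p₃ : n₃ ≠ 0) (p₄ : n₄ ≠ 0) :
    ∃ X₁ ∈ Ω, ∃ X₂ ∈ Ω, ∃ X₃ ∈ Ω, ∃ X₄ ∈ Ω,
      (MulAction.orbit (MulAction.stabilizer M24 A) X₁).ncard = n₁ ∧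
      (MulAction.orbit (MulAction.stabilizer M24 A) X₂).ncard = n₂ ∧
      (MulAction.orbit (MulAction.stabilizer M24 A) X₃).ncard = n₃ ∧
      (MulAction.orbit (MulAction.stabilizer M24 A) X₄).ncard = n₄ ∧
      Ω = MulAction.orbit (MulAction.stabilizer M24 A) X₁ ∪ MulAction.orbit (MulAction.stabilizer M24 A) X₂ ∪
        MulAction.orbit (MulAction.stabilizer M24 A) X₃ ∪ MulAction.orbit (MulAction.stabilizer M24 A) X₄ := by
  obtain ⟨X₁, h₁, e₁, c₁⟩ := D.rep hΩ hc (j := j₁) (n := n₁) (by simp) p₁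
  obtain ⟨X₂, h₂, e₂, c₂⟩ := D.rep hΩ hc (j := j₂) (n := n₂) (by simp) p₂
  obtain ⟨X₃, h₃, e₃, c₃⟩ := D.rep hΩ hc (j := j₃) (n := n₃) (by simp) p₃
  obtain ⟨X₄, h₄, e₄, c₄⟩ := D.rep hΩ hc (j := j₄) (n := n₄) (by simp) p₄
  refine ⟨X₁, h₁, X₂, h₂, X₃, h₃, X₄, h₄, c₁, c₂, c₃, c₄, ?_⟩
  rw [e₁, e₂, e₃, e₄]
  ext y
  simp only [Set.mem_union, Set.mem_ofPred_eq]
  constructor
  · intro hy
    obtain ⟨jn, hjn, hcy⟩ := D.cov y hy
    simp only [List.mem_cons, List.not_mem_nil, or_false] at hjn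
    rcases hjn with rfl | rfl | rfl | rfl
    · exact Or.inl (Or.inl (Or.inl ⟨hy, hcy⟩))
    · exact Or.inl (Or.inl (Or.inr ⟨hy, hcy⟩))
    · exact Or.inl (Or.inr ⟨hy, hcy⟩)
    · exact Or.inr ⟨hy, hcy⟩
  · rintro (((h | h) | h) | h) <;> exact h.1

end generic

/-! ### class data from kernel certificates -/

def stepP (s : ℕ) (objX : ℕ → ℕ) (t i j : ℕ) : Bool :=
  force t (fun t' => force (objX i) (fun X => force (objX j) (fun Y => subP t' s X Y)))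

def valP (r X0 s : ℕ) (objX : ℕ → ℕ) (i : ℕ) : ℕ := force (objX i) (fun Y => pairP r X0 s Y)

def clsP (r X0 s : ℕ) (objX : ℕ → ℕ) (valid : ℕ → Bool) (i : ℕ) : ℕ :=
  Bool.rec (motive := fun _ => ℕ) 0 (Nat.succ (valP r X0 s objX i)) (valid i)

def genP (gT ng r X0 : ℕ) : Bool :=
  allBelow (fun j => force (entry gT j) (fun t => inM24 t && subP t r X0 X0)) ng

def cntP (r X0 s : ℕ) (objX : ℕ → ℕ) (valid : ℕ → Bool) (N : ℕ) (J : List (ℕ × ℕ)) : Bool :=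
  J.all (fun jn => Nat.beq (countBelow (fun i => valid i && Nat.beq (valP r X0 s objX i) jn.1) N) jn.2)

def covP (r X0 s : ℕ) (objX : ℕ → ℕ) (valid : ℕ → Bool) (N : ℕ) (J : List (ℕ × ℕ)) : Bool :=
  allBelow (fun i => !(valid i) || J.any (fun jn => Nat.beq (valP r X0 s objX i) jn.1)) N

theorem classData_of_cert
    {𝒜 X : Type*} [MulAction (Equiv.Perm GolayPt) 𝒜] [MulAction (Equiv.Perm GolayPt) X]
    (κ : 𝒜 → Finset (Finset GolayPt)) (ι : X → Finset (Finset GolayPt))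
    (hκ : ∀ (g : Equiv.Perm GolayPt) A, κ (g • A) = g • κ A) (hκi : Function.Injective κ)
    (hι : ∀ (g : Equiv.Perm GolayPt) x, ι (g • x) = g • ι x) (hιi : Function.Injective ι)
    (Ω : Set X) {s N : ℕ} {objX : ℕ → ℕ} {valid : ℕ → Bool}
    (hd : ∀ i < N, valid i = true → distinctP s (objX i) = true)
    (hmem : ∀ i < N, valid i = true → ∃ x ∈ Ω, ι x = famP s (objX i))
    (hsurj : ∀ x ∈ Ω, ∃ i < N, valid i = true ∧ famP s (objX i) = ι x)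
    (hinj : ∀ i < N, ∀ j < N, valid i = true → valid j = true → famP s (objX i) = famP s (objX j) → i = j)
    (A0 : 𝒜) {r X0 : ℕ} (hA0 : κ A0 = famP r X0) (hX0 : distinctP r X0 = true)
    {gT ng RT OT JT GT : ℕ} (hgen : genP gT ng r X0 = true)
    (hcert : certCheck (stepP s objX) (clsP r X0 s objX valid) N gT ng RT OT JT GT = true)
    (J : List (ℕ × ℕ)) (hcnt : cntP r X0 s objX valid N J = true) (hcov : covP r X0 s objX valid N J = true) :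
    ClassData Ω (fun A x => pairSq (κ A) (ι x)) A0 J := by
  have hval : ∀ i < N, valid i = true → pairSq (famP r X0) (famP s (objX i)) = valP r X0 s objX i := by
    intro i hi hv
    rw [pairSq_famP hX0 (hd i hi hv)]
    unfold valP
    rw [force_eq]
  have hcls : ∀ i, valid i = true → clsP r X0 s objX valid i = valP r X0 s objX i + 1 := by
    intro i hv
    unfold clsP
    rw [hv]
  have hcls0 : ∀ i, clsP r X0 s objX valid i ≠ 0 → valid i = true := by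
    intro i h
    by_contra hv
    rw [Bool.not_eq_true] at hv
    apply h
    unfold clsP
    rw [hv]
  refine ⟨?_, ?_, ?_⟩
  · intro x hx y hy hxy
    obtain ⟨i, hi, hvi, hix⟩ := hsurj x hx
    obtain ⟨j, hj, hvj, hjy⟩ := hsurj y hy
    simp only [hA0, ← hix, ← hjy, hval i hi hvi, hval j hj hvj] at hxy
    obtain ⟨g, hg, hgx⟩ := cert_trans
      (M24 ⊓ MulAction.stabilizer (Equiv.Perm GolayPt) (famP r X0)) (fun i => famP s (objX i))
      (step := stepP s objX) (cls := clsP r X0 s objX valid) (N := N)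
      (by
        intro t a b ht ha hb hca hcb hst
        unfold stepP at hst
        rw [force_eq, force_eq, force_eq] at hst
        exact smul_famP ht (hd a ha (hcls0 a hca)) (hd b hb (hcls0 b hcb)) hst)
      (by
        intro k hk
        have := (allBelow_iff _ _).mp hgen k hk
        rw [force_eq, Bool.and_eq_true] at this
        exact ⟨inM24_isPerm this.1, permOf_mem_M24 this.1,
          MulAction.mem_stabilizer_iff.mpr (smul_famP (inM24_isPerm this.1) hX0 hX0 this.2)⟩)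
      hcert hi hj (by rw [hcls i hvi]; omega) (by rw [hcls i hvi, hcls j hvj, hxy])
    refine ⟨g, hg.1, ?_, ?_⟩
    · apply hκi
      rw [hκ, hA0]
      exact hg.2
    · apply hιi
      rw [hι, ← hix, ← hjy]
      exact hgx
  · intro jn hjn
    have h1 : {y | y ∈ Ω ∧ pairSq (κ A0) (ι y) = jn.1}.ncard =
        {F | F ∈ ι '' Ω ∧ pairSq (famP r X0) F = jn.1}.ncard := by
      rw [← Set.ncard_image_of_injective _ hιi]
      apply congrArg Set.ncard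
      ext F
      constructor
      · rintro ⟨y, ⟨hy, hcy⟩, rfl⟩
        exact ⟨⟨y, hy, rfl⟩, by rw [← hA0]; exact hcy⟩
      · rintro ⟨⟨y, hy, rfl⟩, hcy⟩
        exact ⟨y, ⟨hy, by rw [hA0]; exact hcy⟩, rfl⟩
    rw [h1, count_enum (ι '' Ω) (fun i => famP s (objX i)) N valid
      (fun i hi hv => by obtain ⟨x, hx, hxe⟩ := hmem i hi hv; exact ⟨x, hx, hxe⟩)
      (fun F hF => by obtain ⟨x, hx, rfl⟩ := hF; exact hsurj x hx) hinj
      (fun F => pairSq (famP r X0) F = jn.1) (fun i => Nat.beq (valP r X0 s objX i) jn.1)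
      (fun i hi hv => by rw [hval i hi hv, beq_iff])]
    unfold cntP at hcnt
    rw [List.all_eq_true] at hcnt
    exact Nat.eq_of_beq_eq_true (hcnt jn hjn)
  · intro y hy
    obtain ⟨i, hi, hvi, hiy⟩ := hsurj y hy
    have := (allBelow_iff _ _).mp hcov i hi
    rw [hvi] at this
    simp only [Bool.not_true, Bool.false_or, List.any_eq_true] at this
    obtain ⟨jn, hjn, he⟩ := this
    refine ⟨jn, hjn, ?_⟩
    simp only [hA0, ← hiy, hval i hi hvi]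
    exact Nat.eq_of_beq_eq_true he

end Cfsg.Agent.H9
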