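import Cfsg.Agent.Lib_H9_Decomp

set_option autoImplicit false

namespace Cfsg.Agent.H9

open Cfsg
open scoped Pointwise

def vTrue (_ : ℕ) : Bool := true

def isOctI (i : ℕ) : Bool := Nat.beq (pop (enc i)) 8

/-- a set of points as a family with one member -/
def sgl (o : Finset GolayPt) : Finset (Finset GolayPt) := {o}

theorem sgl_smul (g : Equiv.Perm GolayPt) (o : Finset GolayPt) : sgl (g • o) = g • sgl o :=
  (Finset.smul_finset_singleton o).symm

theorem sgl_inj : Function.Injective sgl := Finset.singleton_injective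

theorem sgl_ofMask {m : ℕ} (h : m < 2 ^ 24) : sgl (ofMask m) = famP 1 m := by
  rw [famP_one, part_zero_of_lt h]; rfl

theorem id_smul' (g : Equiv.Perm GolayPt) (A : Finset (Finset GolayPt)) : id (g • A) = g • id A := rfl

theorem hc_of {𝒜 X : Type*} [MulAction (Equiv.Perm GolayPt) 𝒜] [MulAction (Equiv.Perm GolayPt) X]
    {κ : 𝒜 → Finset (Finset GolayPt)} {ι : X → Finset (Finset GolayPt)}
    (hκ : ∀ (g : Equiv.Perm GolayPt) A, κ (g • A) = g • κ A)
    (hι : ∀ (g : Equiv.Perm GolayPt) x, ι (g • x) = g • ι x) :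
    ∀ (g : Equiv.Perm GolayPt) (A : 𝒜) (x : X), pairSq (κ (g • A)) (ι (g • x)) = pairSq (κ A) (ι x) := by
  intro g A x
  rw [hκ, hι, pairSq_smul]

section

variable {𝒜 : Type*} [MulAction (Equiv.Perm GolayPt) 𝒜] (κ : 𝒜 → Finset (Finset GolayPt))
  (hκ : ∀ (g : Equiv.Perm GolayPt) A, κ (g • A) = g • κ A) (hκi : Function.Injective κ)
  (A0 : 𝒜) {r X0 : ℕ} (hA0 : κ A0 = famP r X0) (hX0 : distinctP r X0 = true)
  {gT ng RT OT JT GT : ℕ} (hgen : genP gT ng r X0 = true) (J : List (ℕ × ℕ))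

include hκ hκi hA0 hX0 hgen

theorem classData_sx
    (hcert : certCheck (stepP 6 sxX) (clsP r X0 6 sxX isSx) 4096 gT ng RT OT JT GT = true)
    (hcnt : cntP r X0 6 sxX isSx 4096 J = true) (hcov : covP r X0 6 sxX isSx 4096 J = true) :
    ClassData sextets (fun A x => pairSq (κ A) (id x)) A0 J :=
  classData_of_cert κ id hκ hκi id_smul' Function.injective_id sextets
    (fun _ hi hv => (sxX_spec hi hv).1) (fun _ hi hv => ⟨_, sxX_mem hi hv, rfl⟩)
    (fun _ hx => sxX_surj hx) (fun _ hi _ hj hv hw h => sxX_inj hi hj hv hw h)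
    A0 hA0 hX0 hgen hcert J hcnt hcov

theorem classData_tr
    (hcert : certCheck (stepP 3 trX) (clsP r X0 3 trX vTrue) 3795 gT ng RT OT JT GT = true)
    (hcnt : cntP r X0 3 trX vTrue 3795 J = true) (hcov : covP r X0 3 trX vTrue 3795 J = true) :
    ClassData trios (fun A x => pairSq (κ A) (id x)) A0 J :=
  classData_of_cert κ id hκ hκi id_smul' Function.injective_id trios
    (fun _ hi _ => (trX_spec hi).1) (fun _ hi _ => ⟨_, trX_mem hi, rfl⟩)
    (fun _ hx => by obtain ⟨k, hk, h⟩ := trX_surj hx; exact ⟨k, hk, rfl, h⟩)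
    (fun _ hi _ hj _ _ h => trX_inj hi hj h)
    A0 hA0 hX0 hgen hcert J hcnt hcov

theorem classData_oct
    (hcert : certCheck (stepP 1 enc) (clsP r X0 1 enc isOctI) 4096 gT ng RT OT JT GT = true)
    (hcnt : cntP r X0 1 enc isOctI 4096 J = true) (hcov : covP r X0 1 enc isOctI 4096 J = true) :
    ClassData octads (fun A x => pairSq (κ A) (sgl x)) A0 J :=
  classData_of_cert κ sgl hκ hκi sgl_smul sgl_inj octads
    (fun _ _ _ => distinctP_one _)
    (fun i _ hv => ⟨ofMask (enc i), ⟨ofMask_enc_mem i, by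
      rw [← pop_eq (enc_lt i)]; exact Nat.eq_of_beq_eq_true hv⟩, sgl_ofMask (enc_lt i)⟩)
    (fun x hx => by
      obtain ⟨i, hi, rfl⟩ := exists_of_mem_CC hx.1
      refine ⟨i, hi, ?_, (sgl_ofMask (enc_lt i)).symm⟩
      unfold isOctI
      rw [beq_iff, pop_eq (enc_lt i)]
      exact hx.2)
    (fun i hi j hj _ _ h => by
      rw [← sgl_ofMask (enc_lt i), ← sgl_ofMask (enc_lt j)] at h
      exact enc_injOn hi hj ((ofMask_inj (enc_lt i) (enc_lt j)).mp (sgl_inj h)))
    A0 hA0 hX0 hgen hcert J hcnt hcov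

end

end Cfsg.Agent.H9
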