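import Cfsg.Agent.Lib_H9_Decomp2

set_option autoImplicit false

namespace Cfsg.Agent.H9

open Cfsg
open scoped Pointwise

variable {X : Type*} [MulAction (Equiv.Perm GolayPt) X]

theorem ClassData.self_class {Ω : Set X} {c : X → X → ℕ} {A : X} {J : List (ℕ × ℕ)} (D : ClassData Ω c A J)
    (hA : A ∈ Ω) (h1 : (c A A, 1) ∈ J) : {y | y ∈ Ω ∧ c A y = c A A} = {A} := by
  obtain ⟨a, ha⟩ := Set.ncard_eq_one.mp (D.cnt _ h1)
  have : A ∈ ({a} : Set X) := by rw [← ha]; exact ⟨hA, rfl⟩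
  rw [ha, Set.mem_singleton_iff.mp this]

theorem ClassData.coatom {Ω : Set X} {c : X → X → ℕ} {A : X} {J : List (ℕ × ℕ)} (D : ClassData Ω c A J)
    (hΩ : ∀ g ∈ M24, ∀ x ∈ Ω, g • x ∈ Ω) (hA : A ∈ Ω) (horb : ∀ y ∈ Ω, ∃ g ∈ M24, g • A = y)
    (C : Finset ℕ) (n : ℕ → ℕ) (hJ : ∀ jn ∈ J, jn.1 ∈ C ∧ n jn.1 = jn.2) (hC : ∀ j ∈ C, ∃ jn ∈ J, jn.1 = j)
    (h1 : (c A A, 1) ∈ J)
    (harith : ∀ K ∈ C.powerset, c A A ∈ K → (∑ j ∈ K, n j) ∣ (∑ j ∈ C, n j) → K = {c A A} ∨ K = C)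
    (hne : ∃ y ∈ Ω, y ≠ A) : IsCoatom (MulAction.stabilizer M24 A) := by
  have horbit : MulAction.orbit M24 A = Ω := by
    ext y
    rw [MulAction.mem_orbit_iff]
    constructor
    · rintro ⟨g, rfl⟩; exact hΩ g.1 g.2 A hA
    · intro hy
      obtain ⟨g, hg, h⟩ := horb y hy
      exact ⟨⟨g, hg⟩, h⟩
  apply coatom_of_rank A (c A) C n
  · intro y hy
    rw [horbit] at hy
    obtain ⟨jn, hjn, h⟩ := D.cov y hy
    rw [h]; exact (hJ jn hjn).1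
  · intro j hj
    rw [horbit]
    obtain ⟨jn, hjn, rfl⟩ := hC j hj
    rw [D.cnt jn hjn, (hJ jn hjn).2]
  · intro y hy h
    rw [horbit] at hy
    have : y ∈ {y | y ∈ Ω ∧ c A y = c A A} := ⟨hy, h⟩
    rw [D.self_class hA h1] at this
    exact this
  · intro y hy z hz h
    rw [horbit] at hy hz
    obtain ⟨g, hg, hgA, hgy⟩ := D.tr y hy z hz h
    exact ⟨⟨g, hg⟩, hgA, hgy⟩
  · exact harith
  · rw [horbit]; exact hne

end Cfsg.Agent.H9
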