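import Cfsg.Agent.Lib_H9_Decomp3

set_option autoImplicit false

namespace Cfsg.Agent.H9

open Cfsg
open scoped Pointwise

/-! ### elements of the group in normal form -/

def cf3 (U S T i : ℕ) : ℕ := app U (app S (app T i))

theorem cf3_spec {U S T : ℕ} (hU : isPerm U = true) (hS : isPerm S = true) (hT : isPerm T = true) {i : ℕ}
    (hi : i < 24) : (permOf U * (permOf S * permOf T)) (pt i) = pt (cf3 U S T i) ∧ cf3 U S T i < 24 := by
  have h1 := app_lt hT hi
  have h2 := app_lt hS h1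
  refine ⟨?_, app_lt hU h2⟩
  rw [Equiv.Perm.mul_apply, Equiv.Perm.mul_apply, permOf_pt hT hi, permOf_pt hS h1, permOf_pt hU h2]
  rfl

theorem mem_ofMask31 {p : GolayPt} (hp : p ∈ ofMask 31) : ∃ i < 5, p = pt i := by
  rw [mem_ofMask] at hp
  refine ⟨idx p, ?_, (pt_idx p).symm⟩
  have h24 := idx_lt p
  generalize idx p = j at hp h24
  by_contra hj
  have : ∀ j < 24, ¬ j < 5 → (31 : ℕ).testBit j = false := by decide
  rw [this j h24 hj] at hp
  exact absurd hp (by decide)

theorem coset_enum {u g : Equiv.Perm GolayPt} (hu : u ∈ M24) (hg : g ∈ M24)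
    (h : ∀ i < 5, g (pt i) = u (pt i)) :
    ∃ a < 24, ∃ b < 24, (5248 : ℕ).testBit a = true ∧ (16771936 : ℕ).testBit b = true ∧
      g = u * (permOf (entry trTab5 a) * permOf (entry trTab6 b)) := by
  have hm : u⁻¹ * g ∈ FixM 31 := by
    rw [mem_FixM]
    refine ⟨M24.mul_mem (M24.inv_mem hu) hg, ?_⟩
    intro p hp
    obtain ⟨i, hi, rfl⟩ := mem_ofMask31 hp
    rw [Equiv.Perm.mul_apply, h i hi]
    simp
  obtain ⟨a, ha, b, hb, h1, h2, h3⟩ := FixM31_enum hm
  exact ⟨a, ha, b, hb, h1, h2, by rw [← h3]; group⟩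

/-! ### fixed points -/

def fixF (g : Equiv.Perm GolayPt) : Finset GolayPt := Finset.univ.filter (fun p => g p = p)

theorem mem_fixF {g : Equiv.Perm GolayPt} {p : GolayPt} : p ∈ fixF g ↔ g p = p := by
  unfold fixF; simp

theorem fixF_conj (k g : Equiv.Perm GolayPt) : fixF (k * g * k⁻¹) = k • fixF g := by
  ext p
  rw [← Finset.inv_smul_mem_iff, mem_fixF, mem_fixF]
  show k (g (k⁻¹ p)) = p ↔ g (k⁻¹ p) = k⁻¹ p
  constructor
  · intro h
    have := congrArg (k⁻¹ ·) h
    simpa using this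
  · intro h; rw [h]; simp

theorem card_fixF {g : Equiv.Perm GolayPt} {f : ℕ → ℕ} (hf : ∀ i < 24, g (pt i) = pt (f i))
    (hlt : ∀ i < 24, f i < 24) : (fixF g).card = countBelow (fun i => Nat.beq (f i) i) 24 := by
  unfold fixF
  rw [countBelow_eq, Finset.card_filter, Finset.card_filter, sum_pts]
  apply Finset.sum_congr rfl
  intro i hi
  have hi' := Finset.mem_range.mp hi
  rw [hf i hi']
  by_cases h : f i = i
  · rw [if_pos (by rw [h]), if_pos ((beq_iff _ _).mpr h)]
  · rw [if_neg (fun he => h (pt_injective (hlt i hi') hi' he)), if_neg (fun he => h ((beq_iff _ _).mp he))]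

set_option maxRecDepth 100000 in
theorem fix31_ok : allBelow (fun a => !(bit 5248 a) || force (entry trTab5 a) (fun S =>
    allBelow (fun b => !(bit 16771936 b) || force (entry trTab6 b) (fun T =>
      Nat.ble (countBelow (fun i => Nat.beq (app S (app T i)) i) 24) 8 ||
      allBelow (fun i => Nat.beq (app S (app T i)) i) 24)) 24)) 24 = true := by decide +kernel

theorem eq_one_of_pts {g : Equiv.Perm GolayPt} (h : ∀ i < 24, g (pt i) = pt i) : g = 1 := by
  apply Equiv.ext
  intro p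
  rw [← pt_idx p]
  exact h _ (idx_lt p)

theorem fix_le_eight {g : Equiv.Perm GolayPt} (hg : g ∈ M24) (h1 : g ≠ 1) : (fixF g).card ≤ 8 := by
  by_contra hcon
  push Not at hcon
  obtain ⟨Y, hY, hY5⟩ := Finset.exists_subset_card_eq (s := fixF g) (n := 5) (by omega)
  obtain ⟨h, hh, rfl⟩ := exists_std_set (k := 5) (by norm_num) hY5
  have hm : h⁻¹ * g * h ∈ FixM 31 := by
    rw [mem_FixM]
    refine ⟨M24.mul_mem (M24.mul_mem (M24.inv_mem hh) hg) hh, ?_⟩
    intro p hp
    have : h p ∈ fixF g := hY (Finset.smul_mem_smul_finset (a := h) hp)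
    rw [Equiv.Perm.mul_apply, Equiv.Perm.mul_apply, mem_fixF.mp this]
    simp
  obtain ⟨a, ha, b, hb, hba, hbb, he⟩ := FixM31_enum hm
  obtain ⟨hS, _, _⟩ := levelCheck_spec' (by norm_num) level5 ha hba
  obtain ⟨hT, _, _⟩ := levelCheck_spec' (by norm_num) level6 hb hbb
  have hpt : ∀ i < 24, (h⁻¹ * g * h) (pt i) = pt (app (entry trTab5 a) (app (entry trTab6 b) i)) := by
    intro i hi
    rw [he, Equiv.Perm.mul_apply, permOf_pt hT hi, permOf_pt hS (app_lt hT hi)]
  have hlt : ∀ i < 24, app (entry trTab5 a) (app (entry trTab6 b) i) < 24 :=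
    fun i hi => app_lt hS (app_lt hT hi)
  have hcard : (fixF (h⁻¹ * g * h)).card = (fixF g).card := by
    have := fixF_conj h⁻¹ g
    rw [inv_inv] at this
    rw [this, Finset.card_smul_finset]
  have c1 := (allBelow_iff _ _).mp fix31_ok a ha
  rw [bit_eq, hba, force_eq] at c1
  simp only [Bool.not_true, Bool.false_or] at c1
  have c2 := (allBelow_iff _ _).mp c1 b hb
  rw [bit_eq, hbb, force_eq] at c2
  simp only [Bool.not_true, Bool.false_or, Bool.or_eq_true] at c2
  rcases c2 with c2 | c2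
  · have := Nat.le_of_ble_eq_true c2
    rw [← card_fixF hpt hlt, hcard] at this
    omega
  · have h2 : h⁻¹ * g * h = 1 := by
      apply eq_one_of_pts
      intro i hi
      rw [hpt i hi, Nat.eq_of_beq_eq_true ((allBelow_iff _ _).mp c2 i hi)]
    apply h1
    have : g = h * (h⁻¹ * g * h) * h⁻¹ := by group
    rw [this, h2]; group

/-! ### classes of elements -/

def itN (n : ℕ) (f : ℕ → ℕ) (i : ℕ) : ℕ := Nat.rec (motive := fun _ => ℕ) i (fun _ x => f x) n

theorem itN_spec {g : Equiv.Perm GolayPt} {f : ℕ → ℕ} (hf : ∀ i < 24, g (pt i) = pt (f i))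
    (hlt : ∀ i < 24, f i < 24) (n : ℕ) {i : ℕ} (hi : i < 24) :
    (g ^ n) (pt i) = pt (itN n f i) ∧ itN n f i < 24 := by
  induction n with
  | zero => exact ⟨rfl, hi⟩
  | succ n ih =>
    have e : itN (n + 1) f i = f (itN n f i) := rfl
    rw [e, pow_succ', Equiv.Perm.mul_apply, ih.1, hf _ ih.2]
    exact ⟨rfl, hlt _ ih.2⟩

def kIdx (f a b : ℕ) : ℕ := Nat.add (Nat.mul (Nat.add (Nat.mul f 3) (Nat.div (Nat.sub a 7) 2)) 24) b

def conjOK (K U S T R : ℕ) : Bool :=
  allBelow (fun i => Nat.beq (app K (cf3 U S T i)) (app R (app K i))) 24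

def clsChk (n UT KT Fm : ℕ) (RL : List ℕ) : Bool :=
  allBelow (fun f => !(bit Fm f) || force (entry UT f) (fun U =>
    allBelow (fun a => !(bit 5248 a) || force (entry trTab5 a) (fun S =>
      allBelow (fun b => !(bit 16771936 b) || force (entry trTab6 b) (fun T =>
        !(allBelow (fun i => Nat.beq (itN n (cf3 U S T) i) i) 24) ||
        force (entry KT (kIdx f a b)) (fun K => inM24 K && RL.any (fun R => conjOK K U S T R)))) 24)) 24)) 24

def utChk (UT Fm y0 y1 y2 y3 : ℕ) : Bool :=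
  allBelow (fun f => !(bit Fm f) || force (entry UT f) (fun U => inM24 U && Nat.beq (app U 0) y0 &&
    Nat.beq (app U 1) y1 && Nat.beq (app U 2) y2 && Nat.beq (app U 3) y3 && Nat.beq (app U 4) f)) 24

theorem class_enum {n UT KT Fm y0 y1 y2 y3 : ℕ} {RL : List ℕ}
    (hU : utChk UT Fm y0 y1 y2 y3 = true) (hK : clsChk n UT KT Fm RL = true)
    (hR : ∀ R ∈ RL, isPerm R = true)
    {g : Equiv.Perm GolayPt} (hg : g ∈ M24) (hn : g ^ n = 1)
    (h0 : g (pt 0) = pt y0) (h1 : g (pt 1) = pt y1) (h2 : g (pt 2) = pt y2) (h3 : g (pt 3) = pt y3)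
    {f : ℕ} (hf : f < 24) (hFm : Fm.testBit f = true) (h4 : g (pt 4) = pt f) :
    ∃ k ∈ M24, ∃ R ∈ RL, k * g * k⁻¹ = permOf R := by
  have u1 := (allBelow_iff _ _).mp hU f hf
  rw [bit_eq, hFm, force_eq] at u1
  simp only [Bool.not_true, Bool.false_or, Bool.and_eq_true, beq_iff] at u1
  obtain ⟨⟨⟨⟨⟨uM, u0⟩, u1'⟩, u2⟩, u3⟩, u4⟩ := u1
  have hUp := inM24_isPerm uM
  obtain ⟨a, ha, b, hb, hba, hbb, he⟩ := coset_enum (permOf_mem_M24 uM) hg (by
    intro i hi
    rw [permOf_pt hUp (by omega)]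
    interval_cases i
    · rw [h0, u0]
    · rw [h1, u1']
    · rw [h2, u2]
    · rw [h3, u3]
    · rw [h4, u4])
  obtain ⟨hS, _, _⟩ := levelCheck_spec' (by norm_num) level5 ha hba
  obtain ⟨hT, _, _⟩ := levelCheck_spec' (by norm_num) level6 hb hbb
  have hpt : ∀ i < 24, g (pt i) = pt (cf3 (entry UT f) (entry trTab5 a) (entry trTab6 b) i) := by
    intro i hi; rw [he]; exact (cf3_spec hUp hS hT hi).1
  have hlt : ∀ i < 24, cf3 (entry UT f) (entry trTab5 a) (entry trTab6 b) i < 24 :=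
    fun i hi => (cf3_spec hUp hS hT hi).2
  have c0 := (allBelow_iff _ _).mp hK f hf
  rw [bit_eq, hFm, force_eq] at c0
  simp only [Bool.not_true, Bool.false_or] at c0
  have c1 := (allBelow_iff _ _).mp c0 a ha
  rw [bit_eq, hba, force_eq] at c1
  simp only [Bool.not_true, Bool.false_or] at c1
  have c2 := (allBelow_iff _ _).mp c1 b hb
  rw [bit_eq, hbb, force_eq] at c2
  simp only [Bool.not_true, Bool.false_or] at c2
  have hpow : allBelow (fun i => Nat.beq (itN n (cf3 (entry UT f) (entry trTab5 a) (entry trTab6 b)) i) i) 24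
      = true := by
    rw [allBelow_iff]
    intro i hi
    rw [beq_iff]
    obtain ⟨e1, e2⟩ := itN_spec hpt hlt n hi
    rw [hn] at e1
    exact (pt_injective hi e2 e1).symm
  rw [hpow, force_eq] at c2
  simp only [Bool.not_true, Bool.false_or, Bool.and_eq_true, List.any_eq_true] at c2
  obtain ⟨kM, R, hRm, hconj⟩ := c2
  have hKp := inM24_isPerm kM
  refine ⟨_, permOf_mem_M24 kM, R, hRm, ?_⟩
  have key : permOf (entry KT (kIdx f a b)) * g = permOf R * permOf (entry KT (kIdx f a b)) := by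
    apply Equiv.ext
    intro p
    rw [← pt_idx p]
    have hi := idx_lt p
    rw [Equiv.Perm.mul_apply, Equiv.Perm.mul_apply, hpt _ hi, permOf_pt hKp (hlt _ hi), permOf_pt hKp hi,
      permOf_pt (hR R hRm) (app_lt hKp hi), Nat.eq_of_beq_eq_true ((allBelow_iff _ _).mp hconj _ hi)]
  rw [key]; group

end Cfsg.Agent.H9
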