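import Cfsg.Agent.Lib_H9_Chain

set_option autoImplicit false

namespace Cfsg.Agent.H9

open Cfsg
open scoped Pointwise

theorem levelCheck_spec' {T F b O : ℕ} (hb : b < 24) (h : levelCheck T F b O = true) {c : ℕ} (hc : c < 24)
    (hO : O.testBit c = true) :
    isPerm (entry T c) = true ∧ permOf (entry T c) ∈ FixM F ∧ permOf (entry T c) (pt b) = pt c := by
  have := (allBelow_iff _ _).mp h c hc
  rw [bit_eq, hO] at this
  have h' : (inM24 (entry T c) && fixesMask (entry T c) F && Nat.beq (app (entry T c) b) c) = true := this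
  simp only [Bool.and_eq_true] at h'
  obtain ⟨⟨h1, h2⟩, h3⟩ := h'
  have hp := inM24_isPerm h1
  refine ⟨hp, mem_FixM.mpr ⟨permOf_mem_M24 h1, fixesMask_spec hp h2⟩, ?_⟩
  rw [permOf_pt hp hb, Nat.eq_of_beq_eq_true h3]

theorem FixM31_apply7 {g : Equiv.Perm GolayPt} (hg : g ∈ FixM 31) : g (pt 7) ∈ ofMask 5248 := by
  have h1 : g (pt 7) ∈ ofMask 5279 := by
    rw [apply_mem_iff_of_smul_eq (FixM31_inv hg), mem_ofMask, idx_pt (by norm_num)]
    decide
  have h0 : g (pt 7) ∉ ofMask 31 := by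
    apply FixM_apply_notMem hg
    rw [mem_ofMask, idx_pt (by norm_num)]
    decide
  have h2 : g (pt 7) ∈ ofMask (31 ||| 5248) := by
    have : (31 ||| 5248 : ℕ) = 5279 := by decide
    rw [this]; exact h1
  rw [ofMask_or, Finset.mem_union] at h2
  exact h2.resolve_left h0

theorem FixM159_apply5 {g : Equiv.Perm GolayPt} (hg : g ∈ FixM 159) : g (pt 5) ∈ ofMask 16771936 := by
  have hg31 : g ∈ FixM 31 := FixM_mono (F := 31) (F' := 159)
    ((ofMask_subset_iff (by norm_num)).mpr (by decide)) hg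
  have h1 : g (pt 5) ∉ ofMask 5279 := by
    rw [apply_mem_iff_of_smul_eq (FixM31_inv hg31), mem_ofMask, idx_pt (by norm_num)]
    decide
  have h2 : g (pt 5) ∈ ofMask (5279 ||| 16771936) := by
    have : (5279 ||| 16771936 : ℕ) = 16777215 := by decide
    rw [this, ofMask_full]; exact Finset.mem_univ _
  rw [ofMask_or, Finset.mem_union] at h2
  exact h2.resolve_left h1

/-- the sixteen elements fixing the points 0,1,2,3,4,7 -/
theorem FixM159_enum {g : Equiv.Perm GolayPt} (hg : g ∈ FixM 159) :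
    ∃ b < 24, (16771936 : ℕ).testBit b = true ∧ g = permOf (entry trTab6 b) := by
  have hb := FixM159_apply5 hg
  refine ⟨idx (g (pt 5)), idx_lt _, mem_ofMask.mp hb, ?_⟩
  obtain ⟨_, h2, h3⟩ := levelCheck_spec' (by norm_num) level6 (idx_lt (g (pt 5))) (mem_ofMask.mp hb)
  rw [pt_idx] at h3
  have : (permOf (entry trTab6 (idx (g (pt 5)))))⁻¹ * g ∈ FixM 191 := by
    rw [show (191 : ℕ) = 159 ||| 2 ^ 5 from rfl, mem_FixM_or (by norm_num)]
    refine ⟨(FixM 159).mul_mem ((FixM 159).inv_mem h2) hg, ?_⟩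
    rw [Equiv.Perm.mul_apply, Equiv.Perm.inv_eq_iff_eq, h3]
  rw [FixM_191, Subgroup.mem_bot, inv_mul_eq_one] at this
  exact this.symm

/-- the forty-eight elements fixing the points 0,1,2,3,4 -/
theorem FixM31_enum {g : Equiv.Perm GolayPt} (hg : g ∈ FixM 31) :
    ∃ a < 24, ∃ b < 24, (5248 : ℕ).testBit a = true ∧ (16771936 : ℕ).testBit b = true ∧
      g = permOf (entry trTab5 a) * permOf (entry trTab6 b) := by
  have ha := FixM31_apply7 hg
  obtain ⟨_, h2, h3⟩ := levelCheck_spec' (by norm_num) level5 (idx_lt (g (pt 7))) (mem_ofMask.mp ha)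
  rw [pt_idx] at h3
  have : (permOf (entry trTab5 (idx (g (pt 7)))))⁻¹ * g ∈ FixM 159 := by
    rw [show (159 : ℕ) = 31 ||| 2 ^ 7 from rfl, mem_FixM_or (by norm_num)]
    refine ⟨(FixM 31).mul_mem ((FixM 31).inv_mem h2) hg, ?_⟩
    rw [Equiv.Perm.mul_apply, Equiv.Perm.inv_eq_iff_eq, h3]
  obtain ⟨b, hb, hb', hgb⟩ := FixM159_enum this
  refine ⟨_, idx_lt _, b, hb, mem_ofMask.mp ha, hb', ?_⟩
  rw [← hgb, mul_inv_cancel_left]

theorem isPerm5 {a : ℕ} (ha : a < 24) (h : (5248 : ℕ).testBit a = true) : isPerm (entry trTab5 a) = true :=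
  (levelCheck_spec' (by norm_num) level5 ha h).1

theorem isPerm6 {b : ℕ} (hb : b < 24) (h : (16771936 : ℕ).testBit b = true) : isPerm (entry trTab6 b) = true :=
  (levelCheck_spec' (by norm_num) level6 hb h).1

def idCode : ℕ := 984818244535754528103549039458486304

theorem isPerm_id : isPerm idCode = true := by decide +kernel

theorem permOf_id : permOf idCode = 1 := by
  symm
  apply eq_permOf isPerm_id
  decide +kernel

end Cfsg.Agent.H9
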