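import Cfsg.Agent.Lib_H9_Triad2

set_option autoImplicit false

namespace Cfsg.Agent.H9

open Cfsg
open scoped Pointwise

/-! ### more loops -/

def sumBelow (f : ℕ → ℕ) (n : ℕ) : ℕ :=
  Nat.rec (motive := fun _ => ℕ) 0 (fun i ih => Nat.add ih (f i)) n

theorem sumBelow_eq (f : ℕ → ℕ) (n : ℕ) : sumBelow f n = ∑ i ∈ Finset.range n, f i := by
  induction n with
  | zero => rfl
  | succ n ih =>
    rw [Finset.sum_range_succ, ← ih]
    rfl

def anyBelow (p : ℕ → Bool) (n : ℕ) : Bool :=
  Nat.rec (motive := fun _ => Bool) false (fun i ih => Bool.rec (motive := fun _ => Bool) ih true (p i)) n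

theorem anyBelow_succ (p : ℕ → Bool) (n : ℕ) :
    anyBelow p (n + 1) = Bool.rec (motive := fun _ => Bool) (anyBelow p n) true (p n) := rfl

theorem anyBelow_iff (p : ℕ → Bool) (n : ℕ) : anyBelow p n = true ↔ ∃ i < n, p i = true := by
  induction n with
  | zero => simp [anyBelow]
  | succ n ih =>
    rw [anyBelow_succ]
    cases h : p n
    · show anyBelow p n = true ↔ _
      rw [ih]
      constructor
      · rintro ⟨i, hi, hp⟩; exact ⟨i, by omega, hp⟩
      · rintro ⟨i, hi, hp⟩
        rcases Nat.lt_succ_iff_lt_or_eq.mp hi with h' | rfl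
        · exact ⟨i, h', hp⟩
        · rw [h] at hp; exact absurd hp (by decide)
    · show true = true ↔ _
      simp only [true_iff]
      exact ⟨n, by omega, h⟩

/-- evaluate `n` first (for the kernel), then continue -/
def force {α : Type} (n : ℕ) (f : ℕ → α) : α :=
  Nat.rec (motive := fun _ => α) (f 0) (fun k _ => f (Nat.succ k)) n

theorem force_eq {α : Type} (n : ℕ) (f : ℕ → α) : force n f = f n := by
  cases n <;> rfl

/-! ### packed families of sets of points -/

def part (X j : ℕ) : ℕ := Nat.land (Nat.shiftRight X (Nat.mul 24 j)) 16777215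

theorem part_lt (X j : ℕ) : part X j < 2 ^ 24 :=
  lt_of_le_of_lt (Nat.and_le_right (n := Nat.shiftRight X (Nat.mul 24 j)) (m := 16777215)) (by norm_num)

def famP (r X : ℕ) : Finset (Finset GolayPt) := (Finset.range r).image (fun j => ofMask (part X j))

theorem mem_famP {r X : ℕ} {u : Finset GolayPt} : u ∈ famP r X ↔ ∃ j < r, ofMask (part X j) = u := by
  unfold famP
  simp only [Finset.mem_image, Finset.mem_range]

def distinctP (r X : ℕ) : Bool :=
  allBelow (fun j => allBelow (fun i => !(Nat.beq (part X i) (part X j))) j) r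

theorem part_ne {r X : ℕ} (h : distinctP r X = true) {i j : ℕ} (hj : j < r) (hij : i < j) :
    part X i ≠ part X j := by
  have := (allBelow_iff _ _).mp ((allBelow_iff _ _).mp h j hj) i hij
  intro he
  rw [he, Nat.beq_refl] at this
  exact absurd this (by decide)

theorem part_injOn {r X : ℕ} (h : distinctP r X = true) :
    Set.InjOn (fun j => ofMask (part X j)) (Finset.range r : Set ℕ) := by
  intro i hi j hj hij
  have hi' : i < r := Finset.mem_range.mp hi
  have hj' : j < r := Finset.mem_range.mp hj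
  have he : part X i = part X j := (ofMask_inj (part_lt _ _) (part_lt _ _)).mp hij
  rcases Nat.lt_trichotomy i j with hlt | heq | hgt
  · exact absurd he (part_ne h hj' hlt)
  · exact heq
  · exact absurd he.symm (part_ne h hi' hgt)

theorem card_famP {r X : ℕ} (h : distinctP r X = true) : (famP r X).card = r := by
  unfold famP
  rw [Finset.card_image_of_injOn (part_injOn h), Finset.card_range]

theorem sum_famP {r X : ℕ} (h : distinctP r X = true) (F : Finset GolayPt → ℕ) :
    ∑ u ∈ famP r X, F u = ∑ j ∈ Finset.range r, F (ofMask (part X j)) := by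
  unfold famP
  rw [Finset.sum_image (part_injOn h)]

/-- the image of every part of `X` under `t` is a part of `Y` -/
def subP (t r X Y : ℕ) : Bool :=
  allBelow (fun j => force (part X j) (fun m0 => force (applyMask t m0) (fun m =>
    anyBelow (fun i => Nat.beq m (part Y i)) r))) r

theorem smul_famP {t r X Y : ℕ} (ht : isPerm t = true) (hX : distinctP r X = true)
    (hY : distinctP r Y = true) (h : subP t r X Y = true) : permOf t • famP r X = famP r Y := by
  apply Finset.eq_of_subset_of_card_le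
  · intro u hu
    obtain ⟨v, hv, rfl⟩ := Finset.mem_smul_finset.mp hu
    obtain ⟨j, hj, rfl⟩ := mem_famP.mp hv
    have hj' := (allBelow_iff _ _).mp h j hj
    rw [force_eq, force_eq] at hj'
    obtain ⟨i, hi, he⟩ := (anyBelow_iff _ _).mp hj'
    rw [smul_ofMask ht, Nat.eq_of_beq_eq_true he]
    exact mem_famP.mpr ⟨i, hi, rfl⟩
  · rw [Finset.card_smul_finset, card_famP hX, card_famP hY]

/-! ### the pairing of two families -/

def pairSq (A B : Finset (Finset GolayPt)) : ℕ := ∑ u ∈ A, ∑ v ∈ B, (u ∩ v).card ^ 2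

theorem pairSq_smul (g : Equiv.Perm GolayPt) (A B : Finset (Finset GolayPt)) :
    pairSq (g • A) (g • B) = pairSq A B := by
  unfold pairSq
  rw [Finset.smul_finset_def, Finset.sum_image (MulAction.injective g).injOn]
  apply Finset.sum_congr rfl
  intro u _
  rw [Finset.smul_finset_def, Finset.sum_image (MulAction.injective g).injOn]
  apply Finset.sum_congr rfl
  intro v _
  rw [card_smul_inter]

def pairP (r X s Y : ℕ) : ℕ :=
  sumBelow (fun i => force (part X i) (fun a => sumBelow (fun j =>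
    force (pop (Nat.land a (part Y j))) (fun c => Nat.mul c c)) s)) r

theorem pairSq_famP {r X s Y : ℕ} (hX : distinctP r X = true) (hY : distinctP s Y = true) :
    pairSq (famP r X) (famP s Y) = pairP r X s Y := by
  unfold pairSq pairP
  rw [sum_famP hX, sumBelow_eq]
  apply Finset.sum_congr rfl
  intro i _
  rw [sum_famP hY, force_eq, sumBelow_eq]
  apply Finset.sum_congr rfl
  intro j _
  rw [force_eq, ← ofMask_and, ← pop_eq (and_lt_two_pow24 _ (part_lt _ _)), sq]
  rfl

theorem famP_one (X : ℕ) : famP 1 X = {ofMask (part X 0)} := by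
  unfold famP
  simp

theorem part_zero_of_lt {X : ℕ} (h : X < 2 ^ 24) : part X 0 = X := by
  show (X >>> (24 * 0)) &&& 16777215 = X
  rw [Nat.mul_zero, Nat.shiftRight_zero]
  exact Nat.and_two_pow_sub_one_of_lt_two_pow (n := 24) h

theorem distinctP_one (X : ℕ) : distinctP 1 X = true := rfl

theorem smul_singleton_fam (g : Equiv.Perm GolayPt) (o : Finset GolayPt) :
    g • ({o} : Finset (Finset GolayPt)) = {g • o} := Finset.smul_finset_singleton o

/-! ### generic counting through an enumeration -/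

theorem count_enum {X : Type*} (Ω : Set X) (dec : ℕ → X) (N : ℕ) (valid : ℕ → Bool)
    (hmem : ∀ i < N, valid i = true → dec i ∈ Ω)
    (hsurj : ∀ x ∈ Ω, ∃ i < N, valid i = true ∧ dec i = x)
    (hinj : ∀ i < N, ∀ j < N, valid i = true → valid j = true → dec i = dec j → i = j)
    (P : X → Prop) (p : ℕ → Bool) (hp : ∀ i < N, valid i = true → (P (dec i) ↔ p i = true)) :
    {x | x ∈ Ω ∧ P x}.ncard = countBelow (fun i => valid i && p i) N := by
  rw [countBelow_eq]
  have : {x | x ∈ Ω ∧ P x} =
      dec '' ↑((Finset.range N).filter (fun i => (valid i && p i) = true)) := by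
    ext x
    simp only [Set.mem_ofPred_eq, Set.mem_image, Finset.coe_filter, Finset.mem_range, Bool.and_eq_true]
    constructor
    · rintro ⟨hx, hP⟩
      obtain ⟨i, hi, hv, rfl⟩ := hsurj x hx
      exact ⟨i, ⟨hi, hv, (hp i hi hv).mp hP⟩, rfl⟩
    · rintro ⟨i, ⟨hi, hv, hpi⟩, rfl⟩
      exact ⟨hmem i hi hv, (hp i hi hv).mpr hpi⟩
  rw [this, Set.InjOn.ncard_image, Set.ncard_coe_finset]
  intro i hi j hj hij
  simp only [Finset.coe_filter, Finset.mem_range, Bool.and_eq_true, Set.mem_ofPred_eq] at hi hj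
  exact hinj i hi.1 j hj.1 hi.2.1 hj.2.1 hij

/-! ### generic orbit certificates -/

def certCheck (step : ℕ → ℕ → ℕ → Bool) (cls : ℕ → ℕ) (N gT ng RT OT JT GT : ℕ) : Bool :=
  allBelow (fun i =>
    Nat.beq (cls i) 0 || Nat.beq (fld RT 12 4095 (cls i)) i ||
      (Nat.blt (fld OT 12 4095 (fld JT 12 4095 i)) (fld OT 12 4095 i) && Nat.blt (fld GT 4 15 i) ng &&
       Nat.blt (fld JT 12 4095 i) N && Nat.beq (cls (fld JT 12 4095 i)) (cls i) &&
       step (entry gT (fld GT 4 15 i)) (fld JT 12 4095 i) i)) N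

theorem certCheck_spec {X : Type*} [MulAction (Equiv.Perm GolayPt) X] (H : Subgroup (Equiv.Perm GolayPt))
    (dec : ℕ → X) {step : ℕ → ℕ → ℕ → Bool} {cls : ℕ → ℕ} {N gT ng RT OT JT GT : ℕ}
    (hstep : ∀ t i j, isPerm t = true → i < N → j < N → cls i ≠ 0 → cls j ≠ 0 → step t i j = true →
      permOf t • dec i = dec j)
    (hgen : ∀ j < ng, isPerm (entry gT j) = true ∧ permOf (entry gT j) ∈ H)
    (h : certCheck step cls N gT ng RT OT JT GT = true) :
    ∀ i < N, cls i ≠ 0 → ∃ g ∈ H, g • dec (fld RT 12 4095 (cls i)) = dec i := by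
  have key : ∀ n : ℕ, ∀ i < N, fld OT 12 4095 i = n → cls i ≠ 0 →
      ∃ g ∈ H, g • dec (fld RT 12 4095 (cls i)) = dec i := by
    intro n
    induction n using Nat.strong_induction_on with
    | _ n ih =>
      intro i hi hn h0
      have := (allBelow_iff _ _).mp h i hi
      simp only [Bool.or_eq_true, Bool.and_eq_true] at this
      rcases this with (h1 | h1) | ⟨⟨⟨⟨h1, h2⟩, h5⟩, h3⟩, h4⟩
      · exact absurd (Nat.eq_of_beq_eq_true h1) h0
      · rw [Nat.eq_of_beq_eq_true h1]
        exact ⟨1, H.one_mem, one_smul _ _⟩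
      · have h1' : fld OT 12 4095 (fld JT 12 4095 i) < fld OT 12 4095 i := Nat.blt_eq ▸ h1
        have h2' : fld GT 4 15 i < ng := Nat.blt_eq ▸ h2
        have h5' : fld JT 12 4095 i < N := Nat.blt_eq ▸ h5
        have h3' := Nat.eq_of_beq_eq_true h3
        obtain ⟨g, hgm, hgx⟩ := ih _ (hn ▸ h1') _ h5' rfl (by rw [h3']; exact h0)
        obtain ⟨hp, hH⟩ := hgen _ h2'
        refine ⟨permOf (entry gT (fld GT 4 15 i)) * g, H.mul_mem hH hgm, ?_⟩
        rw [h3'] at hgx
        rw [mul_smul, hgx]
        exact hstep _ _ _ hp h5' hi (by rw [h3']; exact h0) h0 h4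
  intro i hi h0
  exact key _ i hi rfl h0

theorem cert_trans {X : Type*} [MulAction (Equiv.Perm GolayPt) X] (H : Subgroup (Equiv.Perm GolayPt))
    (dec : ℕ → X) {step : ℕ → ℕ → ℕ → Bool} {cls : ℕ → ℕ} {N gT ng RT OT JT GT : ℕ}
    (hstep : ∀ t i j, isPerm t = true → i < N → j < N → cls i ≠ 0 → cls j ≠ 0 → step t i j = true →
      permOf t • dec i = dec j)
    (hgen : ∀ j < ng, isPerm (entry gT j) = true ∧ permOf (entry gT j) ∈ H)
    (h : certCheck step cls N gT ng RT OT JT GT = true)
    {i j : ℕ} (hi : i < N) (hj : j < N) (h0 : cls i ≠ 0) (he : cls i = cls j) :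
    ∃ g ∈ H, g • dec i = dec j := by
  obtain ⟨a, ha, hax⟩ := certCheck_spec H dec hstep hgen h i hi h0
  obtain ⟨b, hb, hbx⟩ := certCheck_spec H dec hstep hgen h j hj (he ▸ h0)
  refine ⟨b * a⁻¹, H.mul_mem hb (H.inv_mem ha), ?_⟩
  rw [mul_smul, ← hax, inv_smul_smul, he, hbx]

end Cfsg.Agent.H9
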