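import Cfsg.Agent.Lib_helper8_FusAH

set_option autoImplicit false

namespace Cfsg.Agent.H9

open Cfsg Cfsg.FusionSystem Cfsg.Agent.H8
open scoped Pointwise

/-- the subgroup contains every element conjugating it into itself -/
def SelfN {G : Type*} [Group G] (P : Subgroup G) : Prop :=
  ∀ n : G, (∀ x ∈ P, n * x * n⁻¹ ∈ P) → n ∈ P

/-- the only nontrivial strongly closed subgroup is the whole subgroup -/
def SCl {G : Type*} [Group G] (P : Subgroup G) : Prop :=
  ∀ T : Subgroup G, T ≤ P → T ≠ ⊥ → (∀ x ∈ T, ∀ g : G, g * x * g⁻¹ ∈ P → g * x * g⁻¹ ∈ T) → P ≤ T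

theorem fus_simple_of {G : Type*} [Group G] [Finite G] {p : ℕ} [Fact p.Prime] (S : Sylow p G)
    (hS1 : (S : Subgroup G) ≠ ⊥) (hN : SelfN (S : Subgroup G)) (hC : SCl (S : Subgroup G)) :
    (groupFusionSystem (S : Subgroup G)).IsSimple p := by
  have hF := saturated_group S
  refine ⟨hF, hS1, fun T E hE => ?_⟩
  have hsc := stronglyClosed_group_iff.1 hE.1.2.2.2.1
  by_cases hT0 : T = ⊥
  · exact Or.inl hT0
  have hT : T = (S : Subgroup G) := le_antisymm hsc.1 (hC T hsc.1 hT0 hsc.2)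
  subst hT
  refine Or.inr ⟨rfl, ?_⟩
  set F := groupFusionSystem (S : Subgroup G) with hFdef
  have hinv : E.IsInvariantIn F := hE.1.2.2
  have hEF : E ≤ F := hinv.1
  have haut : F.autGroup (S : Subgroup G) ≤ E.autGroup (S : Subgroup G) := by
    have e1 : F.autGroup (S : Subgroup G) = autInducedBy ⊤ (S : Subgroup G) := by
      rw [hFdef, groupFusionSystem_eq, autGroup_ofSubgroup le_rfl]
    rw [e1]
    intro α hα
    obtain ⟨g, -, e⟩ := mem_autInducedBy_iff.1 hα
    have hg : g ∈ (S : Subgroup G) := hN g (fun x hx => by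
      rw [← e ⟨x, hx⟩]; exact (α ⟨x, hx⟩).2)
    exact autInducedBy_le_autGroup E le_rfl (mem_autInducedBy_iff.2 ⟨g, hg, e⟩)
  have hFE : F ≤ E := by
    rw [le_iff_isMap]
    intro P f hf
    obtain ⟨α, hα, f₀, hf₀, e⟩ := isInvariantIn_frattini hinv hf.le hf
    have h1 := (mem_autGroup_iff le_rfl).1 (haut hα)
    exact (hf₀.comp h1 fun x hx => hf₀.mem hx).congr fun x hx => (e x hx).symm
  intro P
  rw [fusionSystem_le_antisymm hEF hFE]

theorem mem_conj_smul {G : Type*} [Group G] {P : Subgroup G} {g x : G} :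
    x ∈ MulAut.conj g • P ↔ g⁻¹ * x * g ∈ P := by
  rw [Subgroup.mem_pointwise_smul_iff_inv_smul_mem, MulAut.smul_def, ← map_inv, MulAut.conj_apply, inv_inv]

theorem SelfN.conj {G : Type*} [Group G] {P : Subgroup G} (h : SelfN P) (g : G) :
    SelfN (MulAut.conj g • P) := by
  intro n hn
  rw [mem_conj_smul]
  apply h
  intro y hy
  have h1 : g * y * g⁻¹ ∈ MulAut.conj g • P := by
    rw [mem_conj_smul]
    have : g⁻¹ * (g * y * g⁻¹) * g = y := by group
    rwa [this]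
  have h2 := mem_conj_smul.1 (hn _ h1)
  have : g⁻¹ * n * g * y * (g⁻¹ * n * g)⁻¹ = g⁻¹ * (n * (g * y * g⁻¹) * n⁻¹) * g := by group
  rwa [this]

theorem SCl.conj {G : Type*} [Group G] {P : Subgroup G} (h : SCl P) (g : G) :
    SCl (MulAut.conj g • P) := by
  intro T hT hT0 hcl
  have key := h (MulAut.conj g⁻¹ • T) ?_ ?_ ?_
  · intro x hx
    have h1 := key (mem_conj_smul.1 hx)
    rw [mem_conj_smul, inv_inv] at h1
    have : g * (g⁻¹ * x * g) * g⁻¹ = x := by group
    rwa [this] at h1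
  · intro x hx
    rw [mem_conj_smul, inv_inv] at hx
    have h1 := mem_conj_smul.1 (hT hx)
    have : g⁻¹ * (g * x * g⁻¹) * g = x := by group
    rwa [this] at h1
  · intro h0
    apply hT0
    rw [eq_bot_iff] at h0 ⊢
    intro x hx
    have h1 : g⁻¹ * x * g ∈ MulAut.conj g⁻¹ • T := by
      rw [mem_conj_smul, inv_inv]
      have : g * (g⁻¹ * x * g) * g⁻¹ = x := by group
      rwa [this]
    have h2 := Subgroup.mem_bot.1 (h0 h1)
    rw [Subgroup.mem_bot]
    have : x = g * (g⁻¹ * x * g) * g⁻¹ := by group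
    rw [this, h2]; group
  · intro x hx k hk
    rw [mem_conj_smul, inv_inv] at hx ⊢
    have h1 : (g * k * g⁻¹) * (g * x * g⁻¹) * (g * k * g⁻¹)⁻¹ ∈ MulAut.conj g • P := by
      rw [mem_conj_smul]
      have : g⁻¹ * ((g * k * g⁻¹) * (g * x * g⁻¹) * (g * k * g⁻¹)⁻¹) * g = k * x * k⁻¹ := by group
      rwa [this]
    have h2 := hcl _ hx _ h1
    have : g * (k * x * k⁻¹) * g⁻¹ = (g * k * g⁻¹) * (g * x * g⁻¹) * (g * k * g⁻¹)⁻¹ := by group
    rwa [this]

theorem fus_simple_of_sylow {G : Type*} [Group G] [Finite G] {p : ℕ} [Fact p.Prime] (P : Sylow p G)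
    (hP1 : (P : Subgroup G) ≠ ⊥) (hN : SelfN (P : Subgroup G)) (hC : SCl (P : Subgroup G))
    (S : Sylow p G) : (groupFusionSystem (S : Subgroup G)).IsSimple p := by
  obtain ⟨g, rfl⟩ := MulAction.exists_smul_eq G P S
  apply fus_simple_of
  · rw [Sylow.coe_subgroup_smul]
    intro h0
    apply hP1
    rw [eq_bot_iff] at h0 ⊢
    intro x hx
    have h1 : g * x * g⁻¹ ∈ MulAut.conj g • (P : Subgroup G) := by
      rw [mem_conj_smul]
      have : g⁻¹ * (g * x * g⁻¹) * g = x := by group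
      rwa [this]
    have h2 := Subgroup.mem_bot.1 (h0 h1)
    rw [Subgroup.mem_bot]
    have : x = g⁻¹ * (g * x * g⁻¹) * g := by group
    rw [this, h2]; group
  · rw [Sylow.coe_subgroup_smul]; exact hN.conj g
  · rw [Sylow.coe_subgroup_smul]; exact hC.conj g

theorem selfN_of_sylow {G : Type*} [Group G] [Finite G] {p : ℕ} [Fact p.Prime] (P : Sylow p G)
    (hN : SelfN (P : Subgroup G)) (S : Sylow p G) : SelfN (S : Subgroup G) := by
  obtain ⟨g, rfl⟩ := MulAction.exists_smul_eq G P S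
  rw [Sylow.coe_subgroup_smul]; exact hN.conj g

theorem SelfN_subgroupOf {A : Type*} [Group A] {H Q : Subgroup A}
    (h : ∀ n ∈ H, (∀ x ∈ Q, n * x * n⁻¹ ∈ Q) → n ∈ Q) (hQH : Q ≤ H) : SelfN (Q.subgroupOf H) := by
  intro n hn
  rw [Subgroup.mem_subgroupOf]
  apply h _ n.2
  intro x hx
  have := hn ⟨x, hQH hx⟩ (Subgroup.mem_subgroupOf.2 hx)
  exact Subgroup.mem_subgroupOf.1 this

theorem SCl_subgroupOf {A : Type*} [Group A] {H Q : Subgroup A}
    (h : ∀ T : Subgroup A, T ≤ Q → T ≠ ⊥ → (∀ x ∈ T, ∀ g ∈ H, g * x * g⁻¹ ∈ Q → g * x * g⁻¹ ∈ T) → Q ≤ T) :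
    SCl (Q.subgroupOf H) := by
  intro T hT hT0 hcl
  have key := h (T.map H.subtype) ?_ ?_ ?_
  · intro x hx
    obtain ⟨y, hy, e⟩ := Subgroup.mem_map.1 (key (Subgroup.mem_subgroupOf.1 hx))
    have : y = x := Subtype.ext e
    rwa [← this]
  · rintro _ ⟨y, hy, rfl⟩
    exact Subgroup.mem_subgroupOf.1 (hT hy)
  · intro h0
    apply hT0
    rw [eq_bot_iff] at h0 ⊢
    intro x hx
    have := Subgroup.mem_bot.1 (h0 (Subgroup.mem_map_of_mem H.subtype hx))
    rw [Subgroup.mem_bot]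
    exact Subtype.ext this
  · rintro _ ⟨y, hy, rfl⟩ g hg hgq
    have := hcl y hy ⟨g, hg⟩ (Subgroup.mem_subgroupOf.2 hgq)
    exact Subgroup.mem_map_of_mem H.subtype this

/-- a nontrivial subgroup of a `p`-group normalised by it contains a nontrivial central element -/
theorem exists_central_of_normal {A : Type*} [Group A] {p : ℕ} [Fact p.Prime] {Q T : Subgroup A} [Finite Q]
    (hQ : IsPGroup p Q) (hTQ : T ≤ Q) (hT : T ≠ ⊥) (hn : ∀ x ∈ T, ∀ s ∈ Q, s * x * s⁻¹ ∈ T) :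
    ∃ t ∈ T, t ≠ 1 ∧ ∀ s ∈ Q, s * t = t * s := by
  letI : MulAction Q T :=
    { smul := fun s x => ⟨s * x * (s : A)⁻¹, hn x x.2 s s.2⟩
      one_smul := fun x => Subtype.ext (by show ((1 : Q) : A) * x * ((1 : Q) : A)⁻¹ = x; simp)
      mul_smul := fun a b x => Subtype.ext (by
        show ((a * b : Q) : A) * x * ((a * b : Q) : A)⁻¹ = a * (b * x * (b : A)⁻¹) * (a : A)⁻¹
        push_cast; group) }
  have hfin : Finite T := Finite.of_injective (Subgroup.inclusion hTQ) (Subgroup.inclusion_injective hTQ)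
  have hTp : IsPGroup p T := hQ.to_le hTQ
  have hnt : Nontrivial T := (Subgroup.nontrivial_iff_ne_bot T).2 hT
  have hdvd : p ∣ Nat.card T := by
    obtain ⟨n, hn0, hn⟩ := hTp.nontrivial_iff_card.mp hnt
    exact hn.symm ▸ dvd_pow_self _ (ne_of_gt hn0)
  have h1 : (1 : T) ∈ MulAction.fixedPoints Q T := by
    intro s
    apply Subtype.ext
    show (s : A) * ((1 : T) : A) * (s : A)⁻¹ = ((1 : T) : A)
    simp
  obtain ⟨b, hb, hne⟩ := hQ.exists_fixed_point_of_prime_dvd_card_of_fixed_point T hdvd h1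
  refine ⟨b, b.2, fun h => hne (Subtype.ext h.symm), fun s hs => ?_⟩
  have := congrArg Subtype.val (hb ⟨s, hs⟩)
  have h2 : s * (b : A) * s⁻¹ = b := this
  calc s * (b : A) = s * b * s⁻¹ * s := by group
    _ = b * s := by rw [h2]

theorem factorization_of_eq {n p k m : ℕ} (hp : p.Prime) (h : n = p ^ k * m) (hm : ¬ p ∣ m) :
    n.factorization p = k := by
  have hm0 : m ≠ 0 := fun h0 => hm (h0 ▸ dvd_zero p)
  rw [h, Nat.factorization_mul (pow_ne_zero _ hp.ne_zero) hm0, Nat.Prime.factorization_pow hp]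
  simp [Nat.factorization_eq_zero_of_not_dvd hm]

end Cfsg.Agent.H9
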