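import Cfsg.Agent.Lib_H9_Tree
import Cfsg.Agent.Lib_H9_Fus1

set_option autoImplicit false

namespace Cfsg.Agent.H9

open Cfsg
open scoped Pointwise

/-! ### subgroups given by a matrix of colours -/

def cm (CM i j : ℕ) : ℕ := fld CM 11 2047 (Nat.add (Nat.mul 24 i) j)

def col (CM : ℕ) (p q : GolayPt) : ℕ := cm CM (idx p) (idx q)

def QS (F : ℕ) (Lm : List ℕ) (CM : ℕ) : Subgroup (Equiv.Perm GolayPt) where
  carrier := {g | g ∈ GS F Lm ∧ ∀ p q, col CM (g p) (g q) = col CM p q}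
  one_mem' := ⟨(GS F Lm).one_mem, fun _ _ => rfl⟩
  mul_mem' := by
    rintro a b ⟨a1, a2⟩ ⟨b1, b2⟩
    exact ⟨(GS F Lm).mul_mem a1 b1, fun p q => by
      rw [Equiv.Perm.mul_apply, Equiv.Perm.mul_apply, a2, b2]⟩
  inv_mem' := by
    rintro a ⟨a1, a2⟩
    refine ⟨(GS F Lm).inv_mem a1, fun p q => ?_⟩
    have := a2 (a⁻¹ p) (a⁻¹ q)
    have e1 : a (a⁻¹ p) = p := by simp
    have e2 : a (a⁻¹ q) = q := by simp
    rw [e1, e2] at this
    exact this.symm

theorem mem_QS {F CM : ℕ} {Lm : List ℕ} {g : Equiv.Perm GolayPt} :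
    g ∈ QS F Lm CM ↔ g ∈ GS F Lm ∧ ∀ p q, col CM (g p) (g q) = col CM p q := Iff.rfl

theorem QS_le {F CM : ℕ} {Lm : List ℕ} : QS F Lm CM ≤ GS F Lm := fun _ h => h.1

def presCM (CM W : ℕ) : Bool :=
  allBelow (fun i => allBelow (fun j => Nat.beq (cm CM (app W i) (app W j)) (cm CM i j)) 24) 24

def stabB (W m : ℕ) : Bool := allBelow (fun i => !(bit m i) || bit m (app W i)) 24

def fixB (W F : ℕ) : Bool := allBelow (fun i => !(bit F i) || Nat.beq (app W i) i) 24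

def inQB (F : ℕ) (Lm : List ℕ) (CM W : ℕ) : Bool := fixB W F && Lm.all (stabB W) && presCM CM W

theorem inQB_of_mem {F CM W : ℕ} {Lm : List ℕ} {g : Equiv.Perm GolayPt} (hg : g ∈ QS F Lm CM)
    (hW : Rep g W) : inQB F Lm CM W = true := by
  obtain ⟨⟨_, h2, h3⟩, h4⟩ := hg
  unfold inQB
  simp only [Bool.and_eq_true, List.all_eq_true]
  refine ⟨⟨?_, ?_⟩, ?_⟩
  · unfold fixB
    rw [allBelow_iff]
    intro i hi
    rw [bit_eq]
    cases hb : F.testBit i with
    | false => rfl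
    | true =>
      have h5 := h2 (pt i) (by rw [mem_ofMask, idx_pt hi]; exact hb)
      rw [(hW i hi).1] at h5
      simp only [Bool.not_true, Bool.false_or]
      exact (beq_iff _ _).mpr (pt_injective (hW i hi).2 hi h5)
  · intro m hm
    unfold stabB
    rw [allBelow_iff]
    intro i hi
    rw [bit_eq, bit_eq]
    cases hb : m.testBit i with
    | false => rfl
    | true =>
      have h5 : g (pt i) ∈ ofMask m := apply_mem_of_smul_eq (h3 m hm) (by rw [mem_ofMask, idx_pt hi]; exact hb)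
      rw [(hW i hi).1, mem_ofMask, idx_pt (hW i hi).2] at h5
      simp [h5]
  · unfold presCM
    rw [allBelow_iff]
    intro i hi
    rw [allBelow_iff]
    intro j hj
    have h5 := h4 (pt i) (pt j)
    rw [(hW i hi).1, (hW j hj).1] at h5
    unfold col at h5
    rw [idx_pt (hW i hi).2, idx_pt (hW j hj).2, idx_pt hi, idx_pt hj] at h5
    exact (beq_iff _ _).mpr h5

theorem permOf_mem_QS {F CM V : ℕ} {Lm : List ℕ} (h1 : inGS V F Lm = true) (h2 : presCM CM V = true) :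
    permOf V ∈ QS F Lm CM := by
  have hp := inGS_isPerm h1
  refine ⟨permOf_mem_GS h1, fun p q => ?_⟩
  rw [permOf_apply hp, permOf_apply hp]
  unfold col
  rw [idx_pt (app_lt hp (idx_lt p)), idx_pt (app_lt hp (idx_lt q))]
  exact (beq_iff _ _).mp ((allBelow_iff _ _).mp ((allBelow_iff _ _).mp h2 _ (idx_lt p)) _ (idx_lt q))

def bpt : ℕ → ℕ
  | 0 => 0
  | 1 => 1
  | 2 => 2
  | 3 => 3
  | 4 => 4
  | 5 => 7
  | _ => 5

def prune (CM k W : ℕ) : Bool :=
  allBelow (fun j => Nat.beq (cm CM (app W (bpt j)) (app W (bpt k))) (cm CM (bpt j) (bpt k))) (Nat.succ k)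

def leafQ (F : ℕ) (Lm : List ℕ) (CM : ℕ) (TL : List ℕ) (W : ℕ) : Bool :=
  !(inQB F Lm CM W) || TL.any (Nat.beq W)

theorem bpt_ok : ∀ k < 7, ∀ j < k + 1, bpt j < 24 ∧ (fmask k).testBit (bpt j) = true := by decide

theorem QS_enum {F CM : ℕ} {Lm TL : List ℕ} (h : treeAll (prune CM) (leafQ F Lm CM TL) = true)
    {g : Equiv.Perm GolayPt} (hg : g ∈ QS F Lm CM) : ∃ V ∈ TL, Rep g V := by
  obtain ⟨W, hW, hQ⟩ := treeAll_spec h hg.1.1 (by
    intro k hk W hW
    unfold prune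
    rw [allBelow_iff]
    intro j hj
    obtain ⟨b1, b2⟩ := bpt_ok k hk j hj
    obtain ⟨b3, b4⟩ := bpt_ok k hk k (by omega)
    have h5 := hg.2 (pt (bpt j)) (pt (bpt k))
    rw [(hW _ b1 b2).1, (hW _ b3 b4).1] at h5
    unfold col at h5
    rw [idx_pt (hW _ b1 b2).2, idx_pt (hW _ b3 b4).2, idx_pt b1, idx_pt b3] at h5
    exact (beq_iff _ _).mpr h5)
  unfold leafQ at hQ
  rw [inQB_of_mem hg hW] at hQ
  simp only [Bool.not_true, Bool.false_or, List.any_eq_true] at hQ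
  obtain ⟨V, hV, e⟩ := hQ
  exact ⟨V, hV, (beq_iff _ _).mp e ▸ hW⟩

/-! ### the table of the subgroup -/

def tabOK (F : ℕ) (Lm : List ℕ) (CM : ℕ) (TL : List ℕ) : Bool :=
  TL.all (fun V => inGS V F Lm && presCM CM V && Nat.blt V 1329227995784915872903807060280344576)

def nodupB : List ℕ → Bool
  | [] => true
  | a :: t => !(t.any (Nat.beq a)) && nodupB t

theorem nodupB_spec : ∀ {L : List ℕ}, nodupB L = true → L.Nodup
  | [], _ => List.nodup_nil
  | a :: t, h => by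
    unfold nodupB at h
    rw [Bool.and_eq_true] at h
    refine List.nodup_cons.mpr ⟨fun ha => ?_, nodupB_spec h.2⟩
    have : t.any (Nat.beq a) = true := List.any_eq_true.mpr ⟨a, ha, Nat.beq_refl a⟩
    rw [this] at h
    simp at h

structure Tab (F : ℕ) (Lm : List ℕ) (CM : ℕ) (TL : List ℕ) : Prop where
  tree : treeAll (prune CM) (leafQ F Lm CM TL) = true
  tab : tabOK F Lm CM TL = true
  nodup : nodupB TL = true

namespace Tab

variable {F CM : ℕ} {Lm TL : List ℕ}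

theorem entry_spec (h : Tab F Lm CM TL) {V : ℕ} (hV : V ∈ TL) :
    isPerm V = true ∧ permOf V ∈ QS F Lm CM ∧ V < 2 ^ 120 := by
  have := List.all_eq_true.mp h.tab V hV
  simp only [Bool.and_eq_true] at this
  obtain ⟨⟨h1, h2⟩, h3⟩ := this
  exact ⟨inGS_isPerm h1, permOf_mem_QS h1 h2, Nat.blt_eq ▸ h3⟩

theorem mem_iff (h : Tab F Lm CM TL) {g : Equiv.Perm GolayPt} :
    g ∈ QS F Lm CM ↔ ∃ V ∈ TL, g = permOf V := by
  constructor
  · intro hg
    obtain ⟨V, hV, hr⟩ := QS_enum h.tree hg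
    exact ⟨V, hV, hr.eq_permOf (h.entry_spec hV).1⟩
  · rintro ⟨V, hV, rfl⟩
    exact (h.entry_spec hV).2.1

theorem inj (h : Tab F Lm CM TL) {V V' : ℕ} (hV : V ∈ TL) (hV' : V' ∈ TL) (e : permOf V = permOf V') :
    V = V' := by
  obtain ⟨p1, _, l1⟩ := h.entry_spec hV
  obtain ⟨p2, _, l2⟩ := h.entry_spec hV'
  apply code_ext l1 l2
  intro i hi
  exact (Rep_permOf p1).app_eq (e ▸ Rep_permOf p2) hi

theorem card_filter (h : Tab F Lm CM TL) (pred : Equiv.Perm GolayPt → Prop) (predB : ℕ → Bool)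
    (hp : ∀ V ∈ TL, predB V = true ↔ pred (permOf V)) :
    Nat.card {g : Equiv.Perm GolayPt // g ∈ QS F Lm CM ∧ pred g} = (TL.filter predB).length := by
  have hnd : (TL.filter predB).Nodup := (nodupB_spec h.nodup).filter _
  have e1 : Nat.card {V // V ∈ TL.filter predB} = (TL.filter predB).length := by
    rw [← Nat.card_congr hnd.getEquiv, Nat.card_eq_fintype_card, Fintype.card_fin]
  rw [← e1]
  symm
  apply Nat.card_congr
  refine Equiv.ofBijective (fun V => ⟨permOf V.1, ?_, ?_⟩) ⟨?_, ?_⟩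
  · exact (h.entry_spec (List.mem_filter.mp V.2).1).2.1
  · exact (hp _ (List.mem_filter.mp V.2).1).mp (List.mem_filter.mp V.2).2
  · intro V V' e
    apply Subtype.ext
    exact h.inj (List.mem_filter.mp V.2).1 (List.mem_filter.mp V'.2).1 (congrArg Subtype.val e)
  · rintro ⟨g, hg, hpg⟩
    obtain ⟨V, hV, rfl⟩ := h.mem_iff.mp hg
    exact ⟨⟨V, List.mem_filter.mpr ⟨hV, (hp V hV).mpr hpg⟩⟩, rfl⟩

theorem card (h : Tab F Lm CM TL) : Nat.card (QS F Lm CM) = TL.length := by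
  have := h.card_filter (fun _ => True) (fun _ => true) (fun _ _ => by simp)
  rw [List.filter_true] at this
  rw [← this]
  apply Nat.card_congr
  exact ⟨fun g => ⟨g.1, g.2, trivial⟩, fun g => ⟨g.1, g.2.1⟩, fun _ => rfl, fun _ => rfl⟩

end Tab

/-! ### the normaliser -/

def cntL (p : ℕ → Bool) (L : List ℕ) : ℕ :=
  List.rec (motive := fun _ => ℕ) 0 (fun a _ ih => Bool.rec (motive := fun _ => ℕ) ih (Nat.succ ih) (p a)) L

theorem cntL_eq (p : ℕ → Bool) (L : List ℕ) : cntL p L = (L.filter p).length := by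
  induction L with
  | nil => rfl
  | cons a t ih =>
    show Bool.rec (motive := fun _ => ℕ) (cntL p t) (Nat.succ (cntL p t)) (p a) = _
    cases h : p a with
    | false => simp [h, ih]
    | true => simp [h, ih]

def colOK (CM : ℕ) (TL : List ℕ) : Bool :=
  allBelow (fun i => allBelow (fun j =>
    Nat.beq (cntL (fun V => Nat.beq (app V i) i && Nat.beq (app V j) j) TL) (cm CM i j)) 24) 24

theorem conj_inv_mem {A : Type*} [Group A] {Q : Subgroup A} [Finite Q] {n : A}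
    (h : ∀ x ∈ Q, n * x * n⁻¹ ∈ Q) : ∀ x ∈ Q, n⁻¹ * x * n ∈ Q := by
  have hinj : Function.Injective (fun x : Q => (⟨n * x * n⁻¹, h x x.2⟩ : Q)) := by
    intro a b e
    have := congrArg Subtype.val e
    exact Subtype.ext (mul_left_cancel (mul_right_cancel this))
  intro x hx
  obtain ⟨y, hy⟩ := (Finite.injective_iff_surjective.mp hinj) ⟨x, hx⟩
  have : n * (y : A) * n⁻¹ = x := congrArg Subtype.val hy
  rw [← this]
  have e : n⁻¹ * (n * (y : A) * n⁻¹) * n = y := by group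
  rw [e]; exact y.2

theorem Tab.col_eq {F CM : ℕ} {Lm TL : List ℕ} (h : Tab F Lm CM TL) (hc : colOK CM TL = true) (p q : GolayPt) :
    col CM p q = Nat.card {g : Equiv.Perm GolayPt // g ∈ QS F Lm CM ∧ (g p = p ∧ g q = q)} := by
  rw [h.card_filter (fun g => g p = p ∧ g q = q)
    (fun V => Nat.beq (app V (idx p)) (idx p) && Nat.beq (app V (idx q)) (idx q)) ?_, ← cntL_eq]
  · exact ((beq_iff _ _).mp ((allBelow_iff _ _).mp ((allBelow_iff _ _).mp hc _ (idx_lt p)) _ (idx_lt q))).symm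
  · intro V hV
    have hp := (h.entry_spec hV).1
    rw [Bool.and_eq_true, beq_iff, beq_iff, permOf_apply hp, permOf_apply hp]
    constructor
    · rintro ⟨e1, e2⟩
      rw [e1, e2, pt_idx, pt_idx]; exact ⟨rfl, rfl⟩
    · rintro ⟨e1, e2⟩
      have f1 := congrArg idx e1
      have f2 := congrArg idx e2
      rw [idx_pt (app_lt hp (idx_lt p))] at f1
      rw [idx_pt (app_lt hp (idx_lt q))] at f2
      exact ⟨f1, f2⟩

theorem Tab.finite {F CM : ℕ} {Lm TL : List ℕ} (_h : Tab F Lm CM TL) : Finite (QS F Lm CM) := inferInstance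

theorem Tab.selfN {F CM : ℕ} {Lm TL : List ℕ} (h : Tab F Lm CM TL) (hc : colOK CM TL = true) :
    ∀ n ∈ GS F Lm, (∀ x ∈ QS F Lm CM, n * x * n⁻¹ ∈ QS F Lm CM) → n ∈ QS F Lm CM := by
  intro n hn hx
  refine ⟨hn, fun p q => ?_⟩
  have hx' := conj_inv_mem hx
  rw [h.col_eq hc, h.col_eq hc]
  apply Nat.card_congr
  refine ⟨fun g => ⟨n⁻¹ * g.1 * n, hx' _ g.2.1, ?_, ?_⟩, fun g => ⟨n * g.1 * n⁻¹, hx _ g.2.1, ?_, ?_⟩, ?_, ?_⟩
  · rw [Equiv.Perm.mul_apply, Equiv.Perm.mul_apply, g.2.2.1]; simp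
  · rw [Equiv.Perm.mul_apply, Equiv.Perm.mul_apply, g.2.2.2]; simp
  · rw [Equiv.Perm.mul_apply, Equiv.Perm.mul_apply]; simp [g.2.2.1]
  · rw [Equiv.Perm.mul_apply, Equiv.Perm.mul_apply]; simp [g.2.2.2]
  · intro g; apply Subtype.ext; show n * (n⁻¹ * g.1 * n) * n⁻¹ = g.1; group
  · intro g; apply Subtype.ext; show n⁻¹ * (n * g.1 * n⁻¹) * n = g.1; group

/-! ### strongly closed subgroups -/

def commB (V g : ℕ) : Bool := allBelow (fun x => Nat.beq (app V (app g x)) (app g (app V x))) 24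

def conjB (k w g : ℕ) : Bool := allBelow (fun x => Nat.beq (app k (app w x)) (app g (app k x))) 24

def cenOK (gs : List ℕ) (zc : ℕ) (TL : List ℕ) : Bool :=
  gs.all (fun g => TL.any (Nat.beq g)) &&
  TL.all (fun V => Nat.beq V idCode || Nat.beq V zc || !(gs.all (commB V)))

def certChk (F : ℕ) (Lm TL : List ℕ) : List ℕ → List (ℕ × ℕ × ℕ) → Bool
  | L, [] => TL.all (fun V => L.any (Nat.beq V))
  | L, (g, k, w) :: rest =>
    L.any (Nat.beq w) && inGS k F Lm && TL.any (Nat.beq g) && conjB k w g &&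
      certChk F Lm TL (L ++ L.map (mulP g)) rest

theorem any_beq {L : List ℕ} {a : ℕ} (h : L.any (Nat.beq a) = true) : a ∈ L := by
  obtain ⟨b, hb, e⟩ := List.any_eq_true.mp h
  rw [(beq_iff _ _).mp e]; exact hb

theorem certChk_spec {F CM : ℕ} {Lm TL : List ℕ} (h : Tab F Lm CM TL) {T : Subgroup (Equiv.Perm GolayPt)}
    (hcl : ∀ x ∈ T, ∀ g ∈ GS F Lm, g * x * g⁻¹ ∈ QS F Lm CM → g * x * g⁻¹ ∈ T) :
    ∀ (cert : List (ℕ × ℕ × ℕ)) (L : List ℕ), certChk F Lm TL L cert = true →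
      (∀ V ∈ L, ∃ t ∈ T, Rep t V) → QS F Lm CM ≤ T
  | [], L, hc, hL => by
    intro g hg
    obtain ⟨V, hV, rfl⟩ := h.mem_iff.mp hg
    have h1 : V ∈ L := any_beq (List.all_eq_true.mp hc V hV)
    obtain ⟨t, ht, hr⟩ := hL V h1
    rw [← hr.eq_permOf (h.entry_spec hV).1]; exact ht
  | (g, k, w) :: rest, L, hc, hL => by
    unfold certChk at hc
    simp only [Bool.and_eq_true] at hc
    obtain ⟨⟨⟨⟨c1, c2⟩, c3⟩, c4⟩, c5⟩ := hc
    obtain ⟨t, ht, hr⟩ := hL w (any_beq c1)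
    have hk := inGS_isPerm c2
    obtain ⟨hgp, hgQ, _⟩ := h.entry_spec (any_beq c3)
    have e : permOf k * t = permOf g * permOf k := by
      ext p
      rw [← pt_idx p, Equiv.Perm.mul_apply, Equiv.Perm.mul_apply, (hr _ (idx_lt p)).1,
        permOf_pt hk (hr _ (idx_lt p)).2, permOf_pt hk (idx_lt p), permOf_pt hgp (app_lt hk (idx_lt p)),
        (beq_iff _ _).mp ((allBelow_iff _ _).mp c4 _ (idx_lt p))]
    have e' : permOf k * t * (permOf k)⁻¹ = permOf g := by rw [e]; group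
    have hgT : permOf g ∈ T := by
      rw [← e']
      exact hcl t ht _ (permOf_mem_GS c2) (e' ▸ hgQ)
    apply certChk_spec h hcl rest _ c5
    intro V hV
    rcases List.mem_append.mp hV with hV | hV
    · exact hL V hV
    · obtain ⟨V0, hV0, rfl⟩ := List.mem_map.mp hV
      obtain ⟨t0, ht0, hr0⟩ := hL V0 hV0
      exact ⟨permOf g * t0, T.mul_mem hgT ht0, (Rep_permOf hgp).mul hr0⟩

theorem Tab.sCl {F CM zc k : ℕ} {Lm TL : List ℕ} (h : Tab F Lm CM TL) (hlen : TL.length = 2 ^ k)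
    {gs : List ℕ} (hcen : cenOK gs zc TL = true) {cert : List (ℕ × ℕ × ℕ)}
    (hcert : certChk F Lm TL [idCode, zc] cert = true) :
    ∀ T : Subgroup (Equiv.Perm GolayPt), T ≤ QS F Lm CM → T ≠ ⊥ →
      (∀ x ∈ T, ∀ g ∈ GS F Lm, g * x * g⁻¹ ∈ QS F Lm CM → g * x * g⁻¹ ∈ T) → QS F Lm CM ≤ T := by
  intro T hT hT0 hcl
  have hp : IsPGroup 2 (QS F Lm CM) := IsPGroup.of_card (n := k) (by rw [h.card, hlen])
  obtain ⟨t, ht, ht1, htc⟩ := exists_central_of_normal hp hT hT0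
    (fun x hx s hs => hcl x hx s (QS_le hs) ((QS F Lm CM).mul_mem ((QS F Lm CM).mul_mem hs (hT hx))
      ((QS F Lm CM).inv_mem hs)))
  obtain ⟨V, hV, rfl⟩ := h.mem_iff.mp (hT ht)
  have hVp := (h.entry_spec hV).1
  unfold cenOK at hcen
  rw [Bool.and_eq_true] at hcen
  have c1 := List.all_eq_true.mp hcen.2 V hV
  have hall : gs.all (commB V) = true := by
    rw [List.all_eq_true]
    intro g hg
    have hgT := any_beq (List.all_eq_true.mp hcen.1 g hg)
    obtain ⟨hgp, hgQ, _⟩ := h.entry_spec hgT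
    have e := htc _ hgQ
    unfold commB
    rw [allBelow_iff]
    intro x hx
    have e2 := congrArg (fun f => f (pt x)) e
    simp only [Equiv.Perm.mul_apply] at e2
    rw [permOf_pt hVp hx, permOf_pt hgp (app_lt hVp hx), permOf_pt hgp hx, permOf_pt hVp (app_lt hgp hx)] at e2
    exact (beq_iff _ _).mpr (pt_injective (app_lt hVp (app_lt hgp hx)) (app_lt hgp (app_lt hVp hx)) e2.symm)
  rw [hall] at c1
  simp only [Bool.not_true, Bool.or_false, Bool.or_eq_true, beq_iff] at c1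
  have hz : V = zc := by
    rcases c1 with c1 | c1
    · exact absurd (by rw [c1, permOf_id]) ht1
    · exact c1
  apply certChk_spec h hcl cert _ hcert
  intro V' hV'
  simp only [List.mem_cons, List.mem_nil_iff, or_false] at hV'
  rcases hV' with rfl | rfl
  · exact ⟨1, T.one_mem, Rep_one⟩
  · exact ⟨permOf V, ht, hz ▸ Rep_permOf hVp⟩

/-! ### conclusion -/

theorem Tab.main {F CM zc k m : ℕ} {Lm TL : List ℕ} (h : Tab F Lm CM TL) (hc : colOK CM TL = true)
    (hlen : TL.length = 2 ^ k) (hk : 0 < k) (hcard : Nat.card (GS F Lm) = 2 ^ k * m) (hm : ¬ 2 ∣ m)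
    {gs : List ℕ} (hcen : cenOK gs zc TL = true) {cert : List (ℕ × ℕ × ℕ)}
    (hcert : certChk F Lm TL [idCode, zc] cert = true) (S : Sylow 2 ↥(GS F Lm)) :
    (groupFusionSystem (S : Subgroup ↥(GS F Lm))).IsSimple 2 ∧ SelfN (S : Subgroup ↥(GS F Lm)) := by
  have : Fact (Nat.Prime 2) := ⟨Nat.prime_two⟩
  have hcq : Nat.card ((QS F Lm CM).subgroupOf (GS F Lm)) = 2 ^ k := by
    rw [card_subgroupOf_of_le QS_le, h.card, hlen]
  have hfac : (Nat.card ↥(GS F Lm)).factorization 2 = k := factorization_of_eq Nat.prime_two hcard hm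
  let P : Sylow 2 ↥(GS F Lm) := Sylow.ofCard ((QS F Lm CM).subgroupOf (GS F Lm)) (by rw [hcq, hfac])
  have hP : (P : Subgroup ↥(GS F Lm)) = (QS F Lm CM).subgroupOf (GS F Lm) := rfl
  have hN : SelfN (P : Subgroup ↥(GS F Lm)) := by
    rw [hP]; exact SelfN_subgroupOf (h.selfN hc) QS_le
  have hC : SCl (P : Subgroup ↥(GS F Lm)) := by
    rw [hP]; exact SCl_subgroupOf (h.sCl hlen hcen hcert)
  have h1 : (P : Subgroup ↥(GS F Lm)) ≠ ⊥ := by
    rw [hP]
    intro h0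
    rw [h0, Subgroup.card_bot] at hcq
    have : 2 ^ 1 ≤ 2 ^ k := Nat.pow_le_pow_right (by norm_num) hk
    omega
  exact ⟨fus_simple_of_sylow P h1 hN hC S, selfN_of_sylow P hN S⟩

end Cfsg.Agent.H9
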