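import Cfsg.Agent.Lib_H9_Fus2
import Cfsg.Agent.Lib_H9_Aut15

set_option autoImplicit false

namespace Cfsg.Agent.H9

open Cfsg
open scoped Pointwise

theorem M24_eq_GS : M24 = GS 0 [] := by
  ext g
  rw [mem_GS, ofMask_zero]
  simp

theorem ofMask_23 : ofMask 8388608 = {none} := by
  have : (8388608 : ℕ) = 2 ^ 23 := by norm_num
  rw [this, ofMask_two_pow (by norm_num), pt23]

theorem M23_eq_GS : Spor.M23 = GS 8388608 [] := by
  ext g
  rw [mem_GS, ofMask_23]
  unfold Spor.M23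
  rw [Subgroup.mem_inf, MulAction.mem_stabilizer_iff]
  simp

theorem M22_eq_GS : Spor.M22 = GS 8388609 [] := by
  ext g
  rw [mem_GS, ofMask_pair, mem_M22]
  simp

theorem M12_eq_GS : Spor.M12 = GS 0 [340831] := by
  ext g
  rw [M12_eq, mem_GS, mem_SG, ofMask_zero]
  simp

theorem M11_eq_GS : Spor.M11 = GS 1 [340831] := by
  rw [M11_eq, GS_eq_SG11]

theorem card_GS24 : Nat.card (GS 0 []) = 2 ^ 10 * 239085 := by
  rw [← M24_eq_GS, card_M24]; norm_num

theorem card_GS23 : Nat.card (GS 8388608 []) = 2 ^ 7 * 79695 := by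
  rw [← M23_eq_GS]
  exact card_stabP1 none

theorem card_GS22 : Nat.card (GS 8388609 []) = 2 ^ 7 * 3465 := by
  rw [← M22_eq_GS, card_M22]; norm_num

theorem card_GS12 : Nat.card (GS 0 [340831]) = 2 ^ 6 * 1485 := by
  rw [← M12_eq_GS, M12_eq, card_SG_dod D0_mem]; norm_num

theorem card_GS11 : Nat.card (GS 1 [340831]) = 2 ^ 4 * 495 := by
  rw [GS_eq_SG11, card_SG_dod1 D0_mem pt0_mem_D0]; norm_num

theorem fus_transfer {H H' : Subgroup (Equiv.Perm GolayPt)} (e : H = H')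
    (h : ∀ S : Sylow 2 ↥H', (groupFusionSystem (S : Subgroup ↥H')).IsSimple 2 ∧ SelfN (S : Subgroup ↥H'))
    (S : Sylow 2 ↥H) : (groupFusionSystem (S : Subgroup ↥H)).IsSimple 2 ∧ SelfN (S : Subgroup ↥H) := by
  subst e
  exact h S

end Cfsg.Agent.H9
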