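import Cfsg.Agent.Lib_H9_Code

set_option autoImplicit false

namespace Cfsg.Agent.H9

open Cfsg

/-! ### words -/

def wordOf (n : ℕ) : GolayPt → ZMod 2 := fun p => if n.testBit (idx p) = true then 1 else 0

theorem wordOf_xor (a b : ℕ) : wordOf (a ^^^ b) = wordOf a + wordOf b := by
  funext p
  simp only [wordOf, Nat.testBit_xor, Pi.add_apply]
  cases a.testBit (idx p) <;> cases b.testBit (idx p) <;> simp
  decide

theorem wordOf_zero : wordOf 0 = 0 := by
  funext p; simp [wordOf]

theorem support₂_wordOf (n : ℕ) : support₂ (wordOf n) = ofMask n := by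
  ext p
  by_cases h : n.testBit (idx p) = true <;> simp [support₂, wordOf, h]

theorem zmod2_cases (x : ZMod 2) : x = 0 ∨ x = 1 := by
  revert x; decide

theorem wordOf_support₂ (w : GolayPt → ZMod 2) : wordOf (toMask (support₂ w)) = w := by
  funext p
  simp only [wordOf, testBit_toMask, support₂, Finset.mem_filter, Finset.mem_univ, true_and,
    decide_eq_true_eq]
  rcases zmod2_cases (w p) with h | h <;> simp [h]

theorem wordOf_inj {a b : ℕ} (ha : a < 2 ^ 24) (hb : b < 2 ^ 24) : wordOf a = wordOf b ↔ a = b := by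
  constructor
  · intro h
    rw [← ofMask_inj ha hb, ← support₂_wordOf, ← support₂_wordOf, h]
  · intro h; rw [h]

theorem support₂_injective : Function.Injective (support₂ : (GolayPt → ZMod 2) → Finset GolayPt) := by
  intro v w h
  rw [← wordOf_support₂ v, ← wordOf_support₂ w, h]

theorem wordOf_pt (n : ℕ) {j : ℕ} (h : j < 24) : wordOf n (pt j) = ((n.testBit j).toNat : ZMod 2) := by
  simp only [wordOf, idx_pt h]
  cases n.testBit j <;> simp

/-! ### xor-selections -/

def xorSel (f : ℕ → ℕ) (k n : ℕ) : ℕ :=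
  Nat.rec (motive := fun _ => ℕ) 0
    (fun j ih => Nat.xor ih (Nat.mul (Nat.land (Nat.shiftRight n j) 1) (f j))) k

theorem xorSel_succ (f : ℕ → ℕ) (k n : ℕ) :
    xorSel f (k + 1) n = xorSel f k n ^^^ ((n.testBit k).toNat * f k) := by
  show Nat.xor (xorSel f k n) (Nat.mul (Nat.land (Nat.shiftRight n k) 1) (f k)) = _
  rw [land_shiftRight_one]; rfl

theorem wordOf_xorSel (f : ℕ → ℕ) (k n : ℕ) (hk : k ≤ 24) :
    wordOf (xorSel f k n) = ∑ j ∈ Finset.range k, (wordOf n (pt j)) • wordOf (f j) := by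
  induction k with
  | zero => simpa [xorSel] using wordOf_zero
  | succ k ih =>
    rw [xorSel_succ, wordOf_xor, ih (by omega), Finset.sum_range_succ, wordOf_pt n (by omega)]
    congr 1
    cases n.testBit k <;> simp [wordOf_zero]

theorem xorSel_lt (f : ℕ → ℕ) (k n : ℕ) (hf : ∀ j, f j < 2 ^ 24) : xorSel f k n < 2 ^ 24 := by
  induction k with
  | zero => simp [xorSel]
  | succ k ih =>
    rw [xorSel_succ]
    apply Nat.xor_lt_two_pow ih
    cases n.testBit k with
    | false => simp
    | true => simpa using hf k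

theorem xorSel_congr (f : ℕ → ℕ) (k n m : ℕ) (h : ∀ j < k, n.testBit j = m.testBit j) :
    xorSel f k n = xorSel f k m := by
  induction k with
  | zero => rfl
  | succ k ih =>
    rw [xorSel_succ, xorSel_succ, ih (fun j hj => h j (by omega)), h k (by omega)]

/-! ### generators and basis of the code -/

def gen (t : ℕ) : ℕ :=
  Bool.rec (motive := fun _ => ℕ)
    (Nat.land (Nat.lor (Nat.shiftLeft 340831 t) (Nat.shiftRight 340831 (Nat.sub 23 t))) 8388607)
    16777215 (Nat.beq t 23)

set_option maxRecDepth 100000 in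
theorem qrWord_eq : ∀ t : ZMod 23, ∀ p : GolayPt, qrWord t p = wordOf (gen t.val) p := by
  decide +kernel

theorem one_eq : (1 : GolayPt → ZMod 2) = wordOf (gen 23) := by
  funext p
  have : gen 23 = 16777215 := rfl
  have h := ofMask_full
  have hp : p ∈ ofMask 16777215 := by rw [h]; exact Finset.mem_univ p
  rw [mem_ofMask] at hp
  simp [wordOf, this, hp]

theorem wordOf_gen_mem {t : ℕ} (h : t < 24) : wordOf (gen t) ∈ golayCode := by
  apply Submodule.subset_span
  rcases Nat.lt_succ_iff_lt_or_eq.mp h with h' | h'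
  · left
    refine ⟨(t : ZMod 23), ?_⟩
    funext p
    rw [qrWord_eq, ZMod.val_natCast, Nat.mod_eq_of_lt h']
  · right
    rw [h', ← one_eq]; rfl

def basTab : ℕ := 442260735586854603400310301966068718139105568065225220732275176312862510561626593644545

def selTab : ℕ := 248708261114000334799816073535957432990524930417279402089624457810907188517515510679209

def bas (j : ℕ) : ℕ := Nat.land (Nat.shiftRight basTab (Nat.mul 24 j)) 16777215

def sel (j : ℕ) : ℕ := Nat.land (Nat.shiftRight selTab (Nat.mul 24 j)) 16777215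

def enc (n : ℕ) : ℕ := xorSel bas 12 n

theorem bas_lt (j : ℕ) : bas j < 2 ^ 24 :=
  lt_of_le_of_lt (Nat.and_le_right (n := Nat.shiftRight basTab (Nat.mul 24 j)) (m := 16777215)) (by norm_num)

theorem enc_lt (n : ℕ) : enc n < 2 ^ 24 := xorSel_lt _ _ _ bas_lt

theorem bas_check : allBelow (fun j => Nat.beq (bas j) (xorSel gen 24 (sel j))) 12 = true := by
  decide +kernel

theorem gen_check : allBelow (fun t => Nat.beq (enc (gen t)) (gen t)) 24 = true := by
  decide +kernel

theorem wordOf_xorSel_gen_mem (n : ℕ) : wordOf (xorSel gen 24 n) ∈ golayCode := by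
  rw [wordOf_xorSel _ _ _ le_rfl]
  apply Submodule.sum_mem
  intro j hj
  exact Submodule.smul_mem _ _ (wordOf_gen_mem (Finset.mem_range.mp hj))

theorem wordOf_bas_mem {j : ℕ} (h : j < 12) : wordOf (bas j) ∈ golayCode := by
  have := Nat.eq_of_beq_eq_true ((allBelow_iff _ _).mp bas_check j h)
  rw [this]
  exact wordOf_xorSel_gen_mem _

theorem wordOf_enc_mem (n : ℕ) : wordOf (enc n) ∈ golayCode := by
  unfold enc
  rw [wordOf_xorSel _ _ _ (by norm_num)]
  apply Submodule.sum_mem
  intro j hj
  exact Submodule.smul_mem _ _ (wordOf_bas_mem (Finset.mem_range.mp hj))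

/-- the systematic encoder as a linear map -/
noncomputable def encL : (GolayPt → ZMod 2) →ₗ[ZMod 2] (GolayPt → ZMod 2) :=
  ∑ j ∈ Finset.range 12, (LinearMap.proj (pt j)).smulRight (wordOf (bas j))

theorem encL_wordOf (n : ℕ) : encL (wordOf n) = wordOf (enc n) := by
  unfold enc encL
  rw [wordOf_xorSel _ _ _ (by norm_num)]
  simp [LinearMap.sum_apply]

theorem golayCode_le : golayCode ≤ LinearMap.eqLocus encL LinearMap.id := by
  apply Submodule.span_le.mpr
  have key : ∀ t < 24, wordOf (gen t) ∈ LinearMap.eqLocus encL LinearMap.id := by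
    intro t ht
    rw [LinearMap.mem_eqLocus, encL_wordOf,
      Nat.eq_of_beq_eq_true ((allBelow_iff _ _).mp gen_check t ht)]
    rfl
  rintro w (⟨t, rfl⟩ | hw)
  · have : qrWord t = wordOf (gen t.val) := funext (qrWord_eq t)
    rw [this]
    exact key _ (Nat.lt_succ_of_lt (ZMod.val_lt t))
  · rw [Set.mem_singleton_iff.mp hw, one_eq]
    exact key 23 (by norm_num)

theorem wordOf_mem_iff {n : ℕ} (h : n < 2 ^ 24) : wordOf n ∈ golayCode ↔ enc n = n := by
  constructor
  · intro hw
    have := golayCode_le hw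
    rw [LinearMap.mem_eqLocus, encL_wordOf] at this
    exact (wordOf_inj (enc_lt n) h).mp this
  · intro hw
    rw [← hw]; exact wordOf_enc_mem n

def isCode (n : ℕ) : Bool := Nat.beq (enc n) n

theorem isCode_iff {n : ℕ} : isCode n = true ↔ enc n = n :=
  ⟨Nat.eq_of_beq_eq_true, fun h => by unfold isCode; rw [h]; exact Nat.beq_refl n⟩

/-- the code as a family of subsets -/
abbrev CC : Set (Finset GolayPt) := supports (golayCode : Set (GolayPt → ZMod 2))

theorem mem_CC_iff (s : Finset GolayPt) : s ∈ CC ↔ enc (toMask s) = toMask s := by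
  rw [← wordOf_mem_iff (toMask_lt s)]
  constructor
  · rintro ⟨w, hw, rfl⟩
    rw [wordOf_support₂]; exact hw
  · intro h
    exact ⟨_, h, by rw [support₂_wordOf, ofMask_toMask]⟩

theorem ofMask_mem_CC_iff {n : ℕ} (h : n < 2 ^ 24) : ofMask n ∈ CC ↔ enc n = n := by
  rw [mem_CC_iff, toMask_ofMask h]

theorem enc_mod (n : ℕ) : enc (n % 4096) = enc n := by
  apply xorSel_congr
  intro j hj
  rw [show (4096 : ℕ) = 2 ^ 12 from rfl, Nat.testBit_mod_two_pow]
  simp [hj]

set_option maxRecDepth 100000 in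
theorem enc_low_check : allBelow (fun i => Nat.beq (Nat.land (enc i) 4095) i) 4096 = true := by
  decide +kernel

theorem enc_low {i : ℕ} (h : i < 4096) : enc i % 4096 = i := by
  have h1 : Nat.land (enc i) 4095 = i := Nat.eq_of_beq_eq_true ((allBelow_iff _ _).mp enc_low_check i h)
  have h2 : Nat.land (enc i) 4095 = enc i % 4096 := Nat.and_two_pow_sub_one_eq_mod (enc i) 12
  rw [← h2, h1]

theorem enc_enc (n : ℕ) : enc (enc n) = enc n := by
  have h3 : enc (n % 4096) % 4096 = n % 4096 := enc_low (Nat.mod_lt _ (by norm_num))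
  calc enc (enc n) = enc (enc n % 4096) := (enc_mod _).symm
    _ = enc (enc (n % 4096) % 4096) := by rw [enc_mod n]
    _ = enc (n % 4096) := by rw [h3]
    _ = enc n := enc_mod n

theorem enc_injOn {i j : ℕ} (hi : i < 4096) (hj : j < 4096) (h : enc i = enc j) : i = j := by
  rw [← enc_low hi, ← enc_low hj, h]

theorem ofMask_enc_mem (i : ℕ) : ofMask (enc i) ∈ CC :=
  (ofMask_mem_CC_iff (enc_lt i)).mpr (enc_enc i)

theorem exists_of_mem_CC {s : Finset GolayPt} (h : s ∈ CC) : ∃ i < 4096, s = ofMask (enc i) := by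
  refine ⟨toMask s % 4096, Nat.mod_lt _ (by norm_num), ?_⟩
  rw [enc_mod, (mem_CC_iff s).mp h, ofMask_toMask]

theorem forall_CC {P : Finset GolayPt → Prop} : (∀ s ∈ CC, P s) ↔ ∀ i < 4096, P (ofMask (enc i)) := by
  constructor
  · intro h i _; exact h _ (ofMask_enc_mem i)
  · intro h s hs
    obtain ⟨i, hi, rfl⟩ := exists_of_mem_CC hs
    exact h i hi

/-- counting codewords with a computable property of the mask -/
theorem ncard_CC_filter (p : ℕ → Bool) :
    {s : Finset GolayPt | s ∈ CC ∧ p (toMask s) = true}.ncard = countBelow (fun i => p (enc i)) 4096 := by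
  rw [countBelow_eq]
  have : {s : Finset GolayPt | s ∈ CC ∧ p (toMask s) = true} =
      ↑(((Finset.range 4096).filter (fun i => p (enc i) = true)).image (fun i => ofMask (enc i))) := by
    ext s
    simp only [Set.mem_ofPred_eq, Finset.coe_image, Finset.coe_filter, Finset.mem_range, Set.mem_image]
    constructor
    · rintro ⟨hs, hp⟩
      obtain ⟨i, hi, rfl⟩ := exists_of_mem_CC hs
      rw [toMask_ofMask (enc_lt i)] at hp
      exact ⟨i, ⟨hi, hp⟩, rfl⟩
    · rintro ⟨i, ⟨_, hp⟩, rfl⟩
      exact ⟨ofMask_enc_mem i, by rw [toMask_ofMask (enc_lt i)]; exact hp⟩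
  rw [this, Set.ncard_coe_finset, Finset.card_image_of_injOn]
  intro i hi j hj h
  simp only [Finset.coe_filter, Finset.mem_range, Set.mem_ofPred_eq] at hi hj
  exact enc_injOn hi.1 hj.1 ((ofMask_inj (enc_lt i) (enc_lt j)).mp h)

theorem wordsOfWeight_eq (k : ℕ) :
    wordsOfWeight (golayCode : Set (GolayPt → ZMod 2)) k =
      {s : Finset GolayPt | s ∈ CC ∧ Nat.beq (pop (toMask s)) k = true} := by
  ext s
  simp only [wordsOfWeight, Set.mem_ofPred_eq, card_eq_pop s]
  constructor
  · rintro ⟨h1, h2⟩; exact ⟨h1, by rw [h2]; exact Nat.beq_refl k⟩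
  · rintro ⟨h1, h2⟩; exact ⟨h1, Nat.eq_of_beq_eq_true h2⟩

theorem ncard_wordsOfWeight (k : ℕ) :
    (wordsOfWeight (golayCode : Set (GolayPt → ZMod 2)) k).ncard =
      countBelow (fun i => Nat.beq (pop (enc i)) k) 4096 := by
  rw [wordsOfWeight_eq, ncard_CC_filter (fun m => Nat.beq (pop m) k)]

theorem countBelow_true (n : ℕ) : countBelow (fun _ => true) n = n := by
  rw [countBelow_eq]; simp

theorem ncard_CC : CC.ncard = 4096 := by
  have := ncard_CC_filter (fun _ => true)
  rw [countBelow_true] at this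
  simpa using this

theorem natCard_golayCode : Nat.card golayCode = 4096 := by
  have h : CC.ncard = (golayCode : Set (GolayPt → ZMod 2)).ncard :=
    Set.ncard_image_of_injective _ support₂_injective
  rw [ncard_CC] at h
  rw [h]
  exact (Nat.card_coe_set_eq _)

theorem hammingNorm_eq (w : GolayPt → ZMod 2) : hammingNorm w = (support₂ w).card := rfl

theorem golayCode_le_of_gens (K : Submodule (ZMod 2) (GolayPt → ZMod 2))
    (h : ∀ t < 24, wordOf (gen t) ∈ K) : golayCode ≤ K := by
  apply Submodule.span_le.mpr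
  rintro w (⟨t, rfl⟩ | hw)
  · have : qrWord t = wordOf (gen t.val) := funext (qrWord_eq t)
    rw [this]
    exact h _ (Nat.lt_succ_of_lt (ZMod.val_lt t))
  · rw [Set.mem_singleton_iff.mp hw, one_eq]
    exact h 23 (by norm_num)

theorem gen_lt (t : ℕ) : gen t < 2 ^ 24 := by
  unfold gen
  cases Nat.beq t 23 with
  | true => show 16777215 < 2 ^ 24; norm_num
  | false =>
    show Nat.land _ 8388607 < 2 ^ 24
    exact lt_of_le_of_lt Nat.and_le_right (by norm_num)

theorem sum_wordOf (n : ℕ) : ∑ i, wordOf n i = ((ofMask n).card : ZMod 2) := by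
  unfold wordOf ofMask
  rw [Finset.sum_boole]

theorem wordOf_mul (a b : ℕ) (i : GolayPt) : wordOf a i * wordOf b i = wordOf (a &&& b) i := by
  simp only [wordOf, Nat.testBit_and]
  cases a.testBit (idx i) <;> cases b.testBit (idx i) <;> simp

theorem dot_wordOf {a : ℕ} (b : ℕ) (ha : a < 2 ^ 24) :
    ∑ i, wordOf a i * wordOf b i = (pop (Nat.land a b) : ZMod 2) := by
  simp only [wordOf_mul]
  rw [sum_wordOf]
  show _ = ((pop (a &&& b) : ℕ) : ZMod 2)
  rw [pop_eq (and_lt_two_pow24 b ha)]

/-- dot product with a fixed word -/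
def dotL (w : GolayPt → ZMod 2) : (GolayPt → ZMod 2) →ₗ[ZMod 2] ZMod 2 where
  toFun v := ∑ i, v i * w i
  map_add' := by
    intro x y
    simp only [Pi.add_apply, add_mul, Finset.sum_add_distrib]
  map_smul' := by
    intro m x
    simp only [Pi.smul_apply, smul_eq_mul, RingHom.id_apply, Finset.mul_sum, mul_assoc]

theorem gen_orth_check : allBelow (fun s => allBelow (fun t =>
    Nat.beq (Nat.land (pop (Nat.land (gen s) (gen t))) 1) 0) 24) 24 = true := by decide +kernel

theorem golay_orth (v w : GolayPt → ZMod 2) (hv : v ∈ golayCode) (hw : w ∈ golayCode) :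
    ∑ i, v i * w i = 0 := by
  have h1 : ∀ s < 24, ∀ t < 24, dotL (wordOf (gen t)) (wordOf (gen s)) = 0 := by
    intro s hs t ht
    show ∑ i, wordOf (gen s) i * wordOf (gen t) i = 0
    rw [dot_wordOf _ (gen_lt s)]
    have := Nat.eq_of_beq_eq_true ((allBelow_iff _ _).mp ((allBelow_iff _ _).mp gen_orth_check s hs) t ht)
    have h2 : pop (Nat.land (gen s) (gen t)) % 2 = 0 := by
      rw [← this]; exact (Nat.and_one_is_mod _).symm
    exact (ZMod.natCast_eq_zero_iff _ 2).mpr (Nat.dvd_of_mod_eq_zero h2)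
  have h2 : ∀ t < 24, ∀ v ∈ golayCode, dotL (wordOf (gen t)) v = 0 := by
    intro t ht v hv
    exact golayCode_le_of_gens (LinearMap.ker (dotL (wordOf (gen t)))) (fun s hs => h1 s hs t ht) hv
  have h3 : ∀ t < 24, wordOf (gen t) ∈ LinearMap.ker (dotL v) := by
    intro t ht
    rw [LinearMap.mem_ker]
    have := h2 t ht v hv
    show ∑ i, wordOf (gen t) i * v i = 0
    rw [← this]
    show _ = ∑ i, v i * wordOf (gen t) i
    exact Finset.sum_congr rfl (fun i _ => mul_comm _ _)
  have h4 := golayCode_le_of_gens _ h3 hw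
  rw [LinearMap.mem_ker] at h4
  rw [← h4]
  show _ = ∑ i, w i * v i
  exact Finset.sum_congr rfl (fun i _ => mul_comm _ _)

end Cfsg.Agent.H9
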