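import Cfsg.Agent.Lib_H9_Steiner

set_option autoImplicit false

namespace Cfsg.Agent.H9

open Cfsg
open scoped Pointwise

def bit (n i : ℕ) : Bool := Nat.beq (Nat.land (Nat.shiftRight n i) 1) 1

theorem bit_eq (n i : ℕ) : bit n i = n.testBit i := by
  unfold bit
  rw [land_shiftRight_one]
  cases n.testBit i <;> rfl

/-- `t` fixes every point of the mask `F` -/
def fixesMask (t F : ℕ) : Bool :=
  allBelow (fun i => Bool.rec (motive := fun _ => Bool) true (Nat.beq (app t i) i) (bit F i)) 24

theorem fixesMask_spec {t F : ℕ} (ht : isPerm t = true) (h : fixesMask t F = true) :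
    ∀ p ∈ ofMask F, permOf t p = p := by
  intro p hp
  have := (allBelow_iff _ _).mp h (idx p) (idx_lt p)
  rw [bit_eq, mem_ofMask.mp hp] at this
  have h2 : app t (idx p) = idx p := Nat.eq_of_beq_eq_true this
  rw [permOf_apply ht, h2, pt_idx]

def entry (T c : ℕ) : ℕ := Nat.land (Nat.shiftRight T (Nat.mul 120 c)) 1329227995784915872903807060280344575

def levelCheck (T F b O : ℕ) : Bool :=
  allBelow (fun c => Bool.rec (motive := fun _ => Bool) true
    (inM24 (entry T c) && fixesMask (entry T c) F && Nat.beq (app (entry T c) b) c) (bit O c)) 24

/-- the subgroup of the group of the code fixing every point of a mask -/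
def FixM (F : ℕ) : Subgroup (Equiv.Perm GolayPt) :=
  M24 ⊓ fixingSubgroup (Equiv.Perm GolayPt) (ofMask F : Set GolayPt)

theorem mem_FixM {F : ℕ} {g : Equiv.Perm GolayPt} : g ∈ FixM F ↔ g ∈ M24 ∧ ∀ p ∈ ofMask F, g p = p := by
  unfold FixM
  rw [Subgroup.mem_inf, mem_fixingSubgroup_iff]
  simp

theorem levelCheck_spec {T F b O : ℕ} (hb : b < 24) (h : levelCheck T F b O = true) {c : ℕ} (hc : c < 24)
    (hO : O.testBit c = true) : ∃ g ∈ FixM F, g (pt b) = pt c := by
  have := (allBelow_iff _ _).mp h c hc
  rw [bit_eq, hO] at this
  have h' : (inM24 (entry T c) && fixesMask (entry T c) F && Nat.beq (app (entry T c) b) c) = true := this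
  simp only [Bool.and_eq_true] at h'
  obtain ⟨⟨h1, h2⟩, h3⟩ := h'
  have hp := inM24_isPerm h1
  refine ⟨permOf (entry T c), mem_FixM.mpr ⟨permOf_mem_M24 h1, fixesMask_spec hp h2⟩, ?_⟩
  rw [permOf_pt hp hb, Nat.eq_of_beq_eq_true h3]

/-! ### invariant sets -/

theorem smul_mem_octads {g : Equiv.Perm GolayPt} (hg : g ∈ M24) {o : Finset GolayPt} (ho : o ∈ octads) :
    g • o ∈ octads := ⟨smul_mem_CC hg ho.1, by rw [Finset.card_smul_finset]; exact ho.2⟩

theorem smul_mem_dodecads {g : Equiv.Perm GolayPt} (hg : g ∈ M24) {o : Finset GolayPt} (ho : o ∈ dodecads) :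
    g • o ∈ dodecads := ⟨smul_mem_CC hg ho.1, by rw [Finset.card_smul_finset]; exact ho.2⟩

theorem octad_inv {g : Equiv.Perm GolayPt} {F : ℕ} (hg : g ∈ FixM F) {o : Finset GolayPt} (ho : o ∈ octads)
    (h5 : 5 ≤ (o ∩ ofMask F).card) : g • o = o := by
  obtain ⟨h1, h2⟩ := mem_FixM.mp hg
  apply octad_unique (smul_mem_octads h1 ho) ho h5 _ Finset.inter_subset_left
  intro p hp
  rw [Finset.mem_inter] at hp
  rw [Finset.mem_smul_finset]
  exact ⟨p, hp.1, h2 p hp.2⟩

theorem apply_mem_of_smul_eq {g : Equiv.Perm GolayPt} {s : Finset GolayPt} (h : g • s = s) {p : GolayPt}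
    (hp : p ∈ s) : g p ∈ s := by
  rw [← h]
  exact Finset.smul_mem_smul_finset hp

theorem apply_mem_iff_of_smul_eq {g : Equiv.Perm GolayPt} {s : Finset GolayPt} (h : g • s = s) {p : GolayPt} :
    g p ∈ s ↔ p ∈ s := by
  constructor
  · intro hp
    rw [← h] at hp
    exact Finset.smul_mem_smul_finset_iff g |>.mp hp
  · exact apply_mem_of_smul_eq h

/-- if `g` stabilises `s` and fixes all of `s` but possibly `q`, it fixes `q` -/
theorem fixed_of_rest {g : Equiv.Perm GolayPt} {s : Finset GolayPt} (h : g • s = s) {q : GolayPt}
    (hq : q ∈ s) (hrest : ∀ p ∈ s, p ≠ q → g p = p) : g q = q := by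
  by_contra hne
  have h1 := apply_mem_of_smul_eq h hq
  have h2 := hrest _ h1 hne
  exact hne (g.injective h2)

def isOct (o : ℕ) : Bool := isCode o && Nat.beq (pop o) 8 && Nat.blt o 16777216

theorem isOct_spec {o : ℕ} (h : isOct o = true) : o < 2 ^ 24 ∧ ofMask o ∈ octads := by
  unfold isOct at h
  simp only [Bool.and_eq_true] at h
  obtain ⟨⟨h1, h2⟩, h3⟩ := h
  have hlt : o < 2 ^ 24 := Nat.blt_eq ▸ h3
  refine ⟨hlt, (ofMask_mem_CC_iff hlt).mpr (isCode_iff.mp h1), ?_⟩
  rw [← pop_eq hlt]; exact Nat.eq_of_beq_eq_true h2

/-- branching with a definitional barrier (keeps the kernel from evaluating stuck conditions) -/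
def bsel {α : Type} (c : Bool) (x y : α) : α := Bool.rec (motive := fun _ => α) y x c

theorem bsel_cases {α : Type} (b : Bool) (x y : α) (P : α → Prop) (hf : P y) (ht : b = true → P x) :
    P (bsel b x y) := by
  cases b with
  | false => exact hf
  | true => exact ht rfl

def propCond (F o1 o2 : ℕ) : Bool :=
  isOct o1 && isOct o2 && Nat.ble 5 (pop (Nat.land o1 F)) && Nat.ble 5 (pop (Nat.land o2 F)) &&
      Nat.ble (pop (Nat.land o1 o2)) (Nat.succ (pop (Nat.land (Nat.land o1 o2) F)))

def propStep2 (F o1 o2 : ℕ) : ℕ :=
  bsel (propCond F o1 o2) (Nat.lor F (Nat.land o1 o2)) F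

/-- one propagation step: two octads with five fixed points each, meeting in fixed points and one more -/
def propStep (F e : ℕ) : ℕ := propStep2 F (Nat.land e 16777215) (Nat.shiftRight e 24)

theorem FixM_propStep2 {F o1 o2 : ℕ} {g : Equiv.Perm GolayPt} (hg : g ∈ FixM F) : g ∈ FixM (propStep2 F o1 o2) := by
  unfold propStep2
  refine bsel_cases _ _ _ (fun m => g ∈ FixM m) hg (fun hc => ?_)
  · unfold propCond at hc
    simp only [Bool.and_eq_true] at hc
    obtain ⟨⟨⟨⟨h1, h2⟩, h3⟩, h4⟩, h5⟩ := hc
    obtain ⟨l1, m1⟩ := isOct_spec h1
    obtain ⟨l2, m2⟩ := isOct_spec h2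
    have h3' : 5 ≤ (ofMask o1 ∩ ofMask F).card := by
      rw [← ofMask_and, ← pop_eq (and_lt_two_pow24 F l1)]; exact Nat.le_of_ble_eq_true h3
    have h4' : 5 ≤ (ofMask o2 ∩ ofMask F).card := by
      rw [← ofMask_and, ← pop_eq (and_lt_two_pow24 F l2)]; exact Nat.le_of_ble_eq_true h4
    have i1 := octad_inv hg m1 h3'
    have i2 := octad_inv hg m2 h4'
    have lx : o1 &&& o2 < 2 ^ 24 := and_lt_two_pow24 o2 l1
    have h5' : (ofMask (o1 &&& o2)).card ≤ (ofMask (o1 &&& o2) ∩ ofMask F).card + 1 := by
      have h5n := Nat.le_of_ble_eq_true h5
      have e1 : pop (Nat.land o1 o2) = (ofMask (o1 &&& o2)).card := pop_eq lx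
      have e2 : pop (Nat.land (Nat.land o1 o2) F) = (ofMask (o1 &&& o2 &&& F)).card :=
        pop_eq (and_lt_two_pow24 F lx)
      rw [e1, e2, ofMask_and (o1 &&& o2) F, Nat.succ_eq_add_one] at h5n
      exact h5n
    have ix : g • ofMask (o1 &&& o2) = ofMask (o1 &&& o2) := by
      rw [ofMask_and, Finset.smul_finset_inter, i1, i2]
    obtain ⟨hgM, hgF⟩ := mem_FixM.mp hg
    rw [mem_FixM]
    refine ⟨hgM, ?_⟩
    intro p hp
    change p ∈ ofMask (F ||| (o1 &&& o2)) at hp
    rw [ofMask_or, Finset.mem_union] at hp
    rcases hp with hp | hp
    · exact hgF p hp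
    · by_cases hpF : p ∈ ofMask F
      · exact hgF p hpF
      · apply fixed_of_rest ix hp
        intro q hq hqp
        by_contra hne
        have hqF : q ∉ ofMask F := fun h => hne (hgF q h)
        -- two distinct points outside F
        have hsub : ofMask (o1 &&& o2) ∩ ofMask F ⊆ ((ofMask (o1 &&& o2)).erase p).erase q := by
          intro r hr
          rw [Finset.mem_inter] at hr
          rw [Finset.mem_erase, Finset.mem_erase]
          refine ⟨?_, ?_, hr.1⟩
          · rintro rfl; exact hqF hr.2
          · rintro rfl; exact hpF hr.2
        have hc1 := Finset.card_le_card hsub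
        rw [Finset.card_erase_of_mem (Finset.mem_erase.mpr ⟨hqp, hq⟩), Finset.card_erase_of_mem hp] at hc1
        have hpos : 2 ≤ (ofMask (o1 &&& o2)).card := by
          have : ({p, q} : Finset GolayPt) ⊆ ofMask (o1 &&& o2) := by
            intro r hr
            rw [Finset.mem_insert, Finset.mem_singleton] at hr
            rcases hr with rfl | rfl <;> assumption
          have h2 := Finset.card_le_card this
          rwa [Finset.card_pair (Ne.symm hqp)] at h2
        omega

theorem FixM_propStep {F e : ℕ} {g : Equiv.Perm GolayPt} (hg : g ∈ FixM F) : g ∈ FixM (propStep F e) :=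
  FixM_propStep2 hg

def propagate (C F k : ℕ) : ℕ :=
  Nat.rec (motive := fun _ => ℕ) F
    (fun i ih => propStep ih (Nat.land (Nat.shiftRight C (Nat.mul 48 i)) 281474976710655)) k

theorem FixM_propagate {C F : ℕ} (k : ℕ) {g : Equiv.Perm GolayPt} (hg : g ∈ FixM F) :
    g ∈ FixM (propagate C F k) := by
  induction k with
  | zero => exact hg
  | succ k ih => exact FixM_propStep ih

theorem FixM_full : FixM 16777215 = ⊥ := by
  rw [eq_bot_iff]
  intro g hg
  rw [Subgroup.mem_bot]
  exact Equiv.ext fun p => (mem_FixM.mp hg).2 p (by rw [ofMask_full]; exact Finset.mem_univ p)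

theorem FixM_eq_bot_of_propagate {C F k : ℕ} (h : propagate C F k = 16777215) : FixM F = ⊥ := by
  rw [eq_bot_iff, ← FixM_full, ← h]
  intro g hg
  exact FixM_propagate k hg

def cert191 : ℕ := 63106137802780169364848631761885101614002516507030164826992164642308536265366225722576328683954008533340138782148087444784041289771924221517310929252514774387415051171737880272116087753694489214901060356868123864642911833248293709692113080434735

theorem FixM_191 : FixM 191 = ⊥ :=
  FixM_eq_bot_of_propagate (C := cert191) (k := 17) (by decide +kernel)

/-! ### transversals -/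

def trTab0 : ℕ := 1250007413740052866962213500685190098417837507273157292036220222522094689644696902772081361261417575619647072542028597331916172647128391294335939039973250278867311598424433384567600106238687872882019281934787895223132080699843546176168380867497219005152101870180940272053201837297532830428725860139936950183155330524920675404704268986279536714987068565171930836613032856498512191212929147188947731256790396522656624068443826442403955521915902238315535510151459681081726036388136228321693402151796092589581289263832041623220875833400991198630749694906767327163404361330024693837668404620124417980192447554371015141491994564075559745775577201581482894909477789979611555248699962388635958776655182509912075813856735052807582536299366387590873199458288605734231504262186680997897742712001248697155771541246663430561022993051494735232525687851463640697075394650818316320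

def trTab1 : ℕ := 206484385491944929404344393916352513524065393754056457423506011119270903615787380015656114198640674183190015544135148312259804577140870767068801931175019890311082992555105894198740321974842704516950971462887757964423593388058757270530326731876247206436669750246918502453414266637992522378475702751817269745684846320614048661826885183663617271427228370754769412510070027874135995432406791110348069657448822547055551444253201281711457135391739832482037276089515399536121037698248046019491789876196006459626517303613197278936054676654400579256857495203842065578847727263461552271248208084172668175596129375706075363995141753162265568730036635363310521306732744788625679900215463703637100697175472847051597132810535787352748158823666889649352242694535275864472222466079914763223071473219088378600862553966946236202782068139272927106733146707380699326139728672507278917632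

def trTab2 : ℕ := 641252396677437083193703999796618119419423657372789946296137829777298079882856630947483949311409616901546766883748315487392156717385374519251177963152476096410287027662827806993878663457319604423571991705029409462682494626184005554125834253594826960014503815009282551610542352819918047987575097657686362072075477308541208567940034614117808561733134686654432168076159231658366051755179120633887322808089304116857857174728763876021563350419012632216538321280038323373553999319067897263657175753580195781687289354628328215790525899800077814824955384509443243792786899909630408700193406629741709071828620916963034212781332619926261645879996316919688666328442725712316593023188732177030666210121483689850538467618023183442254665625110565049347071301894260217602505729536329298837714707879889862628301205740059445532486264123511596776843676995775006280078235864299359698944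

def trTab3 : ℕ := 559561408412017197291401994945926399967522551346048924922644911706568571610922821179363305045977786770845898547241363700176378470871287750250388854837103768143474523644993328694761855727719539876500083700232186379364061976361508150734578559706199089919865999383907159686264226147273538211104290202180575601115486269596482802504589777284352862048656472844279838318874811848557126850449577365303816609354235442620316627105640427632182563858137567476341921963514763064750408358702714032654957530951003825925457645347834174532179830393998934243955571236655455709462864962548185238721090076369399382463439503195710823220191938396644748591577219527810117714202073445882499292871230044033354641328119083979213153226376882176265048914055878955695838650791033263615586327374662483696912078381033444082759324604402116118399703213143101978459143128180467793354882502040391516160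

def trTab4 : ℕ := 220014431100427246664830092017464294534595013887095661600640421417491671400542816663861780751151768500309470735554408104071813981820560736722382150876185831348065627819227299108772335070922062358953553867049271242414019252384476950201287315563112654304814976577454697555005412250232707262377325969896381812562965583593291033418699897075868213593543215916525364283162776432957641326892457052594674050896950596003388134833087529901332585444389822723111122206283540393325028862801557468537503094884442955227831149784176465088476402704462912670767667730102412017421383504983979999966821284265391814847222511262974059582845711829644634760864561129755067724841793771435519800719123811528986928527407373968010354286768474759224796254431663268443925349377384309181568086074289004061732865352784086017571669216599706696515089133806345774626261989641287494614789026128142008320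

def trTab5 : ℕ := 19396591238301021757361848296476782204535838203528461773306099067552391941099360456807730977903745543830871447535490593582871626388942698160315132963957551506061451244986808301454837889045073648464888037234185602210270848374454855542583239959215855676219412382009973731730919353954074822344575685563565180929421225630011886954558845923111751845755037894276968876540125782833980712258171672384658347109759950106757617863070779425005605458561790175720876790952165665406976

def trTab6 : ℕ := 153331435843498701864833756746590259651084759646119000266725946933949748225228974684786953795594974243526703928648737639738948877350490401017766908784189443742711805295805029547616385760329861696650232270707257880748369455867864485931288957482754379023286740730967103941329981116953585274298359858943713095391550631254355199187339563044964247312220703258562128993436657732995219363306733767499478516935496997455123687069158430187439128376706036376611796024472878381388089793948115944624454194340427572966671386405291886496792267018020889549827559202869748685944185485632672009831271394311133534702940099720436882920862549833888610010520674282819762282727765063940417604676820392816664541360773484218030126414073381563735799163722987633730000800463715906215898369247813808151588472418572631578455162044546115746740742616349700958212523524830242510208151128505034211328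

theorem level0 : levelCheck trTab0 0 0 16777215 = true := by decide +kernel

theorem level1 : levelCheck trTab1 1 1 16777214 = true := by decide +kernel

theorem level2 : levelCheck trTab2 3 2 16777212 = true := by decide +kernel

theorem level3 : levelCheck trTab3 7 3 16777208 = true := by decide +kernel

theorem level4 : levelCheck trTab4 15 4 16777200 = true := by decide +kernel

theorem level5 : levelCheck trTab5 31 7 5248 = true := by decide +kernel

theorem level6 : levelCheck trTab6 159 5 16771936 = true := by decide +kernel


/-! ### five-fold transitivity -/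

theorem trans_step {T F O k : ℕ} (hk : k < 5) (hlev : levelCheck T F k O = true)
    (hO : ∀ c < 24, k ≤ c → O.testBit c = true) (hF : ∀ i < k, F.testBit i = true)
    (x : Fin 5 ↪ GolayPt) :
    (∃ g ∈ M24, ∀ i : Fin 5, i.val < k → g (pt i) = x i) →
      ∃ g ∈ M24, ∀ i : Fin 5, i.val < k + 1 → g (pt i) = x i := by
  rintro ⟨g, hg, hgx⟩
  set a := g.symm (x ⟨k, hk⟩) with ha
  have hga : g a = x ⟨k, hk⟩ := by rw [ha]; simp
  have hc : k ≤ idx a := by
    by_contra hlt
    rw [not_le] at hlt
    have h1 := hgx ⟨idx a, by omega⟩ hlt
    simp only [pt_idx] at h1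
    rw [hga] at h1
    have := x.injective h1
    rw [Fin.mk.injEq] at this
    omega
  obtain ⟨h, hh, hha⟩ := levelCheck_spec (by omega) hlev (idx_lt a) (hO _ (idx_lt a) hc)
  obtain ⟨hhM, hhF⟩ := mem_FixM.mp hh
  refine ⟨g * h, M24.mul_mem hg hhM, ?_⟩
  intro i hi
  rw [Equiv.Perm.mul_apply]
  rcases Nat.lt_succ_iff_lt_or_eq.mp hi with h' | h'
  · rw [hhF (pt i) (by rw [mem_ofMask, idx_pt (by omega)]; exact hF _ h'), hgx i h']
  · have : i = ⟨k, hk⟩ := Fin.ext h'
    rw [h', hha, pt_idx, hga, this]

theorem exists_M24_map (x : Fin 5 ↪ GolayPt) : ∃ g ∈ M24, ∀ i : Fin 5, g (pt i) = x i := by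
  have h0 : ∃ g ∈ M24, ∀ i : Fin 5, i.val < 0 → g (pt i) = x i := ⟨1, M24.one_mem, fun i hi => by omega⟩
  have h1 := trans_step (by norm_num) level0 (by decide) (by decide) x h0
  have h2 := trans_step (by norm_num) level1 (by decide) (by decide) x h1
  have h3 := trans_step (by norm_num) level2 (by decide) (by decide) x h2
  have h4 := trans_step (by norm_num) level3 (by decide) (by decide) x h3
  obtain ⟨g, hg, h5⟩ := trans_step (by norm_num) level4 (by decide) (by decide) x h4
  exact ⟨g, hg, fun i => h5 i i.2⟩

theorem M24_five_transitive : MulAction.IsMultiplyPretransitive M24 GolayPt 5 := by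
  rw [MulAction.isMultiplyPretransitive_iff]
  intro x y
  obtain ⟨g, hg, hgx⟩ := exists_M24_map x
  obtain ⟨h, hh, hhy⟩ := exists_M24_map y
  refine ⟨⟨h * g⁻¹, M24.mul_mem hh (M24.inv_mem hg)⟩, ?_⟩
  ext i : 1
  rw [Function.Embedding.smul_apply]
  show (h * g⁻¹) (x i) = y i
  rw [Equiv.Perm.mul_apply, ← hgx i, ← hhy i]
  simp

/-! ### the order -/

theorem card_subgroupOf_of_le {G : Type*} [Group G] {H K : Subgroup G} (h : K ≤ H) :
    Nat.card (K.subgroupOf H) = Nat.card K :=
  Nat.card_congr (Subgroup.subgroupOfEquivOfLe h).toEquiv

theorem card_eq_orbit_mul (H K : Subgroup (Equiv.Perm GolayPt)) (a : GolayPt) (O : Finset GolayPt)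
    (hK : ∀ g, g ∈ K ↔ g ∈ H ∧ g a = a) (h1 : ∀ g ∈ H, g a ∈ O) (h2 : ∀ b ∈ O, ∃ g ∈ H, g a = b) :
    Nat.card H = O.card * Nat.card K := by
  have e1 : (MulAction.stabilizer H a).index * Nat.card (MulAction.stabilizer H a) = Nat.card H :=
    Subgroup.index_mul_card _
  have e2 : (MulAction.stabilizer H a).index = (MulAction.orbit H a).ncard := MulAction.index_stabilizer H a
  have e3 : MulAction.orbit H a = ↑O := by
    ext b
    rw [MulAction.mem_orbit_iff, Finset.mem_coe]
    constructor
    · rintro ⟨g, rfl⟩; exact h1 g.1 g.2
    · intro hb
      obtain ⟨g, hg, hga⟩ := h2 b hb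
      exact ⟨⟨g, hg⟩, hga⟩
  have hKH : K ≤ H := fun g hg => ((hK g).mp hg).1
  have e4 : MulAction.stabilizer H a = K.subgroupOf H := by
    ext g
    rw [MulAction.mem_stabilizer_iff, Subgroup.mem_subgroupOf, hK]
    constructor
    · intro h; exact ⟨g.2, h⟩
    · intro h; exact h.2
  rw [← e1, e2, e3, e4, card_subgroupOf_of_le hKH, Set.ncard_coe_finset]

theorem mem_FixM_or {F b : ℕ} (hb : b < 24) {g : Equiv.Perm GolayPt} :
    g ∈ FixM (F ||| 2 ^ b) ↔ g ∈ FixM F ∧ g (pt b) = pt b := by
  simp only [mem_FixM, ofMask_or, ofMask_two_pow hb, Finset.mem_union, Finset.mem_singleton]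
  constructor
  · rintro ⟨h1, h2⟩
    exact ⟨⟨h1, fun p hp => h2 p (Or.inl hp)⟩, h2 _ (Or.inr rfl)⟩
  · rintro ⟨⟨h1, h2⟩, h3⟩
    refine ⟨h1, ?_⟩
    rintro p (hp | rfl)
    · exact h2 p hp
    · exact h3

theorem FixM_apply_notMem {F : ℕ} {g : Equiv.Perm GolayPt} (hg : g ∈ FixM F) {p : GolayPt}
    (hp : p ∉ ofMask F) : g p ∉ ofMask F := by
  intro h
  have := (mem_FixM.mp hg).2 _ h
  exact hp (g.injective this ▸ h)

theorem oct5279 : isOct 5279 = true := by decide +kernel

theorem FixM31_inv {g : Equiv.Perm GolayPt} (hg : g ∈ FixM 31) : g • ofMask 5279 = ofMask 5279 := by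
  apply octad_inv hg (isOct_spec oct5279).2
  rw [← ofMask_and, ← pop_eq (by decide)]
  decide +kernel

theorem FixM_mono {F F' : ℕ} (h : ofMask F ⊆ ofMask F') : FixM F' ≤ FixM F := by
  intro g hg
  obtain ⟨h1, h2⟩ := mem_FixM.mp hg
  exact mem_FixM.mpr ⟨h1, fun p hp => h2 p (h hp)⟩

theorem card_FixM_159 : Nat.card (FixM 159) = 16 := by
  have h := card_eq_orbit_mul (FixM 159) (FixM 191) (pt 5) (ofMask 16771936)
    (fun g => mem_FixM_or (F := 159) (b := 5) (by norm_num)) ?_ ?_
  · rw [h, FixM_191, Subgroup.card_bot, ← pop_eq (by norm_num)]
    decide +kernel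
  · intro g hg
    have hg31 : g ∈ FixM 31 := FixM_mono (F := 31) (F' := 159)
      ((ofMask_subset_iff (by norm_num)).mpr (by decide)) hg
    have h1 : g (pt 5) ∉ ofMask 5279 := by
      rw [apply_mem_iff_of_smul_eq (FixM31_inv hg31), mem_ofMask, idx_pt (by norm_num)]
      decide
    have h2 : g (pt 5) ∈ ofMask (5279 ||| 16771936) := by
      have : (5279 ||| 16771936 : ℕ) = 16777215 := by decide
      rw [this, ofMask_full]; exact Finset.mem_univ _
    rw [ofMask_or, Finset.mem_union] at h2
    exact h2.resolve_left h1
  · intro b hb
    rw [← pt_idx b]
    exact levelCheck_spec (by norm_num) level6 (idx_lt b) (mem_ofMask.mp hb)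

theorem card_FixM_31 : Nat.card (FixM 31) = 48 := by
  have h := card_eq_orbit_mul (FixM 31) (FixM 159) (pt 7) (ofMask 5248)
    (fun g => mem_FixM_or (F := 31) (b := 7) (by norm_num)) ?_ ?_
  · rw [h, card_FixM_159, ← pop_eq (by norm_num)]
    decide +kernel
  · intro g hg
    have h1 : g (pt 7) ∈ ofMask 5279 := by
      rw [apply_mem_iff_of_smul_eq (FixM31_inv hg), mem_ofMask, idx_pt (by norm_num)]
      decide
    have h0 : g (pt 7) ∉ ofMask 31 := by
      apply FixM_apply_notMem hg
      rw [mem_ofMask, idx_pt (by norm_num)]
      decide
    have h2 : g (pt 7) ∈ ofMask (31 ||| 5248) := by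
      have : (31 ||| 5248 : ℕ) = 5279 := by decide
      rw [this]; exact h1
    rw [ofMask_or, Finset.mem_union] at h2
    exact h2.resolve_left h0
  · intro b hb
    rw [← pt_idx b]
    exact levelCheck_spec (by norm_num) level5 (idx_lt b) (mem_ofMask.mp hb)

theorem card_fixingSubgroup_M24 (s : Set GolayPt) :
    Nat.card (fixingSubgroup M24 s) = Nat.card (M24 ⊓ fixingSubgroup (Equiv.Perm GolayPt) s : Subgroup _) := by
  have : fixingSubgroup M24 s = (M24 ⊓ fixingSubgroup (Equiv.Perm GolayPt) s).subgroupOf M24 := by
    ext g
    rw [mem_fixingSubgroup_iff, Subgroup.mem_subgroupOf, Subgroup.mem_inf, mem_fixingSubgroup_iff]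
    constructor
    · intro h; exact ⟨g.2, h⟩
    · intro h; exact h.2
  rw [this, card_subgroupOf_of_le inf_le_left]

theorem card_M24 : Nat.card M24 = 244823040 := by
  have h1 := M24_five_transitive.index_of_fixingSubgroup_mul (s := (ofMask 31 : Set GolayPt))
    (by rw [Set.ncard_coe_finset, ← pop_eq (by norm_num)]; decide +kernel)
  have h2 : Nat.card (fixingSubgroup M24 (ofMask 31 : Set GolayPt)) = 48 := by
    rw [card_fixingSubgroup_M24]; exact card_FixM_31
  have h3 := Subgroup.index_mul_card (fixingSubgroup M24 (ofMask 31 : Set GolayPt))
  have h4 : Nat.card GolayPt = 24 := by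
    rw [Nat.card_eq_fintype_card]; rfl
  rw [h4] at h1
  rw [h2] at h3
  have h5 : (fixingSubgroup M24 (ofMask 31 : Set GolayPt)).index = 5100480 := by
    have : (24 - 5).factorial * 5100480 = (24 : ℕ).factorial := by decide +kernel
    rw [← this, mul_comm] at h1
    exact Nat.eq_of_mul_eq_mul_left (Nat.factorial_pos _) h1
  rw [← h3, h5]

end Cfsg.Agent.H9
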