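import Cfsg.Agent.Lib_H9_M24

set_option autoImplicit false

namespace Cfsg.Agent.H9

open Cfsg
open scoped Pointwise

theorem natCard_GolayPt : Nat.card GolayPt = 24 := by
  rw [Nat.card_eq_fintype_card]; rfl

theorem M24_trans_le {k : ℕ} (hk : k ≤ 5) : MulAction.IsMultiplyPretransitive M24 GolayPt k := by
  have := M24_five_transitive
  exact MulAction.isMultiplyPretransitive_of_le (n := 5) hk (by rw [natCard_GolayPt]; norm_num)

theorem M24_pretransitive : MulAction.IsPretransitive M24 GolayPt :=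
  MulAction.is_one_pretransitive_iff.mp (M24_trans_le (by norm_num))

/-- order of the pointwise stabiliser of at most five points -/
theorem card_fixing_mul {k : ℕ} (hk : k ≤ 5) (s : Set GolayPt) (hs : s.ncard = k) :
    Nat.card (fixingSubgroup M24 s) * (24 : ℕ).factorial = 244823040 * (24 - k).factorial := by
  have h1 := (M24_trans_le hk).index_of_fixingSubgroup_mul hs
  have h3 := Subgroup.index_mul_card (fixingSubgroup M24 s)
  rw [natCard_GolayPt] at h1
  rw [card_M24] at h3
  rw [← h1, ← h3]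
  ring

theorem exists_M24_of_emb {k : ℕ} (hk : k ≤ 5) (x y : Fin k ↪ GolayPt) :
    ∃ g ∈ M24, ∀ i, g (x i) = y i := by
  obtain ⟨g, hg⟩ := (MulAction.isMultiplyPretransitive_iff.mp (M24_trans_le hk)) x y
  refine ⟨g.1, g.2, fun i => ?_⟩
  rw [← hg]
  rfl

/-- the group of the code is transitive on octads -/
theorem M24_trans_octads {o o' : Finset GolayPt} (ho : o ∈ octads) (ho' : o' ∈ octads) :
    ∃ g ∈ M24, g • o = o' := by
  obtain ⟨s, hs, hs5⟩ := Finset.exists_subset_card_eq (s := o) (n := 5) (by rw [ho.2]; norm_num)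
  obtain ⟨s', hs', hs5'⟩ := Finset.exists_subset_card_eq (s := o') (n := 5) (by rw [ho'.2]; norm_num)
  let x : Fin 5 ↪ GolayPt := (s.equivFinOfCardEq hs5).symm.toEmbedding.trans (Function.Embedding.subtype _)
  let y : Fin 5 ↪ GolayPt := (s'.equivFinOfCardEq hs5').symm.toEmbedding.trans (Function.Embedding.subtype _)
  obtain ⟨g, hg, hgxy⟩ := exists_M24_of_emb le_rfl x y
  refine ⟨g, hg, ?_⟩
  apply octad_unique (smul_mem_octads hg ho) ho' (s := s') (by omega) _ hs'
  intro p hp
  rw [Finset.mem_smul_finset]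
  let i := s'.equivFinOfCardEq hs5' ⟨p, hp⟩
  refine ⟨x i, hs (Subtype.coe_prop _), ?_⟩
  show g (x i) = p
  rw [hgxy i]
  simp [y, i]

end Cfsg.Agent.H9
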