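import Cfsg.Prelude.Def_Sporadic_a

set_option autoImplicit false

namespace Cfsg.Agent.H9

open Cfsg

/-! ### bounded checks -/

def allBelow (p : ℕ → Bool) (n : ℕ) : Bool :=
  Nat.rec (motive := fun _ => Bool) true (fun i ih => Bool.rec (motive := fun _ => Bool) false ih (p i)) n

theorem allBelow_succ (p : ℕ → Bool) (n : ℕ) :
    allBelow p (n + 1) = Bool.rec (motive := fun _ => Bool) false (allBelow p n) (p n) := rfl

theorem allBelow_iff (p : ℕ → Bool) (n : ℕ) : allBelow p n = true ↔ ∀ i < n, p i = true := by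
  induction n with
  | zero => simp [allBelow]
  | succ n ih =>
    rw [allBelow_succ]
    cases h : p n with
    | false =>
      simp only [Bool.false_eq_true, false_iff, not_forall]
      exact ⟨n, Nat.lt_succ_self n, by simp [h]⟩
    | true =>
      show allBelow p n = true ↔ _
      rw [ih]
      constructor
      · intro H i hi
        rcases Nat.lt_succ_iff_lt_or_eq.mp hi with h' | h'
        · exact H i h'
        · rw [h']; exact h
      · intro H i hi
        exact H i (Nat.lt_succ_of_lt hi)

def countBelow (p : ℕ → Bool) (n : ℕ) : ℕ :=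
  Nat.rec (motive := fun _ => ℕ) 0 (fun i ih => Bool.rec (motive := fun _ => ℕ) ih (Nat.succ ih) (p i)) n

theorem countBelow_succ (p : ℕ → Bool) (n : ℕ) :
    countBelow p (n + 1) = Bool.rec (motive := fun _ => ℕ) (countBelow p n) (Nat.succ (countBelow p n)) (p n) := rfl

theorem countBelow_eq (p : ℕ → Bool) (n : ℕ) :
    countBelow p n = ((Finset.range n).filter (fun i => p i = true)).card := by
  induction n with
  | zero => simp [countBelow]
  | succ n ih =>
    rw [countBelow_succ, Finset.range_add_one, Finset.filter_insert]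
    cases h : p n with
    | false => simpa using ih
    | true =>
      simp only [if_true]
      rw [Finset.card_insert_of_notMem (by simp), ← ih]

/-! ### points -/

def idx : GolayPt → ℕ
  | none => 23
  | some x => x.val

def pt (i : ℕ) : GolayPt := if i < 23 then some (i : ZMod 23) else none

theorem idx_lt (p : GolayPt) : idx p < 24 := by
  cases p with
  | none => decide
  | some x => exact Nat.lt_succ_of_lt (ZMod.val_lt x)

theorem pt_idx (p : GolayPt) : pt (idx p) = p := by
  cases p with
  | none => rfl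
  | some x =>
    have h : x.val < 23 := ZMod.val_lt x
    simp [pt, idx, h]

theorem idx_pt {i : ℕ} (h : i < 24) : idx (pt i) = i := by
  unfold pt
  split_ifs with h'
  · simp [idx, ZMod.val_natCast, Nat.mod_eq_of_lt h']
  · simp only [idx]; omega

theorem idx_injective : Function.Injective idx := fun p q h => by
  rw [← pt_idx p, ← pt_idx q, h]

def idxEquiv : GolayPt ≃ Fin 24 where
  toFun p := ⟨idx p, idx_lt p⟩
  invFun i := pt i
  left_inv p := pt_idx p
  right_inv i := Fin.ext (idx_pt i.2)

theorem sum_pts {M : Type*} [AddCommMonoid M] (f : GolayPt → M) :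
    ∑ p, f p = ∑ i ∈ Finset.range 24, f (pt i) := by
  rw [← Fin.sum_univ_eq_sum_range (fun i => f (pt i)) 24]
  exact Fintype.sum_equiv idxEquiv _ _ (fun p => by simp [idxEquiv, pt_idx])

theorem forall_pts {P : GolayPt → Prop} : (∀ p, P p) ↔ ∀ i < 24, P (pt i) :=
  ⟨fun h i _ => h _, fun h p => by rw [← pt_idx p]; exact h _ (idx_lt p)⟩

/-! ### masks -/

def ofMask (n : ℕ) : Finset GolayPt := Finset.univ.filter (fun p => n.testBit (idx p) = true)

def toMask (s : Finset GolayPt) : ℕ := Nat.ofBits (n := 24) (fun i => decide (pt i ∈ s))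

@[simp] theorem mem_ofMask {n : ℕ} {p : GolayPt} : p ∈ ofMask n ↔ n.testBit (idx p) = true := by
  simp [ofMask]

theorem toMask_lt (s : Finset GolayPt) : toMask s < 2 ^ 24 := Nat.ofBits_lt_two_pow _

theorem testBit_toMask (s : Finset GolayPt) (p : GolayPt) :
    (toMask s).testBit (idx p) = decide (p ∈ s) := by
  unfold toMask
  rw [Nat.testBit_ofBits_lt _ _ (idx_lt p)]
  simp [pt_idx]

@[simp] theorem ofMask_toMask (s : Finset GolayPt) : ofMask (toMask s) = s := by
  ext p; simp [testBit_toMask]

theorem toMask_ofMask {n : ℕ} (h : n < 2 ^ 24) : toMask (ofMask n) = n := by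
  apply Nat.eq_of_testBit_eq
  intro i
  by_cases hi : i < 24
  · have := testBit_toMask (ofMask n) (pt i)
    rw [idx_pt hi] at this
    rw [this]
    by_cases hb : n.testBit i = true
    · simp [idx_pt hi, hb]
    · simp [idx_pt hi, hb]
  · have h1 : toMask (ofMask n) < 2 ^ i :=
      lt_of_lt_of_le (toMask_lt _) (Nat.pow_le_pow_right (by norm_num) (by omega))
    have h2 : n < 2 ^ i := lt_of_lt_of_le h (Nat.pow_le_pow_right (by norm_num) (by omega))
    rw [Nat.testBit_lt_two_pow h1, Nat.testBit_lt_two_pow h2]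

theorem toMask_injective : Function.Injective toMask := fun s t h => by
  rw [← ofMask_toMask s, ← ofMask_toMask t, h]

theorem ofMask_inj {a b : ℕ} (ha : a < 2 ^ 24) (hb : b < 2 ^ 24) : ofMask a = ofMask b ↔ a = b :=
  ⟨fun h => by rw [← toMask_ofMask ha, ← toMask_ofMask hb, h], fun h => by rw [h]⟩

theorem ofMask_xor (a b : ℕ) : ofMask (a ^^^ b) = symmDiff (ofMask a) (ofMask b) := by
  ext p
  simp only [mem_ofMask, Nat.testBit_xor, Finset.mem_symmDiff]
  cases a.testBit (idx p) <;> cases b.testBit (idx p) <;> simp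

theorem ofMask_and (a b : ℕ) : ofMask (a &&& b) = ofMask a ∩ ofMask b := by
  ext p
  simp [Nat.testBit_and]

theorem ofMask_or (a b : ℕ) : ofMask (a ||| b) = ofMask a ∪ ofMask b := by
  ext p
  simp [Nat.testBit_or]

theorem ofMask_zero : ofMask 0 = ∅ := by
  ext p; simp

theorem ofMask_full : ofMask 16777215 = Finset.univ := by
  ext p
  simp only [mem_ofMask, Finset.mem_univ, iff_true]
  have h : (16777215 : ℕ) = 2 ^ 24 - 1 := by norm_num
  rw [h, Nat.testBit_two_pow_sub_one]
  simpa using idx_lt p

theorem ofMask_two_pow {i : ℕ} (h : i < 24) : ofMask (2 ^ i) = {pt i} := by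
  ext p
  simp only [mem_ofMask, Nat.testBit_two_pow, Finset.mem_singleton, decide_eq_true_eq]
  constructor
  · intro h'; rw [h', pt_idx]
  · intro h'; rw [h', idx_pt h]

theorem and_lt_two_pow24 {a : ℕ} (b : ℕ) (ha : a < 2 ^ 24) : a &&& b < 2 ^ 24 :=
  lt_of_le_of_lt Nat.and_le_left ha

theorem ofMask_subset_iff {a b : ℕ} (ha : a < 2 ^ 24) : ofMask a ⊆ ofMask b ↔ a &&& b = a := by
  rw [← Finset.inter_eq_left, ← ofMask_and, ofMask_inj (and_lt_two_pow24 b ha) ha]

theorem ofMask_disjoint_iff {a b : ℕ} (ha : a < 2 ^ 24) : Disjoint (ofMask a) (ofMask b) ↔ a &&& b = 0 := by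
  rw [Finset.disjoint_iff_inter_eq_empty, ← ofMask_and, ← ofMask_zero,
    ofMask_inj (and_lt_two_pow24 b ha) (by norm_num)]

/-! ### popcount -/

def popN (k n : ℕ) : ℕ := ∑ i ∈ Finset.range k, (n.testBit i).toNat

theorem card_ofMask (n : ℕ) : (ofMask n).card = popN 24 n := by
  unfold ofMask popN
  rw [Finset.card_filter, sum_pts]
  apply Finset.sum_congr rfl
  intro i hi
  rw [idx_pt (Finset.mem_range.mp hi)]
  cases n.testBit i <;> simp

def popR (k n : ℕ) : ℕ :=
  Nat.rec (motive := fun _ => ℕ) 0 (fun i ih => Nat.add ih (Nat.land (Nat.shiftRight n i) 1)) k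

theorem land_shiftRight_one (n i : ℕ) : Nat.land (Nat.shiftRight n i) 1 = (n.testBit i).toNat := by
  show (n >>> i) &&& 1 = _
  rw [Nat.toNat_testBit, Nat.and_one_is_mod, Nat.shiftRight_eq_div_pow]

theorem popR_eq (k n : ℕ) : popR k n = popN k n := by
  induction k with
  | zero => rfl
  | succ k ih =>
    show Nat.add (popR k n) (Nat.land (Nat.shiftRight n k) 1) = _
    rw [ih, land_shiftRight_one, popN, popN, Finset.sum_range_succ]
    rfl

theorem popN_split (n : ℕ) : popN 24 n = popN 12 (n % 4096) + popN 12 (n / 4096) := by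
  unfold popN
  rw [show (24 : ℕ) = 12 + 12 from rfl, Finset.sum_range_add]
  congr 1
  · apply Finset.sum_congr rfl
    intro i hi
    have hi' : i < 12 := Finset.mem_range.mp hi
    rw [show (4096 : ℕ) = 2 ^ 12 from rfl, Nat.testBit_mod_two_pow]
    simp [hi']
  · apply Finset.sum_congr rfl
    intro i _
    rw [show (4096 : ℕ) = 2 ^ 12 from rfl, Nat.testBit_div_two_pow, Nat.add_comm]

end Cfsg.Agent.H9
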