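import Cfsg.Agent.Lib_H9_OctStab
import Cfsg.Agent.Lib_H9_Coatom

set_option autoImplicit false

namespace Cfsg.Agent.H9

open Cfsg
open scoped Pointwise

namespace Oct2

set_option maxRecDepth 100000 in
theorem cnt0 : countBelow (fun i => cntG 8 0 0 5279 0 (enc i)) 4096 = 30 := by decide +kernel
set_option maxRecDepth 100000 in
theorem cnt2 : countBelow (fun i => cntG 8 0 0 5279 2 (enc i)) 4096 = 448 := by decide +kernel
set_option maxRecDepth 100000 in
theorem cnt4 : countBelow (fun i => cntG 8 0 0 5279 4 (enc i)) 4096 = 280 := by decide +kernel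
set_option maxRecDepth 100000 in
theorem cnt8 : countBelow (fun i => cntG 8 0 0 5279 8 (enc i)) 4096 = 1 := by decide +kernel

set_option maxRecDepth 100000 in
theorem chk : allBelow (fun i => !(Nat.beq (pop (enc i)) 8) ||
    Nat.beq (pop (Nat.land 5279 (enc i))) 0 || Nat.beq (pop (Nat.land 5279 (enc i))) 2 ||
    Nat.beq (pop (Nat.land 5279 (enc i))) 4 || Nat.beq (pop (Nat.land 5279 (enc i))) 8) 4096 = true := by
  decide +kernel

theorem fam_iff (h : Equiv.Perm GolayPt) (s : Finset GolayPt) :
    (s ∈ CC ∧ (s.card = 8 ∧ h • ofMask 0 ⊆ s ∧ Disjoint (h • ofMask 0) s)) ↔ s ∈ octads := by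
  rw [smul_ofMask_zero, mem_octads_iff]
  simp only [Finset.disjoint_empty_left, Finset.empty_subset, and_true]

theorem std {s : Finset GolayPt} (hs : s ∈ octads) :
    (ofMask 5279 ∩ s).card = 0 ∨ (ofMask 5279 ∩ s).card = 2 ∨ (ofMask 5279 ∩ s).card = 4 ∨
      (ofMask 5279 ∩ s).card = 8 := by
  obtain ⟨i, hi, rfl⟩ := exists_of_mem_CC hs.1
  have h12 : pop (enc i) = 8 := by rw [pop_eq (enc_lt i)]; exact hs.2
  have := (allBelow_iff _ _).mp chk i hi
  rw [h12] at this
  rw [inter_card_mask (by norm_num), toMask_ofMask (enc_lt i)]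
  simp only [Bool.or_eq_true, Nat.beq_eq] at this
  rcases this with (((h | h) | h) | h) | h
  · exact absurd h (by decide)
  · exact Or.inl h
  · exact Or.inr (Or.inl h)
  · exact Or.inr (Or.inr (Or.inl h))
  · exact Or.inr (Or.inr (Or.inr h))

end Oct2

theorem octad_inter_cases {o s : Finset GolayPt} (ho : o ∈ octads) (hs : s ∈ octads) :
    (o ∩ s).card = 0 ∨ (o ∩ s).card = 2 ∨ (o ∩ s).card = 4 ∨ (o ∩ s).card = 8 := by
  obtain ⟨h, hh, rfl⟩ := M24_trans_octads (isOct_spec oct5279).2 ho
  have := Oct2.std (s := h⁻¹ • s) (smul_mem_octads (M24.inv_mem hh) hs)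
  rw [card_inter_inv_smul] at this
  exact this

theorem octad_inter_count {o : Finset GolayPt} (ho : o ∈ octads) :
    {s | s ∈ octads ∧ (o ∩ s).card = 0}.ncard = 30 ∧ {s | s ∈ octads ∧ (o ∩ s).card = 2}.ncard = 448 ∧
    {s | s ∈ octads ∧ (o ∩ s).card = 4}.ncard = 280 ∧ {s | s ∈ octads ∧ (o ∩ s).card = 8}.ncard = 1 := by
  obtain ⟨h, hh, rfl⟩ := M24_trans_octads (isOct_spec oct5279).2 ho
  refine ⟨?_, ?_, ?_, ?_⟩
  · exact (congrArg Set.ncard (Set.ext fun s =>
      ((and_congr_left' (Oct2.fam_iff h s).symm).trans and_assoc))).trans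
      (count_general (by norm_num) (by norm_num) (by norm_num) Oct2.cnt0 hh)
  · exact (congrArg Set.ncard (Set.ext fun s =>
      ((and_congr_left' (Oct2.fam_iff h s).symm).trans and_assoc))).trans
      (count_general (by norm_num) (by norm_num) (by norm_num) Oct2.cnt2 hh)
  · exact (congrArg Set.ncard (Set.ext fun s =>
      ((and_congr_left' (Oct2.fam_iff h s).symm).trans and_assoc))).trans
      (count_general (by norm_num) (by norm_num) (by norm_num) Oct2.cnt4 hh)
  · exact (congrArg Set.ncard (Set.ext fun s =>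
      ((and_congr_left' (Oct2.fam_iff h s).symm).trans and_assoc))).trans
      (count_general (by norm_num) (by norm_num) (by norm_num) Oct2.cnt8 hh)

/-- the orbit of an octad under the stabiliser of another one -/
theorem orbit_stab_octad {o s : Finset GolayPt} (ho : o ∈ octads) (hs : s ∈ octads) :
    MulAction.orbit (MulAction.stabilizer M24 o) s = {t | t ∈ octads ∧ (o ∩ t).card = (o ∩ s).card} := by
  ext t
  constructor
  · rintro ⟨g, rfl⟩
    have hg : (g.1 : Equiv.Perm GolayPt) • o = o := g.2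
    refine ⟨smul_mem_octads g.1.2 hs, ?_⟩
    have := card_smul_inter (g.1 : Equiv.Perm GolayPt) o s
    rw [hg] at this
    exact this
  · rintro ⟨ht, hc⟩
    obtain ⟨g, hg, hgo, hgs⟩ := octad_rank ho hs ht hc.symm
    exact ⟨⟨⟨g, hg⟩, hgo⟩, hgs⟩

theorem octad_stab_coatom {o : Finset GolayPt} (ho : o ∈ octads) : IsCoatom (MulAction.stabilizer M24 o) := by
  obtain ⟨c0, c2, c4, c8⟩ := octad_inter_count ho
  apply coatom_of_rank o (fun y => (o ∩ y).card) {8, 0, 4, 2}
    (fun j => if j = 8 then 1 else if j = 0 then 30 else if j = 4 then 280 else 448)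
  · intro y hy
    rw [orbit_octad ho] at hy
    rcases octad_inter_cases ho hy with h | h | h | h <;> simp [h]
  · intro j hj
    rw [orbit_octad ho]
    simp only [Finset.mem_insert, Finset.mem_singleton] at hj
    rcases hj with rfl | rfl | rfl | rfl
    · exact c8
    · exact c0
    · exact c4
    · exact c2
  · intro y hy h
    rw [orbit_octad ho] at hy
    simp only [Finset.inter_self] at h
    have h1 : o ∩ y = o := Finset.eq_of_subset_of_card_le Finset.inter_subset_left (by rw [h])
    have h2 : o ⊆ y := Finset.inter_eq_left.mp h1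
    exact (Finset.eq_of_subset_of_card_le h2 (by rw [ho.2, hy.2])).symm
  · intro y hy z hz h
    rw [orbit_octad ho] at hy hz
    obtain ⟨g, hg, hgo, hgs⟩ := octad_rank ho hy hz h
    exact ⟨⟨g, hg⟩, hgo, hgs⟩
  · have e8 : (o ∩ o).card = 8 := by rw [Finset.inter_self, ho.2]
    simp only [e8]
    decide
  · rw [orbit_octad ho]
    by_contra hcon
    push Not at hcon
    have : {s | s ∈ octads ∧ (o ∩ s).card = 0} = ∅ := by
      ext s
      simp only [Set.mem_ofPred_eq, Set.mem_empty_iff_false, iff_false, not_and]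
      intro hs
      rw [hcon s hs, Finset.inter_self, ho.2]
      norm_num
    rw [this] at c0
    simp at c0

end Cfsg.Agent.H9
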