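import Cfsg.Agent.Lib_H9_M24b

set_option autoImplicit false

namespace Cfsg.Agent.H9

open Cfsg
open scoped Pointwise

/-- elements of the group of the code fixing the points of `F` and stabilising each mask of `L` -/
def GS (F : ℕ) (L : List ℕ) : Subgroup (Equiv.Perm GolayPt) where
  carrier := {g | g ∈ M24 ∧ (∀ p ∈ ofMask F, g p = p) ∧ ∀ m ∈ L, g • ofMask m = ofMask m}
  one_mem' := ⟨M24.one_mem, fun _ _ => rfl, fun _ _ => one_smul _ _⟩
  mul_mem' := by
    rintro a b ⟨a1, a2, a3⟩ ⟨b1, b2, b3⟩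
    refine ⟨M24.mul_mem a1 b1, fun p hp => ?_, fun m hm => ?_⟩
    · rw [Equiv.Perm.mul_apply, b2 p hp, a2 p hp]
    · rw [mul_smul, b3 m hm, a3 m hm]
  inv_mem' := by
    rintro a ⟨a1, a2, a3⟩
    refine ⟨M24.inv_mem a1, fun p hp => ?_, fun m hm => ?_⟩
    · rw [Equiv.Perm.inv_eq_iff_eq, a2 p hp]
    · rw [inv_smul_eq_iff, a3 m hm]

theorem mem_GS {F : ℕ} {L : List ℕ} {g : Equiv.Perm GolayPt} :
    g ∈ GS F L ↔ g ∈ M24 ∧ (∀ p ∈ ofMask F, g p = p) ∧ ∀ m ∈ L, g • ofMask m = ofMask m := Iff.rfl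

def inGS (t F : ℕ) (L : List ℕ) : Bool :=
  inM24 t && fixesMask t F && L.all (fun m => Nat.beq (applyMask t m) m)

theorem inGS_isPerm {t F : ℕ} {L : List ℕ} (h : inGS t F L = true) : isPerm t = true := by
  unfold inGS at h
  simp only [Bool.and_eq_true] at h
  exact inM24_isPerm h.1.1

theorem permOf_mem_GS {t F : ℕ} {L : List ℕ} (h : inGS t F L = true) : permOf t ∈ GS F L := by
  have hp := inGS_isPerm h
  unfold inGS at h
  simp only [Bool.and_eq_true, List.all_eq_true] at h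
  obtain ⟨⟨h1, h2⟩, h3⟩ := h
  refine ⟨permOf_mem_M24 h1, fixesMask_spec hp h2, fun m hm => ?_⟩
  rw [smul_ofMask hp, Nat.eq_of_beq_eq_true (h3 m hm)]

def fld (T w m k : ℕ) : ℕ := Nat.land (Nat.shiftRight T (Nat.mul w k)) m

def gensCheck (gT ng F : ℕ) (L : List ℕ) : Bool := allBelow (fun j => inGS (entry gT j) F L) ng

/-- orbit certificate on masks: entry `k > 0` is the image of an earlier entry under a generator -/
def orbCheck (gT ng XT JT GT n : ℕ) : Bool :=
  allBelow (fun k => Nat.beq k 0 ||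
    (Nat.blt (fld JT 16 65535 k) k && Nat.blt (fld GT 4 15 k) ng &&
      Nat.beq (applyMask (entry gT (fld GT 4 15 k)) (fld XT 24 16777215 (fld JT 16 65535 k)))
        (fld XT 24 16777215 k))) n

theorem orbCheck_spec {gT ng XT JT GT n F : ℕ} {L : List ℕ} (hg : gensCheck gT ng F L = true)
    (h : orbCheck gT ng XT JT GT n = true) :
    ∀ k < n, ∃ g ∈ GS F L, g • ofMask (fld XT 24 16777215 0) = ofMask (fld XT 24 16777215 k) := by
  intro k
  induction k using Nat.strong_induction_on with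
  | _ k ih =>
    intro hk
    have := (allBelow_iff _ _).mp h k hk
    simp only [Bool.or_eq_true, Bool.and_eq_true] at this
    rcases this with h0 | ⟨⟨h1, h2⟩, h3⟩
    · rw [Nat.eq_of_beq_eq_true h0]
      exact ⟨1, (GS F L).one_mem, one_smul _ _⟩
    · have h1' : fld JT 16 65535 k < k := Nat.blt_eq ▸ h1
      have h2' : fld GT 4 15 k < ng := Nat.blt_eq ▸ h2
      obtain ⟨g, hgm, hgx⟩ := ih _ h1' (by omega)
      have hgen := (allBelow_iff _ _).mp hg _ h2'
      refine ⟨permOf (entry gT (fld GT 4 15 k)) * g, (GS F L).mul_mem (permOf_mem_GS hgen) hgm, ?_⟩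
      rw [mul_smul, hgx, smul_ofMask (inGS_isPerm hgen), Nat.eq_of_beq_eq_true h3]

theorem smul_singleton_pt (g : Equiv.Perm GolayPt) (p : GolayPt) : g • ({p} : Finset GolayPt) = {g p} := by
  rw [Finset.smul_finset_singleton]; rfl

/-- abstract step for multiple transitivity along a base -/
theorem chain_step (H : Subgroup (Equiv.Perm GolayPt)) (S : Finset GolayPt) (hS : ∀ g ∈ H, g • S = S)
    (b x : ℕ → GolayPt) (k : ℕ) (hx : ∀ i < k, x i ≠ x k) (hxS : x k ∈ S)
    (hstep : ∀ a ∈ S, (∀ i < k, a ≠ b i) → ∃ h ∈ H, (∀ i < k, h (b i) = b i) ∧ h (b k) = a) :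
    (∃ g ∈ H, ∀ i < k, g (b i) = x i) → ∃ g ∈ H, ∀ i < k + 1, g (b i) = x i := by
  rintro ⟨g, hg, hgx⟩
  set a := g.symm (x k) with ha
  have hga : g a = x k := by rw [ha]; simp
  have haS : a ∈ S := (apply_mem_iff_of_smul_eq (hS g hg)).mp (hga ▸ hxS)
  have hne : ∀ i < k, a ≠ b i := by
    intro i hi h
    apply hx i hi
    rw [← hgx i hi, ← h, hga]
  obtain ⟨h, hh, hfix, hha⟩ := hstep a haS hne
  refine ⟨g * h, H.mul_mem hg hh, ?_⟩
  intro i hi
  rw [Equiv.Perm.mul_apply]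
  rcases Nat.lt_succ_iff_lt_or_eq.mp hi with h' | h'
  · rw [hfix i h', hgx i h']
  · rw [h', hha, hga]

end Cfsg.Agent.H9
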