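import Cfsg.Agent.Lib_H9_Golay

set_option autoImplicit false

namespace Cfsg.Agent.H9

open Cfsg
open scoped Pointwise

/-! ### coded permutations of the 24 points -/

def app (t i : ℕ) : ℕ := Nat.land (Nat.shiftRight t (Nat.mul 5 i)) 31

def pinv (t : ℕ) : ℕ :=
  Nat.rec (motive := fun _ => ℕ) 0 (fun i ih => Nat.lor ih (Nat.shiftLeft i (Nat.mul 5 (app t i)))) 24

def isPermAux (t u : ℕ) : Bool :=
  allBelow (fun i => Nat.blt (app t i) 24 && Nat.beq (app u (app t i)) i &&
    Nat.blt (app u i) 24 && Nat.beq (app t (app u i)) i) 24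

def isPerm (t : ℕ) : Bool := isPermAux t (pinv t)

theorem isPerm_spec {t : ℕ} (h : isPerm t = true) {i : ℕ} (hi : i < 24) :
    app t i < 24 ∧ app (pinv t) (app t i) = i ∧ app (pinv t) i < 24 ∧ app t (app (pinv t) i) = i := by
  unfold isPerm isPermAux at h
  have := (allBelow_iff _ _).mp h i hi
  simp only [Bool.and_eq_true] at this
  obtain ⟨⟨⟨h1, h2⟩, h3⟩, h4⟩ := this
  exact ⟨Nat.blt_eq ▸ h1, Nat.eq_of_beq_eq_true h2, Nat.blt_eq ▸ h3, Nat.eq_of_beq_eq_true h4⟩

def permFun (t : ℕ) (p : GolayPt) : GolayPt := pt (app t (idx p))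

def permOf (t : ℕ) : Equiv.Perm GolayPt :=
  if h : isPerm t = true then
    { toFun := permFun t
      invFun := permFun (pinv t)
      left_inv := fun p => by
        obtain ⟨h1, h2, _, _⟩ := isPerm_spec h (idx_lt p)
        simp only [permFun, idx_pt h1, h2, pt_idx]
      right_inv := fun p => by
        obtain ⟨_, _, h3, h4⟩ := isPerm_spec h (idx_lt p)
        simp only [permFun, idx_pt h3, h4, pt_idx] }
  else 1

theorem permOf_apply {t : ℕ} (h : isPerm t = true) (p : GolayPt) : permOf t p = pt (app t (idx p)) := by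
  unfold permOf
  rw [dif_pos h]
  rfl

theorem permOf_pt {t : ℕ} (h : isPerm t = true) {i : ℕ} (hi : i < 24) : permOf t (pt i) = pt (app t i) := by
  rw [permOf_apply h, idx_pt hi]

theorem app_lt {t : ℕ} (h : isPerm t = true) {i : ℕ} (hi : i < 24) : app t i < 24 := (isPerm_spec h hi).1

def applyMask (t m : ℕ) : ℕ :=
  Nat.rec (motive := fun _ => ℕ) 0
    (fun i ih => Nat.lor ih (Nat.shiftLeft (Nat.land (Nat.shiftRight m i) 1) (app t i))) 24

def applyMaskK (t m k : ℕ) : ℕ :=
  Nat.rec (motive := fun _ => ℕ) 0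
    (fun i ih => Nat.lor ih (Nat.shiftLeft (Nat.land (Nat.shiftRight m i) 1) (app t i))) k

theorem testBit_applyMaskK (t m k j : ℕ) :
    (applyMaskK t m k).testBit j = true ↔ ∃ i < k, m.testBit i = true ∧ app t i = j := by
  induction k with
  | zero => simp [applyMaskK]
  | succ k ih =>
    have : applyMaskK t m (k + 1) = applyMaskK t m k ||| ((m.testBit k).toNat <<< app t k) := by
      show Nat.lor (applyMaskK t m k) (Nat.shiftLeft (Nat.land (Nat.shiftRight m k) 1) (app t k)) = _
      rw [land_shiftRight_one]; rfl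
    rw [this, Nat.testBit_or, Bool.or_eq_true, ih]
    constructor
    · rintro (⟨i, hi, h1, h2⟩ | h)
      · exact ⟨i, by omega, h1, h2⟩
      · refine ⟨k, by omega, ?_⟩
        cases hb : m.testBit k with
        | false => simp [hb] at h
        | true =>
          simp only [hb, Bool.toNat_true, Nat.one_shiftLeft, Nat.testBit_two_pow, decide_eq_true_eq] at h
          exact ⟨rfl, h⟩
    · rintro ⟨i, hi, h1, h2⟩
      rcases Nat.lt_succ_iff_lt_or_eq.mp hi with h' | h'
      · exact Or.inl ⟨i, h', h1, h2⟩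
      · right
        subst h'
        simp [h1, h2, Nat.one_shiftLeft]

theorem testBit_applyMask (t m j : ℕ) :
    (applyMask t m).testBit j = true ↔ ∃ i < 24, m.testBit i = true ∧ app t i = j :=
  testBit_applyMaskK t m 24 j

theorem applyMask_lt {t : ℕ} (h : isPerm t = true) (m : ℕ) : applyMask t m < 2 ^ 24 := by
  apply Nat.lt_pow_two_of_testBit
  intro j hj
  by_contra hc
  rw [Bool.not_eq_false] at hc
  obtain ⟨i, hi, _, h2⟩ := (testBit_applyMask t m j).mp hc
  have := app_lt h hi
  omega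

theorem smul_ofMask {t : ℕ} (h : isPerm t = true) (m : ℕ) :
    permOf t • ofMask m = ofMask (applyMask t m) := by
  ext q
  rw [Finset.mem_smul_finset, mem_ofMask, testBit_applyMask]
  constructor
  · rintro ⟨p, hp, rfl⟩
    refine ⟨idx p, idx_lt p, mem_ofMask.mp hp, ?_⟩
    rw [Equiv.Perm.smul_def, permOf_apply h, idx_pt (app_lt h (idx_lt p))]
  · rintro ⟨i, hi, h1, h2⟩
    refine ⟨pt i, by rw [mem_ofMask, idx_pt hi]; exact h1, ?_⟩
    rw [Equiv.Perm.smul_def, permOf_pt h hi, h2, pt_idx]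

/-! ### membership in the group of the code -/

theorem CC_finite : (CC : Set (Finset GolayPt)).Finite := Set.toFinite _

theorem mem_M24_iff (σ : Equiv.Perm GolayPt) : σ ∈ M24 ↔ ∀ s ∈ CC, σ • s ∈ CC :=
  MulAction.mem_stabilizer_set' CC_finite

theorem support₂_comp (σ : Equiv.Perm GolayPt) (w : GolayPt → ZMod 2) :
    support₂ (w ∘ σ.symm) = σ • support₂ w := by
  ext q
  rw [Finset.mem_smul_finset]
  simp only [support₂, Finset.mem_filter, Finset.mem_univ, true_and, Function.comp_apply]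
  constructor
  · intro hq
    exact ⟨σ.symm q, hq, by simp⟩
  · rintro ⟨p, hp, rfl⟩
    simpa using hp

theorem mem_M24_of_gens (σ : Equiv.Perm GolayPt) (h : ∀ j < 24, σ • ofMask (gen j) ∈ CC) : σ ∈ M24 := by
  rw [mem_M24_iff]
  have key : golayCode ≤ golayCode.comap (LinearMap.funLeft (ZMod 2) (ZMod 2) σ.symm) := by
    apply Submodule.span_le.mpr
    have key' : ∀ t < 24, wordOf (gen t) ∈ golayCode.comap (LinearMap.funLeft (ZMod 2) (ZMod 2) σ.symm) := by
      intro t ht
      rw [Submodule.mem_comap]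
      obtain ⟨w, hw, hw'⟩ := h t ht
      have : (LinearMap.funLeft (ZMod 2) (ZMod 2) σ.symm) (wordOf (gen t)) = w := by
        apply support₂_injective
        rw [hw']
        show support₂ (wordOf (gen t) ∘ σ.symm) = _
        rw [support₂_comp, support₂_wordOf]
      rw [this]; exact hw
    rintro w (⟨t, rfl⟩ | hw)
    · have : qrWord t = wordOf (gen t.val) := funext (qrWord_eq t)
      rw [this]
      exact key' _ (Nat.lt_succ_of_lt (ZMod.val_lt t))
    · rw [Set.mem_singleton_iff.mp hw, one_eq]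
      exact key' 23 (by norm_num)
  rintro s ⟨w, hw, rfl⟩
  refine ⟨w ∘ σ.symm, key hw, ?_⟩
  rw [support₂_comp]

def inM24 (t : ℕ) : Bool :=
  isPerm t && allBelow (fun j => isCode (applyMask t (gen j))) 24

theorem inM24_isPerm {t : ℕ} (h : inM24 t = true) : isPerm t = true := by
  unfold inM24 at h
  rw [Bool.and_eq_true] at h
  exact h.1

theorem permOf_mem_M24 {t : ℕ} (h : inM24 t = true) : permOf t ∈ M24 := by
  have h1 := inM24_isPerm h
  unfold inM24 at h
  rw [Bool.and_eq_true] at h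
  apply mem_M24_of_gens
  intro j hj
  rw [smul_ofMask h1, ofMask_mem_CC_iff (applyMask_lt h1 _)]
  exact isCode_iff.mp ((allBelow_iff _ _).mp h.2 j hj)

theorem smul_mem_CC {σ : Equiv.Perm GolayPt} (hσ : σ ∈ M24) {s : Finset GolayPt} (hs : s ∈ CC) :
    σ • s ∈ CC := (mem_M24_iff σ).mp hσ s hs

theorem eq_permOf {σ : Equiv.Perm GolayPt} {t : ℕ} (ht : isPerm t = true)
    (h : ∀ i < 24, σ (pt i) = pt (app t i)) : σ = permOf t := by
  ext p
  rw [← pt_idx p, h _ (idx_lt p), permOf_pt ht (idx_lt p)]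

end Cfsg.Agent.H9
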