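import Cfsg.Agent.Lib_H9_Card

set_option autoImplicit false

namespace Cfsg.Agent.H9

open Cfsg
open scoped Pointwise

/-! ### transport along a permutation -/

theorem ncard_transport (h : Equiv.Perm GolayPt) {P Q : Finset GolayPt → Prop}
    (hPQ : ∀ s, Q (h • s) ↔ P s) : {s | Q s}.ncard = {s | P s}.ncard := by
  have : {s | Q s} = (fun s => h • s) '' {s | P s} := by
    ext s
    constructor
    · intro hs
      exact ⟨h⁻¹ • s, (hPQ _).mp (by rw [smul_inv_smul]; exact hs), smul_inv_smul _ _⟩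
    · rintro ⟨t, ht, rfl⟩
      exact (hPQ t).mpr ht
  rw [this, Set.ncard_image_of_injective _ (MulAction.injective h)]

theorem smul_mem_CC_iff {h : Equiv.Perm GolayPt} (hh : h ∈ M24) {s : Finset GolayPt} :
    h • s ∈ CC ↔ s ∈ CC :=
  ⟨fun hs => by simpa using smul_mem_CC (M24.inv_mem hh) hs, smul_mem_CC hh⟩

theorem smul_mem_octads_iff {h : Equiv.Perm GolayPt} (hh : h ∈ M24) {s : Finset GolayPt} :
    h • s ∈ octads ↔ s ∈ octads :=
  ⟨fun hs => by simpa using smul_mem_octads (M24.inv_mem hh) hs, smul_mem_octads hh⟩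

theorem smul_mem_dodecads_iff {h : Equiv.Perm GolayPt} (hh : h ∈ M24) {s : Finset GolayPt} :
    h • s ∈ dodecads ↔ s ∈ dodecads :=
  ⟨fun hs => by simpa using smul_mem_dodecads (M24.inv_mem hh) hs, smul_mem_dodecads hh⟩

theorem card_smul_inter (h : Equiv.Perm GolayPt) (a b : Finset GolayPt) :
    (h • a ∩ h • b).card = (a ∩ b).card := by
  rw [← Finset.smul_finset_inter, Finset.card_smul_finset]

theorem apply_mem_smul_iff (h : Equiv.Perm GolayPt) (p : GolayPt) (s : Finset GolayPt) :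
    h p ∈ h • s ↔ p ∈ s := by
  have : h p = h • p := rfl
  rw [this, Finset.smul_mem_smul_finset_iff]

theorem conj_mem_M24 {h g : Equiv.Perm GolayPt} (hh : h ∈ M24) (hg : g ∈ M24) : h * g * h⁻¹ ∈ M24 :=
  M24.mul_mem (M24.mul_mem hh hg) (M24.inv_mem hh)

theorem conj_smul (h g : Equiv.Perm GolayPt) (s : Finset GolayPt) :
    (h * g * h⁻¹) • (h • s) = h • (g • s) := by
  rw [mul_smul, mul_smul, inv_smul_smul]

theorem conj_apply (h g : Equiv.Perm GolayPt) (p : GolayPt) : (h * g * h⁻¹) (h p) = h (g p) := by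
  simp

/-! ### masks -/

theorem inter_card_mask {a : ℕ} (ha : a < 2 ^ 24) (s : Finset GolayPt) :
    (ofMask a ∩ s).card = pop (Nat.land a (toMask s)) := by
  have h1 : ofMask a ∩ s = ofMask (a &&& toMask s) := by rw [ofMask_and, ofMask_toMask]
  rw [h1, ← pop_eq (and_lt_two_pow24 _ ha)]
  rfl

theorem mem_iff_bit {i : ℕ} (hi : i < 24) (s : Finset GolayPt) : pt i ∈ s ↔ bit (toMask s) i = true := by
  rw [bit_eq]
  have := testBit_toMask s (pt i)
  rw [idx_pt hi] at this
  rw [this, decide_eq_true_eq]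

theorem fld12_lt (T k : ℕ) : fld T 12 4095 k < 4096 :=
  Nat.lt_succ_of_le (Nat.and_le_right (n := Nat.shiftRight T (Nat.mul 12 k)) (m := 4095))

/-! ### orbit classes on code words -/

def clsCheck (cls : ℕ → ℕ) (gT ng RT OT JT GT : ℕ) : Bool :=
  allBelow (fun i =>
    Nat.beq (cls (enc i)) 0 || Nat.beq (fld RT 12 4095 (cls (enc i))) i ||
      (Nat.blt (fld OT 12 4095 (fld JT 12 4095 i)) (fld OT 12 4095 i) && Nat.blt (fld GT 4 15 i) ng &&
       Nat.beq (cls (enc (fld JT 12 4095 i))) (cls (enc i)) &&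
       Nat.beq (applyMask (entry gT (fld GT 4 15 i)) (enc (fld JT 12 4095 i))) (enc i))) 4096

theorem clsCheck_spec {cls : ℕ → ℕ} {gT ng RT OT JT GT F : ℕ} {L : List ℕ}
    (hg : gensCheck gT ng F L = true) (h : clsCheck cls gT ng RT OT JT GT = true) :
    ∀ i < 4096, cls (enc i) ≠ 0 →
      ∃ g ∈ GS F L, g • ofMask (enc (fld RT 12 4095 (cls (enc i)))) = ofMask (enc i) := by
  have key : ∀ n : ℕ, ∀ i < 4096, fld OT 12 4095 i = n → cls (enc i) ≠ 0 →
      ∃ g ∈ GS F L, g • ofMask (enc (fld RT 12 4095 (cls (enc i)))) = ofMask (enc i) := by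
    intro n
    induction n using Nat.strong_induction_on with
    | _ n ih =>
      intro i hi hn h0
      have := (allBelow_iff _ _).mp h i hi
      simp only [Bool.or_eq_true, Bool.and_eq_true] at this
      rcases this with (h1 | h1) | ⟨⟨⟨h1, h2⟩, h3⟩, h4⟩
      · exact absurd (Nat.eq_of_beq_eq_true h1) h0
      · rw [Nat.eq_of_beq_eq_true h1]
        exact ⟨1, (GS F L).one_mem, one_smul _ _⟩
      · have h1' : fld OT 12 4095 (fld JT 12 4095 i) < fld OT 12 4095 i := Nat.blt_eq ▸ h1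
        have h2' : fld GT 4 15 i < ng := Nat.blt_eq ▸ h2
        have h3' := Nat.eq_of_beq_eq_true h3
        obtain ⟨g, hgm, hgx⟩ := ih _ (hn ▸ h1') _ (fld12_lt JT i) rfl (by rw [h3']; exact h0)
        have hgen := (allBelow_iff _ _).mp hg _ h2'
        refine ⟨permOf (entry gT (fld GT 4 15 i)) * g, (GS F L).mul_mem (permOf_mem_GS hgen) hgm, ?_⟩
        rw [h3'] at hgx
        rw [mul_smul, hgx, smul_ofMask (inGS_isPerm hgen), Nat.eq_of_beq_eq_true h4]
  intro i hi h0
  exact key _ i hi rfl h0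

theorem cls_orbit {cls : ℕ → ℕ} {gT ng RT OT JT GT F : ℕ} {L : List ℕ}
    (hg : gensCheck gT ng F L = true) (h : clsCheck cls gT ng RT OT JT GT = true)
    {s t : Finset GolayPt} (hs : s ∈ CC) (ht : t ∈ CC) (h0 : cls (toMask s) ≠ 0)
    (he : cls (toMask s) = cls (toMask t)) : ∃ g ∈ GS F L, g • s = t := by
  obtain ⟨i, hi, rfl⟩ := exists_of_mem_CC hs
  obtain ⟨j, hj, rfl⟩ := exists_of_mem_CC ht
  rw [toMask_ofMask (enc_lt i)] at h0 he
  rw [toMask_ofMask (enc_lt j)] at he
  obtain ⟨a, ha, hax⟩ := clsCheck_spec hg h i hi h0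
  obtain ⟨b, hb, hbx⟩ := clsCheck_spec hg h j hj (he ▸ h0)
  refine ⟨b * a⁻¹, (GS F L).mul_mem hb ((GS F L).inv_mem ha), ?_⟩
  rw [mul_smul, ← hax, inv_smul_smul, he, hbx]

/-! ### base configurations -/

theorem extend_emb {k n : ℕ} (hkn : k ≤ n) (S : Finset GolayPt) (hS : n ≤ S.card) (x : Fin k ↪ GolayPt)
    (hx : ∀ i, x i ∈ S) :
    ∃ y : Fin n ↪ GolayPt, (∀ i, y i ∈ S) ∧ ∀ i : Fin k, y (Fin.castLE hkn i) = x i := by
  let x' : Fin k ↪ S := ⟨fun i => ⟨x i, hx i⟩, fun i j hij => x.injective (Subtype.ext_iff.mp hij)⟩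
  obtain ⟨y, hy⟩ := Fin.Embedding.restrictSurjective_of_le_natCard (α := S) hkn
    (by rw [Nat.card_eq_fintype_card, Fintype.card_coe]; exact hS) x'
  refine ⟨y.trans (Function.Embedding.subtype _), fun i => (y i).2, fun i => ?_⟩
  have := congrArg (fun f : Fin k ↪ S => (f i : GolayPt)) hy
  exact this

/-- the standard five points -/
def std5 : Fin 5 ↪ GolayPt := ⟨fun i => pt i.val, fun i j h => by
  have := congrArg idx h
  rw [idx_pt (by omega), idx_pt (by omega)] at this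
  exact Fin.ext this⟩

theorem std5_apply (i : Fin 5) : std5 i = pt i.val := rfl

theorem std5_mem (i : Fin 5) : std5 i ∈ ofMask 5279 := by
  rw [std5_apply, mem_ofMask, idx_pt (by omega)]
  revert i; decide

/-- an octad with `k ≤ 5` of its points, in order, is an image of the standard one -/
theorem octad_flag {k : ℕ} (hk : k ≤ 5) {o : Finset GolayPt} (ho : o ∈ octads) (x : Fin k ↪ GolayPt)
    (hx : ∀ i, x i ∈ o) :
    ∃ h ∈ M24, h • ofMask 5279 = o ∧ ∀ i : Fin k, h (pt i.val) = x i := by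
  obtain ⟨y, hy, hyx⟩ := extend_emb hk o (by rw [ho.2]; norm_num) x hx
  obtain ⟨h, hh, hxy⟩ := exists_M24_of_emb le_rfl std5 y
  refine ⟨h, hh, ?_, fun i => ?_⟩
  · apply octad_unique (smul_mem_octads hh (isOct_spec oct5279).2) ho (s := Finset.univ.map y)
    · rw [Finset.card_map, Finset.card_univ, Fintype.card_fin]
    · intro p hp
      obtain ⟨i, _, rfl⟩ := Finset.mem_map.mp hp
      rw [← hxy i]
      exact (apply_mem_smul_iff _ _ _).mpr (std5_mem i)
    · intro p hp
      obtain ⟨i, _, rfl⟩ := Finset.mem_map.mp hp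
      exact hy i
  · rw [← hyx i, ← hxy]
    rfl

/-! ### a general family of classes -/

/-- membership of the mask `X` in the family: weight `w`, containing `F`, avoiding `N` -/
def famG (w F N X : ℕ) : Bool :=
  Nat.beq (pop X) w && Nat.beq (Nat.land F X) F && Nat.beq (Nat.land N X) 0

def clsG (w F N B X : ℕ) : ℕ :=
  Bool.rec (motive := fun _ => ℕ) 0 (Nat.succ (pop (Nat.land B X))) (famG w F N X)

def cntG (w F N B k X : ℕ) : Bool := famG w F N X && Nat.beq (pop (Nat.land B X)) k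

theorem famG_iff {w F N : ℕ} (hF : F < 2 ^ 24) (hN : N < 2 ^ 24) (s : Finset GolayPt) :
    famG w F N (toMask s) = true ↔ s.card = w ∧ ofMask F ⊆ s ∧ Disjoint (ofMask N) s := by
  unfold famG
  rw [Bool.and_eq_true, Bool.and_eq_true, Nat.beq_eq, Nat.beq_eq, Nat.beq_eq, ← card_eq_pop, and_assoc]
  have h1 : ofMask F ⊆ s ↔ Nat.land F (toMask s) = F := by
    conv_lhs => rw [← ofMask_toMask s]
    exact ofMask_subset_iff hF
  have h2 : Disjoint (ofMask N) s ↔ Nat.land N (toMask s) = 0 := by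
    conv_lhs => rw [← ofMask_toMask s]
    exact ofMask_disjoint_iff hN
  rw [h1, h2]

theorem clsG_of {w F N B X : ℕ} (h : famG w F N X = true) : clsG w F N B X = pop (Nat.land B X) + 1 := by
  unfold clsG
  rw [h]

theorem card_inter_inv_smul (h : Equiv.Perm GolayPt) (a s : Finset GolayPt) :
    (a ∩ h⁻¹ • s).card = (h • a ∩ s).card := by
  have := card_smul_inter h a (h⁻¹ • s)
  rw [smul_inv_smul] at this
  exact this.symm

theorem subset_inv_smul (h : Equiv.Perm GolayPt) (a s : Finset GolayPt) : a ⊆ h⁻¹ • s ↔ h • a ⊆ s := by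
  rw [← Finset.smul_finset_subset_smul_finset_iff (a := h), smul_inv_smul]

theorem disjoint_inv_smul (h : Equiv.Perm GolayPt) (a s : Finset GolayPt) :
    Disjoint a (h⁻¹ • s) ↔ Disjoint (h • a) s := by
  rw [Finset.disjoint_iff_inter_eq_empty, Finset.disjoint_iff_inter_eq_empty, ← Finset.card_eq_zero,
    ← Finset.card_eq_zero, card_inter_inv_smul]

theorem rank_general {w Fix F N B gT ng RT OT JT GT : ℕ} (hF : F < 2 ^ 24) (hN : N < 2 ^ 24)
    (hB : B < 2 ^ 24) (hg : gensCheck gT ng Fix [B] = true)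
    (hc : clsCheck (clsG w F N B) gT ng RT OT JT GT = true)
    {h : Equiv.Perm GolayPt} (hh : h ∈ M24) {s t : Finset GolayPt} (hs : s ∈ CC) (ht : t ∈ CC)
    (hs' : s.card = w ∧ h • ofMask F ⊆ s ∧ Disjoint (h • ofMask N) s)
    (ht' : t.card = w ∧ h • ofMask F ⊆ t ∧ Disjoint (h • ofMask N) t)
    (hst : (h • ofMask B ∩ s).card = (h • ofMask B ∩ t).card) :
    ∃ g ∈ M24, (∀ p ∈ ofMask Fix, g (h p) = h p) ∧ g • (h • ofMask B) = h • ofMask B ∧ g • s = t := by
  have fs : famG w F N (toMask (h⁻¹ • s)) = true := by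
    rw [famG_iff hF hN, Finset.card_smul_finset, subset_inv_smul, disjoint_inv_smul]
    exact hs'
  have ft : famG w F N (toMask (h⁻¹ • t)) = true := by
    rw [famG_iff hF hN, Finset.card_smul_finset, subset_inv_smul, disjoint_inv_smul]
    exact ht'
  obtain ⟨g, hgm, hgs⟩ := cls_orbit hg hc (s := h⁻¹ • s) (t := h⁻¹ • t)
    (smul_mem_CC (M24.inv_mem hh) hs) (smul_mem_CC (M24.inv_mem hh) ht)
    (by rw [clsG_of fs]; omega)
    (by rw [clsG_of fs, clsG_of ft, ← inter_card_mask hB, ← inter_card_mask hB, card_inter_inv_smul,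
          card_inter_inv_smul, hst])
  refine ⟨h * g * h⁻¹, conj_mem_M24 hh hgm.1, fun p hp => ?_, ?_, ?_⟩
  · rw [conj_apply, hgm.2.1 p hp]
  · rw [conj_smul, hgm.2.2 B (List.mem_singleton.mpr rfl)]
  · have := conj_smul h g (h⁻¹ • s)
    rw [smul_inv_smul, hgs, smul_inv_smul] at this
    exact this

theorem count_general {w F N B k n : ℕ} (hF : F < 2 ^ 24) (hN : N < 2 ^ 24) (hB : B < 2 ^ 24)
    (hcount : countBelow (fun i => cntG w F N B k (enc i)) 4096 = n)
    {h : Equiv.Perm GolayPt} (hh : h ∈ M24) :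
    {s : Finset GolayPt | s ∈ CC ∧ (s.card = w ∧ h • ofMask F ⊆ s ∧ Disjoint (h • ofMask N) s) ∧
      (h • ofMask B ∩ s).card = k}.ncard = n := by
  rw [ncard_transport h (P := fun s => s ∈ CC ∧ cntG w F N B k (toMask s) = true), ncard_CC_filter, hcount]
  intro s
  unfold cntG
  rw [Bool.and_eq_true, famG_iff hF hN, Nat.beq_eq, ← inter_card_mask hB, smul_mem_CC_iff hh,
    Finset.card_smul_finset, Finset.smul_finset_subset_smul_finset_iff, card_smul_inter,
    Finset.disjoint_iff_inter_eq_empty, Finset.disjoint_iff_inter_eq_empty, ← Finset.card_eq_zero,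
    ← Finset.card_eq_zero, card_smul_inter]

theorem smul_ofMask_pt (h : Equiv.Perm GolayPt) {i : ℕ} (hi : i < 24) : h • ofMask (2 ^ i) = {h (pt i)} := by
  rw [ofMask_two_pow hi, smul_singleton_pt]

theorem smul_ofMask_zero (h : Equiv.Perm GolayPt) : h • ofMask 0 = ∅ := by
  rw [ofMask_zero, Finset.smul_finset_empty]

theorem smul_ofMask_pair (h : Equiv.Perm GolayPt) {i j : ℕ} (hi : i < 24) (hj : j < 24) :
    h • ofMask (2 ^ i ||| 2 ^ j) = {h (pt i), h (pt j)} := by
  rw [ofMask_or, Finset.smul_finset_union, smul_ofMask_pt h hi, smul_ofMask_pt h hj]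
  rfl

theorem pt_injective {i j : ℕ} (hi : i < 24) (hj : j < 24) (h : pt i = pt j) : i = j := by
  rw [← idx_pt hi, ← idx_pt hj, h]

theorem two_pts {a b : ℕ} (ha : a < 24) (hb : b < 24) (hab : a ≠ b) {p q : GolayPt} (hpq : p ≠ q) :
    ∃ h ∈ M24, h (pt a) = p ∧ h (pt b) = q := by
  let x : Fin 2 ↪ GolayPt := ⟨![pt a, pt b], by
    intro i j hij
    fin_cases i <;> fin_cases j <;> simp_all
    · exact hab (pt_injective ha hb hij)
    · exact hab (pt_injective ha hb hij.symm)⟩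
  let y : Fin 2 ↪ GolayPt := ⟨![p, q], by
    intro i j hij
    fin_cases i <;> fin_cases j <;> simp_all⟩
  obtain ⟨h, hh, hxy⟩ := exists_M24_of_emb (by norm_num) x y
  exact ⟨h, hh, hxy 0, hxy 1⟩

end Cfsg.Agent.H9
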