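import Cfsg.Agent.Lib_H9_Simple4

set_option autoImplicit false

namespace Cfsg.Agent.H9

open Cfsg
open scoped Pointwise

theorem SG_apply_mem {d P : Finset GolayPt} {g : Equiv.Perm GolayPt} (hg : g ∈ SG d P) {a : GolayPt}
    (ha : a ∈ d \ P) : g a ∈ d \ P := by
  rw [Finset.mem_sdiff] at ha ⊢
  refine ⟨apply_mem_of_smul_eq hg.2.1 ha.1, fun h => ?_⟩
  have := hg.2.2 _ h
  exact ha.2 (g.injective this ▸ h)

theorem card_SG_insert {d P : Finset GolayPt} (hL : LT 1 (SG d P) (d \ P)) {b : GolayPt} (hb : b ∈ d \ P) :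
    Nat.card (SG d P) = (d \ P).card * Nat.card (SG d (insert b P)) := by
  apply card_eq_orbit_mul (SG d P) (SG d (insert b P)) b (d \ P)
  · intro g
    simp only [mem_SG, Finset.mem_insert, forall_eq_or_imp]
    tauto
  · intro g hg
    exact SG_apply_mem hg hb
  · intro c hc
    obtain ⟨g, hg, h⟩ := hL [b] [c] (by simp) (by simp) rfl (by simp)
      (by intro z hz; rw [List.mem_singleton.mp hz]; exact hb)
      (by intro z hz; rw [List.mem_singleton.mp hz]; exact hc)
    simp only [List.map_cons, List.map_nil, List.cons.injEq, and_true] at h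
    exact ⟨g, hg, h⟩

theorem card_SG_dod {d : Finset GolayPt} (hd : d ∈ dodecads) : Nat.card (SG d ∅) = 95040 := by
  rw [← card_stab_dodecad hd]
  refine (Nat.card_congr (toPermSub (MulAction.stabilizer M24 d) (SG d ∅) ?_).toEquiv).symm
  intro g
  rw [mem_SG]
  constructor
  · rintro ⟨h1, h2, _⟩; exact ⟨h1, h2⟩
  · rintro ⟨h1, h2⟩; exact ⟨h1, h2, by simp⟩

theorem card_SG_dod1 {d : Finset GolayPt} (hd : d ∈ dodecads) {p : GolayPt} (hp : p ∈ d) :
    Nat.card (SG d {p}) = 7920 := by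
  have h := card_SG_insert (LT_mono (by norm_num) (LT5_dod hd)) (b := p) (by simpa using hp)
  rw [card_SG_dod hd, Finset.sdiff_empty, hd.2, insert_empty_eq] at h
  omega

theorem LT3_dod {d : Finset GolayPt} (hd : d ∈ dodecads) {p q : GolayPt} (hp : p ∈ d) (hq : q ∈ d)
    (hpq : p ≠ q) : LT 3 (SG d {q, p}) (d \ {q, p}) :=
  LT_insert (LT4_dod hd hp) (b := q) (by simp [hq, Ne.symm hpq])

theorem LT2_dod {d : Finset GolayPt} (hd : d ∈ dodecads) {p q r : GolayPt} (hp : p ∈ d) (hq : q ∈ d)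
    (hr : r ∈ d) (hpq : p ≠ q) (hpr : p ≠ r) (hqr : q ≠ r) : LT 2 (SG d {r, q, p}) (d \ {r, q, p}) :=
  LT_insert (LT3_dod hd hp hq hpq) (b := r) (by simp [hr, Ne.symm hpr, Ne.symm hqr])

theorem card_SG_dod2 {d : Finset GolayPt} (hd : d ∈ dodecads) {p q : GolayPt} (hp : p ∈ d) (hq : q ∈ d)
    (hpq : p ≠ q) : Nat.card (SG d {q, p}) = 720 := by
  have h := card_SG_insert (LT_mono (by norm_num) (LT4_dod hd hp)) (b := q) (by simp [hq, Ne.symm hpq])
  rw [card_SG_dod1 hd hp, Finset.card_sdiff_of_subset (by simpa using hp), hd.2, Finset.card_singleton] at h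
  omega

theorem card_SG_dod3 {d : Finset GolayPt} (hd : d ∈ dodecads) {p q r : GolayPt} (hp : p ∈ d) (hq : q ∈ d)
    (hr : r ∈ d) (hpq : p ≠ q) (hpr : p ≠ r) (hqr : q ≠ r) : Nat.card (SG d {r, q, p}) = 72 := by
  have h := card_SG_insert (LT_mono (by norm_num) (LT3_dod hd hp hq hpq)) (b := r)
    (by simp [hr, Ne.symm hpr, Ne.symm hqr])
  rw [card_SG_dod2 hd hp hq hpq, Finset.card_sdiff_of_subset (by
    intro z hz
    simp only [Finset.mem_insert, Finset.mem_singleton] at hz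
    rcases hz with rfl | rfl <;> assumption), hd.2, Finset.card_pair (Ne.symm hpq)] at h
  omega

/-- moving a dodecad with a list of at most five of its points to standard position -/
theorem dod_std {d : Finset GolayPt} (hd : d ∈ dodecads) (l l0 : List GolayPt) (hl : l.Nodup) (hl0 : l0.Nodup)
    (hlen : l0.length = l.length) (h5 : l.length ≤ 5) (hld : ∀ a ∈ l, a ∈ d)
    (hl0d : ∀ a ∈ l0, a ∈ ofMask 340831) :
    ∃ h ∈ M24, h • ofMask 340831 = d ∧ l0.map h = l := by
  obtain ⟨h, hh, rfl⟩ := dodecad_orbit hd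
  obtain ⟨g, hg, hgl⟩ := LT_dod hd (l0.map h) l (hl0.map h.injective) hl (by simpa using hlen) (by simp; omega)
    (by
      intro a ha
      obtain ⟨b, hb, rfl⟩ := List.mem_map.mp ha
      exact Finset.smul_mem_smul_finset (a := h) (hl0d b hb)) hld
  refine ⟨g * h, M24.mul_mem hg.1 hh, by rw [mul_smul, hg.2.1], ?_⟩
  rw [← hgl, List.map_map]
  rfl

end Cfsg.Agent.H9
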