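import Mathlib

set_option autoImplicit false

namespace Cfsg.Agent.H9

/-- a criterion for simplicity: `p` divides the order exactly once, divides the order of every nontrivial
normal subgroup, and the elements of order `p` generate. -/
theorem simple_of_prime {G : Type*} [Group G] [Finite G] (p : ℕ) [hp : Fact p.Prime]
    (hp2 : ¬ p ^ 2 ∣ Nat.card G)
    (ha : ∀ N : Subgroup G, N.Normal → N ≠ ⊥ → p ∣ Nat.card N)
    (hb : Subgroup.closure {g : G | g ^ p = 1} = ⊤) (hnt : Nontrivial G) : IsSimpleGroup G := by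
  refine ⟨fun N hN => ?_⟩
  by_cases hbot : N = ⊥
  · exact Or.inl hbot
  right
  have hdvd := ha N hN hbot
  obtain ⟨x, hx⟩ := exists_prime_orderOf_dvd_card' p hdvd
  have hdG : p ∣ Nat.card G := hdvd.trans (Subgroup.card_subgroup_dvd_card N)
  have hfac : (Nat.card G).factorization p = 1 := by
    have hne : Nat.card G ≠ 0 := Nat.card_pos.ne'
    have h1 : 1 ≤ (Nat.card G).factorization p :=
      (hp.out.dvd_iff_one_le_factorization hne).mp hdG
    have h2 : ¬ 2 ≤ (Nat.card G).factorization p := by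
      intro h
      exact hp2 ((hp.out.pow_dvd_iff_le_factorization hne).mpr h)
    omega
  rw [eq_top_iff, ← hb, Subgroup.closure_le]
  intro y hy
  by_cases hy1 : y = 1
  · subst hy1; exact N.one_mem
  have hoy : orderOf y = p := orderOf_eq_prime hy hy1
  have hox : orderOf (x : G) = p := by rw [Subgroup.orderOf_coe, hx]
  let P : Sylow p G := Sylow.ofCard (Subgroup.zpowers (x : G)) (by rw [Nat.card_zpowers, hox, hfac, pow_one])
  let Q : Sylow p G := Sylow.ofCard (Subgroup.zpowers y) (by rw [Nat.card_zpowers, hoy, hfac, pow_one])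
  obtain ⟨g, hg⟩ := MulAction.exists_smul_eq G P Q
  have hyQ : y ∈ (Q : Subgroup G) := Subgroup.mem_zpowers y
  rw [← hg, Sylow.coe_subgroup_smul, Subgroup.mem_smul_pointwise_iff_exists] at hyQ
  obtain ⟨s, hs, rfl⟩ := hyQ
  have hsN : s ∈ N := by
    have : Subgroup.zpowers (x : G) ≤ N := by
      rw [Subgroup.zpowers_le]; exact x.2
    exact this hs
  rw [MulAut.smul_def, MulAut.conj_apply]
  exact hN.conj_mem s hsN g

section perm
variable {α : Type*} [DecidableEq α]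

/-- a permutation group acting faithfully and doubly transitively on an invariant set -/
structure TwoTrans (H : Subgroup (Equiv.Perm α)) (Ω : Finset α) : Prop where
  inv : ∀ g ∈ H, ∀ a ∈ Ω, g a ∈ Ω
  faith : ∀ g ∈ H, (∀ a ∈ Ω, g a = a) → g = 1
  two : ∀ a ∈ Ω, ∀ b ∈ Ω, ∀ c ∈ Ω, ∀ d ∈ Ω, a ≠ b → c ≠ d → ∃ g ∈ H, g a = c ∧ g b = d

theorem TwoTrans.exists_moved {H : Subgroup (Equiv.Perm α)} {Ω : Finset α} (h : TwoTrans H Ω)
    {N : Subgroup H} (hbot : N ≠ ⊥) : ∃ x ∈ N, x ≠ 1 ∧ ∃ a ∈ Ω, x.1 a ≠ a := by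
  rcases N.bot_or_exists_ne_one with h0 | ⟨x, hxN, hx1⟩
  · exact absurd h0 hbot
  refine ⟨x, hxN, hx1, ?_⟩
  by_contra hcon
  push Not at hcon
  exact hx1 (Subtype.ext (h.faith x.1 x.2 hcon))

theorem TwoTrans.normal_trans {H : Subgroup (Equiv.Perm α)} {Ω : Finset α} (h : TwoTrans H Ω)
    {N : Subgroup H} (hN : N.Normal) (hbot : N ≠ ⊥) :
    ∀ c ∈ Ω, ∀ d ∈ Ω, ∃ n ∈ N, n.1 c = d := by
  obtain ⟨x, hxN, _, a, ha, hxa⟩ := h.exists_moved hbot
  intro c hc d hd
  by_cases hcd : c = d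
  · exact ⟨1, N.one_mem, by simpa using hcd⟩
  obtain ⟨g, hg, hga, hgb⟩ := h.two a ha (x.1 a) (h.inv _ x.2 a ha) c hc d hd (Ne.symm hxa) hcd
  refine ⟨⟨g, hg⟩ * x * ⟨g, hg⟩⁻¹, hN.conj_mem x hxN _, ?_⟩
  show g (x.1 (g⁻¹ c)) = d
  rw [← hga]
  simp [hgb]

theorem TwoTrans.card_dvd {H : Subgroup (Equiv.Perm α)} {Ω : Finset α} (h : TwoTrans H Ω)
    {N : Subgroup H} (hN : N.Normal) (hbot : N ≠ ⊥) : Ω.card ∣ Nat.card N := by
  obtain ⟨x, hxN, _, a, ha, hxa⟩ := h.exists_moved hbot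
  have e3 : MulAction.orbit N a = ↑Ω := by
    ext b
    rw [MulAction.mem_orbit_iff, Finset.mem_coe]
    constructor
    · rintro ⟨n, rfl⟩; exact h.inv n.1.1 n.1.2 a ha
    · intro hb
      obtain ⟨n, hn, hna⟩ := h.normal_trans hN hbot a ha b hb
      exact ⟨⟨n, hn⟩, hna⟩
  have e2 : (MulAction.stabilizer N a).index = (MulAction.orbit N a).ncard := MulAction.index_stabilizer N a
  rw [e3, Set.ncard_coe_finset] at e2
  rw [← e2]
  exact Subgroup.index_dvd_card _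

/-- simplicity goes up from a point stabiliser in a four-fold transitive group -/
theorem TwoTrans.chain_simple {H : Subgroup (Equiv.Perm α)} {Ω : Finset α} (h : TwoTrans H Ω)
    {b : α} (hb : b ∈ Ω) {K : Subgroup (Equiv.Perm α)} (hK : ∀ g, g ∈ K ↔ g ∈ H ∧ g b = b)
    (h4 : ∀ a ∈ Ω, ∀ c ∈ Ω, ∀ e ∈ Ω, ∀ f ∈ Ω, [a, c, e, f].Nodup →
      ∃ g ∈ H, g a = a ∧ g c = c ∧ g e = e ∧ g f ≠ f)
    (hcard : 4 ≤ Ω.card) (hs : IsSimpleGroup K) : IsSimpleGroup H := by
  have hKH : K ≤ H := fun g hg => ((hK g).mp hg).1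
  have hnt : Nontrivial H := by
    obtain ⟨k, hk⟩ := exists_ne (1 : K)
    refine ⟨⟨⟨k.1, hKH k.2⟩, 1, ?_⟩⟩
    intro he
    apply hk
    apply Subtype.ext
    exact congrArg (fun t : H => t.1) he
  refine ⟨fun N hN => ?_⟩
  by_cases hbot : N = ⊥
  · exact Or.inl hbot
  right
  -- a nontrivial element of `N` with a fixed point
  have step1 : ∃ n ∈ N, n ≠ 1 ∧ ∃ e ∈ Ω, n.1 e = e := by
    obtain ⟨x, hxN, hx1, a, ha, hxa⟩ := h.exists_moved hbot
    have hlt : ({a, x.1 a, x.1⁻¹ a} : Finset α).card < Ω.card :=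
      lt_of_le_of_lt Finset.card_le_three (by omega)
    obtain ⟨e, heΩ, he⟩ := Finset.exists_mem_notMem_of_card_lt_card hlt
    simp only [Finset.mem_insert, Finset.mem_singleton, not_or] at he
    obtain ⟨he1, he2, he3⟩ := he
    by_cases hfe : x.1 e = e
    · exact ⟨x, hxN, hx1, e, heΩ, hfe⟩
    have hnd : [a, x.1 a, e, x.1 e].Nodup := by
      simp only [List.nodup_cons, List.mem_cons, List.not_mem_nil, or_false, not_or, not_false_eq_true,
        List.nodup_nil, and_true]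
      refine ⟨⟨Ne.symm hxa, Ne.symm he1, ?_⟩, ⟨Ne.symm he2, ?_⟩, Ne.symm hfe⟩
      · intro hh
        apply he3
        rw [hh]; simp
      · intro hh
        exact he1 (x.1.injective hh).symm
    obtain ⟨g, hg, g1, g2, g3, g4⟩ := h4 a ha (x.1 a) (h.inv _ x.2 a ha) e heΩ (x.1 e) (h.inv _ x.2 e heΩ) hnd
    refine ⟨(⟨g, hg⟩ * x * ⟨g, hg⟩⁻¹) * x⁻¹, N.mul_mem (hN.conj_mem x hxN _) (N.inv_mem hxN), ?_,
      x.1 a, h.inv _ x.2 a ha, ?_⟩
    · intro he
      have h1 : g * x.1 * g⁻¹ * x.1⁻¹ = 1 := congrArg Subtype.val he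
      have h2 : g * x.1 = x.1 * g := by
        have := congrArg (fun t => t * x.1 * g) h1
        simpa [mul_assoc] using this
      have h3 := congrArg (fun t : Equiv.Perm α => t e) h2
      simp only [Equiv.Perm.mul_apply, g3] at h3
      exact g4 h3
    · show g (x.1 (g⁻¹ (x.1⁻¹ (x.1 a)))) = x.1 a
      have : g⁻¹ a = a := by rw [Equiv.Perm.inv_eq_iff_eq, g1]
      simp [this, g2]
  obtain ⟨n, hnN, hn1, e, heΩ, hne⟩ := step1
  obtain ⟨m, hmN, hme⟩ := h.normal_trans hN hbot e heΩ b hb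
  -- the intersection with `K`
  let NK : Subgroup K := N.comap (Subgroup.inclusion hKH)
  have hNK : NK.Normal := hN.comap _
  have hfix : (m * n * m⁻¹).1 b = b := by
    show m.1 (n.1 (m.1⁻¹ b)) = b
    rw [← hme]; simp [hne]
  have hNKne : NK ≠ ⊥ := by
    intro h0
    have hmem : (⟨(m * n * m⁻¹).1, (hK _).mpr ⟨(m * n * m⁻¹).2, hfix⟩⟩ : K) ∈ NK := by
      show Subgroup.inclusion hKH _ ∈ N
      exact hN.conj_mem n hnN m
    rw [h0, Subgroup.mem_bot] at hmem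
    have h1 : (m * n * m⁻¹).1 = 1 := congrArg Subtype.val hmem
    have h2 : m * n * m⁻¹ = 1 := Subtype.ext h1
    apply hn1
    have := congrArg (fun t => m⁻¹ * t * m) h2
    simpa [mul_assoc] using this
  have hNKtop : NK = ⊤ := (hs.eq_bot_or_eq_top_of_normal NK hNK).resolve_left hNKne
  rw [eq_top_iff]
  intro g _
  obtain ⟨t, htN, htb⟩ := h.normal_trans hN hbot b hb (g.1 b) (h.inv _ g.2 b hb)
  have hk : (t⁻¹ * g).1 b = b := by
    show t.1⁻¹ (g.1 b) = b
    rw [← htb]; simp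
  have hmem : (⟨(t⁻¹ * g).1, (hK _).mpr ⟨(t⁻¹ * g).2, hk⟩⟩ : K) ∈ NK := by rw [hNKtop]; trivial
  have hmem' : t⁻¹ * g ∈ N := hmem
  have := N.mul_mem htN hmem'
  simpa using this

end perm

end Cfsg.Agent.H9
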