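import Cfsg.Agent.Lib_H9_Simple
import Cfsg.Agent.Lib_H9_Cls23b

set_option autoImplicit false

namespace Cfsg.Agent.H9

open Cfsg
open scoped Pointwise

/-- the elements of the group of the code stabilising `d` and fixing each point of `P` -/
def SG (d P : Finset GolayPt) : Subgroup (Equiv.Perm GolayPt) where
  carrier := {g | g ∈ M24 ∧ g • d = d ∧ ∀ p ∈ P, g p = p}
  one_mem' := ⟨M24.one_mem, one_smul _ _, fun _ _ => rfl⟩
  mul_mem' := by
    rintro a b ⟨a1, a2, a3⟩ ⟨b1, b2, b3⟩
    exact ⟨M24.mul_mem a1 b1, by rw [mul_smul, b2, a2],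
      fun p hp => by rw [Equiv.Perm.mul_apply, b3 p hp, a3 p hp]⟩
  inv_mem' := by
    rintro a ⟨a1, a2, a3⟩
    exact ⟨M24.inv_mem a1, by rw [inv_smul_eq_iff, a2],
      fun p hp => by rw [Equiv.Perm.inv_eq_iff_eq, a3 p hp]⟩

theorem mem_SG {d P : Finset GolayPt} {g : Equiv.Perm GolayPt} :
    g ∈ SG d P ↔ g ∈ M24 ∧ g • d = d ∧ ∀ p ∈ P, g p = p := Iff.rfl

/-- transitivity on lists without repetition of length at most `k` -/
def LT (k : ℕ) (H : Subgroup (Equiv.Perm GolayPt)) (Ω : Finset GolayPt) : Prop :=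
  ∀ l l' : List GolayPt, l.Nodup → l'.Nodup → l.length = l'.length → l.length ≤ k →
    (∀ a ∈ l, a ∈ Ω) → (∀ a ∈ l', a ∈ Ω) → ∃ g ∈ H, l.map g = l'

theorem LT_mono {k k' : ℕ} (h : k' ≤ k) {H : Subgroup (Equiv.Perm GolayPt)} {Ω : Finset GolayPt}
    (hL : LT k H Ω) : LT k' H Ω :=
  fun l l' a b c d e f => hL l l' a b c (by omega) e f

theorem LT_M24 : LT 5 (SG Finset.univ ∅) Finset.univ := by
  intro l l' hl hl' hlen h5 _ _
  obtain ⟨g, hg, h⟩ := six_list l l' hl hl' hlen (by omega) (by omega)
  exact ⟨g, ⟨hg, Finset.smul_finset_univ, by simp⟩, h⟩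

theorem extend_list (Ω : Finset GolayPt) (k : ℕ) (hk : k ≤ Ω.card) :
    ∀ (n : ℕ) (l : List GolayPt), l.Nodup → (∀ a ∈ l, a ∈ Ω) → l.length + n = k →
    ∃ l2, (l ++ l2).Nodup ∧ l2.length = n ∧ ∀ a ∈ l ++ l2, a ∈ Ω := by
  intro n
  induction n with
  | zero => intro l hl hΩ _; exact ⟨[], by simpa using hl, rfl, by simpa using hΩ⟩
  | succ n ih =>
    intro l hl hΩ hlen
    have hlt : l.toFinset.card < Ω.card := by
      rw [List.toFinset_card_of_nodup hl]; omega
    obtain ⟨a, haΩ, ha⟩ := Finset.exists_mem_notMem_of_card_lt_card hlt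
    rw [List.mem_toFinset] at ha
    obtain ⟨l2, h1, h2, h3⟩ := ih (l ++ [a]) (by
      rw [List.nodup_append]
      refine ⟨hl, List.nodup_singleton a, ?_⟩
      intro x hx y hy
      rw [List.mem_singleton] at hy
      subst hy
      intro he; subst he; exact ha hx) (by
      intro x hx
      rw [List.mem_append, List.mem_singleton] at hx
      rcases hx with hx | rfl
      · exact hΩ x hx
      · exact haΩ) (by rw [List.length_append, List.length_singleton]; omega)
    refine ⟨a :: l2, by simpa using h1, by simp [h2], by simpa using h3⟩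

theorem LT_dod {d : Finset GolayPt} (hd : d ∈ dodecads) : LT 5 (SG d ∅) d := by
  intro l l' hl hl' hlen h5 hld hld'
  obtain ⟨m, h1, h2, h3⟩ := extend_list d 5 (by rw [hd.2]; norm_num) (5 - l.length) l hl hld (by omega)
  obtain ⟨m', h1', h2', h3'⟩ := extend_list d 5 (by rw [hd.2]; norm_num) (5 - l.length) l' hl' hld' (by omega)
  have e1 : (l ++ m).length = 5 := by rw [List.length_append, h2]; omega
  have e2 : (l' ++ m').length = 5 := by rw [List.length_append, h2']; omega
  let x : Fin 5 ↪ GolayPt := (Fin.castOrderIso e1.symm).toEmbedding.trans ⟨(l ++ m).get, h1.injective_get⟩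
  let y : Fin 5 ↪ GolayPt := (Fin.castOrderIso e2.symm).toEmbedding.trans ⟨(l' ++ m').get, h1'.injective_get⟩
  obtain ⟨g, hg, hgd, h⟩ := dod_five hd x y (fun i => h3 _ (List.get_mem _ _)) (fun i => h3' _ (List.get_mem _ _))
  refine ⟨g, ⟨hg, hgd, by simp⟩, ?_⟩
  have hall : (l ++ m).map g = l' ++ m' := by
    apply List.ext_get (by rw [List.length_map, e1, e2])
    intro n hn1 hn2
    have := h ⟨n, by rw [← e2]; exact hn2⟩
    rw [List.get_eq_getElem, List.getElem_map]
    simpa [x, y] using this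
  rw [List.map_append] at hall
  exact (List.append_inj hall (by rw [List.length_map, hlen])).1

theorem LT_insert {k : ℕ} {d P : Finset GolayPt} (h : LT (k + 1) (SG d P) (d \ P)) {b : GolayPt}
    (hb : b ∈ d \ P) : LT k (SG d (insert b P)) (d \ insert b P) := by
  intro l l' hl hl' hlen hk hld hld'
  have hsub : ∀ a, a ∈ d \ insert b P → a ∈ d \ P ∧ a ≠ b := by
    intro a ha
    simp only [Finset.mem_sdiff, Finset.mem_insert, not_or] at ha ⊢
    exact ⟨⟨ha.1, ha.2.2⟩, ha.2.1⟩
  obtain ⟨g, hg, hgl⟩ := h (b :: l) (b :: l')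
    (List.nodup_cons.mpr ⟨fun hm => (hsub b (hld b hm)).2 rfl, hl⟩)
    (List.nodup_cons.mpr ⟨fun hm => (hsub b (hld' b hm)).2 rfl, hl'⟩)
    (by simp [hlen]) (by simp; omega)
    (by
      intro a ha
      rcases List.mem_cons.mp ha with rfl | ha
      · exact hb
      · exact (hsub a (hld a ha)).1)
    (by
      intro a ha
      rcases List.mem_cons.mp ha with rfl | ha
      · exact hb
      · exact (hsub a (hld' a ha)).1)
  rw [List.map_cons, List.cons.injEq] at hgl
  refine ⟨g, ⟨hg.1, hg.2.1, ?_⟩, hgl.2⟩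
  intro p hp
  rcases Finset.mem_insert.mp hp with rfl | hp
  · exact hgl.1
  · exact hg.2.2 p hp

theorem SG_twoTrans {d P : Finset GolayPt} (hd : 9 ≤ d.card) (hL : LT 2 (SG d P) (d \ P)) :
    TwoTrans (SG d P) (d \ P) where
  inv := by
    intro g hg a ha
    rw [Finset.mem_sdiff] at ha ⊢
    refine ⟨apply_mem_of_smul_eq hg.2.1 ha.1, fun h => ?_⟩
    have := hg.2.2 _ h
    exact ha.2 (g.injective this ▸ h)
  faith := by
    intro g hg hfix
    by_contra h1
    have h8 := fix_le_eight hg.1 h1
    have hsub : d ⊆ fixF g := by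
      intro p hp
      rw [mem_fixF]
      by_cases hpP : p ∈ P
      · exact hg.2.2 p hpP
      · exact hfix p (Finset.mem_sdiff.mpr ⟨hp, hpP⟩)
    have := Finset.card_le_card hsub
    omega
  two := by
    intro a ha b hb c hc e he hab hce
    obtain ⟨g, hg, h⟩ := hL [a, b] [c, e] (by simpa using hab) (by simpa using hce) rfl (by simp)
      (by
        intro z hz
        simp only [List.mem_cons, List.not_mem_nil, or_false] at hz
        rcases hz with rfl | rfl <;> assumption)
      (by
        intro z hz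
        simp only [List.mem_cons, List.not_mem_nil, or_false] at hz
        rcases hz with rfl | rfl <;> assumption)
    simp only [List.map_cons, List.map_nil, List.cons.injEq, and_true] at h
    exact ⟨g, hg, h.1, h.2⟩

theorem SG_chain {d P : Finset GolayPt} (hd : 9 ≤ d.card) (hL : LT 4 (SG d P) (d \ P))
    (hc : 5 ≤ (d \ P).card) {b : GolayPt} (hb : b ∈ d \ P) (hs : IsSimpleGroup (SG d (insert b P))) :
    IsSimpleGroup (SG d P) := by
  refine (SG_twoTrans hd (LT_mono (by norm_num) hL)).chain_simple hb (K := SG d (insert b P)) ?_ ?_ (by omega) hs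
  · intro g
    simp only [mem_SG, Finset.mem_insert, forall_eq_or_imp]
    tauto
  · intro a ha c hc' e he f hf hnd
    have hlt : ([a, c, e, f].toFinset).card < (d \ P).card := by
      rw [List.toFinset_card_of_nodup hnd]
      simp only [List.length_cons, List.length_nil]
      omega
    obtain ⟨f', hf'Ω, hf'⟩ := Finset.exists_mem_notMem_of_card_lt_card hlt
    simp only [List.toFinset_cons, List.toFinset_nil, insert_empty_eq, Finset.mem_insert,
      Finset.mem_singleton, not_or] at hf'
    simp only [List.nodup_cons, List.mem_cons, List.not_mem_nil, or_false, not_or, not_false_eq_true,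
      List.nodup_nil, and_true] at hnd
    obtain ⟨g, hg, h⟩ := hL [a, c, e, f] [a, c, e, f']
      (by
        simp only [List.nodup_cons, List.mem_cons, List.not_mem_nil, or_false, not_or, not_false_eq_true,
          List.nodup_nil, and_true]
        exact hnd)
      (by
        simp only [List.nodup_cons, List.mem_cons, List.not_mem_nil, or_false, not_or, not_false_eq_true,
          List.nodup_nil, and_true]
        exact ⟨⟨hnd.1.1, hnd.1.2.1, Ne.symm hf'.1⟩, ⟨hnd.2.1.1, Ne.symm hf'.2.1⟩, Ne.symm hf'.2.2.1⟩)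
      rfl (by simp)
      (by
        intro z hz
        simp only [List.mem_cons, List.not_mem_nil, or_false] at hz
        rcases hz with rfl | rfl | rfl | rfl <;> assumption)
      (by
        intro z hz
        simp only [List.mem_cons, List.not_mem_nil, or_false] at hz
        rcases hz with rfl | rfl | rfl | rfl <;> assumption)
    simp only [List.map_cons, List.map_nil, List.cons.injEq, and_true] at h
    exact ⟨g, hg, h.1, h.2.1, h.2.2.1, by rw [h.2.2.2]; exact hf'.2.2.2⟩

/-- conjugation -/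
def SGconj {h : Equiv.Perm GolayPt} (hh : h ∈ M24) (d P : Finset GolayPt) :
    SG d P ≃* SG (h • d) (h • P) where
  toFun g := ⟨h * g.1 * h⁻¹, M24.mul_mem (M24.mul_mem hh g.2.1) (M24.inv_mem hh),
    by rw [mul_smul, mul_smul, inv_smul_smul, g.2.2.1], by
      intro p hp
      obtain ⟨q, hq, rfl⟩ := Finset.mem_smul_finset.mp hp
      show h (g.1 (h⁻¹ (h q))) = h q
      have e : h⁻¹ (h q) = q := by simp
      rw [e, g.2.2.2 q hq]⟩
  invFun g := ⟨h⁻¹ * g.1 * h, M24.mul_mem (M24.mul_mem (M24.inv_mem hh) g.2.1) hh,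
    by rw [mul_smul, mul_smul, g.2.2.1, inv_smul_smul], by
      intro p hp
      show h⁻¹ (g.1 (h p)) = p
      rw [g.2.2.2 (h p) (Finset.smul_mem_smul_finset hp)]
      simp⟩
  left_inv g := by apply Subtype.ext; show h⁻¹ * (h * g.1 * h⁻¹) * h = g.1; group
  right_inv g := by apply Subtype.ext; show h * (h⁻¹ * g.1 * h) * h⁻¹ = g.1; group
  map_mul' a b := by apply Subtype.ext; show h * (a.1 * b.1) * h⁻¹ = (h * a.1 * h⁻¹) * (h * b.1 * h⁻¹); group

theorem not_sq_dvd {H : Subgroup (Equiv.Perm GolayPt)} (hH : H ≤ M24) : ¬ 11 ^ 2 ∣ Nat.card H := by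
  intro h
  have := h.trans (Subgroup.card_dvd_of_le hH)
  rw [card_M24] at this
  revert this
  decide

end Cfsg.Agent.H9
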