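import Cfsg.Agent.Lib_H9_Simple3

set_option autoImplicit false

namespace Cfsg.Agent.H9

open Cfsg
open scoped Pointwise

theorem card_univ_pts : (Finset.univ : Finset GolayPt).card = 24 := by
  rw [Finset.card_univ, card_pts]

theorem LT5_univ : LT 5 (SG Finset.univ ∅) (Finset.univ \ ∅) := by
  rw [Finset.sdiff_empty]; exact LT_M24

theorem LT4_univ (p : GolayPt) : LT 4 (SG Finset.univ {p}) (Finset.univ \ {p}) := by
  have := LT_insert LT5_univ (b := p) (by simp)
  rwa [insert_empty_eq] at this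

theorem LT3_univ {p q : GolayPt} (hpq : p ≠ q) : LT 3 (SG Finset.univ {q, p}) (Finset.univ \ {q, p}) :=
  LT_insert (LT4_univ p) (b := q) (by simp [Ne.symm hpq])

theorem LT5_dod {d : Finset GolayPt} (hd : d ∈ dodecads) : LT 5 (SG d ∅) (d \ ∅) := by
  rw [Finset.sdiff_empty]; exact LT_dod hd

theorem LT4_dod {d : Finset GolayPt} (hd : d ∈ dodecads) {p : GolayPt} (hp : p ∈ d) :
    LT 4 (SG d {p}) (d \ {p}) := by
  have := LT_insert (LT5_dod hd) (b := p) (by simpa using hp)
  rwa [insert_empty_eq] at this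

theorem ofMask_three : ofMask 3 = {pt 1, pt 0} := by
  have : (3 : ℕ) = 2 ^ 1 ||| 2 ^ 0 := by decide
  rw [this, ofMask_or, ofMask_two_pow (by norm_num), ofMask_two_pow (by norm_num)]
  rfl

theorem ofMask_one : ofMask 1 = {pt 0} := by
  have : (1 : ℕ) = 2 ^ 0 := by norm_num
  rw [this, ofMask_two_pow (by norm_num)]

theorem GS_eq_SG22 : GS 3 [] = SG Finset.univ {pt 1, pt 0} := by
  ext g
  rw [mem_GS, mem_SG, ofMask_three]
  constructor
  · rintro ⟨h1, h2, _⟩
    exact ⟨h1, Finset.smul_finset_univ, h2⟩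
  · rintro ⟨h1, _, h2⟩
    exact ⟨h1, h2, by simp⟩

theorem GS_eq_SG11 : GS 1 [340831] = SG (ofMask 340831) {pt 0} := by
  ext g
  rw [mem_GS, mem_SG, ofMask_one]
  constructor
  · rintro ⟨h1, h2, h3⟩
    exact ⟨h1, h3 _ (List.mem_singleton.mpr rfl), h2⟩
  · rintro ⟨h1, h3, h2⟩
    exact ⟨h1, h2, fun m hm => by rw [List.mem_singleton.mp hm]; exact h3⟩

theorem pt01 : pt 0 ≠ pt 1 := by
  intro h
  have := pt_injective (by norm_num) (by norm_num) h
  omega

theorem simple22_std : IsSimpleGroup (SG Finset.univ {pt 1, pt 0}) := by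
  have hc : (Finset.univ \ {pt 1, pt 0} : Finset GolayPt).card = 22 := by
    rw [Finset.card_univ_sdiff, card_pts, Finset.card_pair (Ne.symm pt01)]
  apply simple_of_gen (H := SG Finset.univ {pt 1, pt 0}) (fun g hg => hg.1) (by rw [← GS_eq_SG22]; exact gen22)
    (SG_twoTrans (by rw [card_univ_pts]; norm_num) (LT_mono (by norm_num) (LT3_univ pt01)))
  · rw [hc]; norm_num
  · rw [hc]; norm_num

theorem pt0_mem_D0 : pt 0 ∈ ofMask 340831 := by
  rw [mem_ofMask, idx_pt (by norm_num)]; decide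

theorem simple11_std : IsSimpleGroup (SG (ofMask 340831) {pt 0}) := by
  have hc : (ofMask 340831 \ {pt 0} : Finset GolayPt).card = 11 := by
    rw [Finset.card_sdiff_of_subset (by simpa using pt0_mem_D0), D0_mem.2, Finset.card_singleton]
  apply simple_of_gen (H := SG (ofMask 340831) {pt 0}) (fun g hg => hg.1) (by rw [← GS_eq_SG11]; exact gen11)
    (SG_twoTrans (by rw [D0_mem.2]; norm_num) (LT_mono (by norm_num) (LT4_dod D0_mem pt0_mem_D0)))
  · rw [hc]
  · rw [hc]; norm_num

theorem simple22 {p q : GolayPt} (hpq : p ≠ q) : IsSimpleGroup (SG Finset.univ {q, p}) := by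
  obtain ⟨h, hh, hl⟩ := six_list [pt 1, pt 0] [q, p] (by simpa using Ne.symm pt01) (by simpa using Ne.symm hpq)
    rfl (by simp) (by simp)
  simp only [List.map_cons, List.map_nil, List.cons.injEq, and_true] at hl
  have e : SG (h • Finset.univ) (h • {pt 1, pt 0}) = SG Finset.univ {q, p} := by
    rw [Finset.smul_finset_univ, Finset.smul_finset_insert, Finset.smul_finset_singleton,
      Equiv.Perm.smul_def, Equiv.Perm.smul_def, hl.1, hl.2]
  rw [← e]
  exact (SGconj hh _ _).isSimpleGroup_congr.mp simple22_std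

theorem simple11 {d : Finset GolayPt} (hd : d ∈ dodecads) {p : GolayPt} (hp : p ∈ d) :
    IsSimpleGroup (SG d {p}) := by
  obtain ⟨h, hh, rfl⟩ := dodecad_orbit hd
  obtain ⟨g, hg, hl⟩ := LT_dod hd [h (pt 0)] [p] (by simp) (by simp) rfl (by simp)
    (by simpa using Finset.smul_mem_smul_finset (a := h) pt0_mem_D0) (by simpa using hp)
  simp only [List.map_cons, List.map_nil, List.cons.injEq, and_true] at hl
  have e : SG ((g * h) • ofMask 340831) ((g * h) • {pt 0}) = SG (h • ofMask 340831) {p} := by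
    rw [mul_smul, hg.2.1, Finset.smul_finset_singleton, Equiv.Perm.smul_def, Equiv.Perm.mul_apply, hl]
  rw [← e]
  exact (SGconj (M24.mul_mem hg.1 hh) _ _).isSimpleGroup_congr.mp simple11_std

theorem simple23 (p : GolayPt) : IsSimpleGroup (SG Finset.univ {p}) := by
  obtain ⟨q, hq⟩ : ∃ q : GolayPt, p ≠ q := by
    by_cases h : p = pt 0
    · exact ⟨pt 1, h ▸ pt01⟩
    · exact ⟨pt 0, h⟩
  refine SG_chain (by rw [card_univ_pts]; norm_num) (LT4_univ p) ?_ (b := q) (by simp [Ne.symm hq]) (simple22 hq)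
  rw [Finset.card_univ_sdiff, card_pts, Finset.card_singleton]
  norm_num

theorem simple24 : IsSimpleGroup (SG Finset.univ ∅) := by
  refine SG_chain (by rw [card_univ_pts]; norm_num) (LT_mono (by norm_num) LT5_univ) ?_ (b := pt 0) (by simp) ?_
  · rw [Finset.sdiff_empty, card_univ_pts]; norm_num
  · rw [insert_empty_eq]; exact simple23 _

theorem simple12 {d : Finset GolayPt} (hd : d ∈ dodecads) : IsSimpleGroup (SG d ∅) := by
  obtain ⟨b, hb⟩ : d.Nonempty := by
    rw [← Finset.card_pos, hd.2]; norm_num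
  refine SG_chain (by rw [hd.2]; norm_num) (LT_mono (by norm_num) (LT5_dod hd)) ?_ (b := b) (by simpa using hb) ?_
  · rw [Finset.sdiff_empty, hd.2]; norm_num
  · rw [insert_empty_eq]; exact simple11 hd hb

/-- a subgroup of the group of the code, seen as a group of permutations -/
def toPermSub (S : Subgroup M24) (T : Subgroup (Equiv.Perm GolayPt))
    (h : ∀ g : Equiv.Perm GolayPt, g ∈ T ↔ ∃ hg : g ∈ M24, (⟨g, hg⟩ : M24) ∈ S) : S ≃* T where
  toFun g := ⟨g.1.1, (h _).mpr ⟨g.1.2, g.2⟩⟩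
  invFun t := ⟨⟨t.1, ((h _).mp t.2).1⟩, ((h _).mp t.2).2⟩
  left_inv _ := rfl
  right_inv _ := rfl
  map_mul' _ _ := rfl

end Cfsg.Agent.H9
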