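import Cfsg.Agent.Lib_H9_Lead

set_option autoImplicit false

namespace Cfsg.Agent.H9

open Cfsg
open scoped Pointwise

/-! ### the action on ordered 6-tuples -/

theorem bits_cases : ∀ c < 24, 5 ≤ c → (5248 : ℕ).testBit c = true ∨ (16771936 : ℕ).testBit c = true := by
  decide

theorem six_std (x : Fin 6 ↪ GolayPt) : ∃ g ∈ M24, (∀ i : Fin 5, g (pt i) = x i.castSucc) ∧
    ((special (Finset.univ.map x) ∧ g (pt 7) = x 5) ∨ (¬ special (Finset.univ.map x) ∧ g (pt 5) = x 5)) := by
  obtain ⟨g0, hg0, h0⟩ := exists_M24_map (Fin.castSuccEmb.trans x)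
  have h0' : ∀ i : Fin 5, g0 (pt i) = x i.castSucc := h0
  set c := idx (g0⁻¹ (x 5)) with hc
  have hc24 : c < 24 := idx_lt _
  have hptc : g0 (pt c) = x 5 := by rw [hc, pt_idx]; simp
  have hc5 : 5 ≤ c := by
    by_contra hlt
    push Not at hlt
    have := h0' ⟨c, hlt⟩
    rw [hptc] at this
    have h2 := x.injective this
    have h3 := congrArg Fin.val h2
    simp at h3
    omega
  have hfix : ∀ f ∈ FixM 31, ∀ i : Fin 5, f (pt i) = pt i := by
    intro f hf i
    apply (mem_FixM.mp hf).2
    rw [mem_ofMask, idx_pt (by omega)]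
    revert i; decide
  have hmem5 : ∀ g : Equiv.Perm GolayPt, (∀ i : Fin 5, g (pt i) = x i.castSucc) →
      (Finset.univ.map (Fin.castSuccEmb.trans x)) ⊆ g • ofMask 5279 := by
    intro g hg p hp
    obtain ⟨i, _, rfl⟩ := Finset.mem_map.mp hp
    show x i.castSucc ∈ _
    rw [← hg i]
    apply Finset.smul_mem_smul_finset (a := g)
    rw [mem_ofMask, idx_pt (by omega)]
    clear hp
    revert i; decide
  rcases bits_cases c hc24 hc5 with hb | hb
  · obtain ⟨f, hf, hfc⟩ := levelCheck_spec (by norm_num) level5 hc24 hb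
    have hg : g0 * f ∈ M24 := M24.mul_mem hg0 (mem_FixM.mp hf).1
    have hgi : ∀ i : Fin 5, (g0 * f) (pt i) = x i.castSucc := by
      intro i
      rw [Equiv.Perm.mul_apply, hfix f hf i, h0']
    refine ⟨g0 * f, hg, hgi, Or.inl ⟨?_, ?_⟩⟩
    · refine ⟨(g0 * f) • ofMask 5279, smul_mem_octads hg (isOct_spec oct5279).2, ?_⟩
      intro p hp
      obtain ⟨i, _, rfl⟩ := Finset.mem_map.mp hp
      rcases Fin.eq_castSucc_or_eq_last i with ⟨j, rfl⟩ | rfl
      · apply hmem5 _ hgi
        exact Finset.mem_map.mpr ⟨j, Finset.mem_univ _, rfl⟩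
      · show x 5 ∈ _
        rw [← hptc, ← hfc, ← Equiv.Perm.mul_apply]
        apply Finset.smul_mem_smul_finset (a := g0 * f)
        rw [mem_ofMask, idx_pt (by omega)]
        decide
    · rw [Equiv.Perm.mul_apply, hfc, hptc]
  · obtain ⟨f, hf', hfc⟩ := levelCheck_spec (by norm_num) level6 hc24 hb
    have hf : f ∈ FixM 31 := FixM_mono (by
      rw [ofMask_subset_iff (by norm_num)]; rfl) hf'
    have hg : g0 * f ∈ M24 := M24.mul_mem hg0 (mem_FixM.mp hf).1
    have hgi : ∀ i : Fin 5, (g0 * f) (pt i) = x i.castSucc := by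
      intro i
      rw [Equiv.Perm.mul_apply, hfix f hf i, h0']
    refine ⟨g0 * f, hg, hgi, Or.inr ⟨?_, ?_⟩⟩
    · rintro ⟨o, ho, hxo⟩
      have : o = (g0 * f) • ofMask 5279 := by
        apply octad_unique ho (smul_mem_octads hg (isOct_spec oct5279).2)
          (s := Finset.univ.map (Fin.castSuccEmb.trans x)) (by simp)
        · intro p hp
          obtain ⟨i, _, rfl⟩ := Finset.mem_map.mp hp
          exact hxo (Finset.mem_map.mpr ⟨i.castSucc, Finset.mem_univ _, rfl⟩)
        · exact hmem5 _ hgi
      have h5 : x 5 ∈ (g0 * f) • ofMask 5279 := by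
        rw [← this]
        exact hxo (Finset.mem_map.mpr ⟨5, Finset.mem_univ _, rfl⟩)
      rw [← hptc, ← hfc, ← Equiv.Perm.mul_apply] at h5
      have h6 : pt 5 ∈ ofMask 5279 := by
        obtain ⟨q, hq, hqe⟩ := Finset.mem_smul_finset.mp h5
        have : q = pt 5 := (g0 * f).injective hqe
        rwa [this] at hq
      rw [mem_ofMask, idx_pt (by omega)] at h6
      exact absurd h6 (by decide)
    · rw [Equiv.Perm.mul_apply, hfc, hptc]

theorem six_emb6 (x y : Fin 6 ↪ GolayPt)
    (hsp : special (Finset.univ.map x) ↔ special (Finset.univ.map y)) :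
    ∃ g ∈ M24, ∀ i, g (x i) = y i := by
  obtain ⟨a, ha, ha5, hax⟩ := six_std x
  obtain ⟨b, hb, hb5, hby⟩ := six_std y
  refine ⟨b * a⁻¹, M24.mul_mem hb (M24.inv_mem ha), ?_⟩
  intro i
  rw [Equiv.Perm.mul_apply]
  rcases Fin.eq_castSucc_or_eq_last i with ⟨j, rfl⟩ | rfl
  · rw [← ha5 j, ← hb5 j]; simp
  · show b (a⁻¹ (x 5)) = y 5
    rcases hax with ⟨h1, h2⟩ | ⟨h1, h2⟩ <;> rcases hby with ⟨h3, h4⟩ | ⟨h3, h4⟩
    · rw [← h2, ← h4]; simp
    · exact absurd (hsp.mp h1) h3
    · exact absurd (hsp.mpr h3) h1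
    · rw [← h2, ← h4]; simp

theorem six_emb {k : ℕ} (hk : k ≤ 6) (x y : Fin k ↪ GolayPt)
    (hsp : k = 6 → (special (Finset.univ.map x) ↔ special (Finset.univ.map y))) :
    ∃ g ∈ M24, ∀ i, g (x i) = y i := by
  rcases Nat.lt_or_ge k 6 with h | h
  · exact exists_M24_of_emb (by omega) x y
  · obtain rfl : k = 6 := by omega
    exact six_emb6 x y (hsp rfl)

theorem map_emb_get (l : List GolayPt) (hl : l.Nodup) :
    Finset.univ.map (⟨l.get, hl.injective_get⟩ : Fin l.length ↪ GolayPt) = l.toFinset := by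
  ext p
  simp only [Finset.mem_map, Finset.mem_univ, true_and, Function.Embedding.coeFn_mk, List.mem_toFinset]
  exact List.mem_iff_get.symm

theorem six_list (l l' : List GolayPt) (hl : l.Nodup) (hl' : l'.Nodup) (hlen : l.length = l'.length)
    (h6 : l.length ≤ 6) (hsp : l.length = 6 → (special l.toFinset ↔ special l'.toFinset)) :
    ∃ g ∈ M24, l.map g = l' := by
  have key : ∀ k, l.length = k → l'.length = k → ∃ g ∈ M24, l.map g = l' := by
    intro k h1 h2
    let x : Fin k ↪ GolayPt := (Fin.castOrderIso h1.symm).toEmbedding.trans ⟨l.get, hl.injective_get⟩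
    let y : Fin k ↪ GolayPt := (Fin.castOrderIso h2.symm).toEmbedding.trans ⟨l'.get, hl'.injective_get⟩
    have hx : Finset.univ.map x = l.toFinset := by
      rw [← map_emb_get l hl, ← Finset.map_map]
      congr 1
      simp
    have hy : Finset.univ.map y = l'.toFinset := by
      rw [← map_emb_get l' hl', ← Finset.map_map]
      congr 1
      simp
    obtain ⟨g, hg, h⟩ := six_emb (h1 ▸ h6) x y (fun hk => by rw [hx, hy]; exact hsp (h1.trans hk))
    refine ⟨g, hg, ?_⟩
    apply List.ext_get (by rw [List.length_map, hlen])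
    intro n hn1 hn2
    have := h ⟨n, by rw [← h2]; exact hn2⟩
    simpa [x, y] using this
  exact key _ rfl hlen.symm

/-! ### families of disjoint sets -/

theorem smul_eq_of_map_toList {g : Equiv.Perm GolayPt} {A B : Finset GolayPt}
    (h : A.toList.map g = B.toList) : g • A = B := by
  have h1 : (A.toList.map g).toFinset = B := by rw [h, Finset.toList_toFinset]
  rw [← h1]
  ext p
  simp only [List.mem_toFinset, List.mem_map, Finset.mem_toList, Finset.mem_smul_finset]
  rfl

theorem toFinset_flatMap (L : List (Finset GolayPt)) :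
    (L.flatMap Finset.toList).toFinset = L.foldr (· ∪ ·) ∅ := by
  induction L with
  | nil => rfl
  | cons A L ih =>
    rw [List.flatMap_cons, List.toFinset_append, Finset.toList_toFinset, ih]
    rfl

theorem nodup_flatMap_toList (L : List (Finset GolayPt)) (h : L.Pairwise Disjoint) :
    (L.flatMap Finset.toList).Nodup := by
  rw [List.nodup_flatMap]
  refine ⟨fun A _ => A.nodup_toList, ?_⟩
  apply h.imp
  intro A B hAB p hpA hpB
  exact Finset.disjoint_left.mp hAB (Finset.mem_toList.mp hpA) (Finset.mem_toList.mp hpB)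

theorem length_flatMap_toList (L : List (Finset GolayPt)) :
    (L.flatMap Finset.toList).length = (L.map Finset.card).sum := by
  induction L with
  | nil => rfl
  | cons A L ih =>
    rw [List.flatMap_cons, List.length_append, Finset.length_toList, ih]
    rfl

theorem forall₂_of_map (g : Equiv.Perm GolayPt) : ∀ (L L' : List (Finset GolayPt)),
    List.Forall₂ (fun A B => A.card = B.card) L L' →
    (L.flatMap Finset.toList).map g = L'.flatMap Finset.toList →
    List.Forall₂ (fun A B => g • A = B) L L' := by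
  intro L L' h
  induction h with
  | nil => intro _; exact List.Forall₂.nil
  | @cons A B L L' hAB _ ih =>
    intro hm
    rw [List.flatMap_cons, List.flatMap_cons, List.map_append] at hm
    obtain ⟨h1, h2⟩ := List.append_inj hm (by
      rw [List.length_map, Finset.length_toList, Finset.length_toList, hAB])
    exact List.Forall₂.cons (smul_eq_of_map_toList h1) (ih h2)

theorem sum_card_eq : ∀ (L L' : List (Finset GolayPt)),
    List.Forall₂ (fun A B => A.card = B.card) L L' → (L.map Finset.card).sum = (L'.map Finset.card).sum := by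
  intro L L' h
  induction h with
  | nil => rfl
  | @cons A B L L' hAB _ ih =>
    rw [List.map_cons, List.map_cons, List.sum_cons, List.sum_cons, hAB, ih]

/-- two families of pairwise disjoint sets with the same sizes, at most six points in all, are
conjugate, provided they agree on lying in an octad when there are six points -/
theorem six_sets (L L' : List (Finset GolayPt)) (hc : List.Forall₂ (fun A B => A.card = B.card) L L')
    (hd : L.Pairwise Disjoint) (hd' : L'.Pairwise Disjoint) (h6 : (L.map Finset.card).sum ≤ 6)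
    (hsp : (L.map Finset.card).sum = 6 → (special (L.foldr (· ∪ ·) ∅) ↔ special (L'.foldr (· ∪ ·) ∅))) :
    ∃ g ∈ M24, List.Forall₂ (fun A B => g • A = B) L L' := by
  obtain ⟨g, hg, h⟩ := six_list (L.flatMap Finset.toList) (L'.flatMap Finset.toList)
    (nodup_flatMap_toList L hd) (nodup_flatMap_toList L' hd')
    (by rw [length_flatMap_toList, length_flatMap_toList, sum_card_eq L L' hc])
    (by rw [length_flatMap_toList]; exact h6)
    (by rw [length_flatMap_toList, toFinset_flatMap, toFinset_flatMap]; exact hsp)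
  exact ⟨g, hg, forall₂_of_map g L L' hc h⟩

/-! ### counting helpers -/

theorem count_sub (k : ℕ) (P : Finset GolayPt → Prop) (p : ℕ → Bool)
    (h : ∀ s : Finset GolayPt, s.card = k → (P s ↔ p (toMask s) = true)) :
    {s : Finset GolayPt | s.card = k ∧ P s}.ncard = cntSub p 24 k 0 := by
  rw [← ncard_sub]
  congr 1
  ext s
  simp only [Set.mem_ofPred_eq]
  exact and_congr_right (h s)

theorem toMask_union {a : ℕ} (ha : a < 2 ^ 24) (s : Finset GolayPt) :
    toMask (ofMask a ∪ s) = Nat.lor a (toMask s) := by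
  have : ofMask a ∪ s = ofMask (a ||| toMask s) := by rw [ofMask_or, ofMask_toMask]
  rw [this, toMask_ofMask (Nat.or_lt_two_pow ha (toMask_lt s))]
  rfl

theorem disjoint_mask {a : ℕ} (ha : a < 2 ^ 24) (s : Finset GolayPt) :
    Disjoint (ofMask a) s ↔ Nat.beq (Nat.land a (toMask s)) 0 = true := by
  rw [beq_iff]
  conv_lhs => rw [← ofMask_toMask s]
  exact ofMask_disjoint_iff ha

theorem inter_card_mask_iff {a : ℕ} (ha : a < 2 ^ 24) (s : Finset GolayPt) (j : ℕ) :
    (ofMask a ∩ s).card = j ↔ Nat.beq (pop (Nat.land a (toMask s))) j = true := by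
  rw [beq_iff, inter_card_mask ha]

theorem special_union_mask {a : ℕ} (ha : a < 2 ^ 24) (s : Finset GolayPt) (h5 : 5 ≤ (ofMask a ∪ s).card) :
    special (ofMask a ∪ s) ↔ spB (Nat.lor a (toMask s)) = true := by
  rw [← toMask_union ha, spB_iff h5]

theorem exists_std_set {k : ℕ} (hk : k ≤ 5) {T : Finset GolayPt} (hT : T.card = k) :
    ∃ h ∈ M24, h • ofMask (2 ^ k - 1) = T := by
  have hc : (ofMask (2 ^ k - 1)).card = k := by
    rw [← pop_eq (by
      have : 2 ^ k ≤ 2 ^ 24 := Nat.pow_le_pow_right (by norm_num) (by omega)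
      have : 0 < 2 ^ k := by positivity
      omega)]
    interval_cases k <;> decide +kernel
  obtain ⟨g, hg, h⟩ := six_sets [ofMask (2 ^ k - 1)] [T]
    (List.Forall₂.cons (by rw [hc, hT]) List.Forall₂.nil) (by simp) (by simp)
    (by simp [hc]; omega) (by simp [hc]; omega)
  refine ⟨g, hg, ?_⟩
  cases h with
  | cons h1 _ => exact h1

end Cfsg.Agent.H9
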