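import Cfsg.Agent.Lib_H9_Perm

set_option autoImplicit false

namespace Cfsg.Agent.H9

open Cfsg
open scoped Pointwise

theorem symmDiff_mem_CC {s t : Finset GolayPt} (hs : s ∈ CC) (ht : t ∈ CC) : symmDiff s t ∈ CC := by
  obtain ⟨v, hv, rfl⟩ := hs
  obtain ⟨w, hw, rfl⟩ := ht
  refine ⟨v + w, Submodule.add_mem _ hv hw, ?_⟩
  rw [← wordOf_support₂ v, ← wordOf_support₂ w, ← wordOf_xor, support₂_wordOf, ofMask_xor,
    support₂_wordOf, support₂_wordOf, ofMask_toMask, ofMask_toMask]

set_option maxRecDepth 100000 in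
theorem weight_check : allBelow (fun i =>
    let k := pop (enc i)
    Nat.beq i 0 || Nat.ble 8 k) 4096 = true := by
  decide +kernel

theorem eq_empty_of_card_lt {s : Finset GolayPt} (hs : s ∈ CC) (h : s.card < 8) : s = ∅ := by
  obtain ⟨i, hi, rfl⟩ := exists_of_mem_CC hs
  have := (allBelow_iff _ _).mp weight_check i hi
  simp only [Bool.or_eq_true] at this
  rcases this with h0 | h8
  · have : i = 0 := Nat.eq_of_beq_eq_true h0
    subst this
    have : enc 0 = 0 := by decide +kernel
    rw [this, ofMask_zero]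
  · have h8' : 8 ≤ pop (enc i) := Nat.le_of_ble_eq_true h8
    rw [pop_eq (enc_lt i)] at h8'
    omega

theorem mem_octads_iff {s : Finset GolayPt} : s ∈ octads ↔ s ∈ CC ∧ s.card = 8 := Iff.rfl

theorem mem_dodecads_iff {s : Finset GolayPt} : s ∈ dodecads ↔ s ∈ CC ∧ s.card = 12 := Iff.rfl

theorem card_symmDiff_add (a b : Finset GolayPt) :
    (symmDiff a b).card + 2 * (a ∩ b).card = a.card + b.card := by
  have h1 : (symmDiff a b).card = (a \ b).card + (b \ a).card := by
    rw [symmDiff_def, Finset.sup_eq_union, Finset.card_union_of_disjoint]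
    exact Finset.disjoint_of_subset_right Finset.sdiff_subset Finset.sdiff_disjoint
  have h2 := Finset.card_sdiff_add_card_inter a b
  have h3 := Finset.card_sdiff_add_card_inter b a
  rw [Finset.inter_comm b a] at h3
  omega

theorem octad_unique {a b s : Finset GolayPt} (ha : a ∈ octads) (hb : b ∈ octads)
    (hs : 5 ≤ s.card) (hsa : s ⊆ a) (hsb : s ⊆ b) : a = b := by
  have h1 := symmDiff_mem_CC ha.1 hb.1
  have h2 := card_symmDiff_add a b
  have h3 : s.card ≤ (a ∩ b).card := Finset.card_le_card (Finset.subset_inter hsa hsb)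
  rw [ha.2, hb.2] at h2
  have h4 := eq_empty_of_card_lt h1 (by omega)
  exact symmDiff_eq_bot.mp h4

theorem ncard_octads : octads.ncard = 759 := by
  unfold octads
  rw [ncard_wordsOfWeight]
  decide +kernel

theorem octads_steiner : IsSteinerSystem 5 8 octads := by
  refine ⟨fun b hb => hb.2, ?_⟩
  intro s hs
  have hfin : octads.Finite := Set.toFinite _
  set Oct := hfin.toFinset with hOct
  have hcard : Oct.card = 759 := by
    rw [← ncard_octads, Set.ncard_eq_toFinset_card _ hfin]
  have hmem : ∀ o, o ∈ Oct ↔ o ∈ octads := fun o => hfin.mem_toFinset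
  set T := Oct.biUnion (fun o => o.powersetCard 5) with hT
  have hTcard : T.card = 42504 := by
    rw [hT, Finset.card_biUnion]
    · have : ∀ o ∈ Oct, (o.powersetCard 5).card = 56 := by
        intro o ho
        rw [Finset.card_powersetCard, ((hmem o).mp ho).2]
        rfl
      rw [Finset.sum_congr rfl this, Finset.sum_const, hcard]
      rfl
    · intro a ha b hb hab
      rw [Function.onFun, Finset.disjoint_left]
      intro x hxa hxb
      rw [Finset.mem_powersetCard] at hxa hxb
      exact hab (octad_unique ((hmem a).mp ha) ((hmem b).mp hb) (by omega) hxa.1 hxb.1)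
  have hsub : T ⊆ (Finset.univ : Finset GolayPt).powersetCard 5 := by
    intro x hx
    rw [hT, Finset.mem_biUnion] at hx
    obtain ⟨o, _, hx⟩ := hx
    rw [Finset.mem_powersetCard] at hx ⊢
    exact ⟨Finset.subset_univ _, hx.2⟩
  have hEq : T = (Finset.univ : Finset GolayPt).powersetCard 5 := by
    apply Finset.eq_of_subset_of_card_le hsub
    rw [Finset.card_powersetCard, hTcard]
    have : (Finset.univ : Finset GolayPt).card = 24 := by rfl
    rw [this]
    decide
  have hsT : s ∈ T := by
    rw [hEq, Finset.mem_powersetCard]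
    exact ⟨Finset.subset_univ _, hs⟩
  rw [hT, Finset.mem_biUnion] at hsT
  obtain ⟨o, ho, hso⟩ := hsT
  rw [Finset.mem_powersetCard] at hso
  refine ⟨o, ⟨(hmem o).mp ho, hso.1⟩, ?_⟩
  rintro b ⟨hb, hsb⟩
  exact octad_unique hb ((hmem o).mp ho) (by omega) hsb hso.1

end Cfsg.Agent.H9
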