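import Cfsg.Agent.Lib_H9_Flags

set_option autoImplicit false

namespace Cfsg.Agent.H9

open Cfsg
open scoped Pointwise

/-! ### counting `k`-subsets by their masks -/

def b2n (b : Bool) : ℕ := Bool.rec (motive := fun _ => ℕ) 0 1 b

def cntSub (p : ℕ → Bool) (n : ℕ) : ℕ → ℕ → ℕ :=
  Nat.rec (motive := fun _ => ℕ → ℕ → ℕ)
    (fun k acc => Bool.rec (motive := fun _ => ℕ) 0 (b2n (p acc)) (Nat.beq k 0))
    (fun n ih k acc => Bool.rec (motive := fun _ => ℕ)
        (Nat.add (ih k acc) (ih (Nat.pred k) (Nat.add acc (Nat.shiftLeft 1 n))))
        (b2n (p acc)) (Nat.beq k 0)) n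

def msk (t : Finset ℕ) : ℕ := ∑ i ∈ t, 2 ^ i

theorem cntSub_k0 (p : ℕ → Bool) (n acc : ℕ) : cntSub p n 0 acc = b2n (p acc) := by
  cases n <;> rfl

theorem cntSub_zero_succ (p : ℕ → Bool) (k acc : ℕ) : cntSub p 0 (k + 1) acc = 0 := rfl

theorem cntSub_succ_succ (p : ℕ → Bool) (n k acc : ℕ) :
    cntSub p (n + 1) (k + 1) acc = cntSub p n (k + 1) acc + cntSub p n k (acc + 2 ^ n) := by
  have : Nat.shiftLeft 1 n = 2 ^ n := Nat.one_shiftLeft n
  show Nat.add (cntSub p n (k + 1) acc) (cntSub p n k (Nat.add acc (Nat.shiftLeft 1 n))) = _
  rw [this]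
  rfl

theorem filt_single (p : ℕ → Bool) (acc : ℕ) :
    (({∅} : Finset (Finset ℕ)).filter (fun t => p (acc + msk t) = true)).card = b2n (p acc) := by
  have h0 : msk ∅ = 0 := rfl
  cases h : p acc
  · have : ({∅} : Finset (Finset ℕ)).filter (fun t => p (acc + msk t) = true) = ∅ := by
      apply Finset.filter_eq_empty_iff.mpr
      intro t ht
      rw [Finset.mem_singleton.mp ht, h0, add_zero, h]
      decide
    rw [this]; rfl
  · have : ({∅} : Finset (Finset ℕ)).filter (fun t => p (acc + msk t) = true) = {∅} := by
      apply Finset.filter_eq_self.mpr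
      intro t ht
      rw [Finset.mem_singleton.mp ht, h0, add_zero, h]
    rw [this]; rfl

theorem cntSub_eq (p : ℕ → Bool) : ∀ n k acc, cntSub p n k acc =
    (((Finset.range n).powersetCard k).filter (fun t => p (acc + msk t) = true)).card := by
  intro n
  induction n with
  | zero =>
    intro k acc
    cases k with
    | zero =>
      rw [cntSub_k0, Finset.powersetCard_zero, filt_single]
    | succ k =>
      rw [cntSub_zero_succ, Finset.range_zero, Finset.powersetCard_eq_empty.mpr (by simp)]
      rfl
  | succ n ih =>
    intro k acc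
    cases k with
    | zero =>
      rw [cntSub_k0, Finset.powersetCard_zero, filt_single]
    | succ k =>
      rw [cntSub_succ_succ, ih, ih, Finset.range_add_one,
        Finset.powersetCard_succ_insert Finset.notMem_range_self, Finset.filter_union,
        Finset.card_union_of_disjoint]
      · congr 1
        rw [Finset.filter_image, Finset.card_image_of_injOn]
        · congr 1
          apply Finset.filter_congr
          intro t ht
          have hn : n ∉ t := fun h => by
            have := (Finset.mem_powersetCard.mp ht).1 h
            simp at this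
          have : msk (insert n t) = 2 ^ n + msk t := by
            unfold msk; rw [Finset.sum_insert hn]
          rw [this, add_assoc]
        · intro s hs t ht hst
          have hs' := (Finset.mem_powersetCard.mp (Finset.mem_filter.mp hs).1).1
          have ht' := (Finset.mem_powersetCard.mp (Finset.mem_filter.mp ht).1).1
          have hns : n ∉ s := fun h => by simpa using hs' h
          have hnt : n ∉ t := fun h => by simpa using ht' h
          have := congrArg (fun u => u.erase n) hst
          simpa [Finset.erase_insert hns, Finset.erase_insert hnt] using this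
      · rw [Finset.disjoint_left]
        intro s hs hs2
        have hs' := (Finset.mem_powersetCard.mp (Finset.mem_filter.mp hs).1).1
        obtain ⟨t, _, rfl⟩ := Finset.mem_image.mp (Finset.mem_filter.mp hs2).1
        have := hs' (Finset.mem_insert_self n t)
        simp at this

theorem testBit_msk (t : Finset ℕ) (j : ℕ) : (msk t).testBit j = true ↔ j ∈ t := by
  unfold msk
  rw [← Nat.mem_bitIndices, ← List.mem_toFinset, Finset.toFinset_bitIndices_sum_two_pow]

theorem toMask_eq_msk (s : Finset GolayPt) : toMask s = msk (s.image idx) := by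
  apply Nat.eq_of_testBit_eq
  intro j
  rw [Bool.eq_iff_iff, testBit_msk]
  by_cases hj : j < 24
  · have := testBit_toMask s (pt j)
    rw [idx_pt hj] at this
    rw [this, decide_eq_true_eq, Finset.mem_image]
    constructor
    · intro h; exact ⟨_, h, idx_pt hj⟩
    · rintro ⟨q, hq, rfl⟩; rwa [pt_idx]
  · constructor
    · intro h
      exfalso
      have := Nat.testBit_lt_two_pow (lt_of_lt_of_le (toMask_lt s) (Nat.pow_le_pow_right (by norm_num) (not_lt.mp hj)))
      rw [this] at h
      exact absurd h (by decide)
    · intro h
      obtain ⟨q, _, rfl⟩ := Finset.mem_image.mp h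
      exact absurd (idx_lt q) hj

theorem ncard_sub (p : ℕ → Bool) (k : ℕ) :
    {s : Finset GolayPt | s.card = k ∧ p (toMask s) = true}.ncard = cntSub p 24 k 0 := by
  rw [cntSub_eq]
  have : (fun s : Finset GolayPt => s.image idx) '' {s : Finset GolayPt | s.card = k ∧ p (toMask s) = true} =
      ↑(((Finset.range 24).powersetCard k).filter (fun t => p (0 + msk t) = true)) := by
    ext t
    simp only [Set.mem_image, Set.mem_ofPred_eq, Finset.coe_filter, Finset.mem_powersetCard, zero_add]
    constructor
    · rintro ⟨s, ⟨h1, h2⟩, rfl⟩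
      refine ⟨⟨?_, ?_⟩, ?_⟩
      · intro j hj
        obtain ⟨q, _, rfl⟩ := Finset.mem_image.mp hj
        exact Finset.mem_range.mpr (idx_lt q)
      · rw [Finset.card_image_of_injective _ idx_injective, h1]
      · rw [← toMask_eq_msk, h2]
    · rintro ⟨⟨h1, h2⟩, h3⟩
      have himg : (t.image pt).image idx = t := by
        rw [Finset.image_image]
        ext j
        simp only [Finset.mem_image, Function.comp]
        constructor
        · rintro ⟨i, hi, rfl⟩
          rwa [idx_pt (Finset.mem_range.mp (h1 hi))]
        · intro hj
          exact ⟨j, hj, idx_pt (Finset.mem_range.mp (h1 hj))⟩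
      refine ⟨t.image pt, ⟨?_, ?_⟩, himg⟩
      · rw [← h2, ← himg, Finset.card_image_of_injective _ idx_injective, himg]
      · rw [toMask_eq_msk, himg, h3]
  rw [← Set.ncard_coe_finset, ← this, Set.ncard_image_of_injective]
  intro a b hab
  exact Finset.image_injective idx_injective hab

end Cfsg.Agent.H9
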