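import Cfsg.Agent.Lib_H9_Elt

set_option autoImplicit false

namespace Cfsg.Agent.H9

open Cfsg
open scoped Pointwise

/-! ### products of coded permutations -/

def packF (f : ℕ → ℕ) (k : ℕ) : ℕ :=
  Nat.rec (motive := fun _ => ℕ) 0 (fun i ih => Nat.lor ih (Nat.shiftLeft (f i) (Nat.mul 5 i))) k

def mulP (U V : ℕ) : ℕ := packF (fun i => app U (app V i)) 24

theorem packF_succ (f : ℕ → ℕ) (k : ℕ) : packF f (k + 1) = packF f k ||| (f k <<< (5 * k)) := rfl

theorem testBit_packF (f : ℕ → ℕ) (k n : ℕ) (hf : ∀ i < k, f i < 32) :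
    (packF f k).testBit n = (decide (n / 5 < k) && (f (n / 5)).testBit (n % 5)) := by
  induction k with
  | zero => simp [packF]
  | succ k ih =>
    rw [packF_succ, Nat.testBit_or, ih (fun i hi => hf i (by omega)), Nat.testBit_shiftLeft]
    rcases lt_trichotomy (n / 5) k with h | h | h
    · have h1 : ¬ (n ≥ 5 * k) := by omega
      have h2 : n / 5 < k + 1 := by omega
      simp [h, h1, h2]
    · have h1 : n ≥ 5 * k := by omega
      have h2 : n / 5 < k + 1 := by omega
      have h3 : ¬ (n / 5 < k) := by omega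
      have h4 : n - 5 * k = n % 5 := by omega
      simp only [h1, h2, h3, h4, decide_true, decide_false, Bool.false_and, Bool.true_and, Bool.false_or]
      rw [h]
    · have h2 : ¬ (n / 5 < k + 1) := by omega
      have h3 : ¬ (n / 5 < k) := by omega
      have h5 : (f k).testBit (n - 5 * k) = false := by
        apply Nat.testBit_eq_false_of_lt
        calc f k < 32 := hf k (by omega)
          _ = 2 ^ 5 := by norm_num
          _ ≤ 2 ^ (n - 5 * k) := Nat.pow_le_pow_right (by norm_num) (by omega)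
      simp [h2, h3, h5]

theorem testBit_app (t i j : ℕ) : (app t i).testBit j = (t.testBit (5 * i + j) && decide (j < 5)) := by
  show ((t >>> (5 * i)) &&& 31).testBit j = _
  rw [Nat.testBit_and, Nat.testBit_shiftRight]
  have : (31 : ℕ) = 2 ^ 5 - 1 := by norm_num
  rw [this, Nat.testBit_two_pow_sub_one]

theorem app_packF {f : ℕ → ℕ} {k i : ℕ} (hf : ∀ i < k, f i < 32) (hi : i < k) : app (packF f k) i = f i := by
  apply Nat.eq_of_testBit_eq
  intro j
  rw [testBit_app, testBit_packF f k _ hf]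
  by_cases hj : j < 5
  · have h1 : (5 * i + j) / 5 = i := by omega
    have h2 : (5 * i + j) % 5 = j := by omega
    simp [h1, h2, hi, hj]
  · have h5 : (f i).testBit j = false := by
      apply Nat.testBit_eq_false_of_lt
      calc f i < 32 := hf i hi
        _ = 2 ^ 5 := by norm_num
        _ ≤ 2 ^ j := Nat.pow_le_pow_right (by norm_num) (by omega)
    simp [hj, h5]

theorem app_lt32 (t i : ℕ) : app t i < 32 := by
  show (t >>> (5 * i)) &&& 31 < 32
  exact Nat.lt_succ_of_le Nat.and_le_right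

theorem app_mulP (U V : ℕ) {i : ℕ} (hi : i < 24) : app (mulP U V) i = app U (app V i) :=
  app_packF (fun _ _ => app_lt32 _ _) hi

/-- codes below `2 ^ 120` are determined by their values -/
theorem code_ext {V V' : ℕ} (h : V < 2 ^ 120) (h' : V' < 2 ^ 120) (he : ∀ i < 24, app V i = app V' i) :
    V = V' := by
  apply Nat.eq_of_testBit_eq
  intro n
  by_cases hn : n < 120
  · have h1 := congrArg (fun x => x.testBit (n % 5)) (he (n / 5) (by omega))
    simp only [testBit_app] at h1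
    have h2 : 5 * (n / 5) + n % 5 = n := by omega
    have h3 : n % 5 < 5 := by omega
    simpa [h2, h3] using h1
  · have e1 : V.testBit n = false := Nat.testBit_eq_false_of_lt
      (lt_of_lt_of_le h (Nat.pow_le_pow_right (by norm_num) (by omega)))
    have e2 : V'.testBit n = false := Nat.testBit_eq_false_of_lt
      (lt_of_lt_of_le h' (Nat.pow_le_pow_right (by norm_num) (by omega)))
    rw [e1, e2]

/-! ### codes representing permutations -/

def Rep (g : Equiv.Perm GolayPt) (W : ℕ) : Prop := ∀ i < 24, g (pt i) = pt (app W i) ∧ app W i < 24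

theorem Rep_permOf {t : ℕ} (h : isPerm t = true) : Rep (permOf t) t :=
  fun _ hi => ⟨permOf_pt h hi, app_lt h hi⟩

theorem Rep.mul {g h : Equiv.Perm GolayPt} {U V : ℕ} (hU : Rep g U) (hV : Rep h V) :
    Rep (g * h) (mulP U V) := by
  intro i hi
  rw [app_mulP U V hi, Equiv.Perm.mul_apply, (hV i hi).1, (hU _ (hV i hi).2).1]
  exact ⟨rfl, (hU _ (hV i hi).2).2⟩

theorem Rep.eq {g g' : Equiv.Perm GolayPt} {W : ℕ} (h : Rep g W) (h' : Rep g' W) : g = g' := by
  ext p
  rw [← pt_idx p, (h _ (idx_lt p)).1, (h' _ (idx_lt p)).1]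

theorem Rep.eq_permOf {g : Equiv.Perm GolayPt} {W : ℕ} (h : Rep g W) (hW : isPerm W = true) : g = permOf W :=
  h.eq (Rep_permOf hW)

theorem Rep.app_eq {g : Equiv.Perm GolayPt} {W W' : ℕ} (h : Rep g W) (h' : Rep g W') {i : ℕ} (hi : i < 24) :
    app W i = app W' i :=
  pt_injective (h i hi).2 (h' i hi).2 ((h i hi).1.symm.trans (h' i hi).1)

theorem Rep_one : Rep 1 idCode := by
  have := Rep_permOf isPerm_id
  rwa [permOf_id] at this

/-! ### search along the stabiliser chain -/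

def lvlA (T O : ℕ) (P next : ℕ → Bool) (W : ℕ) : Bool :=
  allBelow (fun c => !(bit O c) || force (mulP W (entry T c)) (fun W' => !(P W') || next W')) 24

theorem lvlA_spec {T F b O : ℕ} (hb : b < 24) (hlev : levelCheck T F b O = true)
    (hO : ∀ h ∈ FixM F, h (pt b) ∈ ofMask O) {P next : ℕ → Bool} {W : ℕ} (h : lvlA T O P next W = true)
    {g u : Equiv.Perm GolayPt} (hu : Rep u W) (hug : u⁻¹ * g ∈ FixM F)
    (hP : ∀ W' u', Rep u' W' → u'⁻¹ * g ∈ FixM (F ||| 2 ^ b) → P W' = true) :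
    ∃ W' u', Rep u' W' ∧ u'⁻¹ * g ∈ FixM (F ||| 2 ^ b) ∧ next W' = true := by
  have hc := idx_lt ((u⁻¹ * g) (pt b))
  have hOc := mem_ofMask.mp (hO _ hug)
  obtain ⟨hp, hF, hpb⟩ := levelCheck_spec' hb hlev hc hOc
  rw [pt_idx] at hpb
  have hR : Rep (u * permOf (entry T (idx ((u⁻¹ * g) (pt b))))) (mulP W (entry T (idx ((u⁻¹ * g) (pt b))))) :=
    hu.mul (Rep_permOf hp)
  have hm : (u * permOf (entry T (idx ((u⁻¹ * g) (pt b)))))⁻¹ * g ∈ FixM (F ||| 2 ^ b) := by
    rw [mem_FixM_or hb]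
    have e : (u * permOf (entry T (idx ((u⁻¹ * g) (pt b)))))⁻¹ * g
        = (permOf (entry T (idx ((u⁻¹ * g) (pt b)))))⁻¹ * (u⁻¹ * g) := by group
    rw [e]
    refine ⟨(FixM F).mul_mem ((FixM F).inv_mem hF) hug, ?_⟩
    rw [Equiv.Perm.mul_apply, Equiv.Perm.inv_eq_iff_eq, hpb]
  have c0 := (allBelow_iff _ _).mp h _ hc
  rw [bit_eq, hOc, force_eq, hP _ _ hR hm] at c0
  simp only [Bool.not_true, Bool.false_or] at c0
  exact ⟨_, _, hR, hm, c0⟩

def treeAll (P : ℕ → ℕ → Bool) (Q : ℕ → Bool) : Bool :=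
  lvlA trTab0 16777215 (P 0) (lvlA trTab1 16777214 (P 1) (lvlA trTab2 16777212 (P 2)
    (lvlA trTab3 16777208 (P 3) (lvlA trTab4 16777200 (P 4) (lvlA trTab5 5248 (P 5)
      (lvlA trTab6 16771936 (P 6) Q)))))) idCode

def fmask : ℕ → ℕ
  | 0 => 1
  | 1 => 3
  | 2 => 7
  | 3 => 15
  | 4 => 31
  | 5 => 159
  | _ => 191

theorem FixM_apply_compl {F O b : ℕ} (hb : b < 24) (hFO : F ||| O = 16777215) (hFb : F.testBit b = false)
    {h : Equiv.Perm GolayPt} (hh : h ∈ FixM F) : h (pt b) ∈ ofMask O := by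
  have h1 : h (pt b) ∉ ofMask F := by
    apply FixM_apply_notMem hh
    rw [mem_ofMask, idx_pt hb, hFb]
    simp
  have h2 : h (pt b) ∈ ofMask (F ||| O) := by
    rw [hFO, ofMask_full]; exact Finset.mem_univ _
  rw [ofMask_or, Finset.mem_union] at h2
  exact h2.resolve_left h1

theorem agree_of_FixM {F W : ℕ} {g u : Equiv.Perm GolayPt} (hu : Rep u W) (h : u⁻¹ * g ∈ FixM F) :
    ∀ i < 24, F.testBit i = true → g (pt i) = pt (app W i) ∧ app W i < 24 := by
  intro i hi hF
  have h1 := (mem_FixM.mp h).2 (pt i) (by rw [mem_ofMask, idx_pt hi]; exact hF)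
  rw [Equiv.Perm.mul_apply, Equiv.Perm.inv_eq_iff_eq] at h1
  rw [h1]
  exact hu i hi

theorem treeAll_spec {P : ℕ → ℕ → Bool} {Q : ℕ → Bool} (h : treeAll P Q = true)
    {g : Equiv.Perm GolayPt} (hg : g ∈ M24)
    (hP : ∀ k < 7, ∀ W, (∀ i < 24, (fmask k).testBit i = true → g (pt i) = pt (app W i) ∧ app W i < 24) →
      P k W = true) :
    ∃ W, Rep g W ∧ Q W = true := by
  have h0 : (1 : Equiv.Perm GolayPt)⁻¹ * g ∈ FixM 0 := by
    rw [inv_one, one_mul, mem_FixM]
    refine ⟨hg, fun p hp => ?_⟩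
    rw [ofMask_zero] at hp
    simp at hp
  obtain ⟨W0, u0, r0, m0, n0⟩ := lvlA_spec (by norm_num) level0
    (fun _ hh => FixM_apply_compl (by norm_num) (by decide) (by decide) hh) h Rep_one h0
    (fun W' u' hr hm => hP 0 (by norm_num) W' (agree_of_FixM hr hm))
  obtain ⟨W1, u1, r1, m1, n1⟩ := lvlA_spec (by norm_num) level1
    (fun _ hh => FixM_apply_compl (by norm_num) (by decide) (by decide) hh) n0 r0 m0
    (fun W' u' hr hm => hP 1 (by norm_num) W' (agree_of_FixM hr hm))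
  obtain ⟨W2, u2, r2, m2, n2⟩ := lvlA_spec (by norm_num) level2
    (fun _ hh => FixM_apply_compl (by norm_num) (by decide) (by decide) hh) n1 r1 m1
    (fun W' u' hr hm => hP 2 (by norm_num) W' (agree_of_FixM hr hm))
  obtain ⟨W3, u3, r3, m3, n3⟩ := lvlA_spec (by norm_num) level3
    (fun _ hh => FixM_apply_compl (by norm_num) (by decide) (by decide) hh) n2 r2 m2
    (fun W' u' hr hm => hP 3 (by norm_num) W' (agree_of_FixM hr hm))
  obtain ⟨W4, u4, r4, m4, n4⟩ := lvlA_spec (by norm_num) level4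
    (fun _ hh => FixM_apply_compl (by norm_num) (by decide) (by decide) hh) n3 r3 m3
    (fun W' u' hr hm => hP 4 (by norm_num) W' (agree_of_FixM hr hm))
  obtain ⟨W5, u5, r5, m5, n5⟩ := lvlA_spec (by norm_num) level5
    (fun _ hh => FixM31_apply7 hh) n4 r4 m4
    (fun W' u' hr hm => hP 5 (by norm_num) W' (agree_of_FixM hr hm))
  obtain ⟨W6, u6, r6, m6, n6⟩ := lvlA_spec (by norm_num) level6
    (fun _ hh => FixM159_apply5 hh) n5 r5 m5
    (fun W' u' hr hm => hP 6 (by norm_num) W' (agree_of_FixM hr hm))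
  have m6' : u6⁻¹ * g ∈ FixM 191 := m6
  rw [FixM_191, Subgroup.mem_bot, inv_mul_eq_one] at m6'
  exact ⟨W6, m6' ▸ r6, n6⟩

end Cfsg.Agent.H9
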