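import Cfsg.Agent.Lib_H9_Six
import Cfsg.Agent.Lib_H9_Coatom

set_option autoImplicit false

namespace Cfsg.Agent.H9

open Cfsg
open scoped Pointwise

/-! ### triads -/

namespace Tri

theorem c2 : cntSub (fun m => Nat.beq (pop (Nat.land 7 m)) 2) 24 3 0 = 63 := by decide +kernel
theorem c1 : cntSub (fun m => Nat.beq (pop (Nat.land 7 m)) 1) 24 3 0 = 630 := by decide +kernel
theorem c3 : cntSub (fun m => Nat.beq (pop (Nat.land 7 m)) 3) 24 3 0 = 1 := by decide +kernel
theorem c0s : cntSub (fun m => Nat.beq (Nat.land 7 m) 0 && spB (Nat.lor 7 m)) 24 3 0 = 210 := by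
  decide +kernel
theorem c0n : cntSub (fun m => Nat.beq (Nat.land 7 m) 0 && !spB (Nat.lor 7 m)) 24 3 0 = 1120 := by
  decide +kernel

end Tri

theorem disjoint_smul_iff (h : Equiv.Perm GolayPt) (a s : Finset GolayPt) :
    Disjoint (h • a) (h • s) ↔ Disjoint a s := by
  rw [← disjoint_inv_smul, inv_smul_smul]

theorem card7 : (ofMask 7).card = 3 := by
  rw [← pop_eq (by norm_num)]; decide +kernel

theorem triad_inter_count {T : Finset GolayPt} (hT : T.card = 3) :
    {U : Finset GolayPt | U.card = 3 ∧ (T ∩ U).card = 3}.ncard = 1 ∧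
    {U : Finset GolayPt | U.card = 3 ∧ (T ∩ U).card = 2}.ncard = 63 ∧
    {U : Finset GolayPt | U.card = 3 ∧ (T ∩ U).card = 1}.ncard = 630 := by
  obtain ⟨h, hh, rfl⟩ := exists_std_set (k := 3) (by norm_num) hT
  have tr : ∀ j, {U : Finset GolayPt | U.card = 3 ∧ (h • ofMask (2 ^ 3 - 1) ∩ U).card = j}.ncard =
      {U : Finset GolayPt | U.card = 3 ∧ (ofMask 7 ∩ U).card = j}.ncard := by
    intro j
    apply ncard_transport h
    intro s
    rw [Finset.card_smul_finset, card_smul_inter]
    rfl
  rw [tr, tr, tr]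
  refine ⟨?_, ?_, ?_⟩
  · rw [count_sub 3 _ (fun m => Nat.beq (pop (Nat.land 7 m)) 3) (fun s _ => inter_card_mask_iff (a := 7) (by norm_num) s 3)]; exact Tri.c3
  · rw [count_sub 3 _ (fun m => Nat.beq (pop (Nat.land 7 m)) 2) (fun s _ => inter_card_mask_iff (a := 7) (by norm_num) s 2)]; exact Tri.c2
  · rw [count_sub 3 _ (fun m => Nat.beq (pop (Nat.land 7 m)) 1) (fun s _ => inter_card_mask_iff (a := 7) (by norm_num) s 1)]; exact Tri.c1

theorem triad_disj_count {T : Finset GolayPt} (hT : T.card = 3) :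
    {U : Finset GolayPt | U.card = 3 ∧ Disjoint T U ∧ special (T ∪ U)}.ncard = 210 ∧
    {U : Finset GolayPt | U.card = 3 ∧ Disjoint T U ∧ ¬ special (T ∪ U)}.ncard = 1120 := by
  obtain ⟨h, hh, rfl⟩ := exists_std_set (k := 3) (by norm_num) hT
  have tr1 : {U : Finset GolayPt | U.card = 3 ∧ Disjoint (h • ofMask (2 ^ 3 - 1)) U ∧
      special (h • ofMask (2 ^ 3 - 1) ∪ U)}.ncard =
      {U : Finset GolayPt | U.card = 3 ∧ Disjoint (ofMask 7) U ∧ special (ofMask 7 ∪ U)}.ncard := by
    apply ncard_transport h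
    intro s
    rw [Finset.card_smul_finset, disjoint_smul_iff, ← Finset.smul_finset_union, special_smul hh]
    rfl
  have tr2 : {U : Finset GolayPt | U.card = 3 ∧ Disjoint (h • ofMask (2 ^ 3 - 1)) U ∧
      ¬ special (h • ofMask (2 ^ 3 - 1) ∪ U)}.ncard =
      {U : Finset GolayPt | U.card = 3 ∧ Disjoint (ofMask 7) U ∧ ¬ special (ofMask 7 ∪ U)}.ncard := by
    apply ncard_transport h
    intro s
    rw [Finset.card_smul_finset, disjoint_smul_iff, ← Finset.smul_finset_union, special_smul hh]
    rfl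
  rw [tr1, tr2]
  constructor
  · rw [count_sub 3 _ (fun m => Nat.beq (Nat.land 7 m) 0 && spB (Nat.lor 7 m))]
    · exact Tri.c0s
    · intro s hs
      rw [Bool.and_eq_true, ← disjoint_mask (by norm_num)]
      apply and_congr_right
      intro hd
      exact special_union_mask (by norm_num) s (by rw [Finset.card_union_of_disjoint hd, card7, hs]; norm_num)
  · rw [count_sub 3 _ (fun m => Nat.beq (Nat.land 7 m) 0 && !spB (Nat.lor 7 m))]
    · exact Tri.c0n
    · intro s hs
      rw [Bool.and_eq_true, ← disjoint_mask (by norm_num)]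
      apply and_congr_right
      intro hd
      rw [special_union_mask (by norm_num) s (by rw [Finset.card_union_of_disjoint hd, card7, hs]; norm_num)]
      simp

/-- transitivity of a set stabiliser on the sets meeting it in a given way -/
theorem set_rank {T U U' : Finset GolayPt} (hU : U.card = U'.card) (hi : (T ∩ U).card = (T ∩ U').card)
    (h6 : (T ∪ U).card ≤ 6) (hsp : (T ∪ U).card = 6 → (special (T ∪ U) ↔ special (T ∪ U'))) :
    ∃ g ∈ M24, g • T = T ∧ g • U = U' := by
  have e1 : ∀ V : Finset GolayPt, (T \ V).card + (T ∩ V).card = T.card := fun V =>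
    Finset.card_sdiff_add_card_inter T V
  have e2 : ∀ V : Finset GolayPt, (V \ T).card + (T ∩ V).card = V.card := fun V => by
    rw [Finset.inter_comm]; exact Finset.card_sdiff_add_card_inter V T
  have e3 : ∀ V : Finset GolayPt, T \ V ∪ (T ∩ V ∪ (V \ T ∪ ∅)) = T ∪ V := by
    intro V
    ext p
    simp only [Finset.mem_union, Finset.mem_sdiff, Finset.mem_inter, Finset.notMem_empty, or_false]
    tauto
  have e4 : ∀ V : Finset GolayPt, (T ∪ V).card = (T \ V).card + ((T ∩ V).card + (V \ T).card) := by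
    intro V
    rw [← e3 V, Finset.union_empty, Finset.card_union_of_disjoint, Finset.card_union_of_disjoint]
    · rw [Finset.disjoint_left]; intro p hp hq
      exact (Finset.mem_sdiff.mp hq).2 (Finset.mem_inter.mp hp).1
    · rw [Finset.disjoint_left]; intro p hp hq
      rcases Finset.mem_union.mp hq with hq | hq
      · exact (Finset.mem_sdiff.mp hp).2 (Finset.mem_inter.mp hq).2
      · exact (Finset.mem_sdiff.mp hq).2 (Finset.mem_sdiff.mp hp).1
  have dis : ∀ V : Finset GolayPt, [T \ V, T ∩ V, V \ T].Pairwise Disjoint := by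
    intro V
    simp only [List.pairwise_cons, List.mem_cons, List.not_mem_nil, or_false, forall_eq_or_imp, forall_eq,
      IsEmpty.forall_iff, implies_true, List.Pairwise.nil, and_true]
    refine ⟨⟨?_, ?_⟩, ?_⟩
    · rw [Finset.disjoint_left]; intro p hp hq
      exact (Finset.mem_sdiff.mp hp).2 (Finset.mem_inter.mp hq).2
    · rw [Finset.disjoint_left]; intro p hp hq
      exact (Finset.mem_sdiff.mp hq).2 (Finset.mem_sdiff.mp hp).1
    · rw [Finset.disjoint_left]; intro p hp hq
      exact (Finset.mem_sdiff.mp hq).2 (Finset.mem_inter.mp hp).1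
  have hsum : (List.map Finset.card [T \ U, T ∩ U, U \ T]).sum = (T ∪ U).card := by
    rw [e4 U]; simp
  obtain ⟨g, hg, h⟩ := six_sets [T \ U, T ∩ U, U \ T] [T \ U', T ∩ U', U' \ T]
    (List.Forall₂.cons (by have := e1 U; have := e1 U'; omega)
      (List.Forall₂.cons hi (List.Forall₂.cons (by have := e2 U; have := e2 U'; omega) List.Forall₂.nil)))
    (dis U) (dis U') (by rw [hsum]; exact h6)
    (by
      rw [hsum]
      intro h
      have := hsp h
      simpa only [List.foldr_cons, List.foldr_nil, e3] using this)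
  obtain ⟨h1, h2, h3⟩ : g • (T \ U) = T \ U' ∧ g • (T ∩ U) = T ∩ U' ∧ g • (U \ T) = U' \ T := by
    cases h with
    | cons h1 h =>
      cases h with
      | cons h2 h =>
        cases h with
        | cons h3 _ => exact ⟨h1, h2, h3⟩
  refine ⟨g, hg, ?_, ?_⟩
  · have : ∀ V : Finset GolayPt, T = T \ V ∪ T ∩ V := fun V => (Finset.sdiff_union_inter T V).symm
    conv_lhs => rw [this U]
    rw [Finset.smul_finset_union, h1, h2, ← this U']
  · have : ∀ V : Finset GolayPt, V = V \ T ∪ T ∩ V := fun V => by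
      rw [Finset.inter_comm]; exact (Finset.sdiff_union_inter V T).symm
    conv_lhs => rw [this U]
    rw [Finset.smul_finset_union, h3, h2, ← this U']

end Cfsg.Agent.H9
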