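import Cfsg.Agent.Lib_H9_Triad

set_option autoImplicit false

namespace Cfsg.Agent.H9

open Cfsg
open scoped Pointwise

theorem orbit_card {k : ℕ} (hk : k ≤ 5) {s : Finset GolayPt} (hs : s.card = k) :
    MulAction.orbit M24 s = {U : Finset GolayPt | U.card = k} := by
  ext e
  rw [MulAction.mem_orbit_iff]
  constructor
  · rintro ⟨g, rfl⟩
    show (g.1 • s).card = k
    rw [Finset.card_smul_finset, hs]
  · intro he
    obtain ⟨a, ha, rfl⟩ := exists_std_set hk hs
    obtain ⟨b, hb, rfl⟩ := exists_std_set hk he
    refine ⟨⟨b * a⁻¹, M24.mul_mem hb (M24.inv_mem ha)⟩, ?_⟩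
    show (b * a⁻¹) • a • ofMask (2 ^ k - 1) = _
    rw [mul_smul, inv_smul_smul]

theorem special_of_card_le {X : Finset GolayPt} (h : X.card ≤ 5) : special X := by
  obtain ⟨Y, hXY, hY⟩ := Finset.exists_superset_card_eq h (by
    show 5 ≤ Fintype.card GolayPt
    decide)
  obtain ⟨o, ⟨ho, hYo⟩, _⟩ := octads_steiner.2 Y hY
  exact ⟨o, ho, hXY.trans hYo⟩

namespace Pr

theorem c2 : cntSub (fun m => Nat.beq (pop (Nat.land 3 m)) 2) 24 2 0 = 1 := by decide +kernel
theorem c1 : cntSub (fun m => Nat.beq (pop (Nat.land 3 m)) 1) 24 2 0 = 44 := by decide +kernel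
theorem c0 : cntSub (fun m => Nat.beq (pop (Nat.land 3 m)) 0) 24 2 0 = 231 := by decide +kernel

end Pr

theorem pair_inter_count {T : Finset GolayPt} (hT : T.card = 2) :
    {U : Finset GolayPt | U.card = 2 ∧ (T ∩ U).card = 2}.ncard = 1 ∧
    {U : Finset GolayPt | U.card = 2 ∧ (T ∩ U).card = 1}.ncard = 44 ∧
    {U : Finset GolayPt | U.card = 2 ∧ (T ∩ U).card = 0}.ncard = 231 := by
  obtain ⟨h, hh, rfl⟩ := exists_std_set (k := 2) (by norm_num) hT
  have tr : ∀ j, {U : Finset GolayPt | U.card = 2 ∧ (h • ofMask (2 ^ 2 - 1) ∩ U).card = j}.ncard =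
      {U : Finset GolayPt | U.card = 2 ∧ (ofMask 3 ∩ U).card = j}.ncard := by
    intro j
    apply ncard_transport h
    intro s
    rw [Finset.card_smul_finset, card_smul_inter]
    rfl
  rw [tr, tr, tr]
  refine ⟨?_, ?_, ?_⟩
  · rw [count_sub 2 _ (fun m => Nat.beq (pop (Nat.land 3 m)) 2)
      (fun s _ => inter_card_mask_iff (a := 3) (by norm_num) s 2)]; exact Pr.c2
  · rw [count_sub 2 _ (fun m => Nat.beq (pop (Nat.land 3 m)) 1)
      (fun s _ => inter_card_mask_iff (a := 3) (by norm_num) s 1)]; exact Pr.c1
  · rw [count_sub 2 _ (fun m => Nat.beq (pop (Nat.land 3 m)) 0)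
      (fun s _ => inter_card_mask_iff (a := 3) (by norm_num) s 0)]; exact Pr.c0

theorem eq_of_inter_card {s y : Finset GolayPt} (hy : y.card = s.card) (h : (s ∩ y).card = s.card) : y = s := by
  have h1 : s ∩ y = s := Finset.eq_of_subset_of_card_le Finset.inter_subset_left (by rw [h])
  have h2 : s ⊆ y := Finset.inter_eq_left.mp h1
  exact (Finset.eq_of_subset_of_card_le h2 (by rw [hy])).symm

theorem card_union_le_of {s y : Finset GolayPt} : (s ∪ y).card + (s ∩ y).card = s.card + y.card :=
  Finset.card_union_add_card_inter s y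

theorem pair_stab_coatom {s : Finset GolayPt} (hs : s.card = 2) : IsCoatom (MulAction.stabilizer M24 s) := by
  obtain ⟨c2, c1, c0⟩ := pair_inter_count hs
  apply coatom_of_rank s (fun y => (s ∩ y).card) {2, 1, 0}
    (fun j => if j = 2 then 1 else if j = 1 then 44 else 231)
  · intro y hy
    have : (s ∩ y).card ≤ 2 := hs ▸ Finset.card_le_card Finset.inter_subset_left
    simp only [Finset.mem_insert, Finset.mem_singleton]
    omega
  · intro j hj
    rw [orbit_card (by norm_num) hs]
    simp only [Finset.mem_insert, Finset.mem_singleton] at hj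
    rcases hj with rfl | rfl | rfl
    · exact c2
    · exact c1
    · exact c0
  · intro y hy h
    rw [orbit_card (by norm_num) hs] at hy
    simp only [Finset.inter_self] at h
    exact eq_of_inter_card (hy.trans hs.symm) h
  · intro y hy z hz h
    rw [orbit_card (by norm_num) hs] at hy hz
    have hy' : y.card = 2 := hy
    have hz' : z.card = 2 := hz
    have hu := card_union_le_of (s := s) (y := y)
    obtain ⟨g, hg, hgo, hgs⟩ := set_rank (T := s) (U := y) (U' := z) (by rw [hy', hz']) h
      (by omega) (by omega)
    exact ⟨⟨g, hg⟩, hgo, hgs⟩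
  · have e8 : (s ∩ s).card = 2 := by rw [Finset.inter_self, hs]
    simp only [e8]
    decide
  · rw [orbit_card (by norm_num) hs]
    by_contra hcon
    push Not at hcon
    have : {U : Finset GolayPt | U.card = 2 ∧ (s ∩ U).card = 0} = ∅ := by
      ext U
      simp only [Set.mem_ofPred_eq, Set.mem_empty_iff_false, iff_false, not_and]
      intro hU
      rw [hcon U hU, Finset.inter_self, hs]
      norm_num
    rw [this] at c0
    simp at c0

open Classical in
theorem triad_stab_coatom {s : Finset GolayPt} (hs : s.card = 3) : IsCoatom (MulAction.stabilizer M24 s) := by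
  obtain ⟨c3, c2, c1⟩ := triad_inter_count hs
  obtain ⟨c0, c4⟩ := triad_disj_count hs
  have hsp : ∀ y : Finset GolayPt, y.card = 3 → 1 ≤ (s ∩ y).card → special (s ∪ y) := by
    intro y hy h
    apply special_of_card_le
    have hu := card_union_le_of (s := s) (y := y)
    omega
  have hle : ∀ y : Finset GolayPt, (s ∩ y).card ≤ 3 := fun y => hs ▸ Finset.card_le_card Finset.inter_subset_left
  have hdis : ∀ y : Finset GolayPt, Disjoint s y ↔ (s ∩ y).card = 0 := fun y => by
    rw [Finset.disjoint_iff_inter_eq_empty, Finset.card_eq_zero]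
  have hset : ∀ j, 1 ≤ j → j ≤ 3 → {y : Finset GolayPt | y ∈ {U : Finset GolayPt | U.card = 3} ∧
      (s ∩ y).card + (if special (s ∪ y) then 0 else 4) = j} =
      {U : Finset GolayPt | U.card = 3 ∧ (s ∩ U).card = j} := by
    intro j h1 h3
    ext y
    simp only [Set.mem_ofPred_eq]
    apply and_congr_right
    intro hy
    by_cases hS : special (s ∪ y)
    · simp [hS]
    · have : ¬ 1 ≤ (s ∩ y).card := fun h => hS (hsp y hy h)
      simp only [hS, if_false]
      omega
  apply coatom_of_rank s (fun y => (s ∩ y).card + (if special (s ∪ y) then 0 else 4)) {3, 2, 1, 0, 4}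
    (fun j => if j = 3 then 1 else if j = 2 then 63 else if j = 1 then 630 else if j = 0 then 210 else 1120)
  · intro y hy
    rw [orbit_card (by norm_num) hs] at hy
    have := hle y
    simp only [Finset.mem_insert, Finset.mem_singleton]
    by_cases hS : special (s ∪ y)
    · simp only [hS, if_true]; omega
    · have : ¬ 1 ≤ (s ∩ y).card := fun h => hS (hsp y hy h)
      simp only [hS, if_false]
      omega
  · intro j hj
    rw [orbit_card (by norm_num) hs]
    simp only [Finset.mem_insert, Finset.mem_singleton] at hj
    rcases hj with rfl | rfl | rfl | rfl | rfl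
    · rw [hset 3 (by norm_num) (by norm_num)]; exact c3
    · rw [hset 2 (by norm_num) (by norm_num)]; exact c2
    · rw [hset 1 (by norm_num) (by norm_num)]; exact c1
    · rw [← c0]
      congr 1
      ext y
      simp only [Set.mem_ofPred_eq]
      apply and_congr_right
      intro hy
      rw [hdis]
      by_cases hS : special (s ∪ y)
      · simp [hS]
      · simp [hS]
    · rw [← c4]
      congr 1
      ext y
      simp only [Set.mem_ofPred_eq]
      apply and_congr_right
      intro hy
      rw [hdis]
      have := hle y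
      by_cases hS : special (s ∪ y)
      · simp only [hS, if_true, not_true, and_false, iff_false]; omega
      · simp [hS]
  · intro y hy h
    rw [orbit_card (by norm_num) hs] at hy
    have hy' : y.card = 3 := hy
    have hss : special (s ∪ s) := by
      apply special_of_card_le; rw [Finset.union_self, hs]; norm_num
    simp only [Finset.inter_self, hss, if_true, hs] at h
    apply eq_of_inter_card (hy'.trans hs.symm)
    rw [hs]
    by_cases hS : special (s ∪ y)
    · simpa [hS] using h
    · have : ¬ 1 ≤ (s ∩ y).card := fun h => hS (hsp y hy h)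
      simp only [hS, if_false] at h
      omega
  · intro y hy z hz h
    rw [orbit_card (by norm_num) hs] at hy hz
    have hy' : y.card = 3 := hy
    have hz' : z.card = 3 := hz
    have hu := card_union_le_of (s := s) (y := y)
    have hyl := hle y
    have hzl := hle z
    have h' : (s ∩ y).card = (s ∩ z).card ∧ (special (s ∪ y) ↔ special (s ∪ z)) := by
      by_cases hS : special (s ∪ y) <;> by_cases hS' : special (s ∪ z)
      · simp only [hS, hS', if_true] at h ⊢
        exact ⟨by omega, trivial⟩
      · have : ¬ 1 ≤ (s ∩ z).card := fun h => hS' (hsp z hz h)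
        simp only [hS, hS', if_true, if_false] at h
        omega
      · have : ¬ 1 ≤ (s ∩ y).card := fun h => hS (hsp y hy h)
        simp only [hS, hS', if_true, if_false] at h
        omega
      · simp only [hS, hS', if_false] at h ⊢
        exact ⟨by omega, trivial⟩
    obtain ⟨g, hg, hgo, hgs⟩ := set_rank (T := s) (U := y) (U' := z) (by rw [hy', hz']) h'.1
      (by omega) (fun _ => h'.2)
    exact ⟨⟨g, hg⟩, hgo, hgs⟩
  · have hss : special (s ∪ s) := by
      apply special_of_card_le; rw [Finset.union_self, hs]; norm_num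
    have e8 : (s ∩ s).card + (if special (s ∪ s) then 0 else 4) = 3 := by
      rw [Finset.inter_self, hs, if_pos hss]
    simp only [e8]
    decide
  · rw [orbit_card (by norm_num) hs]
    by_contra hcon
    push Not at hcon
    have : {U : Finset GolayPt | U.card = 3 ∧ (s ∩ U).card = 1} = ∅ := by
      ext U
      simp only [Set.mem_ofPred_eq, Set.mem_empty_iff_false, iff_false, not_and]
      intro hU
      rw [hcon U hU, Finset.inter_self, hs]
      norm_num
    rw [this] at c1
    simp at c1

end Cfsg.Agent.H9
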