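import Mathlib
import Cfsg.Agent.Lib_helper1_SZ
import Cfsg.Agent.Lib_helper1_Cores2
import Cfsg.Agent.Lib_helper1_PNilp3
import Cfsg.Agent.Lib_helper1_FrobNPC

set_option autoImplicit false

namespace Cfsg.Agent.H1

open Subgroup
open scoped Pointwise

/-- iterating a power automorphism -/
theorem conj_pow_of_conj_eq_pow {G : Type*} [Group G] {g n : G} {k : ℕ}
    (hn : n * g * n⁻¹ = g ^ k) (j : ℕ) : n ^ j * g * (n ^ j)⁻¹ = g ^ (k ^ j) := by
  induction j with
  | zero => simp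
  | succ j ih =>
    calc n ^ (j + 1) * g * (n ^ (j + 1))⁻¹ = n ^ j * (n * g * n⁻¹) * (n ^ j)⁻¹ := by
          rw [pow_succ]; group
      _ = n ^ j * g ^ k * (n ^ j)⁻¹ := by rw [hn]
      _ = (n ^ j * g * (n ^ j)⁻¹) ^ k := by rw [conj_pow]
      _ = g ^ (k ^ (j + 1)) := by rw [ih, ← pow_mul, pow_succ]

/-- dichotomy for a power automorphism of a cyclic `p`-group. -/
theorem cyclic_aut_dichotomy {G : Type*} [Group G] {p : ℕ} [Fact p.Prime] {g n : G} {m k : ℕ}
    (hg : g ^ p ^ m = 1) (hn : n * g * n⁻¹ = g ^ k) :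
    (¬ (p : ℤ) ∣ (k : ℤ) - 1 → g ∈ zpowers (n * g * n⁻¹ * g⁻¹)) ∧
    ((p : ℤ) ∣ (k : ℤ) - 1 → Commute (n ^ p ^ m) g) := by
  have hp : p.Prime := Fact.out
  constructor
  · intro h
    have hc : IsCoprime ((k : ℤ) - 1) ((p : ℤ) ^ m) := by
      apply IsCoprime.pow_right
      exact ((Nat.prime_iff_prime_int.mp hp).irreducible.coprime_iff_not_dvd.mpr h).symm
    obtain ⟨a, b, hab⟩ := hc
    have h1 : n * g * n⁻¹ * g⁻¹ = g ^ ((k : ℤ) - 1) := by
      rw [hn, zpow_sub, zpow_natCast, zpow_one]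
    rw [h1, mem_zpowers_iff]
    refine ⟨a, ?_⟩
    have h2 : g ^ ((p : ℤ) ^ m) = 1 := by
      have : ((p : ℤ) ^ m) = ((p ^ m : ℕ) : ℤ) := by push_cast; rfl
      rw [this, zpow_natCast, hg]
    calc (g ^ ((k : ℤ) - 1)) ^ a = g ^ (a * ((k : ℤ) - 1)) := by rw [← zpow_mul, mul_comm]
      _ = g ^ (a * ((k : ℤ) - 1)) * (g ^ ((p : ℤ) ^ m)) ^ b := by rw [h2, one_zpow, mul_one]
      _ = g ^ (a * ((k : ℤ) - 1) + b * (p : ℤ) ^ m) := by
          rw [← zpow_mul, zpow_add, mul_comm b]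
      _ = g := by rw [hab, zpow_one]
  · intro h
    have h1 := dvd_sub_pow_of_dvd_sub h m
    rw [one_pow] at h1
    have h2 : ((p : ℤ) ^ m) ∣ (k : ℤ) ^ p ^ m - 1 := (pow_dvd_pow _ (Nat.le_succ m)).trans h1
    obtain ⟨t, ht⟩ := h2
    have h3 := conj_pow_of_conj_eq_pow hn (p ^ m)
    have h4 : g ^ (k ^ p ^ m) = g := by
      have e : ((k ^ p ^ m : ℕ) : ℤ) = 1 + (p : ℤ) ^ m * t := by
        push_cast; linarith
      have h5 : g ^ ((p : ℤ) ^ m) = 1 := by
        have : ((p : ℤ) ^ m) = ((p ^ m : ℕ) : ℤ) := by push_cast; rfl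
        rw [this, zpow_natCast, hg]
      rw [← zpow_natCast, e, zpow_add, zpow_one, zpow_mul, h5, one_zpow, mul_one]
    rw [h4] at h3
    exact mul_inv_eq_iff_eq_mul.mp h3

/-- a `p'`-element whose `p`-power centralizes `x` centralizes `x`. -/
theorem commute_of_pow_commute {G : Type*} [Group G] {p : ℕ} {y x : G} {m : ℕ}
    (hy : (orderOf y).Coprime p) (h : Commute (y ^ p ^ m) x) : Commute y x := by
  obtain ⟨a, ha⟩ := exists_pow_eq_self_of_coprime (x := y) (n := p ^ m) (hy.pow_right m).symm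
  rw [← ha]
  exact h.pow_left a

/-- **Key lemma**: a `p'`-element normalizing a cyclic `p`-group and centralizing a nontrivial
element of it centralizes the group. -/
theorem centralizes_cyclic_of_fix {G : Type*} [Group G] {p : ℕ} [Fact p.Prime] {g y v : G} {m : ℕ}
    (hg : g ^ p ^ m = 1) (hy : y * g * y⁻¹ ∈ zpowers g) (hyo : (orderOf y).Coprime p)
    (hv : v ∈ zpowers g) (hv1 : v ≠ 1) (hyv : Commute y v) : Commute y g := by
  have hp : p.Prime := Fact.out
  have hfin : IsOfFinOrder g := isOfFinOrder_iff_pow_eq_one.mpr ⟨p ^ m, pow_pos hp.pos m, hg⟩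
  obtain ⟨k, hk⟩ := Submonoid.mem_powers_iff _ _ |>.mp (hfin.mem_powers_iff_mem_zpowers.mpr hy)
  have hd := cyclic_aut_dichotomy (p := p) hg hk.symm
  apply commute_of_pow_commute hyo (m := m)
  apply hd.2
  by_contra hnd
  -- v ^ (k-1) = 1
  obtain ⟨i, rfl⟩ := mem_zpowers_iff.mp hv
  have h1 : y * g ^ i * y⁻¹ = (g ^ i) ^ k := by
    rw [← conj_zpow, ← hk, ← zpow_natCast, ← zpow_natCast, ← zpow_mul, ← zpow_mul, mul_comm]
  have h2 : y * g ^ i * y⁻¹ = g ^ i := by rw [hyv.eq]; group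
  have h3 : (g ^ i) ^ ((k : ℤ) - 1) = 1 := by
    rw [zpow_sub, zpow_natCast, zpow_one, ← h1, h2, mul_inv_cancel]
  have h4 : (g ^ i) ^ ((p : ℤ) ^ m) = 1 := by
    have : ((p : ℤ) ^ m) = ((p ^ m : ℕ) : ℤ) := by push_cast; rfl
    rw [this, zpow_natCast, ← zpow_natCast, ← zpow_mul, mul_comm, zpow_mul, zpow_natCast, hg,
      one_zpow]
  have hc : IsCoprime ((k : ℤ) - 1) ((p : ℤ) ^ m) := by
    apply IsCoprime.pow_right
    exact ((Nat.prime_iff_prime_int.mp hp).irreducible.coprime_iff_not_dvd.mpr hnd).symm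
  obtain ⟨a, b, hab⟩ := hc
  apply hv1
  calc g ^ i = (g ^ i) ^ (a * ((k : ℤ) - 1) + b * (p : ℤ) ^ m) := by rw [hab, zpow_one]
    _ = 1 := by
      rw [zpow_add, mul_comm a, mul_comm b, zpow_mul, zpow_mul, h3, h4, one_zpow, one_zpow, mul_one]

/-- if a Sylow `p`-subgroup is cyclic, every `p`-subgroup is generated by one element. -/
theorem exists_generator_of_cyclic_sylow {G : Type*} [Group G] [Finite G] {p : ℕ} [Fact p.Prime]
    (P : Sylow p G) (hP : IsCyclic (P : Subgroup G)) (Y : Subgroup G) (hY : IsPGroup p Y) :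
    ∃ g ∈ Y, ∃ m : ℕ, g ^ p ^ m = 1 ∧ Y = zpowers g := by
  obtain ⟨P', hYP'⟩ := hY.exists_le_sylow
  obtain ⟨t, rfl⟩ := MulAction.exists_smul_eq G P P'
  rw [Sylow.coe_subgroup_smul] at hYP'
  have h1 : IsCyclic (MulAut.conj t • (P : Subgroup G) : Subgroup G) :=
    isCyclic_of_surjective (Subgroup.equivSMul (MulAut.conj t) (P : Subgroup G)).toMonoidHom
      (Subgroup.equivSMul (MulAut.conj t) (P : Subgroup G)).surjective
  have h2 : IsCyclic Y := isCyclic_of_injective (Subgroup.inclusion hYP')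
    (Subgroup.inclusion_injective hYP')
  obtain ⟨g, hg⟩ := h2.exists_generator
  obtain ⟨m, hm⟩ := hY g
  refine ⟨g, g.2, m, ?_, ?_⟩
  · have := congrArg Subtype.val hm
    simpa using this
  · apply le_antisymm
    · intro x hx
      obtain ⟨i, hi⟩ := mem_zpowers_iff.mp (hg ⟨x, hx⟩)
      rw [mem_zpowers_iff]
      refine ⟨i, ?_⟩
      have := congrArg Subtype.val hi
      simpa using this
    · rw [zpowers_le]; exact g.2

/-- subgroup form of the key lemma -/
theorem mem_centralizer_of_cyclic_of_fix {G : Type*} [Group G] [Finite G] {p : ℕ} [Fact p.Prime]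
    (P : Sylow p G) (hP : IsCyclic (P : Subgroup G)) (Y : Subgroup G) (hY : IsPGroup p Y)
    {y v : G} (hy : y ∈ normalizer (Y : Set G)) (hyo : (orderOf y).Coprime p)
    (hv : v ∈ Y) (hv1 : v ≠ 1) (hyv : Commute y v) : y ∈ centralizer (Y : Set G) := by
  obtain ⟨g, hgY, m, hgm, hYg⟩ := exists_generator_of_cyclic_sylow P hP Y hY
  have h1 : y * g * y⁻¹ ∈ zpowers g := by
    rw [← hYg]; exact ((mem_normalizer_iff.mp hy) g).mp hgY
  have h2 := centralizes_cyclic_of_fix hgm h1 hyo (hYg ▸ hv) hv1 hyv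
  rw [mem_centralizer_iff]
  intro x hx
  rw [SetLike.mem_coe, hYg] at hx
  obtain ⟨i, rfl⟩ := mem_zpowers_iff.mp hx
  exact (h2.zpow_right i).eq.symm

/-- order of a normal `p`-nilpotent subgroup relative to `O_{p'}(G)`. -/
theorem card_normal_pnilpotent {G : Type*} [Group G] [Finite G] {p : ℕ} [Fact p.Prime]
    (N : Subgroup G) [N.Normal] (h : Cfsg.HasNormalPComplement p N) :
    ∃ j : ℕ, Nat.card N = Nat.card (Cfsg.pPrimeCore p G ⊓ N : Subgroup G) * p ^ j := by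
  obtain ⟨P₀, K₀, hK₀, hc⟩ := h
  have hcop := coprime_card_of_complement P₀ K₀ hc
  obtain ⟨j, hj⟩ := P₀.isPGroup'.exists_card_eq
  have hidx : K₀.index = p ^ j := by rw [hc.symm.index_eq_card, hj]
  have hn : (K₀.map N.subtype).Normal :=
    normal_of_normal_hall_of_normal N K₀ (by rw [hidx]; exact hcop.pow_right j)
  have hcard : Nat.card (K₀.map N.subtype) = Nat.card K₀ :=
    card_map_of_injective N.subtype_injective
  have hle : K₀.map N.subtype ≤ Cfsg.pPrimeCore p G ⊓ N :=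
    le_inf (le_pPrimeCore p hn (by rw [hcard]; exact hcop)) (map_subtype_le _)
  have hN : Nat.card N = Nat.card K₀ * p ^ j := by rw [← hc.card_mul_card, hj]
  refine ⟨j, ?_⟩
  have h1 : Nat.card K₀ ∣ Nat.card (Cfsg.pPrimeCore p G ⊓ N : Subgroup G) := by
    rw [← hcard]; exact card_dvd_of_le hle
  have h2 : Nat.card (Cfsg.pPrimeCore p G ⊓ N : Subgroup G) ∣ Nat.card K₀ := by
    have h3 : Nat.card (Cfsg.pPrimeCore p G ⊓ N : Subgroup G) ∣ Nat.card K₀ * p ^ j := by
      rw [← hN]; exact card_dvd_of_le inf_le_right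
    have h4 : (Nat.card (Cfsg.pPrimeCore p G ⊓ N : Subgroup G)).Coprime (p ^ j) :=
      (Nat.Coprime.of_dvd_left (card_dvd_of_le inf_le_left) (card_pPrimeCore_coprime p)).pow_right j
    exact h4.dvd_of_dvd_mul_right h3
  rw [hN, Nat.dvd_antisymm h1 h2]

/-- Frobenius condition for a subgroup, checked in the ambient group. -/
theorem frobCond_subgroup_of {G : Type*} [Group G] {p : ℕ} (H : Subgroup G)
    (h : ∀ X : Subgroup G, X ≤ H → IsPGroup p X → ∀ y ∈ H, y ∈ normalizer (X : Set G) →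
      (orderOf y).Coprime p → y ∈ centralizer (X : Set G)) : FrobCond p H := by
  intro X₀ hX₀ y₀ hy₀ hyo
  have key := h (X₀.map H.subtype) (map_subtype_le _) (hX₀.map _) y₀ y₀.2 ?_
    (by rwa [Subgroup.orderOf_coe])
  · rw [mem_centralizer_iff]
    intro x hx
    apply Subtype.ext
    exact (mem_centralizer_iff.mp key) x ⟨x, hx, rfl⟩
  · rw [mem_normalizer_iff]
    intro z
    constructor
    · rintro ⟨x, hx, rfl⟩
      exact ⟨y₀ * x * y₀⁻¹, ((mem_normalizer_iff.mp hy₀) x).mp hx, by simp⟩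
    · rintro ⟨w, hw, hwe⟩
      refine ⟨y₀⁻¹ * w * y₀, ?_, ?_⟩
      · apply ((mem_normalizer_iff.mp hy₀) _).mpr
        have : y₀ * (y₀⁻¹ * w * y₀) * y₀⁻¹ = w := by group
        rw [this]; exact hw
      · have hwe' : (w : G) = (y₀ : G) * z * (y₀ : G)⁻¹ := hwe
        simp only [Subgroup.subtype_apply, Subgroup.coe_mul, InvMemClass.coe_inv, hwe']
        group

end Cfsg.Agent.H1
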