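import Cfsg.Agent.Lib_helper1_Repl2
import Cfsg.Agent.Lib_lead_Thompson
import Cfsg.Prelude.Def_DStar
import Cfsg.Prelude.Def_PLocal

set_option autoImplicit false

namespace Cfsg.Agent.H1

open Subgroup Cfsg
open scoped Pointwise commutatorElement

variable {G : Type*} [Group G]

theorem conj_eq_of_mem_centralizer {K : Subgroup G} {c k : G} (hc : c ∈ centralizer (K : Set G))
    (hk : k ∈ K) : k * c * k⁻¹ = c := by
  rw [mem_centralizer_iff.mp hc k hk]; group

theorem conj_eq_of_mem_centralizer' {K : Subgroup G} {c k : G} (hc : c ∈ centralizer (K : Set G))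
    (hk : k ∈ K) : k⁻¹ * c * k = c := by
  have := conj_eq_of_mem_centralizer hc (inv_mem hk)
  rwa [inv_inv] at this

/-- commutators of generators central implies class at most two. -/
theorem commutator_closure_le_centralizer {s : Set G}
    (h : ∀ x ∈ s, ∀ y ∈ s, ⁅x, y⁆ ∈ centralizer (closure s : Set G)) :
    ⁅closure s, closure s⁆ ≤ centralizer (closure s : Set G) := by
  rw [commutator_le]
  intro x hx y hy
  induction hx, hy using closure_induction₂ with
  | mem x y hx hy => exact h x hx y hy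
  | one_left x hx => simp
  | one_right x hx => simp
  | mul_left x y z hx hy hz h1 h2 =>
    have e : ⁅x * y, z⁆ = x * ⁅y, z⁆ * x⁻¹ * ⁅x, z⁆ := by
      simp only [commutatorElement_def]; group
    rw [e, conj_eq_of_mem_centralizer h2 hx]
    exact mul_mem h2 h1
  | mul_right y z x hy hz hx h1 h2 =>
    have e : ⁅x, y * z⁆ = ⁅x, y⁆ * (y * ⁅x, z⁆ * y⁻¹) := by
      simp only [commutatorElement_def]; group
    rw [e, conj_eq_of_mem_centralizer h2 hy]
    exact mul_mem h1 h2
  | inv_left x y hx hy h1 =>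
    have e : ⁅x⁻¹, y⁆ = x⁻¹ * (⁅x, y⁆)⁻¹ * x := by
      simp only [commutatorElement_def]; group
    rw [e, conj_eq_of_mem_centralizer' (inv_mem h1) hx]
    exact inv_mem h1
  | inv_right x y hx hy h1 =>
    have e : ⁅x, y⁻¹⁆ = y⁻¹ * (⁅x, y⁆)⁻¹ * y := by
      simp only [commutatorElement_def]; group
    rw [e, conj_eq_of_mem_centralizer' (inv_mem h1) hy]
    exact inv_mem h1

theorem class_two_of_comm_mem {A : Subgroup G} (hA : IsMulCommutative A) {x : G}
    (h : ∀ a ∈ A, ⁅a, x⁆ ∈ centralizer ((A ⊔ zpowers x : Subgroup G) : Set G)) :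
    ⁅⁅A ⊔ zpowers x, A ⊔ zpowers x⁆, A ⊔ zpowers x⁆ = ⊥ := by
  have hK : A ⊔ zpowers x = closure ((A : Set G) ∪ {x}) := by
    rw [Subgroup.closure_union, closure_eq, zpowers_eq_closure]
  rw [commutator_eq_bot_iff_le_centralizer]
  rw [hK] at h ⊢
  apply commutator_closure_le_centralizer
  rintro a (ha | ha) b (hb | hb)
  · have : ⁅a, b⁆ = 1 := by
      rw [commutatorElement_eq_one_iff_mul_comm]
      exact LeadJ.comm_of hA ha hb
    rw [this]; exact one_mem _
  · rw [Set.mem_singleton_iff] at hb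
    subst hb
    exact h a ha
  · rw [Set.mem_singleton_iff] at ha
    subst ha
    rw [← commutatorElement_inv]
    exact inv_mem (h b hb)
  · rw [Set.mem_singleton_iff] at ha hb
    subst ha; subst hb
    rw [commutatorElement_self]; exact one_mem _

theorem mem_centralizer_zpowers {c x : G} (h : c * x = x * c) :
    c ∈ centralizer ((zpowers x : Subgroup G) : Set G) := by
  have h1 : zpowers x ≤ centralizer ({c} : Set G) := by
    rw [zpowers_le, mem_centralizer_singleton_iff]
    exact h.symm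
  rw [mem_centralizer_iff]
  intro y hy
  have := h1 hy
  rw [mem_centralizer_singleton_iff] at this
  exact this

theorem class_two_of_quadratic {D : Subgroup G} (hD : IsMulCommutative D) {x : G}
    (hx : x ∈ normalizer (D : Set G)) (hq : ∀ d ∈ D, ⁅⁅d, x⁆, x⁆ = 1) :
    ⁅⁅D ⊔ zpowers x, D ⊔ zpowers x⁆, D ⊔ zpowers x⁆ = ⊥ := by
  apply class_two_of_comm_mem hD
  intro d hd
  have hmem : ⁅d, x⁆ ∈ D := by
    rw [commutatorElement_def]
    have : d * x * d⁻¹ * x⁻¹ = d * (x * d⁻¹ * x⁻¹) := by group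
    rw [this]
    exact mul_mem hd ((mem_normalizer_iff.mp hx _).mp (inv_mem hd))
  rw [centralizer_sup_eq]
  refine mem_inf.mpr ⟨?_, ?_⟩
  · rw [mem_centralizer_iff]
    intro e he
    exact LeadJ.comm_of hD he hmem
  · apply mem_centralizer_zpowers
    exact commutatorElement_eq_one_iff_mul_comm.mp (hq d hd)

/-- a finite `p`-group with `Z₂ = Z` is abelian. -/
theorem center_eq_top_of_second_center {T : Type*} [Group T] [Finite T] {p : ℕ} [Fact p.Prime]
    (hT : IsPGroup p T) (h : ∀ x : T, (∀ t : T, ⁅x, t⁆ ∈ center T) → x ∈ center T) :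
    center T = ⊤ := by
  by_contra hne
  have hnt : Nontrivial (T ⧸ center T) := by
    rw [← not_subsingleton_iff_nontrivial]
    intro hs
    apply hne
    rw [eq_top_iff]
    intro x _
    rw [← QuotientGroup.eq_one_iff]
    exact Subsingleton.elim _ _
  have hQ : IsPGroup p (T ⧸ center T) := hT.to_quotient _
  have hcn := hQ.center_nontrivial
  obtain ⟨⟨q, hq⟩, hq1⟩ := exists_ne (1 : center (T ⧸ center T))
  obtain ⟨x, rfl⟩ := QuotientGroup.mk_surjective q
  apply hq1
  apply Subtype.ext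
  change (x : T ⧸ center T) = 1
  rw [QuotientGroup.eq_one_iff]
  apply h
  intro t
  rw [← QuotientGroup.eq_one_iff]
  have h1 : ((⁅x, t⁆ : T) : T ⧸ center T) = ⁅(x : T ⧸ center T), (t : T ⧸ center T)⁆ := rfl
  rw [h1, commutatorElement_eq_one_iff_mul_comm]
  exact (mem_center_iff.mp hq t).symm

section typeLevel

variable {S : Type*} [Group S]

theorem dStarFamily_comm [Finite S] {p : ℕ} [Fact p.Prime] (hS : IsPGroup p S) {A B : Subgroup S}
    (hA : A ∈ dStarFamily S) (hB : B ∈ dStarFamily S) : ∀ a ∈ A, ∀ b ∈ B, a * b = b * a := by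
  have hT : IsPGroup p ↥(A ⊔ B) := hS.to_subgroup _
  have key : ∀ C : Subgroup S, C ∈ dStarFamily S → C ≤ A ⊔ B → ∀ x : ↥(A ⊔ B),
      (∀ t : ↥(A ⊔ B), ⁅x, t⁆ ∈ center ↥(A ⊔ B)) → ∀ c ∈ C, c * (x : S) = x * c := by
    intro C hC hCT x hx
    apply hC.2
    apply class_two_of_comm_mem hC.1
    intro c hc
    have h1 := hx ⟨c, hCT hc⟩
    rw [← commutatorElement_inv]
    apply inv_mem
    rw [mem_centralizer_iff]
    intro y hy
    have hyT : y ∈ A ⊔ B := (sup_le hCT ((zpowers_le).mpr x.2)) hy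
    exact congrArg Subtype.val (mem_center_iff.mp h1 ⟨y, hyT⟩)
  have hc := center_eq_top_of_second_center hT (by
    intro x hx
    have h1 := key A hA le_sup_left x hx
    have h2 := key B hB le_sup_right x hx
    have h3 : (x : S) ∈ centralizer ((A ⊔ B : Subgroup S) : Set S) := by
      rw [centralizer_sup_eq]
      exact mem_inf.mpr ⟨mem_centralizer_iff.mpr h1, mem_centralizer_iff.mpr h2⟩
    rw [mem_center_iff]
    intro t
    exact Subtype.ext (mem_centralizer_iff.mp h3 t t.2))
  intro a ha b hb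
  have h1 : (⟨b, mem_sup_right hb⟩ : ↥(A ⊔ B)) ∈ center ↥(A ⊔ B) := by rw [hc]; trivial
  exact congrArg Subtype.val (mem_center_iff.mp h1 ⟨a, mem_sup_left ha⟩)

theorem dStar_mem [Finite S] {p : ℕ} [Fact p.Prime] (hS : IsPGroup p S) :
    dStar S ∈ dStarFamily S := by
  constructor
  · have h1 : dStar S ≤ centralizer (dStar S : Set S) := by
      apply sSup_le
      intro A hA
      rw [le_centralizer_iff]
      apply sSup_le
      intro B hB b hb
      rw [mem_centralizer_iff]
      intro a ha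
      exact dStarFamily_comm hS hA hB a ha b hb
    exact LeadJ.comm_mk fun a ha b hb => (mem_centralizer_iff.mp (h1 ha) b hb).symm
  · intro x hx
    have h1 : dStar S ≤ centralizer ({x} : Set S) := by
      apply sSup_le
      intro A hA a ha
      rw [mem_centralizer_singleton_iff]
      apply hA.2 x _ a ha
      rw [eq_bot_iff, ← hx]
      have hle : A ⊔ zpowers x ≤ dStar S ⊔ zpowers x := sup_le_sup_right (le_sSup hA) _
      exact commutator_mono (commutator_mono hle hle) hle
    intro a ha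
    exact mem_centralizer_singleton_iff.mp (h1 ha)

theorem dStarFamily_map {S' : Type*} [Group S'] (e : S ≃* S') {A : Subgroup S}
    (hA : A ∈ dStarFamily S) : A.map e.toMonoidHom ∈ dStarFamily S' := by
  refine ⟨LeadJ.comm_mk ?_, ?_⟩
  · rintro _ ⟨a, ha, rfl⟩ _ ⟨b, hb, rfl⟩
    rw [← map_mul, ← map_mul, LeadJ.comm_of hA.1 ha hb]
  · intro x' hx'
    obtain ⟨x, rfl⟩ := e.surjective x'
    have h1 : A.map e.toMonoidHom ⊔ zpowers (e x) = (A ⊔ zpowers x).map e.toMonoidHom := by
      rw [Subgroup.map_sup, MonoidHom.map_zpowers]; rfl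
    rw [h1, ← map_commutator, ← map_commutator, map_eq_bot_iff_of_injective _ e.injective] at hx'
    rintro _ ⟨a, ha, rfl⟩
    have := hA.2 x hx' a ha
    change e a * e x = e x * e a
    rw [← map_mul, ← map_mul, this]

theorem dStar_normal [Finite S] {p : ℕ} [Fact p.Prime] (hS : IsPGroup p S) : (dStar S).Normal := by
  refine ⟨fun n hn g => ?_⟩
  have h1 : (dStar S).map (MulAut.conj g).toMonoidHom ≤ dStar S :=
    le_sSup (dStarFamily_map _ (dStar_mem hS))
  exact h1 ⟨n, hn, rfl⟩

theorem dStar_comm_of_quadratic [Finite S] {p : ℕ} [Fact p.Prime] (hS : IsPGroup p S) {x : S}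
    (hq : ∀ d ∈ dStar S, ⁅⁅d, x⁆, x⁆ = 1) : ∀ d ∈ dStar S, d * x = x * d := by
  have hn := dStar_normal hS
  apply (dStar_mem hS).2
  apply class_two_of_quadratic (dStar_mem hS).1 _ hq
  rw [normalizer_eq_top]; trivial

theorem center_mem_dStarFamily : center S ∈ dStarFamily S := by
  refine ⟨inferInstance, ?_⟩
  intro x _ a ha
  exact (mem_center_iff.mp ha x).symm

end typeLevel

theorem AbAct.commutator_eq_bot_of_eq_sup {V A U : Subgroup G} (hact : AbAct V A) (hU : U ≤ V)
    (h2 : V = ⁅U, A⁆ ⊔ (V ⊓ centralizer (A : Set G)))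
    (hlt : ⁅V, A⁆ ≠ ⊥ → ⁅⁅V, A⁆, A⁆ < ⁅V, A⁆) : ⁅V, A⁆ = ⊥ := by
  have h3 : ⁅V, A⁆ ≤ ⁅⁅V, A⁆, A⁆ := by
    conv_lhs => rw [h2]
    rw [hact.sup_commutator (hact.commutator_le hU) inf_le_left]
    apply sup_le
    · exact commutator_mono (commutator_mono hU le_rfl) le_rfl
    · have : ⁅V ⊓ centralizer (A : Set G), A⁆ = ⊥ := by
        rw [commutator_eq_bot_iff_le_centralizer]; exact inf_le_right
      rw [this]; exact bot_le
  by_contra hne
  exact absurd h3 (not_le_of_gt (hlt hne))

end Cfsg.Agent.H1
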