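import Cfsg.Agent.Lib_helper1_PIrr

set_option autoImplicit false

namespace Cfsg.Agent.H1

open Subgroup Cfsg
open scoped Pointwise commutatorElement

variable {H : Type*} [Group H] {p : ℕ}

theorem comap_pCore_quotient [Finite H] [Fact p.Prime] (D : Subgroup H) [D.Normal] (hD : IsPGroup p D) :
    (pCore p (H ⧸ D)).comap (QuotientGroup.mk' D) = pCore p H := by
  apply le_antisymm
  · apply le_pCore p
    · have := pCore_normal (G := H ⧸ D) p
      infer_instance
    · apply (pCore_isPGroup p).comap_of_ker_isPGroup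
      rw [QuotientGroup.ker_mk']; exact hD
  · rw [← map_le_iff_le_comap]
    apply le_pCore p
    · exact (pCore_normal (G := H) p).map _ (QuotientGroup.mk'_surjective D)
    · exact (pCore_isPGroup p).map _

theorem exists_pow_eq_one_of_map {D : Subgroup H} [D.Normal] (hD : IsPGroup p D) {x : H}
    (h : ∃ k : ℕ, (QuotientGroup.mk' D x) ^ p ^ k = 1) : ∃ k : ℕ, x ^ p ^ k = 1 := by
  obtain ⟨k, hk⟩ := h
  rw [← map_pow] at hk
  have h1 : x ^ p ^ k ∈ D := (QuotientGroup.eq_one_iff _).mp hk
  obtain ⟨j, hj⟩ := exists_pow_eq_one_of_mem hD h1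
  exact ⟨k + j, by rw [pow_add, pow_mul, hj]⟩

theorem isPClosed_map_iff [Finite H] [Fact p.Prime] {D : Subgroup H} [D.Normal] (hD : IsPGroup p D)
    (N : Subgroup H) : IsPClosed p ↥(N.map (QuotientGroup.mk' D)) ↔ IsPClosed p ↥N := by
  constructor
  · intro h
    rw [isPClosed_sub_iff] at h
    apply isPClosed_of_forall_mem
      (Q := N ⊓ (pCoreOf p (N.map (QuotientGroup.mk' D))).comap (QuotientGroup.mk' D)) inf_le_left
    · apply le_normalizer_inf le_normalizer
      refine le_trans ?_ (le_normalizer_comap _)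
      rw [← map_le_iff_le_comap]
      exact le_normalizer_pCoreOf _
    · apply IsPGroup.to_le _ inf_le_right
      apply (isPGroup_pCoreOf _).comap_of_ker_isPGroup
      rw [QuotientGroup.ker_mk']; exact hD
    · intro x hx ⟨k, hk⟩
      exact ⟨hx, h _ (mem_map_of_mem _ hx) ⟨k, by rw [← map_pow, hk, map_one]⟩⟩
  · intro h
    rw [isPClosed_sub_iff] at h
    apply isPClosed_of_forall_mem (Q := (pCoreOf p N).map (QuotientGroup.mk' D)) (map_mono (pCoreOf_le N))
    · exact (map_mono (le_normalizer_pCoreOf N)).trans (le_normalizer_map _)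
    · exact (isPGroup_pCoreOf N).map _
    · rintro _ ⟨x, hx, rfl⟩ hk
      exact mem_map_of_mem _ (h x hx (exists_pow_eq_one_of_map hD hk))

theorem isPClosed_quotient_iff [Finite H] [Fact p.Prime] {D : Subgroup H} [D.Normal] (hD : IsPGroup p D) :
    IsPClosed p (H ⧸ D) ↔ IsPClosed p H := by
  rw [← isPClosed_top_iff, ← isPClosed_top_iff (H := H), ← isPClosed_map_iff hD ⊤,
    map_top_of_surjective _ (QuotientGroup.mk'_surjective D)]

theorem pResidual_quotient_le [Finite H] [Fact p.Prime] (D : Subgroup H) [D.Normal] :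
    pResidual p (H ⧸ D) ≤ (pResidual p H).map (QuotientGroup.mk' D) := by
  unfold pResidual
  rw [closure_le]
  intro y hy
  obtain ⟨x, rfl⟩ := QuotientGroup.mk'_surjective D y
  have := pResidual_normal (G := H) p
  obtain ⟨k, hk⟩ := (isPGroup_quotient_pResidual (G := H) p) (x : H ⧸ pResidual p H)
  rw [← QuotientGroup.mk_pow, QuotientGroup.eq_one_iff] at hk
  apply mem_of_pow_mem_of_coprime' (n := p ^ k) _ (Nat.Coprime.pow_left k (Nat.Coprime.symm hy))
  rw [← map_pow]
  exact mem_map_of_mem _ hk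

/-- if `O^p(H/D) ≤ ND/D` for a normal `p`-subgroup `D` and `N ⊴ H`, then `O^p(H) ≤ N`. -/
theorem pResidual_le_of_quotient_le {D N : Subgroup H} [D.Normal] [N.Normal] (hD : IsPGroup p D)
    (h : pResidual p (H ⧸ D) ≤ N.map (QuotientGroup.mk' D)) : pResidual p H ≤ N := by
  unfold pResidual
  rw [closure_le]
  intro x hx
  have h1 : QuotientGroup.mk' D x ∈ pResidual p (H ⧸ D) := by
    apply mem_pResidual_of_coprime
    exact Nat.Coprime.coprime_dvd_left (orderOf_map_dvd _ x) hx
  obtain ⟨n, hn, hnx⟩ := h h1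
  apply mem_of_coprime_of_mem_sup_pgroup hD _ hx
  have h2 : n⁻¹ * x ∈ D := by
    rw [← QuotientGroup.eq_one_iff]
    change QuotientGroup.mk' D (n⁻¹ * x) = 1
    rw [map_mul, map_inv, hnx, inv_mul_cancel]
  have h3 : x = n * (n⁻¹ * x) := by group
  rw [h3]
  exact mul_mem (mem_sup_left hn) (mem_sup_right h2)

end Cfsg.Agent.H1
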