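import Cfsg.Agent.Lib_helper1_DStar
import Cfsg.Agent.Lib_helper1_PIrr2
import Cfsg.Agent.Lib_helper1_Cores2

set_option autoImplicit false

namespace Cfsg.Agent.H1

open Subgroup Cfsg
open scoped Pointwise commutatorElement

variable {G : Type*} [Group G]

/-- relative version of `dStarFamily`. -/
def DFam (P A : Subgroup G) : Prop :=
  A ≤ P ∧ IsMulCommutative A ∧ ∀ x ∈ P,
    ⁅⁅A ⊔ zpowers x, A ⊔ zpowers x⁆, A ⊔ zpowers x⁆ = ⊥ → ∀ a ∈ A, a * x = x * a

theorem dFam_map_subtype {P : Subgroup G} {A' : Subgroup P} (h : A' ∈ dStarFamily P) :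
    DFam P (A'.map P.subtype) := by
  refine ⟨map_subtype_le _, LeadJ.comm_mk ?_, ?_⟩
  · rintro _ ⟨a, ha, rfl⟩ _ ⟨b, hb, rfl⟩
    rw [← map_mul, ← map_mul, LeadJ.comm_of h.1 ha hb]
  · intro x hx hx'
    have h1 : A'.map P.subtype ⊔ zpowers x = (A' ⊔ zpowers (⟨x, hx⟩ : P)).map P.subtype := by
      rw [Subgroup.map_sup, MonoidHom.map_zpowers]; rfl
    rw [h1, ← map_commutator, ← map_commutator,
      map_eq_bot_iff_of_injective _ P.subtype_injective] at hx'
    rintro _ ⟨a, ha, rfl⟩
    exact congrArg Subtype.val (h.2 ⟨x, hx⟩ hx' a ha)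

theorem subgroupOf_mem_dStarFamily {P A : Subgroup G} (h : DFam P A) :
    A.subgroupOf P ∈ dStarFamily P := by
  refine ⟨LeadJ.comm_mk ?_, ?_⟩
  · intro a ha b hb
    exact Subtype.ext (LeadJ.comm_of h.2.1 (mem_subgroupOf.mp ha) (mem_subgroupOf.mp hb))
  · intro x hx a ha
    apply Subtype.ext
    apply h.2.2 x x.2 _ a (mem_subgroupOf.mp ha)
    have h1 : A ⊔ zpowers (x : G) = (A.subgroupOf P ⊔ zpowers x).map P.subtype := by
      rw [Subgroup.map_sup, MonoidHom.map_zpowers, subgroupOf_map_subtype, inf_eq_left.mpr h.1]; rfl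
    rw [h1, ← map_commutator, ← map_commutator, hx, Subgroup.map_bot]

theorem dFam_dStarOf [Finite G] {p : ℕ} [Fact p.Prime] {P : Subgroup G} (hP : IsPGroup p P) :
    DFam P (dStarOf P) := dFam_map_subtype (dStar_mem hP)

theorem le_dStarOf {P A : Subgroup G} (h : DFam P A) : A ≤ dStarOf P := by
  have h1 : A.subgroupOf P ≤ dStar P := le_sSup (subgroupOf_mem_dStarFamily h)
  have h2 := map_mono (f := P.subtype) h1
  rwa [subgroupOf_map_subtype, inf_eq_left.mpr h.1] at h2

theorem dFam_map {G' : Type*} [Group G'] (e : G ≃* G') {P A : Subgroup G} (h : DFam P A) :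
    DFam (P.map e.toMonoidHom) (A.map e.toMonoidHom) := by
  refine ⟨map_mono h.1, LeadJ.comm_mk ?_, ?_⟩
  · rintro _ ⟨a, ha, rfl⟩ _ ⟨b, hb, rfl⟩
    rw [← map_mul, ← map_mul, LeadJ.comm_of h.2.1 ha hb]
  · rintro _ ⟨x, hx, rfl⟩ hx'
    have h1 : A.map e.toMonoidHom ⊔ zpowers (e.toMonoidHom x) = (A ⊔ zpowers x).map e.toMonoidHom := by
      rw [Subgroup.map_sup, MonoidHom.map_zpowers]
    rw [h1, ← map_commutator, ← map_commutator, map_eq_bot_iff_of_injective _ e.injective] at hx'
    rintro _ ⟨a, ha, rfl⟩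
    rw [← map_mul, ← map_mul, h.2.2 x hx hx' a ha]

theorem le_normalizer_dStarOf [Finite G] {p : ℕ} [Fact p.Prime] {P : Subgroup G}
    (hP : IsPGroup p P) : P ≤ normalizer (dStarOf P : Set G) := by
  have hn := dStar_normal hP
  apply le_normalizer_of_conj_mem
  rintro k hk _ ⟨d, hd, rfl⟩
  exact ⟨⟨k, hk⟩ * d * ⟨k, hk⟩⁻¹, hn.conj_mem d hd _, rfl⟩

theorem commutatorElement_mul_right_of_comm {d x c : G} (h : c * d = d * c) :
    ⁅d, x * c⁆ = ⁅d, x⁆ := by
  have h' : c * d⁻¹ = d⁻¹ * c := by
    calc c * d⁻¹ = d⁻¹ * (d * c) * d⁻¹ := by group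
      _ = d⁻¹ * (c * d) * d⁻¹ := by rw [h]
      _ = _ := by group
  rw [commutatorElement_def, commutatorElement_def]
  calc d * (x * c) * d⁻¹ * (x * c)⁻¹ = d * x * (c * d⁻¹) * c⁻¹ * x⁻¹ := by group
    _ = d * x * (d⁻¹ * c) * c⁻¹ * x⁻¹ := by rw [h']
    _ = _ := by group

theorem dStarOf_normal [Finite G] {p : ℕ} [Fact p.Prime]
    (hc : centralizer (pCore p G : Set G) ≤ pCore p G)
    (hst : ∀ (P : Subgroup G) [P.Normal], IsPGroup p P → IsPStableOn p P) (S : Sylow p G) :
    (dStarOf (S : Subgroup G)).Normal := by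
  have hQn := pCore_normal (G := G) p
  have hQp := pCore_isPGroup (G := G) p
  have hQS : ∀ S' : Sylow p G, pCore p G ≤ S' := fun S' => hQp.le_sylow_of_normal S'
  set Q := pCore p G with hQ
  set D := dStarOf (S : Subgroup G) with hD
  have hDF : DFam S D := dFam_dStarOf S.2
  have hSD : (S : Subgroup G) ≤ normalizer (D : Set G) := le_normalizer_dStarOf S.2
  have hDD : ⁅D, D⁆ = ⊥ := commutator_eq_bot_of_comm hDF.2.1 le_rfl le_rfl
  -- Step 1
  have hDQ : D ≤ Q := by
    intro d hd
    have hq : ⁅⁅Q, zpowers d⁆, zpowers d⁆ = ⊥ := by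
      rw [eq_bot_iff, ← hDD]
      have h1 : zpowers d ≤ D := (zpowers_le).mpr hd
      have h2 : ⁅Q, D⁆ ≤ D := by
        rw [commutator_comm]
        exact commutator_le_of_le_normalizer ((hQS S).trans hSD)
      exact commutator_mono ((commutator_mono le_rfl h1).trans h2) h1
    have h3 := hst Q hQp d hq
    have h4 := comap_pCore_quotient (p := p) (centralizer (Q : Set G)) (hQp.to_le hc)
    rw [hQ, ← h4]
    exact h3
  -- Step 2
  have hconjQ : ∀ g : G, D.map (MulAut.conj g).toMonoidHom ≤ Q := by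
    rintro g _ ⟨d, hd, rfl⟩
    exact hQn.conj_mem d (hDQ hd) g
  have hQnorm : ∀ g : G, Q ≤ normalizer ((D.map (MulAut.conj g).toMonoidHom : Subgroup G) : Set G) := by
    intro g q hq
    rw [mem_normalizer_map_conj]
    apply hSD
    apply hQS S
    have := hQn.conj_mem q hq g⁻¹
    rwa [inv_inv] at this
  have hcomm : ∀ g : G, ∀ y ∈ D.map (MulAut.conj g).toMonoidHom, ∀ d ∈ D, d * y = y * d := by
    intro g y hy
    apply hDF.2.2 y (hQS S (hconjQ g hy))
    apply class_two_of_quadratic hDF.2.1 (hSD (hQS S (hconjQ g hy)))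
    intro d hd
    rw [commutatorElement_eq_one_iff_mul_comm]
    apply LeadJ.comm_of (isMulCommutative_map_conj hDF.2.1 g) _ hy
    rw [commutatorElement_def]
    exact mul_mem ((mem_normalizer_iff.mp (hQnorm g (hDQ hd)) y).mp hy) (inv_mem hy)
  set N := normalClosure (D : Set G) with hN
  have hDN : D ≤ N := subset_normalClosure
  have hNQ : N ≤ Q := normalClosure_le_normal (hDQ : D ≤ _)
  have hgen : ∀ C : Subgroup G, (∀ g : G, D.map (MulAut.conj g).toMonoidHom ≤ C) → N ≤ C := by
    intro C hC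
    rw [hN, normalClosure, closure_le]
    intro x hx
    obtain ⟨a, ha, hax⟩ := Group.mem_conjugatesOfSet_iff.mp hx
    obtain ⟨g, hg⟩ := isConj_iff.mp hax
    exact hC g ⟨a, ha, hg⟩
  have hND : N ≤ centralizer (D : Set G) := by
    apply hgen
    intro g y hy
    rw [mem_centralizer_iff]
    exact hcomm g y hy
  have hNN : N ≤ centralizer (N : Set G) := by
    have : D ≤ centralizer (N : Set G) := le_centralizer_iff.mp hND
    exact normalClosure_le_normal (this : D ≤ _)
  have hNc : IsMulCommutative N :=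
    LeadJ.comm_mk fun a ha b hb => (mem_centralizer_iff.mp (hNN ha) b hb).symm
  have hNp : IsPGroup p N := hQp.to_le hNQ
  -- Step 3
  have hNF : DFam S N := by
    refine ⟨hNQ.trans (hQS S), hNc, ?_⟩
    intro x hx hx3
    have hq : ⁅⁅N, zpowers x⁆, zpowers x⁆ = ⊥ := by
      rw [eq_bot_iff, ← hx3]
      exact commutator_mono (commutator_mono le_sup_left le_sup_right) le_sup_right
    have h3 := hst N hNp x hq
    have hle : N ≤ centralizer ({x} : Set G) := by
      apply hgen
      intro g
      have hsurj := QuotientGroup.mk'_surjective (centralizer (N : Set G))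
      have hpn := pCore_normal (G := G ⧸ centralizer (N : Set G)) p
      have h4 : pCore p (G ⧸ centralizer (N : Set G)) ≤
          ((g • S : Sylow p G) : Subgroup G).map (QuotientGroup.mk' (centralizer (N : Set G))) := by
        have := (pCore_isPGroup (G := G ⧸ centralizer (N : Set G)) p).le_sylow_of_normal
          ((g • S).mapSurjective hsurj)
        simpa using this
      obtain ⟨y, hy, hyx⟩ := h4 h3
      have hc' : y⁻¹ * x ∈ centralizer (N : Set G) := by
        rw [← QuotientGroup.eq]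
        exact hyx
      set c := y⁻¹ * x with hcdef
      have hxy : x = y * c := by rw [hcdef]; group
      have hyx' : y = x * c⁻¹ := by rw [hcdef]; group
      have hSg : ((g • S : Sylow p G) : Subgroup G) = (S : Subgroup G).map (MulAut.conj g).toMonoidHom := rfl
      have hDFg : DFam ((g • S : Sylow p G) : Subgroup G) (D.map (MulAut.conj g).toMonoidHom) := by
        rw [hSg]; exact dFam_map (MulAut.conj g) hDF
      have hDgN : D.map (MulAut.conj g).toMonoidHom ≤ N := by
        rintro _ ⟨d, hd, rfl⟩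
        exact (normalClosure_normal (s := (D : Set G))).conj_mem d (hDN hd) g
      have hynorm : y ∈ normalizer ((D.map (MulAut.conj g).toMonoidHom : Subgroup G) : Set G) := by
        rw [mem_normalizer_map_conj]
        apply hSD
        have hy' : y ∈ (S : Subgroup G).map (MulAut.conj g).toMonoidHom := hy
        rw [mem_map_conj_iff] at hy'
        exact hy'
      have hcomm_c : ∀ n ∈ N, c⁻¹ * n = n * c⁻¹ := by
        intro n hn
        exact (mem_centralizer_iff.mp (inv_mem hc') n hn).symm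
      have hyD : ∀ d ∈ D.map (MulAut.conj g).toMonoidHom, d * y = y * d := by
        apply hDFg.2.2 y hy
        apply class_two_of_quadratic hDFg.2.1 hynorm
        intro d hd
        have hdN := hDgN hd
        have e1 : ⁅d, y⁆ = ⁅d, x⁆ := by
          rw [hyx']; exact commutatorElement_mul_right_of_comm (hcomm_c d hdN)
        have hdx : ⁅d, x⁆ ∈ N := by
          rw [commutatorElement_def]
          have : d * x * d⁻¹ * x⁻¹ = d * (x * d⁻¹ * x⁻¹) := by group
          rw [this]
          exact mul_mem hdN ((normalClosure_normal (s := (D : Set G))).conj_mem _ (inv_mem hdN) x)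
        have e2 : ⁅⁅d, x⁆, y⁆ = ⁅⁅d, x⁆, x⁆ := by
          rw [hyx']; exact commutatorElement_mul_right_of_comm (hcomm_c _ hdx)
        rw [e1, e2]
        have : ⁅⁅d, x⁆, x⁆ ∈ ⁅⁅N, zpowers x⁆, zpowers x⁆ :=
          commutator_mem_commutator (commutator_mem_commutator hdN (mem_zpowers x)) (mem_zpowers x)
        rw [hq, mem_bot] at this
        exact this
      intro d hd
      rw [mem_centralizer_singleton_iff, hxy]
      have h5 := hyD d hd
      have h6 : d * c = c * d := mem_centralizer_iff.mp hc' d (hDgN hd)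
      calc d * (y * c) = (d * y) * c := by group
        _ = y * (d * c) := by rw [h5]; group
        _ = y * c * d := by rw [h6]; group
    intro a ha
    exact mem_centralizer_singleton_iff.mp (hle ha)
  have hfin : D = N := le_antisymm hDN (le_dStarOf hNF)
  rw [hfin]
  exact normalClosure_normal

end Cfsg.Agent.H1
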