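import Mathlib
import Cfsg.Agent.Lib_helper1_PNilp
import Cfsg.Agent.Lib_helper1_PIrr2
import Cfsg.Agent.Lib_helper1_Cores
import Cfsg.Agent.Lib_helper1_AbDecomp
import Cfsg.Agent.Lib_helper1_MinAct

set_option autoImplicit false

namespace Cfsg.Agent.H1

open Cfsg Subgroup
open scoped commutatorElement IsMulCommutative

/-- a finite `p`-group has an element whose order is the exponent. -/
theorem exists_orderOf_eq_exponent_of_pgroup {K : Type*} [Group K] [Finite K] {p : ℕ}
    [Fact p.Prime] (hK : IsPGroup p K) : ∃ k : K, orderOf k = Monoid.exponent K := by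
  obtain ⟨n, hn⟩ := IsPGroup.iff_card.1 hK
  have h1 : Monoid.exponent K ∣ p ^ n := hn ▸ Group.exponent_dvd_nat_card
  obtain ⟨m, -, hm⟩ := (Nat.dvd_prime_pow Fact.out).1 h1
  rcases Nat.eq_zero_or_pos m with rfl | hpos
  · exact ⟨1, by rw [orderOf_one, hm, pow_zero]⟩
  · obtain ⟨m', rfl⟩ : ∃ m', m = m' + 1 := ⟨m - 1, by omega⟩
    by_contra hcon
    push Not at hcon
    have h2 : ∀ x : K, x ^ p ^ m' = 1 := by
      intro x
      by_contra hx
      apply hcon x
      rw [hm]
      apply orderOf_eq_prime_pow hx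
      rw [← hm]
      exact Monoid.pow_exponent_eq_one x
    have h3 := Monoid.exponent_dvd_of_forall_pow_eq_one h2
    rw [hm] at h3
    have h4 := Nat.pow_dvd_pow_iff_le_right (Fact.out : p.Prime).one_lt |>.1 h3
    omega

section
variable {K : Type*} [Group K] [Finite K] {p q : ℕ} [Fact p.Prime]

theorem frob_section (hq : q.Prime) (hqp : q ≠ p) (V : Subgroup K) [V.Normal]
    [IsMulCommutative V] (hVp : IsPGroup p V) (hV1 : V ≠ ⊥) (y0 : K)
    (hgen : V ⊔ zpowers y0 = ⊤) (hy0 : y0 ^ q = 1) (hcomm : V ≤ ⁅V, (⊤ : Subgroup K)⁆) :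
    pPrimeCore p K = ⊥ ∧ ¬ ∃ k : K, orderOf k = Monoid.exponent K := by
  have hp : p.Prime := Fact.out
  haveI : Fact q.Prime := ⟨hq⟩
  -- index divides q
  have hidx : V.index ∣ q := by
    have h1 : zpowers (QuotientGroup.mk y0 : K ⧸ V) = ⊤ := by
      have h2 := congrArg (Subgroup.map (QuotientGroup.mk' V)) hgen
      rw [Subgroup.map_sup, QuotientGroup.map_mk'_self, bot_sup_eq, MonoidHom.map_zpowers,
        Subgroup.map_top_of_surjective _ (QuotientGroup.mk'_surjective V)] at h2
      exact h2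
    rw [Subgroup.index_eq_card, ← Nat.card_congr (Subgroup.topEquiv (G := K ⧸ V)).toEquiv, ← h1,
      Nat.card_zpowers]
    apply orderOf_dvd_of_pow_eq_one
    rw [← QuotientGroup.mk_pow, hy0]
    rfl
  obtain ⟨n, hn⟩ := IsPGroup.iff_card.1 hVp
  have hcop : Nat.Coprime (Nat.card V) (V.relIndex ⊤) := by
    rw [Subgroup.relIndex_top_right, hn]
    apply Nat.Coprime.pow_left
    exact Nat.Coprime.coprime_dvd_right hidx ((Nat.coprime_primes hp hq).2 hqp.symm)
  have hZ : V ⊓ centralizer ((⊤ : Subgroup K) : Set K) = ⊥ := by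
    have h1 := abelian_decomp_inf V ⊤ le_top hcop
    rw [eq_bot_iff, ← h1]
    exact le_inf le_rfl (inf_le_left.trans hcomm)
  have hVab : ∀ a ∈ V, ∀ b ∈ V, a * b = b * a := by
    intro a ha b hb
    have := mul_comm' (⟨a, ha⟩ : V) ⟨b, hb⟩
    exact congrArg Subtype.val this
  have hidxq : V.index = q := by
    rcases (Nat.dvd_prime hq).1 hidx with h | h
    · exfalso
      rw [Subgroup.index_eq_one] at h
      apply hV1
      rw [eq_bot_iff, ← hZ]
      refine le_inf le_rfl ?_
      intro a ha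
      rw [mem_centralizer_iff]
      intro b _
      exact hVab b (h ▸ mem_top b) a ha
    · exact h
  -- any element outside `V` generates with `V`
  have hmax : ∀ b : K, b ∉ V → V ⊔ zpowers b = ⊤ := by
    intro b hb
    have h1 : (V ⊔ zpowers b).index ∣ q := hidxq ▸ Subgroup.index_dvd_of_le le_sup_left
    rcases (Nat.dvd_prime hq).1 h1 with h | h
    · exact Subgroup.index_eq_one.1 h
    · exfalso
      apply hb
      have h2 := Subgroup.relIndex_mul_index (le_sup_left : V ≤ V ⊔ zpowers b)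
      rw [h, hidxq] at h2
      have h3 : V.relIndex (V ⊔ zpowers b) = 1 := by
        have hq0 : 0 < q := hq.pos
        nlinarith
      exact (Subgroup.relIndex_eq_one.1 h3) (mem_sup_right (mem_zpowers b))
  -- an element commuting with `V` and some `b ∉ V` which lies in `V` is trivial
  have hkill : ∀ a ∈ V, ∀ b : K, b ∉ V → a * b = b * a → a = 1 := by
    intro a ha b hb hab
    have h1 : a ∈ V ⊓ centralizer ((⊤ : Subgroup K) : Set K) := by
      refine ⟨ha, ?_⟩
      have h2 : (⊤ : Subgroup K) ≤ centralizer {a} := by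
        rw [← hmax b hb]
        refine sup_le ?_ ?_
        · intro v hv
          rw [mem_centralizer_singleton_iff]
          exact hVab v hv a ha
        · rw [zpowers_le, mem_centralizer_singleton_iff]
          exact hab.symm
      show a ∈ centralizer ((⊤ : Subgroup K) : Set K)
      rw [mem_centralizer_iff]
      intro g _
      have := h2 (mem_top g)
      rw [mem_centralizer_singleton_iff] at this
      exact this
    rw [hZ] at h1
    exact h1
  have hpV : ∀ a : K, a ^ p = 1 → a ∈ V := by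
    intro a ha
    rw [← QuotientGroup.eq_one_iff]
    have h1 : orderOf (QuotientGroup.mk a : K ⧸ V) ∣ p := by
      apply orderOf_dvd_of_pow_eq_one
      rw [← QuotientGroup.mk_pow, ha]; rfl
    have h2 : orderOf (QuotientGroup.mk a : K ⧸ V) ∣ q := by
      rw [← hidxq, Subgroup.index_eq_card]
      exact orderOf_dvd_natCard _
    exact orderOf_eq_one_iff.1 (Nat.eq_one_of_dvd_coprimes ((Nat.coprime_primes hp hq).2 hqp.symm)
      h1 h2)
  have hqV : ∀ b : K, orderOf b = q → b ∉ V := by
    intro b hb hbV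
    obtain ⟨k, hk⟩ := hVp ⟨b, hbV⟩
    have h1 : b ^ p ^ k = 1 := by simpa using congrArg Subtype.val hk
    have h2 : q ∣ p ^ k := hb ▸ orderOf_dvd_of_pow_eq_one h1
    exact hqp ((Nat.prime_dvd_prime_iff_eq hq hp).1 (hq.dvd_of_dvd_pow h2))
  constructor
  · rw [eq_bot_iff]
    intro x hx
    rw [mem_bot]
    by_contra hx1
    haveI := pPrimeCore_normal (G := K) p
    have hXV : pPrimeCore p K ⊓ V = ⊥ := by
      apply Subgroup.inf_eq_bot_of_coprime
      rw [hn]
      exact Nat.Coprime.pow_right n (card_pPrimeCore_coprime (G := K) (p := p))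
    have hxV : x ∉ V := by
      intro h
      have : x ∈ pPrimeCore p K ⊓ V := ⟨hx, h⟩
      rw [hXV] at this
      exact hx1 this
    apply hV1
    rw [eq_bot_iff]
    intro v hv
    rw [mem_bot]
    apply hkill v hv x hxV
    have h1 : ⁅x, v⁆ ∈ pPrimeCore p K ⊓ V := by
      refine Subgroup.mem_inf.2 ⟨?_, ?_⟩
      · rw [commutatorElement_def]
        have : x * v * x⁻¹ * v⁻¹ = x * (v * x⁻¹ * v⁻¹) := by group
        rw [this]
        exact mul_mem hx ((inferInstance : (pPrimeCore p K).Normal).conj_mem _ (inv_mem hx) v)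
      · rw [commutatorElement_def]
        exact mul_mem ((inferInstance : V.Normal).conj_mem _ hv x) (inv_mem hv)
    rw [hXV, mem_bot, commutatorElement_eq_one_iff_mul_comm] at h1
    exact h1.symm
  · rintro ⟨k, hk⟩
    have hpc : p ∣ Nat.card K := by
      have h1 : p ∣ Nat.card V := by
        rw [hn]
        apply dvd_pow_self
        rintro rfl
        apply hV1
        rw [pow_zero] at hn
        exact Subgroup.card_eq_one.1 hn
      exact h1.trans (Subgroup.card_subgroup_dvd_card V)
    have hqc : q ∣ Nat.card K := by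
      rw [← Subgroup.card_mul_index V, hidxq]
      exact Dvd.intro_left _ rfl
    obtain ⟨a0, ha0⟩ := exists_prime_orderOf_dvd_card' p hpc
    obtain ⟨b0, hb0⟩ := exists_prime_orderOf_dvd_card' q hqc
    have hpk : p ∣ orderOf k := by
      rw [hk, ← ha0]; exact Monoid.order_dvd_exponent a0
    have hqk : q ∣ orderOf k := by
      rw [hk, ← hb0]; exact Monoid.order_dvd_exponent b0
    obtain ⟨s, hs⟩ := hpk
    obtain ⟨t, ht⟩ := hqk
    have hko : 0 < orderOf k := orderOf_pos k
    have ha : orderOf (k ^ s) = p := by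
      rw [orderOf_pow_of_dvd (by rintro rfl; omega) ⟨p, by rw [hs, mul_comm]⟩, hs]
      exact Nat.mul_div_cancel _ (Nat.pos_of_ne_zero (by rintro rfl; omega))
    have hb : orderOf (k ^ t) = q := by
      rw [orderOf_pow_of_dvd (by rintro rfl; omega) ⟨q, by rw [ht, mul_comm]⟩, ht]
      exact Nat.mul_div_cancel _ (Nat.pos_of_ne_zero (by rintro rfl; omega))
    have haV : k ^ s ∈ V := hpV _ (by rw [← ha]; exact pow_orderOf_eq_one _)
    have h1 := hkill _ haV _ (hqV _ hb) (by rw [← pow_add, ← pow_add, add_comm])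
    rw [h1, orderOf_one] at ha
    exact hp.one_lt.ne ha

end

theorem exists_minAct_prime {G : Type*} [Group G] [Finite G] {p : ℕ} [Fact p.Prime]
    (h : ¬ HasNormalPComplement p G) :
    ∃ (U : Subgroup G) (y : G) (q : ℕ), MinAct p U y ∧ q.Prime ∧ q ≠ p ∧
      y ^ q ∈ centralizer (U : Set G) := by
  have h1 : ¬ FrobCond p G := fun hh => h (hasNormalPComplement_of_frobCond hh)
  unfold FrobCond at h1
  push Not at h1
  obtain ⟨X0, hX0, y0, hy0, hyo0, hyc0⟩ := h1
  classical
  let T : ℕ → Prop := fun n => ∃ (y : G) (X : Subgroup G), orderOf y = n ∧ IsPGroup p X ∧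
    y ∈ normalizer (X : Set G) ∧ Nat.Coprime (orderOf y) p ∧ y ∉ centralizer (X : Set G)
  have hT : ∃ n, T n := ⟨_, y0, X0, rfl, hX0, hy0, hyo0, hyc0⟩
  obtain ⟨y, X, hyn, hX, hy, hyo, hyc⟩ := Nat.find_spec hT
  let S : ℕ → Prop := fun n => ∃ V : Subgroup G, IsPGroup p V ∧ y ∈ normalizer (V : Set G) ∧
    y ∉ centralizer (V : Set G) ∧ Nat.card V = n
  have hS : ∃ n, S n := ⟨_, X, hX, hy, hyc, rfl⟩
  obtain ⟨U, hU, hUn, hUc, hUcard⟩ := Nat.find_spec hS
  have hmin : MinAct p U y := by
    refine ⟨hU, hUn, hyo, hUc, ?_⟩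
    intro V hV hVn
    by_contra hVc
    have h2 : Nat.card V < Nat.card U := card_lt_card_of_lt hV
    rw [hUcard] at h2
    exact Nat.find_min hS h2 ⟨V, hU.to_le hV.le, hVn, hVc, rfl⟩
  have hy1 : orderOf y ≠ 1 := by
    intro h1
    rw [orderOf_eq_one_iff] at h1
    apply hUc
    rw [h1]
    exact one_mem _
  obtain ⟨q, hq, hqy⟩ := Nat.exists_prime_and_dvd hy1
  refine ⟨U, y, q, hmin, hq, ?_, ?_⟩
  · rintro rfl
    exact (Nat.Prime.coprime_iff_not_dvd hq).1 hyo.symm hqy
  · by_contra hc
    have ho : orderOf (y ^ q) = orderOf y / q := orderOf_pow_of_dvd hq.ne_zero hqy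
    have hlt : orderOf (y ^ q) < Nat.find hT := by
      rw [← hyn, ho]
      exact Nat.div_lt_self (orderOf_pos y) hq.one_lt
    apply Nat.find_min hT hlt
    refine ⟨y ^ q, U, rfl, hU, pow_mem hUn q, ?_, hc⟩
    rw [ho]
    exact Nat.Coprime.coprime_dvd_left (Nat.div_dvd_of_dvd hqy) hyo

theorem exists_bad_section {G : Type*} [Group G] [Finite G] {p : ℕ} [Fact p.Prime]
    (h : ¬ HasNormalPComplement p G) :
    ∃ (H : Subgroup G) (N : Subgroup H) (_ : N.Normal), pPrimeCore p (H ⧸ N) = ⊥ ∧
      ¬ ∃ k : H ⧸ N, orderOf k = Monoid.exponent (H ⧸ N) := by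
  obtain ⟨U, y, q, hm, hq, hqp, hyq⟩ := exists_minAct_prime h
  set H : Subgroup G := U ⊔ zpowers y with hH
  have hUH : U ≤ H := le_sup_left
  have hyH : y ∈ H := mem_sup_right (mem_zpowers y)
  set yH : ↥H := ⟨y, hyH⟩ with hyHdef
  set F : Subgroup G := (frattini U).map U.subtype with hF
  have hFU : F ≤ U := by
    rintro _ ⟨x, _, rfl⟩
    exact x.2
  have hHU : H ≤ normalizer (U : Set G) := sup_le le_normalizer (zpowers_le.2 hm.norm)
  have hHF : H ≤ normalizer (F : Set G) :=
    hHU.trans (normalizer_le_normalizer_map_of_characteristic U (frattini U))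
  set U' : Subgroup ↥H := U.subgroupOf H with hU'
  set F' : Subgroup ↥H := F.subgroupOf H with hF'
  haveI hU'n : U'.Normal := (normal_subgroupOf_iff_le_normalizer hUH).2 hHU
  haveI hF'n : F'.Normal := (normal_subgroupOf_iff_le_normalizer (hFU.trans hUH)).2 hHF
  have hcen : H ≤ centralizer {y ^ q} := by
    refine sup_le ?_ ?_
    · intro u hu
      rw [mem_centralizer_singleton_iff]
      exact ((mem_centralizer_iff.1 hyq) u hu)
    · rw [zpowers_le, mem_centralizer_singleton_iff, ← pow_succ', ← pow_succ]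
  set Z' : Subgroup ↥H := zpowers (yH ^ q) with hZ'
  haveI hZ'n : Z'.Normal := by
    refine ⟨fun n hn g => ?_⟩
    obtain ⟨k, rfl⟩ := mem_zpowers_iff.1 hn
    have h1 : g * yH ^ q = yH ^ q * g := by
      apply Subtype.ext
      have := mem_centralizer_singleton_iff.1 (hcen g.2)
      simpa using this
    have h2 : Commute g ((yH ^ q) ^ k) := (show Commute g (yH ^ q) from h1).zpow_right k
    rw [h2.eq, mul_inv_cancel_right]
    exact zpow_mem (mem_zpowers _) k
  set N' : Subgroup ↥H := F' ⊔ Z' with hN'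
  haveI hN'n : N'.Normal := inferInstance
  refine ⟨H, N', hN'n, ?_⟩
  set f := QuotientGroup.mk' N' with hf
  have hfs : Function.Surjective f := QuotientGroup.mk'_surjective N'
  set V : Subgroup (↥H ⧸ N') := U'.map f with hV
  haveI hVn : V.Normal := hU'n.map f hfs
  haveI hVc : IsMulCommutative V := by
    refine ⟨⟨?_⟩⟩
    rintro ⟨_, ⟨a, ha, rfl⟩⟩ ⟨_, ⟨b, hb, rfl⟩⟩
    apply Subtype.ext
    show f a * f b = f b * f a
    rw [← map_mul, ← map_mul]
    show (QuotientGroup.mk (a * b) : ↥H ⧸ N') = QuotientGroup.mk (b * a)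
    rw [QuotientGroup.eq]
    apply mem_sup_left
    rw [hF', mem_subgroupOf]
    have h1 : (((a * b)⁻¹ * (b * a) : ↥H) : G) = ⁅(b : G)⁻¹, (a : G)⁻¹⁆ := by
      rw [commutatorElement_def]
      simp only [Subgroup.coe_mul, InvMemClass.coe_inv]
      group
    rw [h1]
    exact hm.comm_mem (inv_mem hb) (inv_mem ha)
  have hVp : IsPGroup p V := (hm.pgroup.comap_subtype).map f
  have hNy : N' ≤ centralizer {yH} := by
    refine sup_le ?_ ?_
    · intro x hx
      rw [mem_centralizer_singleton_iff]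
      apply Subtype.ext
      have := (mem_centralizer_iff.1 hm.frat_cent) x hx
      simpa using this
    · rw [zpowers_le, mem_centralizer_singleton_iff, ← pow_succ', ← pow_succ]
  have hV1 : V ≠ ⊥ := by
    intro hbot
    rw [hV, Subgroup.map_eq_bot_iff, QuotientGroup.ker_mk'] at hbot
    apply hm.ncent
    rw [mem_centralizer_iff]
    intro u hu
    have h1 := mem_centralizer_singleton_iff.1 (hNy (hbot (show (⟨u, hUH hu⟩ : ↥H) ∈ U' from hu)))
    have := congrArg Subtype.val h1
    simpa using this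
  have htop : U' ⊔ zpowers yH = ⊤ := by
    apply Subgroup.map_injective H.subtype_injective
    rw [Subgroup.map_sup, hU', Subgroup.subgroupOf_map_subtype, MonoidHom.map_zpowers,
      ← MonoidHom.range_eq_map, Subgroup.range_subtype, inf_eq_left.2 hUH]
    rfl
  have hgen : V ⊔ zpowers (f yH) = ⊤ := by
    rw [hV, ← MonoidHom.map_zpowers, ← Subgroup.map_sup, htop,
      Subgroup.map_top_of_surjective _ hfs]
  have hy0 : f yH ^ q = 1 := by
    rw [← map_pow]
    exact (QuotientGroup.eq_one_iff _).2 (mem_sup_right (mem_zpowers _))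
  have hcU : U' ≤ ⁅U', zpowers yH⁆ := by
    rw [← Subgroup.map_le_map_iff_of_injective H.subtype_injective, Subgroup.map_commutator,
      hU', Subgroup.subgroupOf_map_subtype, MonoidHom.map_zpowers, inf_eq_left.2 hUH]
    exact hm.comm_eq.ge
  have hcomm : V ≤ ⁅V, (⊤ : Subgroup (↥H ⧸ N'))⁆ := by
    calc V = U'.map f := rfl
      _ ≤ (⁅U', zpowers yH⁆).map f := Subgroup.map_mono hcU
      _ = ⁅V, (zpowers yH).map f⁆ := Subgroup.map_commutator _ _ _
      _ ≤ ⁅V, ⊤⁆ := commutator_mono le_rfl le_top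
  exact frob_section hq hqp V hVp hV1 (f yH) hgen hy0 hcomm

end Cfsg.Agent.H1
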