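import Mathlib

set_option autoImplicit false

namespace Cfsg.Agent.H1

open Subgroup
open scoped IsMulCommutative

section fpf

variable {G : Type*} [Group G]

noncomputable def fpfRestr [Finite G] (φ : G ≃* G) (H : Subgroup G) (h : ∀ x ∈ H, φ x ∈ H) :
    H ≃* H :=
  MulEquiv.ofBijective ((φ.toMonoidHom.comp H.subtype).codRestrict H (fun x => h x x.2))
    (Finite.injective_iff_bijective.1
      (fun _ _ hab => Subtype.ext (φ.injective (congrArg Subtype.val hab))))

theorem fpfRestr_coe [Finite G] (φ : G ≃* G) (H : Subgroup G) (h : ∀ x ∈ H, φ x ∈ H) (x : H) :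
    ((fpfRestr φ H h x : H) : G) = φ x := rfl

theorem fpfRestr_iter [Finite G] (φ : G ≃* G) (H : Subgroup G) (h : ∀ x ∈ H, φ x ∈ H) (k : ℕ)
    (x : H) : (((fpfRestr φ H h)^[k] x : H) : G) = φ^[k] x := by
  induction k with
  | zero => rfl
  | succ k ih => rw [Function.iterate_succ_apply', Function.iterate_succ_apply', fpfRestr_coe, ih]

noncomputable def fpfQuot [Finite G] (φ : G ≃* G) (N : Subgroup G) [N.Normal]
    (h : ∀ x ∈ N, φ x ∈ N) : G ⧸ N ≃* G ⧸ N :=
  MulEquiv.ofBijective (QuotientGroup.map N N φ.toMonoidHom h)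
    (Finite.surjective_iff_bijective.1 (fun y => by
      obtain ⟨x, rfl⟩ := QuotientGroup.mk_surjective y
      refine ⟨QuotientGroup.mk (φ.symm x), ?_⟩
      show ((φ (φ.symm x) : G) : G ⧸ N) = x
      rw [MulEquiv.apply_symm_apply]))

theorem fpfQuot_mk [Finite G] (φ : G ≃* G) (N : Subgroup G) [N.Normal]
    (h : ∀ x ∈ N, φ x ∈ N) (x : G) : fpfQuot φ N h (x : G ⧸ N) = ((φ x : G) : G ⧸ N) := rfl

theorem fpfQuot_iter [Finite G] (φ : G ≃* G) (N : Subgroup G) [N.Normal]
    (h : ∀ x ∈ N, φ x ∈ N) (k : ℕ) (x : G) :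
    (fpfQuot φ N h)^[k] (x : G ⧸ N) = ((φ^[k] x : G) : G ⧸ N) := by
  induction k with
  | zero => rfl
  | succ k ih => rw [Function.iterate_succ_apply', Function.iterate_succ_apply', ih, fpfQuot_mk]

theorem iter_mem (φ : G ≃* G) (H : Subgroup G) (h : ∀ x ∈ H, φ x ∈ H) (k : ℕ) (x : G)
    (hx : x ∈ H) : φ^[k] x ∈ H := by
  induction k with
  | zero => exact hx
  | succ k ih => rw [Function.iterate_succ_apply']; exact h _ ih

theorem fpf_iter (φ : G ≃* G) (hφ : ∀ g, φ g = g → g = 1) (r : ℕ) (hr : r.Prime)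
    (hrφ : ∀ g, φ^[r] g = g) (i : ℕ) (hi0 : 0 < i) (hir : i < r) (z : G) (hz : φ^[i] z = z) :
    z = 1 := by
  apply hφ
  have h1 : Function.IsPeriodicPt φ i z := hz
  have h2 : Function.IsPeriodicPt φ r z := hrφ z
  have h3 := h1.gcd h2
  have h4 : Nat.gcd i r = 1 := by
    rw [Nat.gcd_comm]
    exact (Nat.Prime.coprime_iff_not_dvd hr).2 (fun h => by
      have := Nat.le_of_dvd hi0 h
      omega)
  rw [h4] at h3
  exact h3

theorem fpf_key [Finite G] (φ : G ≃* G) (hφ : ∀ g, φ g = g → g = 1) (r : ℕ) (hr : r.Prime)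
    (hrφ : ∀ g, φ^[r] g = g) (V P : Subgroup G) [hVn : V.Normal] [hVc : IsMulCommutative V]
    (hV : ∀ x ∈ V, φ x ∈ V) (hP : ∀ x ∈ P, φ x ∈ P) (v : G) (hv : v ∈ V) :
    v ^ Nat.card P ∈ centralizer (P : Set G) := by
  classical
  haveI : Fintype P := Fintype.ofFinite P
  let c : P → V →* V := fun g =>
    { toFun := fun w => ⟨g * w * g⁻¹, hVn.conj_mem w w.2 g⟩
      map_one' := by ext; simp
      map_mul' := by intro a b; ext; simp }
  have hc : ∀ (g : P) (w : V), ((c g w : V) : G) = g * w * g⁻¹ := fun _ _ => rfl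
  let F : ℕ → V →* V := fun i =>
    { toFun := fun w => ⟨φ^[i] w, iter_mem φ V hV i w w.2⟩
      map_one' := Subtype.ext (iterate_map_one φ i)
      map_mul' := fun a b => Subtype.ext (iterate_map_mul φ i (a : G) (b : G)) }
  have hF : ∀ (i : ℕ) (w : V), ((F i w : V) : G) = φ^[i] w := fun _ _ => rfl
  let Nm : V → V := fun w => ∏ g : P, c g w
  have hfix : ∀ (h : P) (w : V), c h (Nm w) = Nm w := by
    intro h w
    show c h (∏ g : P, c g w) = ∏ g : P, c g w
    rw [map_prod]
    apply Fintype.prod_equiv (Equiv.mulLeft h)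
    intro g
    apply Subtype.ext
    simp [hc, mul_assoc]
  have htr : ∀ w : V, ∏ i ∈ Finset.range r, F i w = 1 := by
    intro w
    have h1 : F 1 (∏ i ∈ Finset.range r, F i w) = ∏ i ∈ Finset.range r, F i w := by
      rw [map_prod]
      have h2 : ∀ i, F 1 (F i w) = F (i + 1) w := by
        intro i
        apply Subtype.ext
        rw [hF, hF, hF, Function.iterate_succ_apply' _ i]
        rfl
      simp only [h2]
      have h3 := Finset.prod_range_succ' (fun i => F i w) r
      have h4 := Finset.prod_range_succ (fun i => F i w) r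
      have h5 : F r w = F 0 w := Subtype.ext (by rw [hF, hF]; exact hrφ w)
      rw [h4, h5] at h3
      exact (mul_right_cancel h3).symm
    have h2 : φ ((∏ i ∈ Finset.range r, F i w : V) : G) = ((∏ i ∈ Finset.range r, F i w : V) : G) :=
      congrArg Subtype.val h1
    exact Subtype.ext (hφ _ h2)
  have hbij : ∀ i, 0 < i → i < r → ∀ w : V,
      ∏ x : P, c x (F i (c x⁻¹ w)) = Nm (F i w) := by
    intro i hi0 hir w
    let β : P → P := fun x => ⟨x * (φ^[i] x)⁻¹, P.mul_mem x.2 (P.inv_mem (iter_mem φ P hP i x x.2))⟩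
    have hβ : Function.Bijective β := by
      apply Finite.injective_iff_bijective.1
      intro x y hxy
      have h1 : (x : G) * (φ^[i] x)⁻¹ = y * (φ^[i] y)⁻¹ := congrArg Subtype.val hxy
      have h2 : φ^[i] ((y : G)⁻¹ * x) = (y : G)⁻¹ * x := by
        rw [iterate_map_mul, iterate_map_inv]
        calc (φ^[i] (y : G))⁻¹ * φ^[i] (x : G)
            = (y : G)⁻¹ * ((y : G) * (φ^[i] (y : G))⁻¹) * φ^[i] (x : G) := by group
          _ = (y : G)⁻¹ * ((x : G) * (φ^[i] (x : G))⁻¹) * φ^[i] (x : G) := by rw [h1]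
          _ = (y : G)⁻¹ * x := by group
      have h3 := fpf_iter φ hφ r hr hrφ i hi0 hir _ h2
      apply Subtype.ext
      exact (inv_mul_eq_one.1 h3).symm
    show _ = ∏ g : P, c g (F i w)
    rw [← hβ.prod_comp (fun g => c g (F i w))]
    apply Finset.prod_congr rfl
    intro x _
    apply Subtype.ext
    rw [hc, hF, hc, hc, hF]
    simp only [iterate_map_mul, iterate_map_inv, β, InvMemClass.coe_inv, inv_inv, mul_inv_rev]
    group
  obtain ⟨s, rfl⟩ : ∃ s, r = s + 1 := ⟨r - 1, by have := hr.pos; omega⟩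
  set v' : V := ⟨v, hv⟩ with hv'
  have htot : (∏ i ∈ Finset.range s, Nm (F (i + 1) v')) * v' ^ Nat.card P = 1 := by
    have h1 : ∏ x : P, c x (∏ i ∈ Finset.range (s + 1), F i (c x⁻¹ v')) = 1 := by
      simp only [htr, map_one, Finset.prod_const_one]
    simp only [map_prod] at h1
    rw [Finset.prod_comm, Finset.prod_range_succ'] at h1
    have h2 : ∏ x : P, c x (F 0 (c x⁻¹ v')) = v' ^ Nat.card P := by
      have h3 : ∀ x : P, c x (F 0 (c x⁻¹ v')) = v' := by
        intro x
        apply Subtype.ext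
        rw [hc, hF, Function.iterate_zero_apply, hc]
        simp [mul_assoc]
      simp only [h3, Finset.prod_const, Finset.card_univ, Nat.card_eq_fintype_card]
    rw [h2] at h1
    rw [← h1]
    congr 1
    apply Finset.prod_congr rfl
    intro i hi
    exact (hbij (i + 1) (Nat.succ_pos i) (by have := Finset.mem_range.1 hi; omega) v').symm
  have hfixed : ∀ h : P, c h (v' ^ Nat.card P) = v' ^ Nat.card P := by
    intro h
    have h1 : v' ^ Nat.card P = (∏ i ∈ Finset.range s, Nm (F (i + 1) v'))⁻¹ :=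
      eq_inv_of_mul_eq_one_right htot
    rw [h1, map_inv, map_prod]
    simp only [hfix]
  rw [mem_centralizer_iff]
  intro h hh
  have h1 := congrArg Subtype.val (hfixed ⟨h, hh⟩)
  rw [hc] at h1
  have h2 : ((v' ^ Nat.card P : V) : G) = v ^ Nat.card P := rfl
  rw [h2] at h1
  exact mul_inv_eq_iff_eq_mul.1 h1

end fpf

end Cfsg.Agent.H1
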