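import Mathlib
import Cfsg.Statements.S0031
import Cfsg.Agent.Lib_helper1_Basic

set_option autoImplicit false
open Cfsg

namespace Cfsg.Agent.S0031

open Pointwise

/-- A fixed-point-free automorphism of a finite group maps some Sylow p-subgroup to itself. -/
theorem result {G : Type*} [Group G] [Finite G] (φ : G ≃* G)
    (hφ : MonoidHom.FixedPointFree (φ : G →* G)) (p : ℕ) [Fact p.Prime] :
    ∃ P : Sylow p G, (P : Subgroup G).map (φ : G →* G) = P := by
  let P : Sylow p G := default
  obtain ⟨g, hg⟩ := MulAction.exists_smul_eq G P ((φ : MulAut G) • P)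
  have hg' : MulAut.conj g • (P : Subgroup G) = (P : Subgroup G).map (φ : G →* G) := by
    have := congrArg (fun S : Sylow p G => (S : Subgroup G)) hg
    simp only [Sylow.coe_subgroup_smul, Sylow.pointwise_smul_def] at this
    exact this
  obtain ⟨z, hz⟩ := hφ.commutatorMap_surjective g⁻¹
  rw [MonoidHom.commutatorMap_apply] at hz
  refine ⟨z⁻¹ • P, ?_⟩
  rw [Sylow.coe_subgroup_smul, Cfsg.Agent.H1.map_conj_smul, ← hg', ← mul_smul, ← map_mul]
  congr 2
  have hz' : z * (φ z)⁻¹ = g⁻¹ := by rw [← hz, div_eq_mul_inv]; rfl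
  have : g = φ z * z⁻¹ := by
    have := congrArg (fun t => t⁻¹) hz'
    simpa using this.symm
  rw [this]
  change φ z⁻¹ * _ = _
  rw [map_inv]; group

end Cfsg.Agent.S0031
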