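import Cfsg.Agent.Lib_helper8_FusCP
import Cfsg.Prelude.Def_LocalEven

set_option autoImplicit false

namespace Cfsg.Agent.H8
open Cfsg

variable {G : Type*} [Group G]

theorem isPStableOn_of_normalizerPStable [Finite G] {p : ℕ} [Fact p.Prime]
    (hst : IsNormalizerPStable p G) (B : Subgroup G) [hB : B.Normal] (hBp : IsPGroup p B) :
    IsPStableOn p B := by
  intro a ha
  have hN : Subgroup.normalizer (B : Set G) = ⊤ := Subgroup.normalizer_eq_top_iff.2 hB
  have haN : a ∈ Subgroup.normalizer (B : Set G) := by rw [hN]; trivial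
  have h1 := hst B hBp a haN ha
  set N := Subgroup.normalizer (B : Set G) with hNdef
  set C := Subgroup.centralizer (B : Set G) with hC
  let f : ↥N ⧸ C.subgroupOf N →* G ⧸ C :=
    QuotientGroup.map (C.subgroupOf N) C N.subtype (fun x hx => hx)
  have hf : Function.Surjective f := by
    intro y
    induction y using QuotientGroup.induction_on with
    | H z => exact ⟨QuotientGroup.mk (⟨z, by rw [hN]; trivial⟩ : N), rfl⟩
  have h2 : (pCore p (↥N ⧸ C.subgroupOf N)).map f ≤ pCore p (G ⧸ C) :=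
    H1.le_pCore p ((H1.pCore_normal p).map f hf) ((H1.pCore_isPGroup p).map f)
  exact h2 ⟨_, h1, rfl⟩

theorem map_omegaCenterThompson' {p : ℕ} [Fact p.Prime] {D : Subgroup G} [Finite D]
    (hD : IsPGroup p D) :
    (omegaCenterThompson p ↥D).map D.subtype = sInf {A | MaxE p D A} := by
  rw [← (Cfsg.Agent.S0655.result hD).1]
  ext x
  constructor
  · rintro ⟨d, hd, rfl⟩
    rw [Subgroup.mem_sInf]
    intro A hA
    have hA' : MaxE p D ((A.subgroupOf D).map D.subtype) := by
      rw [map_subgroupOf_self hA.1]; exact hA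
    have := (Subgroup.mem_sInf.1 hd) _ (mem_maxElementaryAbelianSubgroups_iff.2 hA')
    exact this
  · intro hx
    have hxS : x ∈ D := WE_le p _ hx
    refine ⟨⟨x, hxS⟩, ?_, rfl⟩
    refine Subgroup.mem_sInf.2 fun A' hA' => ?_
    have := (Subgroup.mem_sInf.1 hx) _ (mem_maxElementaryAbelianSubgroups_iff.1 hA')
    obtain ⟨d, hd, hdx⟩ := this
    have : d = ⟨x, hxS⟩ := Subtype.ext hdx
    rw [← this]; exact hd

theorem omegaOne_centerThompsonOf (p : ℕ) (D : Subgroup G) :
    omegaOne p (centerThompsonOf p D) = (omegaCenterThompson p ↥D).map D.subtype := by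
  unfold omegaOne omegaCenterThompson omegaOne centerThompsonOf thompsonSubgroupOf
  rw [MonoidHom.map_closure]
  congr 1
  ext x
  constructor
  · rintro ⟨⟨⟨d, hd, rfl⟩, hc⟩, hx⟩
    refine ⟨d, ⟨⟨hd, ?_⟩, Subtype.ext (by simpa using hx)⟩, rfl⟩
    replace hc := Subgroup.mem_centralizer_iff.1 hc
    refine Subgroup.mem_centralizer_iff.2 ?_
    intro y hy
    exact Subtype.ext (hc _ ⟨y, hy, rfl⟩)
  · rintro ⟨d, ⟨⟨hd, hc⟩, hx⟩, rfl⟩
    refine ⟨⟨⟨d, hd, rfl⟩, ?_⟩, by simpa using congrArg Subtype.val hx⟩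
    replace hc := Subgroup.mem_centralizer_iff.1 hc
    refine Subgroup.mem_centralizer_iff.2 ?_
    rintro _ ⟨y, hy, rfl⟩
    exact congrArg Subtype.val (hc y hy)

end Cfsg.Agent.H8
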