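import Cfsg.Agent.Lib_helper8_FusDB
import Cfsg.Agent.Lib_helper8_FusCS
import Cfsg.Agent.S0071

set_option autoImplicit false

namespace Cfsg.Agent.H8
open Cfsg Cfsg.FusionSystem

universe u

theorem MaxE.mem_of_comm {Ω : Type*} [Group Ω] {e : ℕ} {D A : Subgroup Ω} [Finite D]
    (h : MaxE e D A) {x : Ω} (hx : x ∈ D) (hxe : x ^ e = 1)
    (hc : ∀ a ∈ A, x * a = a * x) : x ∈ A := by
  set B := Subgroup.closure ((A : Set Ω) ∪ {x}) with hB
  have hBD : B ≤ D := by
    rw [hB, Subgroup.closure_le]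
    rintro y (hy | hy)
    · exact h.1 hy
    · rw [Set.mem_singleton_iff] at hy; rw [hy]; exact hx
  have hBab : Ab B := by
    apply ab_closure
    rintro a (ha | ha) b (hb | hb)
    · exact h.2.1 a ha b hb
    · rw [Set.mem_singleton_iff] at hb; rw [hb]; exact (hc a ha).symm
    · rw [Set.mem_singleton_iff] at ha; rw [ha]; exact hc b hb
    · rw [Set.mem_singleton_iff] at ha hb; rw [ha, hb]
  have hBe : ∀ b ∈ B, b ^ e = 1 := by
    intro b hb
    induction hb using Subgroup.closure_induction with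
    | mem a ha =>
      rcases ha with ha | ha
      · exact h.2.2.1 a ha
      · rw [Set.mem_singleton_iff] at ha; rw [ha]; exact hxe
    | one => exact one_pow _
    | mul a b ha hb iha ihb =>
      have : Commute a b := hBab a ha b hb
      rw [this.mul_pow, iha, ihb, one_mul]
    | inv a _ iha => rw [inv_pow, iha, inv_one]
  have hAB : A ≤ B := fun a ha => Subgroup.subset_closure (Or.inl ha)
  have : Finite B := Finite.of_injective (Subgroup.inclusion hBD) (Subgroup.inclusion_injective _)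
  have e' : A = B := Subgroup.eq_of_le_of_card_ge hAB (h.2.2.2 B hBD hBab hBe)
  rw [e']
  exact Subgroup.subset_closure (Or.inr rfl)

theorem ne_p (p : ℕ) [hp : Fact p.Prime] : NE.{u} p p := by
  intro Ω _ X _ hX hne h
  obtain ⟨z, hz, hz1, hzc⟩ := exists_central hX X le_rfl
    (fun s hs y hy => X.mul_mem (X.mul_mem hs hy) (X.inv_mem hs)) hne
  obtain ⟨k, hk⟩ := (IsPGroup.iff_orderOf.1 hX) ⟨z, hz⟩
  rw [Subgroup.orderOf_mk] at hk
  have hk0 : k ≠ 0 := by
    rintro rfl
    rw [pow_zero, orderOf_eq_one_iff] at hk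
    exact hz1 hk
  obtain ⟨j, rfl⟩ := Nat.exists_eq_succ_of_ne_zero hk0
  set z' := z ^ p ^ j with hz'
  have hz'1 : z' ≠ 1 := by
    apply pow_ne_one_of_lt_orderOf (pow_ne_zero _ hp.out.ne_zero)
    rw [hk]
    exact Nat.pow_lt_pow_right hp.out.one_lt (Nat.lt_succ_self j)
  have hz'p : z' ^ p = 1 := by
    rw [hz', ← pow_mul, ← pow_succ, ← hk, pow_orderOf_eq_one]
  have hz'X : z' ∈ X := X.pow_mem hz _
  have h1 : z' ∈ WE p X := by
    refine Subgroup.mem_sInf.2 fun A hA => ?_
    refine MaxE.mem_of_comm hA hz'X hz'p fun a ha => ?_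
    have h2 := hzc a (hA.1 ha)
    have h3 : Commute z a := by
      calc z * a = (a * z * a⁻¹) * a := by rw [h2]
        _ = a * z := by group
    exact (h3.pow_left _).eq
  rw [h] at h1
  exact hz'1 (Subgroup.mem_bot.1 h1)

theorem gt_group {G : Type u} [Group G] [Finite G] {p : ℕ} [Fact p.Prime] (hp : p ≠ 2) {e : ℕ}
    (he : e = 0 ∨ Odd e) (hne : NE.{u} p e) (P : Sylow p G) {D : Subgroup G}
    (hD : IsStronglyClosed D (P : Subgroup G))
    (h : HasNormalPComplement p ↥(Subgroup.normalizer ((WE e D : Subgroup G) : Set G))) :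
    HasNormalPComplement p G := by
  set F := groupFusionSystem (P : Subgroup G) with hFdef
  have hF : F.IsSaturated p := saturated_group P
  have hDsc : F.StronglyClosed D := stronglyClosed_group_iff.2 hD
  set L := Subgroup.normalizer ((WE e D : Subgroup G) : Set G) with hL
  have hPL : (P : Subgroup G) ≤ L := fun s hs =>
    mem_normalizer_WE F hD.1 e hs fun d hd =>
      hD.2 d hd s ((P : Subgroup G).mul_mem ((P : Subgroup G).mul_mem hs (hD.1 hd))
        ((P : Subgroup G).inv_mem hs))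
  have hPN : PN p F (WE e D) := by
    intro P₀ ν g ho hg e1 hi
    obtain ⟨hle, x, hx⟩ := isMap_group_iff.1 hg
    have hxL : x ∈ L := by
      refine mem_normalizer_of_forall fun w hw => ?_
      rw [← (hx w (Subgroup.mem_sup_right hw)).1, ← hi]
      exact mem_img_of_mem hw
    have hpow : ∀ (n : ℕ) (y : P₀), (((ν ^ n) y : P₀) : G) = x ^ n * y * (x ^ n)⁻¹ := by
      intro n
      induction n with
      | zero => intro y; simp
      | succ n ih =>
        intro y
        rw [pow_succ', MulAut.mul_apply, ← e1, (hx _ (Subgroup.mem_sup_left ((ν ^ n) y).2)).1, ih,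
          pow_succ']
        group
    obtain ⟨k, hk, hk1⟩ := exists_pow_p'Part p x (orderOf_pos ν).ne' ho
    have hνk : ν ^ k = ν := by
      have := (pow_eq_pow_iff_modEq (x := ν) (n := k) (m := 1)).2 hk1
      rwa [pow_one] at this
    obtain ⟨N, hNn, hN⟩ := (H1.hasNormalPComplement_iff_sylow (P.subtype hPL)).1 h
    have key := (Cfsg.Agent.S0071.result (P.subtype hPL)).1 ⟨N, hNn, hN⟩ (P₀.subgroupOf L)
      (by
        rw [P.coe_subtype hPL]
        exact fun y hy => hle (Subgroup.mem_sup_left hy))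
      ⟨x ^ k, L.pow_mem hxL k⟩
      (by
        refine mem_normalizer_of_forall fun y hy => ?_
        have := hpow k ⟨y, hy⟩
        show x ^ k * y * (x ^ k)⁻¹ ∈ P₀
        rw [← this]; exact ((ν ^ k) ⟨y, hy⟩).2)
      (by rw [Subgroup.orderOf_mk]; exact hk)
    ext y
    have h2 := hpow k y
    have h3 := Subgroup.mem_centralizer_iff.1 key ⟨y, hPL (hle (Subgroup.mem_sup_left y.2))⟩ y.2
    have h4 : (y : G) * x ^ k = x ^ k * y := congrArg Subtype.val h3
    rw [hνk, ← h4] at h2
    rw [h2]; simp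
  have hFin := GT_main hp he hne _ G (P : Subgroup G) F D rfl P.2 hF hDsc hPN
  apply H1.hasNormalPComplement_of_control P
  rintro x hx y hy ⟨g, rfl⟩
  have m : IsMap F (Subgroup.zpowers x) (fun z => g * z * g⁻¹) := by
    refine isMap_group_iff.2 ⟨(Subgroup.zpowers_le).2 hx, g, fun z hz => ⟨rfl, ?_⟩⟩
    obtain ⟨n, rfl⟩ := Subgroup.mem_zpowers_iff.1 hz
    rw [← conj_zpow]
    exact (P : Subgroup G).zpow_mem hy n
  rw [hFin] at m
  obtain ⟨-, s, hs, H⟩ := isMap_inner_iff.1 m
  exact ⟨s, hs, (H x (Subgroup.mem_zpowers x)).symm⟩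

theorem WE_p {G : Type*} [Group G] {p : ℕ} [Fact p.Prime] {D : Subgroup G} [Finite D]
    (hD : IsPGroup p D) : WE p D = omegaOne p (centerThompsonOf p D) := by
  rw [omegaOne_centerThompsonOf, map_omegaCenterThompson' hD]; rfl

end Cfsg.Agent.H8
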