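import Mathlib
import Cfsg.Statements.S4040
import Cfsg.Agent.S0659
import Cfsg.Agent.Lib_helper1_Coprime
import Cfsg.Agent.Lib_helper1_Cores
import Cfsg.Agent.Lib_helper1_Max
import Cfsg.Agent.Lib_helper1_PNilp

set_option autoImplicit false
open Cfsg

namespace Cfsg.Agent.S4040

open Subgroup Cfsg.Agent.H1

theorem npc_of_nilpotent {X : Type*} [Group X] [Finite X] (h : Group.IsNilpotent X) (p : ℕ)
    [Fact p.Prime] : Cfsg.HasNormalPComplement p X := by
  have hp : p.Prime := Fact.out
  let P : Sylow p X := default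
  refine ⟨P, Cfsg.pPrimeCore p X, pPrimeCore_normal (G := X) p, ?_⟩
  haveI := pPrimeCore_normal (G := X) p
  have htop : (⊤ : Subgroup X) ≤ ⨆ q : Nat.Primes, Cfsg.pCore (q : ℕ) X :=
    le_iSup_pCore_of_nilpotent inferInstance inferInstance
  have hsup : (P : Subgroup X) ⊔ Cfsg.pPrimeCore p X = ⊤ := by
    rw [eq_top_iff]
    refine htop.trans (iSup_le fun q => ?_)
    by_cases hq : (q : ℕ) = p
    · have : Cfsg.pCore (q : ℕ) X ≤ P := by
        rw [hq, pCore_eq_iInf_sylow]
        exact iInf_le _ P
      exact this.trans le_sup_left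
    · exact (pCore_le_pPrimeCore q.2 hp hq).trans le_sup_right
  have hcop : (Nat.card (Cfsg.pPrimeCore p X)).Coprime (Nat.card P) := by
    obtain ⟨k, hk⟩ := P.2.exists_card_eq
    rw [hk]
    exact Nat.Coprime.pow_right _ (card_pPrimeCore_coprime p)
  apply isComplement'_of_coprime _ hcop
  have h1 := card_sup_mul_card_inf (P : Subgroup X) (Cfsg.pPrimeCore p X)
  rw [hsup, inf_eq_bot_of_coprime hcop.symm, card_top, card_bot, mul_one] at h1
  rw [h1, mul_comm]

theorem main.{u} : ∀ (n : ℕ) (G : Type u) [Group G] [Finite G], Nat.card G = n →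
    ∀ (M : Subgroup G), IsCoatom M → Group.IsNilpotent M → Odd (Nat.card M) →
    Group.IsSolvable G := by
  intro n
  induction n using Nat.strong_induction_on with
  | _ n ih =>
  intro G _ _ hn M hmax hnil hodd
  haveI := hnil
  have hMs : Group.IsSolvable M := inferInstance
  by_cases hA : ∃ N : Subgroup G, N.Normal ∧ N ≠ ⊥ ∧ N ≤ M
  · obtain ⟨N, hNn, hN1, hNM⟩ := hA
    haveI := hNn
    haveI hq : Group.IsSolvable (G ⧸ N) := by
      apply ih (Nat.card (G ⧸ N)) (hn ▸ card_quotient_lt hN1) (G ⧸ N) rfl
        (M.map (QuotientGroup.mk' N)) (isCoatom_map_mk_of_le hNM hmax)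
      · exact Group.nilpotent_of_surjective ((QuotientGroup.mk' N).subgroupMap M)
          ((QuotientGroup.mk' N).subgroupMap_surjective M)
      · exact Odd.of_dvd_nat hodd (Subgroup.card_map_dvd _ _)
    haveI hNs : Group.IsSolvable N := solvable_of_solvable_injective (inclusion_injective hNM)
    exact solvable_of_ker_le_range N.subtype (QuotientGroup.mk' N) (by simp)
  push Not at hA
  have key : ∀ p : ℕ, p.Prime → p ∣ Nat.card M →
      Nat.Coprime (Nat.card (Cfsg.pResidual p G)) p := by
    intro p hp hpM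
    haveI : Fact p.Prime := ⟨hp⟩
    have hp2 : p ≠ 2 := by
      rintro rfl
      exact (Nat.not_even_iff_odd.2 hodd) (even_iff_two_dvd.2 hpM)
    let PM : Sylow p M := default
    haveI hPMn : (PM : Subgroup M).Normal := inferInstance
    set P : Subgroup G := (PM : Subgroup M).map M.subtype with hP
    have hPp : IsPGroup p P := PM.2.map _
    have hPM : P ≤ M := map_subtype_le _
    have hP1 : P ≠ ⊥ := by
      intro h
      have : (PM : Subgroup M) = ⊥ := (map_eq_bot_iff_of_injective _ M.subtype_injective).1 h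
      exact PM.ne_bot_of_dvd_card hpM this
    have hMN : M ≤ normalizer (P : Set G) := by
      have h1 := Subgroup.le_normalizer_map M.subtype (H := (PM : Subgroup M))
      rw [normalizer_eq_top, ← MonoidHom.range_eq_map, range_subtype] at h1
      exact h1
    set Z := Cfsg.centerThompsonAOf P with hZ
    have hZP : Z ≤ P := Cfsg.Agent.H8.ZJ_le P
    have hZ1 : Z ≠ ⊥ := by
      haveI : Nontrivial P := (Subgroup.nontrivial_iff_ne_bot P).2 hP1
      haveI : Nontrivial (center P) := hPp.center_nontrivial
      obtain ⟨z, hz⟩ := exists_ne (1 : center P)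
      intro h
      have hz' : ((z : P) : G) ∈ Z := Cfsg.Agent.H8.center_le_ZJ (z : P).2 (fun d hd => by
        have := Subgroup.mem_center_iff.1 z.2 ⟨d, hd⟩
        exact (congrArg Subtype.val this).symm)
      rw [h, mem_bot] at hz'
      exact hz (Subtype.ext (Subtype.ext hz'))
    have hNZ : normalizer (Z : Set G) = M := by
      have h1 : M ≤ normalizer (Z : Set G) :=
        hMN.trans (Cfsg.Agent.H8.normalizer_le_normalizer_ZJ P)
      rcases eq_or_lt_of_le h1 with h | h
      · exact h.symm
      · exfalso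
        have h2 := hmax.2 _ h
        exact hA Z (normalizer_eq_top_iff.1 h2) hZ1 (hZP.trans hPM)
    have hNP : normalizer (P : Set G) = M :=
      le_antisymm ((Cfsg.Agent.H8.normalizer_le_normalizer_ZJ P).trans hNZ.le) hMN
    have hidx : ¬ p ∣ P.index := by
      have h1 := not_dvd_relIndex_of_not_dvd_relIndex_normalizer (p := p) (U := P) (K := ⊤)
        le_top hPp (by
          rw [top_inf_eq, hNP]
          have : P.relIndex M = (PM : Subgroup M).index := by
            show (((PM : Subgroup M).map M.subtype).comap M.subtype).index = _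
            rw [comap_map_eq_self_of_injective M.subtype_injective]
          rw [this]
          exact PM.not_dvd_index)
      rwa [relIndex_top_right] at h1
    let S : Sylow p G := hPp.toSylow hidx
    have hS : (S : Subgroup G) = P := IsPGroup.toSylow_coe _ _
    have hnpc : Cfsg.HasNormalPComplement p
        ↥(normalizer (Cfsg.centerThompsonAOf (S : Subgroup G) : Set G)) := by
      apply npc_of_nilpotent
      rw [hS, ← hZ, hNZ]
      exact hnil
    exact hasNormalPComplement_iff.1 (Cfsg.Agent.S0659.result hp2 S hnpc)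
  have hex : ∀ p ∈ (Nat.card M).primeFactors, ∃ m, derivedSeries G m ≤ Cfsg.pResidual p G := by
    intro p hp
    haveI : Fact p.Prime := ⟨Nat.prime_of_mem_primeFactors hp⟩
    haveI := pResidual_normal (G := G) p
    haveI : Group.IsNilpotent (G ⧸ Cfsg.pResidual p G) :=
      (isPGroup_quotient_pResidual p).isNilpotent
    obtain ⟨m, hm⟩ := (inferInstance : Group.IsSolvable (G ⧸ Cfsg.pResidual p G)).solvable
    refine ⟨m, ?_⟩
    have h1 := map_derivedSeries_le_derivedSeries (QuotientGroup.mk' (Cfsg.pResidual p G)) m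
    have h2 : derivedSeries G m ≤ (QuotientGroup.mk' (Cfsg.pResidual p G)).ker :=
      Subgroup.map_le_iff_le_comap.1 (h1.trans hm.le)
    rwa [QuotientGroup.ker_mk'] at h2
  choose! m hm using hex
  set n0 := (Nat.card M).primeFactors.sup m with hn0
  set K := derivedSeries G n0 with hK
  haveI hKn : K.Normal := derivedSeries_normal G n0
  have hKle : ∀ p ∈ (Nat.card M).primeFactors, K ≤ Cfsg.pResidual p G := fun p hp =>
    (derivedSeries_antitone G (Finset.le_sup hp)).trans (hm p hp)
  have hcop : (Nat.card M).Coprime (Nat.card K) := by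
    apply Nat.coprime_of_dvd
    intro p hp hpM hpK
    have h1 := key p hp hpM
    have h2 : p ∣ Nat.card (Cfsg.pResidual p G) :=
      hpK.trans (card_dvd_of_le (hKle p (Nat.mem_primeFactors.2 ⟨hp, hpM, Nat.card_pos.ne'⟩)))
    have h3 := Nat.dvd_gcd h2 dvd_rfl
    rw [h1] at h3
    exact hp.one_lt.ne' (Nat.dvd_one.1 h3)
  haveI hGK : Group.IsSolvable (G ⧸ K) := by
    refine ⟨⟨n0, ?_⟩⟩
    rw [← map_derivedSeries_eq (QuotientGroup.mk'_surjective K) n0]
    exact QuotientGroup.map_mk'_self K
  suffices hKs : Group.IsSolvable K by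
    exact solvable_of_ker_le_range K.subtype (QuotientGroup.mk' K) (by simp)
  have hKN : M ≤ normalizer (K : Set G) := by rw [normalizer_eq_top]; exact le_top
  by_cases hK1 : Nat.card K = 1
  · haveI : Subsingleton K := (Nat.card_eq_one_iff_unique.1 hK1).1
    infer_instance
  obtain ⟨q, hq, hqK⟩ := Nat.exists_prime_and_dvd hK1
  haveI : Fact q.Prime := ⟨hq⟩
  obtain ⟨Q, hQ⟩ := coprime_invariant_sylow_exists M K hKN hcop (Or.inl hMs) q
  set Q' := (Q : Subgroup K).map K.subtype with hQ'
  have hQ'K : Q' ≤ K := map_subtype_le _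
  have hQ'1 : Q' ≠ ⊥ := by
    intro h
    have : (Q : Subgroup K) = ⊥ := (map_eq_bot_iff_of_injective _ K.subtype_injective).1 h
    exact Q.ne_bot_of_dvd_card hqK this
  have hMK : K ⊓ M = ⊥ := inf_eq_bot_of_coprime hcop.symm
  have hQM : Q' ⊓ M = ⊥ := le_bot_iff.1 ((inf_le_inf_right M hQ'K).trans hMK.le)
  have htop : Q' ⊔ M = ⊤ := by
    apply hmax.2
    refine lt_of_le_of_ne le_sup_right ?_
    intro h
    have h1 : Q' ≤ M := h ▸ le_sup_left
    apply hQ'1
    rw [← le_bot_iff, ← hQM]
    exact le_inf le_rfl h1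
  have htop2 : K ⊔ M = ⊤ := top_le_iff.1 (htop ▸ sup_le_sup_right hQ'K M)
  have c1 := card_sup_mul_card_inf' Q' M hQ
  have c2 := card_sup_mul_card_inf' K M hKN
  rw [htop, hQM] at c1
  rw [htop2, hMK] at c2
  have hc : Nat.card Q' = Nat.card K := Nat.eq_of_mul_eq_mul_right Nat.card_pos (c1.symm.trans c2)
  obtain ⟨k, hk⟩ := Q.2.exists_card_eq
  have hKq : IsPGroup q K := IsPGroup.of_card (n := k) (by
    rw [← hc, hQ', card_map_of_injective K.subtype_injective, hk])
  haveI := hKq.isNilpotent
  infer_instance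

/-- A finite group possessing a maximal subgroup that is nilpotent of odd order is solvable. -/
theorem result {G : Type*} [Group G] [Finite G]
    (M : Subgroup G) (hmax : IsCoatom M) (hnil : Group.IsNilpotent M) (hodd : Odd (Nat.card M)) :
    Group.IsSolvable G := by
  exact main _ G rfl M hmax hnil hodd

end Cfsg.Agent.S4040
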