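import Mathlib
import Cfsg.Agent.Lib_helper1_Fpf
import Cfsg.Agent.S0031
import Cfsg.Agent.S0032
import Cfsg.Agent.S4040

set_option autoImplicit false

namespace Cfsg.Agent.H1

open Subgroup

theorem sylow_sup_normal {G : Type*} [Group G] [Finite G] (V : Subgroup G) [V.Normal]
    (hnil : Group.IsNilpotent (G ⧸ V)) (p : ℕ) [Fact p.Prime] (P : Sylow p G) :
    ((P : Subgroup G) ⊔ V).Normal := by
  haveI := hnil
  let P' : Sylow p (G ⧸ V) := P.mapSurjective (QuotientGroup.mk'_surjective V)
  haveI hn : (P' : Subgroup (G ⧸ V)).Normal := inferInstance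
  have h1 : ((P' : Subgroup (G ⧸ V)).comap (QuotientGroup.mk' V)) = (P : Subgroup G) ⊔ V := by
    rw [Sylow.coe_mapSurjective, comap_map_eq, QuotientGroup.ker_mk']
  rw [← h1]
  exact hn.comap _

theorem sylow_normal_of_le_nilpotent_normal {G : Type*} [Group G] [Finite G] (L : Subgroup G)
    [L.Normal] (hL : Group.IsNilpotent L) (p : ℕ) [Fact p.Prime] (P : Sylow p G)
    (hPL : (P : Subgroup G) ≤ L) : (P : Subgroup G).Normal := by
  haveI := hL
  obtain ⟨S, hS⟩ := (isPGroup_subgroupOf P.2 L).exists_le_sylow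
  haveI hSn : (S : Subgroup L).Normal := inferInstance
  haveI hSc : (S : Subgroup L).Characteristic := S.characteristic_of_normal hSn
  have hn : ((S : Subgroup L).map L.subtype).Normal := ConjAct.normal_of_characteristic_of_normal
  have hle : (P : Subgroup G) ≤ (S : Subgroup L).map L.subtype := by
    intro x hx
    exact ⟨⟨x, hPL hx⟩, hS (mem_subgroupOf.2 hx), rfl⟩
  have heq := P.is_maximal' (S.2.map L.subtype) hle
  rw [← heq]
  exact hn

theorem thompson_aux.{u} (r : ℕ) (hr : r.Prime) : ∀ (n : ℕ) (G : Type u) [Group G] [Finite G],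
    Nat.card G = n → ∀ φ : G ≃* G, (∀ g, φ g = g → g = 1) → (∀ g, φ^[r] g = g) →
    Group.IsNilpotent G := by
  intro n
  induction n using Nat.strong_induction_on with
  | _ n ih =>
  intro G _ _ hn φ hφ hrφ
  have hφ' : MonoidHom.FixedPointFree (φ : G →* G) := hφ
  have IHsub : ∀ H : Subgroup G, H ≠ ⊤ → (∀ x ∈ H, φ x ∈ H) → Group.IsNilpotent H := by
    intro H hH hinv
    apply ih (Nat.card H) (hn ▸ card_lt_of_ne_top hH) H rfl (fpfRestr φ H hinv)
    · intro g hg
      exact Subtype.ext (hφ _ (congrArg Subtype.val hg))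
    · intro g
      exact Subtype.ext (by rw [fpfRestr_iter]; exact hrφ _)
  have IHquot : ∀ (N : Subgroup G) [N.Normal], N ≠ ⊥ → (∀ x ∈ N, φ x ∈ N) →
      Group.IsNilpotent (G ⧸ N) := by
    intro N _ hN hinv
    apply ih (Nat.card (G ⧸ N)) (hn ▸ card_quotient_lt hN) (G ⧸ N) rfl (fpfQuot φ N hinv)
    · intro g hg
      obtain ⟨x, rfl⟩ := QuotientGroup.mk_surjective g
      rw [fpfQuot_mk, QuotientGroup.eq] at hg
      exact (QuotientGroup.eq_one_iff x).2 (Cfsg.Agent.S0032.result φ hφ' N hinv x hg)
    · intro g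
      obtain ⟨x, rfl⟩ := QuotientGroup.mk_surjective g
      rw [fpfQuot_iter, hrφ]
  have hchar : ∀ C : Subgroup G, C.Characteristic → ∀ x ∈ C, φ x ∈ C := by
    intro C hC x hx
    exact (characteristic_iff_map_le.1 hC φ) (mem_map_of_mem _ hx)
  have hsurj : ∀ C : Subgroup G, (∀ x ∈ C, φ x ∈ C) → ∀ z ∈ C, ∃ z' ∈ C, φ z' = z := by
    intro C hC z hz
    obtain ⟨s, rfl⟩ : ∃ s, r = s + 1 := ⟨r - 1, by have := hr.pos; omega⟩
    refine ⟨φ^[s] z, iter_mem φ C hC s z hz, ?_⟩
    rw [← Function.iterate_succ_apply' φ s z]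
    exact hrφ z
  by_cases hq : ∃ q : ℕ, q.Prime ∧ Cfsg.pCore q G ≠ ⊥
  · obtain ⟨q, hqp, hq1⟩ := hq
    haveI : Fact q.Prime := ⟨hqp⟩
    set O := Cfsg.pCore q G with hO
    have hOc : O.Characteristic := pCore_characteristic q
    have hOp : IsPGroup q O := pCore_isPGroup q
    have hOinv := hchar O hOc
    set V : Subgroup G := O ⊓ centralizer (O : Set G) with hV
    haveI hOn : O.Normal := pCore_normal q
    haveI hVn : V.Normal := inferInstance
    have hVinv : ∀ x ∈ V, φ x ∈ V := by
      intro x hx
      refine mem_inf.2 ⟨hOinv x hx.1, ?_⟩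
      rw [mem_centralizer_iff]
      intro y hy
      obtain ⟨y', hy', rfl⟩ := hsurj O hOinv y hy
      rw [← map_mul, ← map_mul, mem_centralizer_iff.1 hx.2 y' hy']
    haveI hVc : IsMulCommutative V :=
      ⟨⟨fun a b => Subtype.ext (mem_centralizer_iff.1 b.2.2 a a.2.1)⟩⟩
    have hV1 : V ≠ ⊥ := by
      haveI : Nontrivial O := (Subgroup.nontrivial_iff_ne_bot O).2 hq1
      haveI : Nontrivial (center O) := hOp.center_nontrivial
      obtain ⟨z, hz⟩ := exists_ne (1 : center O)
      intro h
      have hz' : ((z : O) : G) ∈ V := by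
        refine mem_inf.2 ⟨(z : O).2, ?_⟩
        rw [mem_centralizer_iff]
        intro d hd
        have := Subgroup.mem_center_iff.1 z.2 ⟨d, hd⟩
        exact congrArg Subtype.val this
      rw [h, mem_bot] at hz'
      exact hz (Subtype.ext (Subtype.ext hz'))
    have hGV : Group.IsNilpotent (G ⧸ V) := IHquot V hV1 hVinv
    have hall : ∀ (p : ℕ) [Fact p.Prime], ∃ P : Sylow p G, (P : Subgroup G).Normal := by
      intro p hpF
      obtain ⟨P, hP⟩ := Cfsg.Agent.S0031.result φ hφ' p
      refine ⟨P, ?_⟩
      have hPinv : ∀ x ∈ (P : Subgroup G), φ x ∈ (P : Subgroup G) := by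
        intro x hx
        have : φ x ∈ (P : Subgroup G).map (φ : G →* G) := mem_map_of_mem _ hx
        rwa [hP] at this
      haveI hLn := sylow_sup_normal V hGV p P
      by_cases hpq : p = q
      · subst hpq
        have hVP : V ≤ P := by
          refine inf_le_left.trans ?_
          rw [hO, pCore_eq_iInf_sylow]
          exact iInf_le _ P
        rwa [sup_eq_left.2 hVP] at hLn
      · by_cases hL : (P : Subgroup G) ⊔ V = ⊤
        · have hcent : V ≤ centralizer ((P : Subgroup G) : Set G) := by
            intro v hv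
            have h1 := fpf_key φ hφ r hr hrφ V P hVinv hPinv v hv
            have hcop : Nat.Coprime (Nat.card (P : Subgroup G)) (orderOf v) := by
              obtain ⟨k, hk⟩ := P.2.exists_card_eq
              obtain ⟨j, hj⟩ := IsPGroup.iff_orderOf.1 hOp ⟨v, hv.1⟩
              rw [Subgroup.orderOf_mk] at hj
              rw [hk, hj]
              exact Nat.Coprime.pow _ _ ((Nat.coprime_primes hpF.out hqp).2 hpq)
            obtain ⟨m, hm⟩ := exists_pow_eq_self_of_coprime hcop
            rw [← hm]
            exact pow_mem h1 m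
          have : normalizer ((P : Subgroup G) : Set G) = ⊤ := by
            rw [eq_top_iff, ← hL]
            exact sup_le le_normalizer (hcent.trans (centralizer_le_normalizer _))
          exact normalizer_eq_top_iff.1 this
        · have hLinv : (P : Subgroup G) ⊔ V ≤ ((P : Subgroup G) ⊔ V).comap φ.toMonoidHom :=
            sup_le (fun x hx => mem_sup_left (hPinv x hx)) (fun x hx => mem_sup_right (hVinv x hx))
          have hLnil := IHsub _ hL (fun x hx => hLinv hx)
          exact sylow_normal_of_le_nilpotent_normal _ hLnil p P le_sup_left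
    apply ((Group.isNilpotent_of_finite_tfae (G := G)).out 0 3 rfl rfl).2
    intro p hp P'
    obtain ⟨P, hPn⟩ := hall p
    obtain ⟨g, rfl⟩ := MulAction.exists_smul_eq G P P'
    rw [Sylow.smul_eq_of_normal]
    exact hPn
  · push Not at hq
    by_cases hodd : ∃ p : ℕ, p.Prime ∧ p ≠ 2 ∧ p ∣ Nat.card G
    · obtain ⟨p, hp, hp2, hpG⟩ := hodd
      haveI : Fact p.Prime := ⟨hp⟩
      obtain ⟨P, hP⟩ := Cfsg.Agent.S0031.result φ hφ' p
      have hP1 : (P : Subgroup G) ≠ ⊥ := P.ne_bot_of_dvd_card hpG
      set Z := Cfsg.centerThompsonAOf (P : Subgroup G) with hZ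
      have hZP : Z ≤ P := Cfsg.Agent.H8.ZJ_le _
      have hZ1 : Z ≠ ⊥ := by
        haveI : Nontrivial (P : Subgroup G) := (Subgroup.nontrivial_iff_ne_bot _).2 hP1
        haveI : Nontrivial (center (P : Subgroup G)) := P.2.center_nontrivial
        obtain ⟨z, hz⟩ := exists_ne (1 : center (P : Subgroup G))
        intro h
        have hz' : ((z : (P : Subgroup G)) : G) ∈ Z :=
          Cfsg.Agent.H8.center_le_ZJ (z : (P : Subgroup G)).2 (fun d hd => by
            have := Subgroup.mem_center_iff.1 z.2 ⟨d, hd⟩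
            exact (congrArg Subtype.val this).symm)
        rw [h, mem_bot] at hz'
        exact hz (Subtype.ext (Subtype.ext hz'))
      have hZinv : ∀ x ∈ Z, φ x ∈ Z := by
        intro x hx
        have h1 := Cfsg.Agent.H8.ZJ_equiv (φ.subgroupMap (P : Subgroup G))
          (d := ⟨x, hZP hx⟩) hx
        have h2 : φ x ∈ Cfsg.centerThompsonAOf ((P : Subgroup G).map (φ : G →* G)) := h1
        rw [hP] at h2
        exact h2
      have hNne : normalizer (Z : Set G) ≠ ⊤ := by
        intro h
        have hZn : Z.Normal := normalizer_eq_top_iff.1 h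
        have h1 := le_pCore p hZn (P.2.to_le hZP)
        rw [hq p hp] at h1
        exact hZ1 (le_bot_iff.1 h1)
      have hNinv : ∀ x ∈ normalizer (Z : Set G), φ x ∈ normalizer (Z : Set G) := by
        intro x hx
        apply Cfsg.Agent.H8.mem_normalizer_of_forall
        intro z hz
        obtain ⟨z', hz', rfl⟩ := hsurj Z hZinv z hz
        rw [← map_mul, ← map_inv, ← map_mul]
        exact hZinv _ ((mem_normalizer_iff.1 hx z').1 hz')
      have hNnil := IHsub _ hNne hNinv
      have hnpc := Cfsg.Agent.S0659.result hp2 P (Cfsg.Agent.S4040.npc_of_nilpotent hNnil p)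
      have hcop := hasNormalPComplement_iff.1 hnpc
      set K := Cfsg.pResidual p G with hK
      haveI hKn : K.Normal := pResidual_normal (G := G) p
      have hKinv : K ≤ K.comap φ.toMonoidHom := by
        conv_lhs => rw [hK]
        unfold Cfsg.pResidual
        rw [closure_le]
        intro g hg
        apply Subgroup.subset_closure
        show Nat.Coprime (orderOf (φ g)) p
        rw [MulEquiv.orderOf_eq]
        exact hg
      have hKne : K ≠ ⊤ := by
        intro h
        rw [h, card_top] at hcop
        exact (Nat.Prime.coprime_iff_not_dvd hp).1 hcop.symm hpG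
      have hKnil := IHsub K hKne (fun x hx => hKinv hx)
      have hKbot : K = ⊥ := by
        have h1 := le_iSup_pCore_of_nilpotent hKn hKnil
        have h0 : (⨆ q : Nat.Primes, Cfsg.pCore (q : ℕ) G) = ⊥ := by
          rw [iSup_eq_bot]
          intro q
          exact hq _ q.2
        rw [h0] at h1
        exact le_bot_iff.1 h1
      have hG : IsPGroup p G := by
        have h := isPGroup_quotient_pResidual (G := G) p
        intro g
        obtain ⟨k, hk⟩ := h (g : G ⧸ K)
        refine ⟨k, ?_⟩
        have h2 : g ^ p ^ k ∈ K := (QuotientGroup.eq_one_iff _).1 (by simpa using hk)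
        rwa [hKbot, mem_bot] at h2
      exact hG.isNilpotent
    · push Not at hodd
      have hG : IsPGroup 2 G := by
        apply IsPGroup.of_card (n := (Nat.card G).primeFactorsList.length)
        apply Nat.eq_prime_pow_of_unique_prime_dvd Nat.card_pos.ne'
        intro d hd hdG
        by_contra h
        exact hodd d hd h hdG
      exact hG.isNilpotent

end Cfsg.Agent.H1
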