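import Mathlib
import Cfsg.Agent.Lib_helper1_Fpf

set_option autoImplicit false

namespace Cfsg.Agent.H1

open Subgroup
open scoped IsMulCommutative

section kegel

variable {G : Type*} [Group G]

theorem fpf_iter' (φ : G ≃* G) (P : Subgroup G) (hφ : ∀ g ∈ P, φ g = g → g = 1) (r : ℕ)
    (hr : r.Prime) (hrφ : ∀ g, φ^[r] g = g) (i : ℕ) (hi0 : 0 < i) (hir : i < r) (z : G)
    (hzP : z ∈ P) (hz : φ^[i] z = z) : z = 1 := by
  apply hφ z hzP
  have h1 : Function.IsPeriodicPt φ i z := hz
  have h2 : Function.IsPeriodicPt φ r z := hrφ z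
  have h3 := h1.gcd h2
  have h4 : Nat.gcd i r = 1 := by
    rw [Nat.gcd_comm]
    exact (Nat.Prime.coprime_iff_not_dvd hr).2 (fun h => by
      have := Nat.le_of_dvd hi0 h
      omega)
  rw [h4] at h3
  exact h3

theorem fpf_key' [Finite G] (φ : G ≃* G) (r : ℕ) (hr : r.Prime)
    (hrφ : ∀ g, φ^[r] g = g) (V P : Subgroup G) [hVn : V.Normal] [hVc : IsMulCommutative V]
    (hV : ∀ x ∈ V, φ x ∈ V) (hP : ∀ x ∈ P, φ x ∈ P) (hφ : ∀ g ∈ P, φ g = g → g = 1)
    (htrV : ∀ w ∈ V, ((List.range r).map (fun i => φ^[i] w)).prod = 1)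
    (v : G) (hv : v ∈ V) :
    v ^ Nat.card P ∈ centralizer (P : Set G) := by
  classical
  haveI : Fintype P := Fintype.ofFinite P
  let c : P → V →* V := fun g =>
    { toFun := fun w => ⟨g * w * g⁻¹, hVn.conj_mem w w.2 g⟩
      map_one' := by ext; simp
      map_mul' := by intro a b; ext; simp }
  have hc : ∀ (g : P) (w : V), ((c g w : V) : G) = g * w * g⁻¹ := fun _ _ => rfl
  let F : ℕ → V →* V := fun i =>
    { toFun := fun w => ⟨φ^[i] w, iter_mem φ V hV i w w.2⟩
      map_one' := Subtype.ext (iterate_map_one φ i)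
      map_mul' := fun a b => Subtype.ext (iterate_map_mul φ i (a : G) (b : G)) }
  have hF : ∀ (i : ℕ) (w : V), ((F i w : V) : G) = φ^[i] w := fun _ _ => rfl
  let Nm : V → V := fun w => ∏ g : P, c g w
  have hfix : ∀ (h : P) (w : V), c h (Nm w) = Nm w := by
    intro h w
    show c h (∏ g : P, c g w) = ∏ g : P, c g w
    rw [map_prod]
    apply Fintype.prod_equiv (Equiv.mulLeft h)
    intro g
    apply Subtype.ext
    simp [hc, mul_assoc]
  have htr : ∀ w : V, ∏ i ∈ Finset.range r, F i w = 1 := by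
    intro w
    have h1 : ∀ n : ℕ, ((∏ i ∈ Finset.range n, F i w : V) : G) =
        ((List.range n).map (fun i => φ^[i] (w : G))).prod := by
      intro n
      induction n with
      | zero => simp
      | succ n ih =>
        rw [Finset.prod_range_succ, List.range_succ, List.map_append, List.prod_append,
          Subgroup.coe_mul, ih, hF]
        simp
    apply Subtype.ext
    rw [h1, htrV w w.2]
    rfl
  have hbij : ∀ i, 0 < i → i < r → ∀ w : V,
      ∏ x : P, c x (F i (c x⁻¹ w)) = Nm (F i w) := by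
    intro i hi0 hir w
    let β : P → P := fun x => ⟨x * (φ^[i] x)⁻¹, P.mul_mem x.2 (P.inv_mem (iter_mem φ P hP i x x.2))⟩
    have hβ : Function.Bijective β := by
      apply Finite.injective_iff_bijective.1
      intro x y hxy
      have h1 : (x : G) * (φ^[i] x)⁻¹ = y * (φ^[i] y)⁻¹ := congrArg Subtype.val hxy
      have h2 : φ^[i] ((y : G)⁻¹ * x) = (y : G)⁻¹ * x := by
        rw [iterate_map_mul, iterate_map_inv]
        calc (φ^[i] (y : G))⁻¹ * φ^[i] (x : G)
            = (y : G)⁻¹ * ((y : G) * (φ^[i] (y : G))⁻¹) * φ^[i] (x : G) := by group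
          _ = (y : G)⁻¹ * ((x : G) * (φ^[i] (x : G))⁻¹) * φ^[i] (x : G) := by rw [h1]
          _ = (y : G)⁻¹ * x := by group
      have h3 := fpf_iter' φ P hφ r hr hrφ i hi0 hir _ (P.mul_mem (P.inv_mem y.2) x.2) h2
      apply Subtype.ext
      exact (inv_mul_eq_one.1 h3).symm
    show _ = ∏ g : P, c g (F i w)
    rw [← hβ.prod_comp (fun g => c g (F i w))]
    apply Finset.prod_congr rfl
    intro x _
    apply Subtype.ext
    rw [hc, hF, hc, hc, hF]
    simp only [iterate_map_mul, iterate_map_inv, β, InvMemClass.coe_inv, inv_inv, mul_inv_rev]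
    group
  obtain ⟨s, rfl⟩ : ∃ s, r = s + 1 := ⟨r - 1, by have := hr.pos; omega⟩
  set v' : V := ⟨v, hv⟩ with hv'
  have htot : (∏ i ∈ Finset.range s, Nm (F (i + 1) v')) * v' ^ Nat.card P = 1 := by
    have h1 : ∏ x : P, c x (∏ i ∈ Finset.range (s + 1), F i (c x⁻¹ v')) = 1 := by
      simp only [htr, map_one, Finset.prod_const_one]
    simp only [map_prod] at h1
    rw [Finset.prod_comm, Finset.prod_range_succ'] at h1
    have h2 : ∏ x : P, c x (F 0 (c x⁻¹ v')) = v' ^ Nat.card P := by
      have h3 : ∀ x : P, c x (F 0 (c x⁻¹ v')) = v' := by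
        intro x
        apply Subtype.ext
        rw [hc, hF, Function.iterate_zero_apply, hc]
        simp [mul_assoc]
      simp only [h3, Finset.prod_const, Finset.card_univ, Nat.card_eq_fintype_card]
    rw [h2] at h1
    rw [← h1]
    congr 1
    apply Finset.prod_congr rfl
    intro i hi
    exact (hbij (i + 1) (Nat.succ_pos i) (by have := Finset.mem_range.1 hi; omega) v').symm
  have hfixed : ∀ h : P, c h (v' ^ Nat.card P) = v' ^ Nat.card P := by
    intro h
    have h1 : v' ^ Nat.card P = (∏ i ∈ Finset.range s, Nm (F (i + 1) v'))⁻¹ :=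
      eq_inv_of_mul_eq_one_right htot
    rw [h1, map_inv, map_prod]
    simp only [hfix]
  rw [mem_centralizer_iff]
  intro h hh
  have h1 := congrArg Subtype.val (hfixed ⟨h, hh⟩)
  rw [hc] at h1
  have h2 : ((v' ^ Nat.card P : V) : G) = v ^ Nat.card P := rfl
  rw [h2] at h1
  exact mul_inv_eq_iff_eq_mul.1 h1

theorem conj_iter (y g : G) (k : ℕ) : (MulAut.conj y)^[k] g = y ^ k * g * (y ^ k)⁻¹ := by
  induction k with
  | zero => simp
  | succ k ih =>
    rw [Function.iterate_succ_apply', ih, MulAut.conj_apply, pow_succ']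
    group

theorem list_prod_conj (y w : G) (n : ℕ) :
    ((List.range n).map (fun i => (MulAut.conj y)^[i] w)).prod * y ^ n = (w * y) ^ n := by
  induction n with
  | zero => simp
  | succ n ih =>
    rw [List.range_succ, List.map_append, List.prod_append, pow_succ (w * y), ← ih]
    simp only [List.map_cons, List.map_nil, List.prod_cons, List.prod_nil, mul_one]
    rw [conj_iter, pow_succ]
    group

theorem nilpotent_of_two_quotients (H N₁ N₂ : Subgroup G) [N₁.Normal] [N₂.Normal]
    (hd : N₁ ⊓ N₂ = ⊥) (h1 : Group.IsNilpotent (H.map (QuotientGroup.mk' N₁)))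
    (h2 : Group.IsNilpotent (H.map (QuotientGroup.mk' N₂))) : Group.IsNilpotent H := by
  haveI := h1
  haveI := h2
  let f : H →* (H.map (QuotientGroup.mk' N₁)) × (H.map (QuotientGroup.mk' N₂)) :=
    ((QuotientGroup.mk' N₁).subgroupMap H).prod ((QuotientGroup.mk' N₂).subgroupMap H)
  have hf : Function.Injective f := by
    rw [injective_iff_map_eq_one]
    intro a ha
    have ha1 : ((QuotientGroup.mk' N₁).subgroupMap H) a = 1 := congrArg Prod.fst ha
    have ha2 : ((QuotientGroup.mk' N₂).subgroupMap H) a = 1 := congrArg Prod.snd ha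
    have hb1 : (a : G) ∈ N₁ := (QuotientGroup.eq_one_iff _).1 (congrArg Subtype.val ha1)
    have hb2 : (a : G) ∈ N₂ := (QuotientGroup.eq_one_iff _).1 (congrArg Subtype.val ha2)
    have hb : (a : G) ∈ N₁ ⊓ N₂ := mem_inf.2 ⟨hb1, hb2⟩
    rw [hd, mem_bot] at hb
    exact Subtype.ext hb
  exact Group.nilpotent_of_mulEquiv (MonoidHom.ofInjective hf).symm

end kegel

end Cfsg.Agent.H1
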