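import Mathlib
import Cfsg.Agent.Lib_helper1_Kegel
import Cfsg.Agent.Lib_helper1_Fpf2

set_option autoImplicit false

namespace Cfsg.Agent.H1

open Subgroup

theorem exists_abelian_normal_of_normal_pgroup {Γ : Type*} [Group Γ] [Finite Γ] (p : ℕ)
    [Fact p.Prime] (N : Subgroup Γ) [N.Normal] (hNp : IsPGroup p N) (hN1 : N ≠ ⊥) :
    ∃ V : Subgroup Γ, V.Normal ∧ IsMulCommutative V ∧ IsPGroup p V ∧ V ≠ ⊥ ∧ V ≤ N := by
  refine ⟨N ⊓ centralizer (N : Set Γ), inferInstance, ?_, hNp.to_le inf_le_left, ?_, inf_le_left⟩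
  · exact ⟨⟨fun a b => Subtype.ext (mem_centralizer_iff.1 b.2.2 a a.2.1)⟩⟩
  · haveI : Nontrivial N := (Subgroup.nontrivial_iff_ne_bot N).2 hN1
    haveI : Nontrivial (center N) := hNp.center_nontrivial
    obtain ⟨z, hz⟩ := exists_ne (1 : center N)
    intro h
    have hz' : ((z : N) : Γ) ∈ N ⊓ centralizer (N : Set Γ) := by
      refine mem_inf.2 ⟨(z : N).2, ?_⟩
      rw [mem_centralizer_iff]
      intro d hd
      have := Subgroup.mem_center_iff.1 z.2 ⟨d, hd⟩
      exact congrArg Subtype.val this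
    rw [h, mem_bot] at hz'
    exact hz (Subtype.ext (Subtype.ext hz'))

theorem kegel_step {Γ : Type*} [Group Γ] [Finite Γ] (p : ℕ) [hpF : Fact p.Prime] (H : Subgroup Γ)
    [H.Normal] (hHtop : H ≠ ⊤) (hyp : ∀ x, x ∉ H → x ^ p = 1)
    (IHquot : ∀ (N : Subgroup Γ) [N.Normal], N ≠ ⊥ → N ≤ H →
      Group.IsNilpotent (H.map (QuotientGroup.mk' N)))
    (hHp : ¬ IsPGroup p H)
    (V : Subgroup Γ) [hVn : V.Normal] [IsMulCommutative V] (hVp : IsPGroup p V) (hV1 : V ≠ ⊥)
    (hVH : V ≤ H) : Group.IsNilpotent H := by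
  have hp := hpF.out
  obtain ⟨q, hq, hqp, hqH⟩ : ∃ q : ℕ, q.Prime ∧ q ≠ p ∧ q ∣ Nat.card H := by
    by_contra hcon
    push Not at hcon
    apply hHp
    apply IsPGroup.of_card (n := (Nat.card H).primeFactorsList.length)
    apply Nat.eq_prime_pow_of_unique_prime_dvd Nat.card_pos.ne'
    intro d hd hdH
    by_contra h
    exact hcon d hd h hdH
  haveI : Fact q.Prime := ⟨hq⟩
  let Q : Sylow q Γ := default
  have hqelt : ∀ g ∈ (Q : Subgroup Γ), g ^ p = 1 → g = 1 := by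
    intro g hg h1
    obtain ⟨k, hk⟩ := Q.2 ⟨g, hg⟩
    have h2 : g ^ q ^ k = 1 := congrArg Subtype.val hk
    have hc : Nat.gcd p (q ^ k) = 1 :=
      Nat.Coprime.pow_right _ ((Nat.coprime_primes hp hq).2 hqp.symm)
    have h3 := Nat.dvd_gcd (orderOf_dvd_of_pow_eq_one h1) (orderOf_dvd_of_pow_eq_one h2)
    rw [hc] at h3
    exact orderOf_eq_one_iff.1 (Nat.dvd_one.1 h3)
  have hQH : (Q : Subgroup Γ) ≤ H := by
    intro g hg
    by_contra hgH
    exact hgH ((hqelt g hg (hyp g hgH)) ▸ H.one_mem)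
  have hQ1 : (Q : Subgroup Γ) ≠ ⊥ := Q.ne_bot_of_dvd_card (hqH.trans (card_subgroup_dvd_card H))
  have hHV := IHquot V hV1 hVH
  haveI hHVn : (H.map (QuotientGroup.mk' V)).Normal :=
    Normal.map inferInstance _ (QuotientGroup.mk'_surjective V)
  have hQVn : ((Q : Subgroup Γ) ⊔ V).Normal := by
    let Q' : Sylow q (Γ ⧸ V) := Q.mapSurjective (QuotientGroup.mk'_surjective V)
    have hQ'le : (Q' : Subgroup (Γ ⧸ V)) ≤ H.map (QuotientGroup.mk' V) := by
      rw [Sylow.coe_mapSurjective]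
      exact map_mono hQH
    have hn := sylow_normal_of_le_nilpotent_normal _ hHV q Q' hQ'le
    have h1 : ((Q' : Subgroup (Γ ⧸ V)).comap (QuotientGroup.mk' V)) = (Q : Subgroup Γ) ⊔ V := by
      rw [Sylow.coe_mapSurjective, comap_map_eq, QuotientGroup.ker_mk']
    rw [← h1]
    exact hn.comap _
  haveI := hQVn
  have hfr := Sylow.normalizer_sup_eq_top' Q (le_sup_left : (Q : Subgroup Γ) ≤ (Q : Subgroup Γ) ⊔ V)
  have hfr2 : normalizer ((Q : Subgroup Γ) : Set Γ) ⊔ V = ⊤ := by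
    rw [eq_top_iff, ← hfr]
    exact sup_le le_sup_left (sup_le (le_normalizer.trans le_sup_left) le_sup_right)
  obtain ⟨y, hyN, hyH⟩ : ∃ y ∈ normalizer ((Q : Subgroup Γ) : Set Γ), y ∉ H := by
    by_contra hcon
    push Not at hcon
    apply hHtop
    rw [eq_top_iff, ← hfr2]
    exact sup_le hcon hVH
  have hyp1 : y ^ p = 1 := hyp y hyH
  have hmulnot : ∀ c ∈ H, c * y ∉ H := fun c hc h =>
    hyH (by simpa using H.mul_mem (H.inv_mem hc) h)
  have hcent : V ≤ centralizer ((Q : Subgroup Γ) : Set Γ) := by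
    intro v hv
    have h1 := fpf_key' (MulAut.conj y) p hp (fun g => by rw [conj_iter, hyp1]; simp) V Q
      (fun x hx => by rw [MulAut.conj_apply]; exact hVn.conj_mem x hx y)
      (fun x hx => by rw [MulAut.conj_apply]; exact (mem_normalizer_iff.1 hyN x).1 hx)
      (fun g hg hfix => by
        rw [MulAut.conj_apply] at hfix
        have hc : Commute g y := (mul_inv_eq_iff_eq_mul.1 hfix).symm
        have h2 := hyp _ (hmulnot g (hQH hg))
        rw [hc.mul_pow, hyp1, mul_one] at h2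
        exact hqelt g hg h2)
      (fun w hw => by
        have h2 := list_prod_conj y w p
        rw [hyp1, mul_one, hyp _ (hmulnot w (hVH hw))] at h2
        exact h2) v hv
    have hcop : Nat.Coprime (Nat.card (Q : Subgroup Γ)) (orderOf v) := by
      obtain ⟨k, hk⟩ := Q.2.exists_card_eq
      obtain ⟨j, hj⟩ := IsPGroup.iff_orderOf.1 hVp ⟨v, hv⟩
      rw [Subgroup.orderOf_mk] at hj
      rw [hk, hj]
      exact Nat.Coprime.pow _ _ ((Nat.coprime_primes hq hp).2 hqp)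
    obtain ⟨m, hm⟩ := exists_pow_eq_self_of_coprime hcop
    rw [← hm]
    exact pow_mem h1 m
  have hQn : (Q : Subgroup Γ).Normal := by
    apply normalizer_eq_top_iff.1
    rw [eq_top_iff, ← hfr2]
    exact sup_le le_rfl (hcent.trans (centralizer_le_normalizer _))
  haveI := hQn
  have hHQ := IHquot Q hQ1 hQH
  have hd : (Q : Subgroup Γ) ⊓ V = ⊥ := by
    apply inf_eq_bot_of_coprime
    obtain ⟨k, hk⟩ := Q.2.exists_card_eq
    obtain ⟨j, hj⟩ := hVp.exists_card_eq
    rw [hk, hj]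
    exact Nat.Coprime.pow _ _ ((Nat.coprime_primes hq hp).2 hqp)
  exact nilpotent_of_two_quotients H Q V hd hHQ hHV

end Cfsg.Agent.H1
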