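import Mathlib
import Cfsg.Agent.Lib_helper1_MinAct
import Cfsg.Agent.Lib_helper1_Cores
import Cfsg.Agent.Lib_helper1_Hall

set_option autoImplicit false
open Pointwise
open scoped commutatorElement

namespace Cfsg.Agent.H1

open Subgroup

universe u

theorem card_modEq_card_inf_centralizer {G : Type*} [Group G] [Finite G] {q : ℕ} [Fact q.Prime]
    (U Q : Subgroup G) (hQ : Q ≤ normalizer (U : Set G)) (hq : IsPGroup q Q) :
    Nat.card U ≡ Nat.card (U ⊓ centralizer (Q : Set G) : Subgroup G) [MOD q] := by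
  let _ : MulAction Q U :=
    MulAction.compHom U ((U.normalizerMonoidHom).comp (Subgroup.inclusion hQ))
  have hsmul : ∀ (g : Q) (u : U), ((g • u : U) : G) = g * u * (g : G)⁻¹ := fun g u => rfl
  have h1 := hq.card_modEq_card_fixedPoints U
  have h2 : Nat.card (MulAction.fixedPoints Q U)
      = Nat.card (U ⊓ centralizer (Q : Set G) : Subgroup G) := by
    apply Nat.card_congr
    refine ⟨fun u => ⟨u.1.1, u.1.2, ?_⟩, fun v => ⟨⟨v.1, v.2.1⟩, ?_⟩, ?_, ?_⟩
    · change u.1.1 ∈ centralizer (Q : Set G)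
      rw [mem_centralizer_iff]
      intro g hg
      have := congrArg Subtype.val (u.2 ⟨g, hg⟩)
      rw [hsmul] at this
      simp only at this
      calc g * u.1.1 = g * u.1.1 * g⁻¹ * g := by group
        _ = u.1.1 * g := by rw [this]
    · intro g
      apply Subtype.ext
      rw [hsmul]
      have := (mem_centralizer_iff.mp v.2.2) g g.2
      simp only
      rw [this]; group
    · intro u; rfl
    · intro v; rfl
  rwa [h2] at h1

theorem MinAct.exists_prime {G : Type u} [Group G] [Finite G] {p : ℕ} [Fact p.Prime]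
    {U : Subgroup G} {y : G} (h : MinAct p U y) :
    ∃ q : ℕ, q.Prime ∧ q ∣ orderOf y ∧ ∃ j : ℕ, 1 ≤ j ∧ q ∣ p ^ j - 1 ∧
      p ^ j ∣ (frattini U).index := by
  have hp : p.Prime := Fact.out
  set A := zpowers y with hA
  let P : ∀ q : Nat.Primes, Sylow (q : ℕ) A := fun q => default
  have hsup := iSup_sylow_eq_top P
  have hex : ∃ q : Nat.Primes, ¬ ((P q : Subgroup A).map A.subtype ≤ centralizer (U : Set G)) := by
    by_contra hcon
    push Not at hcon
    apply h.ncent
    have h1 : A ≤ centralizer (U : Set G) := by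
      have : A = (⊤ : Subgroup A).map A.subtype := by
        rw [← MonoidHom.range_eq_map, Subgroup.range_subtype]
      rw [this, ← hsup, Subgroup.map_iSup]
      exact iSup_le hcon
    exact h1 (mem_zpowers y)
  obtain ⟨q, hq⟩ := hex
  have hqp : (q : ℕ).Prime := q.2
  have : Fact (q : ℕ).Prime := ⟨hqp⟩
  set Q := (P q : Subgroup A).map A.subtype with hQ
  have hQA : Q ≤ A := map_subtype_le _
  have hQq : IsPGroup q Q := (P q).2.map _
  have hQne : Q ≠ ⊥ := by
    intro hb
    apply hq
    rw [hb]; exact bot_le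
  have hqdvd : (q : ℕ) ∣ orderOf y := by
    obtain ⟨k, hk⟩ := hQq.exists_card_eq
    have hk0 : k ≠ 0 := by
      intro h0
      rw [h0, pow_zero, card_eq_one] at hk
      exact hQne hk
    rw [← Nat.card_zpowers]
    exact (dvd_pow_self _ hk0).trans (hk ▸ card_dvd_of_le hQA)
  have hqnep : (q : ℕ) ≠ p := by
    intro he
    have := h.cop
    rw [Nat.coprime_comm, hp.coprime_iff_not_dvd] at this
    exact this (he ▸ hqdvd)
  have hmod := card_modEq_card_inf_centralizer U Q (hQA.trans h.le_normalizer) hQq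
  set C₀ := U ⊓ centralizer (Q : Set G) with hC₀
  have hC₀le : C₀ ≤ U := inf_le_left
  have hC₀ne : C₀ ≠ U := by
    intro he
    apply hq
    have : U ≤ centralizer (Q : Set G) := by rw [← he]; exact inf_le_right
    exact le_centralizer_iff.mp this
  have hFle : (frattini U).map U.subtype ≤ C₀ := by
    refine le_inf (map_subtype_le _) ?_
    intro f hf
    rw [mem_centralizer_iff]
    intro a ha
    exact (h.frat_commute_A hf (hQA ha)).eq.symm
  have hmul : C₀.relIndex U * Nat.card C₀ = Nat.card U := relIndex_mul_card' hC₀le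
  obtain ⟨n, hn⟩ := h.pgroup.exists_card_eq
  obtain ⟨j, _, hj⟩ := (Nat.dvd_prime_pow hp).mp (hn ▸ Dvd.intro _ hmul)
  obtain ⟨e, _, he⟩ := (Nat.dvd_prime_pow hp).mp (hn ▸ Dvd.intro_left _ hmul)
  have hj1 : 1 ≤ j := by
    rcases Nat.eq_zero_or_pos j with h0 | h0
    · exfalso
      rw [h0, pow_zero, relIndex_eq_one] at hj
      exact hC₀ne (le_antisymm hC₀le hj)
    · exact h0
  refine ⟨q, hqp, hqdvd, j, hj1, ?_, ?_⟩
  · have h1 : (q : ℕ) ∣ Nat.card U - Nat.card C₀ :=
      (Nat.modEq_iff_dvd' (card_le_of_le hC₀le)).mp hmod.symm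
    rw [← hmul, hj, he] at h1
    have h2 : p ^ j * p ^ e - p ^ e = (p ^ j - 1) * p ^ e := by
      rw [Nat.sub_mul, one_mul]
    rw [h2] at h1
    have h3 : Nat.Coprime q (p ^ e) :=
      Nat.Coprime.pow_right _ ((Nat.coprime_primes hqp hp).mpr hqnep)
    exact h3.dvd_of_dvd_mul_right h1
  · rw [← hj]
    have h1 : ((frattini U).map U.subtype).relIndex U = (frattini U).index := by
      rw [relIndex, subgroupOf, comap_map_eq_self_of_injective U.subtype_injective]
    rw [← h1]
    exact relIndex_dvd_of_le_left U hFle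

/-- a two-generated `p`-group has Frattini quotient of order dividing `p ^ 2`. -/
theorem frattini_index_dvd_of_two_gen {P : Type*} [Group P] [Finite P] {p : ℕ} [Fact p.Prime]
    (hP : IsPGroup p P) (d t : P) (hgen : closure ({d, t} : Set P) = ⊤) :
    (frattini P).index ∣ p ^ 2 := by
  have hp : p.Prime := Fact.out
  set F := frattini P with hF
  have hn : F.Normal := inferInstance
  set π := QuotientGroup.mk' F with hπ
  have htop : zpowers (π d) ⊔ zpowers (π t) = ⊤ := by
    have h1 : (closure ({d, t} : Set P)).map π = ⊤ := by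
      rw [hgen, Subgroup.map_top_of_surjective _ (QuotientGroup.mk'_surjective F)]
    rw [MonoidHom.map_closure, Set.image_pair] at h1
    rw [← h1, zpowers_eq_closure, zpowers_eq_closure, ← Subgroup.closure_union]
    rfl
  have hcomm : ∀ a b : P ⧸ F, a * b = b * a := by
    have := (Subgroup.Normal.quotient_commutative_iff_commutator_le (N := F)).mpr
      (pgroup_frattini p hP).1
    intro a b
    exact this.is_comm.comm a b
  have hnorm : zpowers (π t) ≤ normalizer ((zpowers (π d) : Subgroup (P ⧸ F)) : Set (P ⧸ F)) := by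
    intro g _
    rw [mem_normalizer_iff]
    intro x
    rw [hcomm g x, mul_assoc, mul_inv_cancel, mul_one]
  have hcard := card_sup_mul_card_inf' (zpowers (π d)) (zpowers (π t)) hnorm
  have hord : ∀ x : P, Nat.card (zpowers (π x)) ∣ p := by
    intro x
    rw [Nat.card_zpowers]
    apply orderOf_dvd_of_pow_eq_one
    rw [← map_pow, hπ, QuotientGroup.mk'_apply, QuotientGroup.eq_one_iff]
    exact (pgroup_frattini p hP).2 x
  rw [htop, card_top] at hcard
  rw [index_eq_card, pow_two]
  exact (Dvd.intro _ hcard).trans (mul_dvd_mul (hord d) (hord t))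

/-- a group with a cyclic normal subgroup with cyclic quotient is two-generated. -/
theorem exists_two_gen_of_metacyclic {P : Type*} [Group P] (N : Subgroup P) [N.Normal]
    (hN : IsCyclic N) (hQ : IsCyclic (P ⧸ N)) : ∃ d t : P, closure ({d, t} : Set P) = ⊤ := by
  obtain ⟨d, hd⟩ := hN.exists_generator
  obtain ⟨t', ht'⟩ := hQ.exists_generator
  obtain ⟨t, rfl⟩ := QuotientGroup.mk_surjective t'
  refine ⟨d, t, ?_⟩
  rw [eq_top_iff]
  intro x _
  obtain ⟨k, hk⟩ := mem_zpowers_iff.mp (ht' (x : P ⧸ N))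
  have h1 : (t ^ k)⁻¹ * x ∈ N := by
    rw [← QuotientGroup.eq, QuotientGroup.mk_zpow]
    exact hk
  obtain ⟨m, hm⟩ := mem_zpowers_iff.mp (hd ⟨_, h1⟩)
  have h2 : (d : P) ^ m = (t ^ k)⁻¹ * x := by
    simpa using congrArg Subtype.val hm
  have h3 : x = t ^ k * (d : P) ^ m := by rw [h2]; group
  rw [h3]
  exact mul_mem (zpow_mem (subset_closure (by simp)) _) (zpow_mem (subset_closure (by simp)) _)

end Cfsg.Agent.H1
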