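import Cfsg.Statements.S0058
import Cfsg.Agent.Lib_helper7_Gen4

set_option autoImplicit false
open Cfsg

namespace Cfsg.Agent.S0058

/-- Generation by centralisers: when a noncyclic abelian group A normalises K with coprime orders, K is generated by the fixed-point subgroups of the nonidentity elements of A. -/
theorem result {G : Type*} [Group G] [Finite G] (A K : Subgroup G)
    [IsMulCommutative A] (hA : ¬ IsCyclic A) (hAK : A ≤ Subgroup.normalizer (K : Set G)) (hcop : (Nat.card A).Coprime (Nat.card K)) :
    (⨆ a ∈ {a : G | a ∈ A ∧ a ≠ 1}, K ⊓ Subgroup.centralizer {a}) = K := by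
  apply le_antisymm
  · apply iSup₂_le
    intro a _
    exact inf_le_left
  · have hcomm : ∀ x y : A, x * y = y * x := fun x y => mul_comm' x y
    let _ : CommGroup A := { (inferInstance : Group A) with mul_comm := hcomm }
    obtain ⟨r, a, b, hr, ha, hb, ha1, hb1⟩ := Cfsg.Agent.H7.exists_prime_pair_of_not_isCyclic hA
    have hle : ∀ e : G, e ∈ A → e ≠ 1 → K ⊓ Subgroup.centralizer {e} ≤
        (⨆ a ∈ {a : G | a ∈ A ∧ a ≠ 1}, K ⊓ Subgroup.centralizer {a}) := by
      intro e he he1
      exact le_iSup₂_of_le e ⟨he, he1⟩ le_rfl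
    apply Cfsg.Agent.H7.coprime_generation_pair A K _ (Group.isSolvable_of_comm hcomm) hAK hcop hr
      (a : G) (b : G) a.2 b.2
    · intro h
      exact ha1 (Subtype.ext h)
    · exact congrArg Subtype.val ha
    · exact congrArg Subtype.val hb
    · exact congrArg Subtype.val (hcomm a b)
    · apply hle _ a.2
      intro h
      exact ha1 (Subtype.ext h)
    · intro j
      apply hle _ (mul_mem b.2 (pow_mem a.2 j))
      intro h
      apply hb1
      have h2 : b = (a ^ j)⁻¹ := by
        apply eq_inv_of_mul_eq_one_left
        exact Subtype.ext h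
      rw [h2]
      exact inv_mem (Subgroup.pow_mem _ (Subgroup.mem_zpowers a) j)

end Cfsg.Agent.S0058
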