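import Mathlib
import Cfsg.Agent.Lib_helper1_Kegel2
import Cfsg.Agent.Lib_helper1_MinAct2
import Cfsg.Agent.Lib_helper1_PRed5
import Cfsg.Agent.S0058

set_option autoImplicit false

namespace Cfsg.Agent.H1

open Subgroup

/-- `z` central of order `p` in `H`, `x0 ∉ H` commuting with `z`: then `z` centralizes the normal
`p'`-subgroup `K`. -/
theorem kegel_central {Γ : Type*} [Group Γ] [Finite Γ] (p : ℕ) [hpF : Fact p.Prime]
    (H : Subgroup Γ) [hHn : H.Normal] (hyp : ∀ x, x ∉ H → x ^ p = 1)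
    (K : Subgroup Γ) [K.Normal] (hKH : K ≤ H) (hcop : Nat.Coprime (Nat.card K) p)
    (x0 z : Γ) (hx0 : x0 ∉ H) (hzH : z ∈ H) (hzo : orderOf z = p) (hzx : Commute z x0) :
    K ≤ centralizer {z} := by
  have hp := hpF.out
  have hx0p := hyp x0 hx0
  have hzp : z ^ p = 1 := by rw [← hzo]; exact pow_orderOf_eq_one z
  let A : Subgroup Γ :=
    { carrier := {a | ∃ i j : ℤ, a = z ^ i * x0 ^ j}
      one_mem' := ⟨0, 0, by simp⟩
      mul_mem' := by
        rintro _ _ ⟨i, j, rfl⟩ ⟨k, l, rfl⟩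
        refine ⟨i + k, j + l, ?_⟩
        have h := (hzx.zpow_zpow k j).eq
        calc z ^ i * x0 ^ j * (z ^ k * x0 ^ l) = z ^ i * (x0 ^ j * z ^ k) * x0 ^ l := by group
          _ = z ^ i * (z ^ k * x0 ^ j) * x0 ^ l := by rw [h]
          _ = z ^ (i + k) * x0 ^ (j + l) := by rw [zpow_add, zpow_add]; group
      inv_mem' := by
        rintro _ ⟨i, j, rfl⟩
        refine ⟨-i, -j, ?_⟩
        have h := (hzx.zpow_zpow (-i) (-j)).eq
        rw [h, mul_inv_rev, zpow_neg, zpow_neg] }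
  have hAmem : ∀ a, a ∈ A ↔ ∃ i j : ℤ, a = z ^ i * x0 ^ j := fun a => Iff.rfl
  haveI hAc : IsMulCommutative A := ⟨⟨by
    rintro ⟨_, i, j, rfl⟩ ⟨_, k, l, rfl⟩
    apply Subtype.ext
    show z ^ i * x0 ^ j * (z ^ k * x0 ^ l) = z ^ k * x0 ^ l * (z ^ i * x0 ^ j)
    have h1 := (hzx.zpow_zpow k j).eq
    have h2 := (hzx.zpow_zpow i l).eq
    calc z ^ i * x0 ^ j * (z ^ k * x0 ^ l) = z ^ i * (x0 ^ j * z ^ k) * x0 ^ l := by group
      _ = z ^ i * (z ^ k * x0 ^ j) * x0 ^ l := by rw [h1]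
      _ = z ^ (i + k) * x0 ^ (j + l) := by rw [zpow_add, zpow_add]; group
      _ = z ^ (k + i) * x0 ^ (l + j) := by rw [add_comm i k, add_comm j l]
      _ = z ^ k * (z ^ i * x0 ^ l) * x0 ^ j := by rw [zpow_add, zpow_add]; group
      _ = z ^ k * (x0 ^ l * z ^ i) * x0 ^ j := by rw [h2]
      _ = z ^ k * x0 ^ l * (z ^ i * x0 ^ j) := by group⟩⟩
  have hApow : ∀ a ∈ A, a ^ p = 1 := by
    rintro _ ⟨i, j, rfl⟩
    rw [(hzx.zpow_zpow i j).mul_pow, ← zpow_natCast, ← zpow_natCast, ← zpow_mul, ← zpow_mul,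
      mul_comm i, mul_comm j, zpow_mul, zpow_mul, zpow_natCast, zpow_natCast, hzp, hx0p]
    simp
  have hAp : IsPGroup p A := fun a => ⟨1, Subtype.ext (by simpa using hApow a a.2)⟩
  have hzA : z ∈ A := ⟨1, 0, by simp⟩
  have hx0A : x0 ∈ A := ⟨0, 1, by simp⟩
  have hAnc : ¬ IsCyclic A := by
    intro hcyc
    obtain ⟨g, hg⟩ := hcyc.exists_generator
    have h1 : Nat.card A = orderOf g := (orderOf_eq_card_of_forall_mem_zpowers hg).symm
    have h2 : orderOf g ∣ p := orderOf_dvd_of_pow_eq_one (Subtype.ext (hApow g g.2))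
    have h3 : zpowers z < A := by
      refine lt_of_le_of_ne (by rw [zpowers_le]; exact hzA) ?_
      intro h
      have : x0 ∈ zpowers z := h ▸ hx0A
      exact hx0 ((zpowers_le.2 hzH) this)
    have h4 := card_lt_card_of_lt h3
    rw [Nat.card_zpowers, hzo, h1] at h4
    exact absurd (Nat.le_of_dvd hp.pos h2) (not_le.2 h4)
  have hAK : A ≤ normalizer (K : Set Γ) := by rw [normalizer_eq_top]; exact le_top
  have hcopA : (Nat.card A).Coprime (Nat.card K) := by
    obtain ⟨k, hk⟩ := hAp.exists_card_eq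
    rw [hk]
    exact Nat.Coprime.pow_left _ hcop.symm
  have hgen := Cfsg.Agent.S0058.result A K hAnc hAK hcopA
  rw [← hgen]
  apply iSup₂_le
  rintro a ⟨haA, ha1⟩
  by_cases haH : a ∈ H
  · obtain ⟨i, j, rfl⟩ := haA
    have hxj : x0 ^ j ∈ H := by
      have := H.mul_mem (H.zpow_mem (H.inv_mem hzH) i) haH
      simpa using this
    have hxj1 : x0 ^ j = 1 := by
      have ho : orderOf (x0 : Γ ⧸ H) = p := by
        apply orderOf_eq_prime
        · rw [← QuotientGroup.mk_pow, hx0p]; rfl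
        · intro h
          exact hx0 ((QuotientGroup.eq_one_iff _).1 h)
      have h1 : (x0 : Γ ⧸ H) ^ j = 1 := by
        rw [← QuotientGroup.mk_zpow]
        exact (QuotientGroup.eq_one_iff _).2 hxj
      have h2 := orderOf_dvd_iff_zpow_eq_one.2 h1
      rw [ho] at h2
      obtain ⟨k, rfl⟩ := h2
      rw [zpow_mul, zpow_natCast, hx0p, one_zpow]
    rw [hxj1, mul_one] at ha1 ⊢
    have hao : orderOf (z ^ i) = p := by
      apply orderOf_eq_prime _ ha1
      rw [← zpow_natCast, ← zpow_mul, mul_comm, zpow_mul, zpow_natCast, hzp, one_zpow]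
    have heq : zpowers (z ^ i) = zpowers z := by
      apply eq_of_le_of_card_ge
      · rw [zpowers_le]; exact zpow_mem (mem_zpowers z) i
      · rw [Nat.card_zpowers, Nat.card_zpowers, hao, hzo]
    have hzm : z ∈ zpowers (z ^ i) := heq ▸ mem_zpowers z
    obtain ⟨u, hu⟩ := mem_zpowers_iff.1 hzm
    intro c hc
    have hc2 := mem_centralizer_singleton_iff.1 hc.2
    rw [mem_centralizer_singleton_iff, ← hu]
    exact (Commute.zpow_right (show Commute c (z ^ i) from hc2) u).eq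
  · intro c hc
    have hc2 : Commute c a := mem_centralizer_singleton_iff.1 hc.2
    have h1 : c * a ∉ H := fun h => haH (by simpa using H.mul_mem (H.inv_mem (hKH hc.1)) h)
    have h2 := hyp _ h1
    rw [hc2.mul_pow, hyp a haH, mul_one] at h2
    have h3 : (⟨c, hc.1⟩ : K) ^ p = 1 := Subtype.ext h2
    have h4 := Nat.dvd_gcd (orderOf_dvd_natCard (⟨c, hc.1⟩ : K)) (orderOf_dvd_of_pow_eq_one h3)
    rw [show Nat.gcd (Nat.card K) p = 1 from hcop] at h4
    have h5 : (⟨c, hc.1⟩ : K) = 1 := orderOf_eq_one_iff.1 (Nat.dvd_one.1 h4)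
    have h6 : c = 1 := congrArg Subtype.val h5
    rw [h6]
    exact one_mem _

end Cfsg.Agent.H1
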