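import Mathlib
import Cfsg.Agent.Lib_helper1_Kegel3

set_option autoImplicit false

namespace Cfsg.Agent.H1

open Subgroup
open scoped IsMulCommutative

theorem kegel_aux.{u} (p : ℕ) (hp : p.Prime) : ∀ (n : ℕ) (Γ : Type u) [Group Γ] [Finite Γ],
    Nat.card Γ = n → ∀ H : Subgroup Γ, H.Normal → H ≠ ⊤ → (∀ x, x ∉ H → x ^ p = 1) →
    Group.IsNilpotent H := by
  intro n
  induction n using Nat.strong_induction_on with
  | _ n ih =>
  intro Γ _ _ hn H hHn hHtop hyp
  haveI := hHn
  haveI : Fact p.Prime := ⟨hp⟩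
  have IHsub : ∀ L : Subgroup Γ, L ≠ ⊤ → ¬ L ≤ H → Group.IsNilpotent (H.subgroupOf L) := by
    intro L hL hLH
    apply ih (Nat.card L) (hn ▸ card_lt_of_ne_top hL) L rfl (H.subgroupOf L) inferInstance
    · intro h
      exact hLH (subgroupOf_eq_top.1 h)
    · intro x hx
      exact Subtype.ext (hyp x.1 (fun h => hx (mem_subgroupOf.2 h)))
  have IHquot : ∀ (N : Subgroup Γ) [N.Normal], N ≠ ⊥ → N ≤ H →
      Group.IsNilpotent (H.map (QuotientGroup.mk' N)) := by
    intro N _ hN hNH
    apply ih (Nat.card (Γ ⧸ N)) (hn ▸ card_quotient_lt hN) (Γ ⧸ N) rfl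
      (H.map (QuotientGroup.mk' N)) (Normal.map inferInstance _ (QuotientGroup.mk'_surjective N))
    · intro h
      apply hHtop
      have h1 := congrArg (comap (QuotientGroup.mk' N)) h
      rw [comap_map_eq, QuotientGroup.ker_mk', sup_eq_left.2 hNH, comap_top] at h1
      exact h1
    · intro x hx
      obtain ⟨g, rfl⟩ := QuotientGroup.mk_surjective x
      have hg : g ∉ H := fun h => hx (mem_map_of_mem _ h)
      rw [← QuotientGroup.mk_pow, hyp g hg]
      rfl
  by_cases hHp : IsPGroup p H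
  · exact hHp.isNilpotent
  obtain ⟨x0, hx0⟩ : ∃ x0, x0 ∉ H := by
    by_contra hcon
    push Not at hcon
    exact hHtop (eq_top_iff.2 (fun g _ => hcon g))
  have hx0p := hyp x0 hx0
  have F2 : ∀ y, y ∉ H → ∀ c ∈ H, Commute c y → c ^ p = 1 := by
    intro y hy c hc hcy
    have h1 : c * y ∉ H := fun h => hy (by simpa using H.mul_mem (H.inv_mem hc) h)
    have h2 := hyp _ h1
    rw [hcy.mul_pow, hyp y hy, mul_one] at h2
    exact h2
  by_cases hpH : p ∣ Nat.card H
  swap
  · let φ : H ≃* H := MulAut.conjNormal x0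
    have hφc : ∀ n : H, ((φ n : H) : Γ) = x0 * n * x0⁻¹ := fun n => rfl
    have hiter : ∀ (k : ℕ) (n : H), ((φ^[k] n : H) : Γ) = x0 ^ k * n * (x0 ^ k)⁻¹ := by
      intro k
      induction k with
      | zero => intro n; simp
      | succ k ih =>
        intro n
        rw [Function.iterate_succ_apply', hφc, ih, pow_succ']
        group
    apply thompson_aux p hp _ H rfl φ
    · intro c hc
      have h1 : x0 * c * x0⁻¹ = c := by rw [← hφc, hc]
      have h2 : Commute (c : Γ) x0 := (mul_inv_eq_iff_eq_mul.1 h1).symm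
      have h3 := F2 x0 hx0 c c.2 h2
      have h4 : (c : H) ^ p = 1 := Subtype.ext h3
      have h5 := Nat.dvd_gcd (orderOf_dvd_of_pow_eq_one h4) (orderOf_dvd_natCard c)
      rw [show Nat.gcd p (Nat.card H) = 1 from (Nat.Prime.coprime_iff_not_dvd hp).2 hpH] at h5
      exact orderOf_eq_one_iff.1 (Nat.dvd_one.1 h5)
    · intro c
      apply Subtype.ext
      rw [hiter, hx0p]
      simp
  by_cases hp2 : p = 2
  · subst hp2
    have hx : x0⁻¹ = x0 := inv_eq_of_mul_eq_one_left (by rw [← sq]; exact hx0p)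
    have hinv : ∀ h ∈ H, x0 * h * x0⁻¹ = h⁻¹ := by
      intro h hh
      have h1 : x0 * h ∉ H := fun hc => hx0 (by simpa using H.mul_mem hc (H.inv_mem hh))
      have h2 := hyp _ h1
      rw [hx]
      apply eq_inv_of_mul_eq_one_left
      rw [← h2, sq]
      group
    haveI : IsMulCommutative H := ⟨⟨fun a b => Subtype.ext (by
      have e : ((a : Γ) * b)⁻¹ = (a : Γ)⁻¹ * (b : Γ)⁻¹ := by
        rw [← hinv _ (H.mul_mem a.2 b.2), ← hinv a a.2, ← hinv b b.2]
        group
      have := congrArg (·⁻¹) e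
      simpa using this)⟩⟩
    infer_instance
  suffices hV : ∃ V : Subgroup Γ, V.Normal ∧ IsMulCommutative V ∧ IsPGroup p V ∧ V ≠ ⊥ ∧ V ≤ H by
    obtain ⟨V, h1, h2, h3, h4, h5⟩ := hV
    haveI := h1
    haveI := h2
    exact kegel_step p H hHtop hyp IHquot hHp V h3 h4 h5
  obtain ⟨S, hS⟩ := (isPGroup_zpowers_of_pow_eq_one (p := p) (d := x0) (k := 1)
    (by simpa using hx0p)).exists_le_sylow
  have hx0S : x0 ∈ (S : Subgroup Γ) := hS (mem_zpowers x0)
  have hS1 : (S : Subgroup Γ) ≠ ⊥ := fun h => hx0 (by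
    rw [h, mem_bot] at hx0S
    rw [hx0S]
    exact H.one_mem)
  set Z := Cfsg.centerThompsonAOf (S : Subgroup Γ) with hZ
  have hZS : Z ≤ S := Cfsg.Agent.H8.ZJ_le _
  have hZ1 : Z ≠ ⊥ := by
    haveI : Nontrivial (S : Subgroup Γ) := (Subgroup.nontrivial_iff_ne_bot _).2 hS1
    haveI : Nontrivial (center (S : Subgroup Γ)) := S.2.center_nontrivial
    obtain ⟨z, hz⟩ := exists_ne (1 : center (S : Subgroup Γ))
    intro h
    have hz' : ((z : (S : Subgroup Γ)) : Γ) ∈ Z :=
      Cfsg.Agent.H8.center_le_ZJ (z : (S : Subgroup Γ)).2 (fun d hd => by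
        have := Subgroup.mem_center_iff.1 z.2 ⟨d, hd⟩
        exact (congrArg Subtype.val this).symm)
    rw [h, mem_bot] at hz'
    exact hz (Subtype.ext (Subtype.ext hz'))
  have hZp : IsPGroup p Z := S.2.to_le hZS
  by_cases hL : normalizer (Z : Set Γ) = ⊤
  · haveI hZn : Z.Normal := normalizer_eq_top_iff.1 hL
    by_cases hZH : Z ⊓ H = ⊥
    · exfalso
      obtain ⟨⟨z, hz⟩, hz1⟩ := (Subgroup.ne_bot_iff_exists_ne_one).1 hZ1
      have hz1' : z ≠ 1 := fun h => hz1 (Subtype.ext h)
      have hzH : z ∉ H := fun h => hz1' (by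
        have : z ∈ Z ⊓ H := mem_inf.2 ⟨hz, h⟩
        rwa [hZH, mem_bot] at this)
      apply hHp
      intro c
      refine ⟨1, ?_⟩
      have hcomm : Commute (c : Γ) z :=
        (commute_of_normal_of_disjoint _ _ hZn hHn (disjoint_iff.2 hZH) z c hz c.2).symm
      exact Subtype.ext (by simpa using F2 z hzH c c.2 hcomm)
    · refine ⟨Z ⊓ H, inferInstance, ?_, hZp.to_le inf_le_left, hZH, inf_le_right⟩
      exact ⟨⟨fun a b => Subtype.ext
        (Cfsg.Agent.H8.ZJ_ab (S : Subgroup Γ) (a : Γ) a.2.1 (b : Γ) b.2.1)⟩⟩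
  · set L := normalizer (Z : Set Γ) with hLdef
    have hSL : (S : Subgroup Γ) ≤ L :=
      le_normalizer.trans (Cfsg.Agent.H8.normalizer_le_normalizer_ZJ _)
    have hLH : ¬ L ≤ H := fun h => hx0 (h (hSL hx0S))
    have hL0 := IHsub L hL hLH
    have hnpcL : Cfsg.HasNormalPComplement p L := by
      rw [hasNormalPComplement_iff]
      have hq : IsPGroup p (L ⧸ H.subgroupOf L) := by
        intro g
        obtain ⟨x, rfl⟩ := QuotientGroup.mk_surjective g
        refine ⟨1, ?_⟩
        rw [pow_one, ← QuotientGroup.mk_pow]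
        by_cases hx : (x : Γ) ∈ H
        · exact (QuotientGroup.eq_one_iff _).2 (pow_mem (mem_subgroupOf.2 hx) p)
        · have : x ^ p = 1 := Subtype.ext (hyp x hx)
          rw [this]
          rfl
      rw [← map_pResidual_subtype (H.subgroupOf L) hq, card_map_of_injective (subtype_injective _)]
      exact hasNormalPComplement_iff.1 (Cfsg.Agent.S4040.npc_of_nilpotent hL0 p)
    have hnpc := Cfsg.Agent.S0659.result hp2 S hnpcL
    have hcop := hasNormalPComplement_iff.1 hnpc
    set K := Cfsg.pResidual p Γ with hK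
    haveI hKn : K.Normal := pResidual_normal (G := Γ) p
    have hKH : K ≤ H := by
      rw [hK]
      unfold Cfsg.pResidual
      rw [closure_le]
      intro g hg
      by_contra hgH
      have h1 := hyp g hgH
      have h2 := Nat.dvd_gcd dvd_rfl (orderOf_dvd_of_pow_eq_one h1)
      rw [show Nat.gcd (orderOf g) p = 1 from hg] at h2
      exact hgH (by rw [orderOf_eq_one_iff.1 (Nat.dvd_one.1 h2)]; exact H.one_mem)
    set S0 := (S : Subgroup Γ) ⊓ H with hS0
    have hS0card : p ∣ Nat.card S0 := by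
      have h1 := not_dvd_relIndex_sylow_inf S (C := H) (by rw [normalizer_eq_top]; exact le_top)
      have h2 := relIndex_mul_card' (inf_le_right : S0 ≤ H)
      rw [← h2] at hpH
      exact (hp.dvd_mul.1 hpH).resolve_left h1
    have hSN : (S : Subgroup Γ) ≤ normalizer (S0 : Set Γ) := by
      apply le_normalizer_of_forall
      intro g hg x hx
      exact mem_inf.2 ⟨(S : Subgroup Γ).mul_mem ((S : Subgroup Γ).mul_mem hg hx.1)
        ((S : Subgroup Γ).inv_mem hg), hHn.conj_mem x hx.2 g⟩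
    have hmod := card_modEq_card_inf_centralizer (q := p) S0 (S : Subgroup Γ) hSN S.2
    have hY : p ∣ Nat.card (S0 ⊓ centralizer ((S : Subgroup Γ) : Set Γ) : Subgroup Γ) :=
      (Nat.modEq_zero_iff_dvd).1 (hmod.symm.trans ((Nat.modEq_zero_iff_dvd).2 hS0card))
    obtain ⟨z', hz'⟩ := exists_prime_orderOf_dvd_card' p hY
    have hzo : orderOf (z' : Γ) = p := by rw [Subgroup.orderOf_coe]; exact hz'
    have hzH : (z' : Γ) ∈ H := z'.2.1.2
    have hzx : Commute (z' : Γ) x0 := (mem_centralizer_iff.1 z'.2.2 x0 hx0S).symm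
    have hKz := kegel_central p H hyp K hKH hcop x0 z' hx0 hzH hzo hzx
    set C1 := centralizer (K : Set Γ) ⊓ H with hC1
    haveI hC1n : C1.Normal := inferInstance
    have hzC1 : (z' : Γ) ∈ C1 := by
      refine mem_inf.2 ⟨?_, hzH⟩
      rw [mem_centralizer_iff]
      intro k hk
      exact mem_centralizer_singleton_iff.1 (hKz hk)
    have hC1nil : Group.IsNilpotent C1 := by
      haveI : Group.IsNilpotent (Γ ⧸ K) := (isPGroup_quotient_pResidual (G := Γ) p).isNilpotent
      apply Subgroup.isNilpotent_of_ker_le_center ((QuotientGroup.mk' K).comp C1.subtype)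
      intro a ha
      have haK : (a : Γ) ∈ K := (QuotientGroup.eq_one_iff _).1 ha
      rw [mem_center_iff]
      intro b
      exact Subtype.ext (mem_centralizer_iff.1 b.2.1 a haK).symm
    haveI := hC1nil
    let T : Sylow p C1 := default
    haveI hTn : (T : Subgroup C1).Normal := inferInstance
    haveI hTc : (T : Subgroup C1).Characteristic := T.characteristic_of_normal hTn
    haveI hNn : ((T : Subgroup C1).map C1.subtype).Normal :=
      ConjAct.normal_of_characteristic_of_normal
    have hpC1 : p ∣ Nat.card C1 := by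
      have := orderOf_dvd_natCard (⟨z', hzC1⟩ : C1)
      rwa [Subgroup.orderOf_mk, hzo] at this
    have hN1 : (T : Subgroup C1).map C1.subtype ≠ ⊥ := by
      intro h
      exact T.ne_bot_of_dvd_card hpC1 ((map_eq_bot_iff_of_injective _ C1.subtype_injective).1 h)
    obtain ⟨V, h1, h2, h3, h4, h5⟩ := exists_abelian_normal_of_normal_pgroup p
      ((T : Subgroup C1).map C1.subtype) (T.2.map _) hN1
    exact ⟨V, h1, h2, h3, h4, h5.trans ((map_subtype_le _).trans inf_le_right)⟩

end Cfsg.Agent.H1
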