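import Mathlib
import Cfsg.Agent.Lib_helper1_Kegel4

set_option autoImplicit false

namespace Cfsg.Agent.H1

open Subgroup

theorem exists_fix_of_pp {Γ : Type*} [Group Γ] [Finite Γ] (p : ℕ) [hpF : Fact p.Prime]
    (K : Subgroup Γ) [K.Normal] (hK1 : K ≠ ⊥) (hcop : Nat.Coprime (Nat.card K) p)
    (z x0 : Γ) (hzx : Commute z x0) (hzp : z ^ p = 1) (hx0p : x0 ^ p = 1) (hz1 : z ≠ 1)
    (hx0 : x0 ∉ zpowers z) :
    ∃ i j : ℤ, z ^ i * x0 ^ j ≠ 1 ∧ ∃ c ∈ K, c ≠ 1 ∧ Commute c (z ^ i * x0 ^ j) := by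
  have hp := hpF.out
  have hzo : orderOf z = p := orderOf_eq_prime hzp hz1
  let A : Subgroup Γ :=
    { carrier := {a | ∃ i j : ℤ, a = z ^ i * x0 ^ j}
      one_mem' := ⟨0, 0, by simp⟩
      mul_mem' := by
        rintro _ _ ⟨i, j, rfl⟩ ⟨k, l, rfl⟩
        refine ⟨i + k, j + l, ?_⟩
        have h := (hzx.zpow_zpow k j).eq
        calc z ^ i * x0 ^ j * (z ^ k * x0 ^ l) = z ^ i * (x0 ^ j * z ^ k) * x0 ^ l := by group
          _ = z ^ i * (z ^ k * x0 ^ j) * x0 ^ l := by rw [h]
          _ = z ^ (i + k) * x0 ^ (j + l) := by rw [zpow_add, zpow_add]; group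
      inv_mem' := by
        rintro _ ⟨i, j, rfl⟩
        refine ⟨-i, -j, ?_⟩
        have h := (hzx.zpow_zpow (-i) (-j)).eq
        rw [h, mul_inv_rev, zpow_neg, zpow_neg] }
  haveI hAc : IsMulCommutative A := ⟨⟨by
    rintro ⟨_, i, j, rfl⟩ ⟨_, k, l, rfl⟩
    apply Subtype.ext
    show z ^ i * x0 ^ j * (z ^ k * x0 ^ l) = z ^ k * x0 ^ l * (z ^ i * x0 ^ j)
    have h1 := (hzx.zpow_zpow k j).eq
    have h2 := (hzx.zpow_zpow i l).eq
    calc z ^ i * x0 ^ j * (z ^ k * x0 ^ l) = z ^ i * (x0 ^ j * z ^ k) * x0 ^ l := by group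
      _ = z ^ i * (z ^ k * x0 ^ j) * x0 ^ l := by rw [h1]
      _ = z ^ (i + k) * x0 ^ (j + l) := by rw [zpow_add, zpow_add]; group
      _ = z ^ (k + i) * x0 ^ (l + j) := by rw [add_comm i k, add_comm j l]
      _ = z ^ k * (z ^ i * x0 ^ l) * x0 ^ j := by rw [zpow_add, zpow_add]; group
      _ = z ^ k * (x0 ^ l * z ^ i) * x0 ^ j := by rw [h2]
      _ = z ^ k * x0 ^ l * (z ^ i * x0 ^ j) := by group⟩⟩
  have hApow : ∀ a ∈ A, a ^ p = 1 := by
    rintro _ ⟨i, j, rfl⟩
    rw [(hzx.zpow_zpow i j).mul_pow, ← zpow_natCast, ← zpow_natCast, ← zpow_mul, ← zpow_mul,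
      mul_comm i, mul_comm j, zpow_mul, zpow_mul, zpow_natCast, zpow_natCast, hzp, hx0p]
    simp
  have hAp : IsPGroup p A := fun a => ⟨1, Subtype.ext (by simpa using hApow a a.2)⟩
  have hzA : z ∈ A := ⟨1, 0, by simp⟩
  have hx0A : x0 ∈ A := ⟨0, 1, by simp⟩
  have hAnc : ¬ IsCyclic A := by
    intro hcyc
    obtain ⟨g, hg⟩ := hcyc.exists_generator
    have h1 : Nat.card A = orderOf g := (orderOf_eq_card_of_forall_mem_zpowers hg).symm
    have h2 : orderOf g ∣ p := orderOf_dvd_of_pow_eq_one (Subtype.ext (hApow g g.2))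
    have h3 : zpowers z < A := by
      refine lt_of_le_of_ne (by rw [zpowers_le]; exact hzA) ?_
      intro h
      exact hx0 (h ▸ hx0A)
    have h4 := card_lt_card_of_lt h3
    rw [Nat.card_zpowers, hzo, h1] at h4
    exact absurd (Nat.le_of_dvd hp.pos h2) (not_le.2 h4)
  have hAK : A ≤ normalizer (K : Set Γ) := by rw [normalizer_eq_top]; exact le_top
  have hcopA : (Nat.card A).Coprime (Nat.card K) := by
    obtain ⟨k, hk⟩ := hAp.exists_card_eq
    rw [hk]
    exact Nat.Coprime.pow_left _ hcop.symm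
  have hgen := Cfsg.Agent.S0058.result A K hAnc hAK hcopA
  by_contra hcon
  push Not at hcon
  apply hK1
  rw [← hgen, eq_bot_iff]
  apply iSup₂_le
  rintro a ⟨⟨i, j, rfl⟩, ha1⟩
  intro c hc
  rw [mem_bot]
  by_contra hc1
  exact hcon i j ha1 c hc.1 hc1 (mem_centralizer_singleton_iff.1 hc.2)

theorem ht_index.{u} (p : ℕ) (hp : p.Prime) : ∀ (n : ℕ) (G : Type u) [Group G] [Finite G],
    Nat.card G = n → ∀ H : Subgroup G, H.Normal → H ≠ ⊤ → (∀ x, x ∉ H → x ^ p = 1) →
    ¬ IsPGroup p G → H.index = p := by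
  intro n
  induction n using Nat.strong_induction_on with
  | _ n ih =>
  intro G _ _ hn H hHn hHtop hyp hGp
  haveI := hHn
  haveI : Fact p.Prime := ⟨hp⟩
  have hnil := kegel_aux p hp _ G rfl H hHn hHtop hyp
  haveI := hnil
  by_cases hpH : p ∣ Nat.card H
  · let T : Sylow p H := default
    haveI hTn : (T : Subgroup H).Normal := inferInstance
    haveI hTc : (T : Subgroup H).Characteristic := T.characteristic_of_normal hTn
    haveI hNn : ((T : Subgroup H).map H.subtype).Normal :=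
      ConjAct.normal_of_characteristic_of_normal
    set N := (T : Subgroup H).map H.subtype with hN
    have hN1 : N ≠ ⊥ := by
      intro h
      exact T.ne_bot_of_dvd_card hpH ((map_eq_bot_iff_of_injective _ H.subtype_injective).1 h)
    have hNH : N ≤ H := map_subtype_le _
    have hNp : IsPGroup p N := T.2.map _
    have h1 := ih (Nat.card (G ⧸ N)) (hn ▸ card_quotient_lt hN1) (G ⧸ N) rfl
      (H.map (QuotientGroup.mk' N)) (Normal.map inferInstance _ (QuotientGroup.mk'_surjective N))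
      (by
        intro h
        apply hHtop
        have h1 := congrArg (comap (QuotientGroup.mk' N)) h
        rw [comap_map_eq, QuotientGroup.ker_mk', sup_eq_left.2 hNH, comap_top] at h1
        exact h1)
      (by
        intro x hx
        obtain ⟨g, rfl⟩ := QuotientGroup.mk_surjective x
        have hg : g ∉ H := fun h => hx (mem_map_of_mem _ h)
        rw [← QuotientGroup.mk_pow, hyp g hg]
        rfl)
      (by
        intro h
        apply hGp
        intro g
        obtain ⟨k, hk⟩ := h (g : G ⧸ N)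
        have h2 : g ^ p ^ k ∈ N := (QuotientGroup.eq_one_iff _).1 (by simpa using hk)
        obtain ⟨j, hj⟩ := hNp ⟨_, h2⟩
        refine ⟨k + j, ?_⟩
        have h3 : (g ^ p ^ k) ^ p ^ j = 1 := congrArg Subtype.val hj
        rw [pow_add, pow_mul]
        exact h3)
    rw [index_map_eq _ (QuotientGroup.mk'_surjective N) (by rw [QuotientGroup.ker_mk']; exact hNH)] at h1
    exact h1
  · obtain ⟨q, hq, hqp, hqG⟩ : ∃ q : ℕ, q.Prime ∧ q ≠ p ∧ q ∣ Nat.card G := by
      by_contra hcon
      push Not at hcon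
      apply hGp
      apply IsPGroup.of_card (n := (Nat.card G).primeFactorsList.length)
      apply Nat.eq_prime_pow_of_unique_prime_dvd Nat.card_pos.ne'
      intro d hd hdH
      by_contra h
      exact hcon d hd h hdH
    haveI : Fact q.Prime := ⟨hq⟩
    let Q : Sylow q G := default
    have hqelt : ∀ g ∈ (Q : Subgroup G), g ^ p = 1 → g = 1 := by
      intro g hg h1
      obtain ⟨k, hk⟩ := Q.2 ⟨g, hg⟩
      have h2 : g ^ q ^ k = 1 := congrArg Subtype.val hk
      have hc : Nat.gcd p (q ^ k) = 1 :=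
        Nat.Coprime.pow_right _ ((Nat.coprime_primes hp hq).2 hqp.symm)
      have h3 := Nat.dvd_gcd (orderOf_dvd_of_pow_eq_one h1) (orderOf_dvd_of_pow_eq_one h2)
      rw [hc] at h3
      exact orderOf_eq_one_iff.1 (Nat.dvd_one.1 h3)
    have hQH : (Q : Subgroup G) ≤ H := by
      intro g hg
      by_contra hgH
      exact hgH ((hqelt g hg (hyp g hgH)) ▸ H.one_mem)
    have hQ1 : (Q : Subgroup G) ≠ ⊥ := Q.ne_bot_of_dvd_card hqG
    haveI hQn : (Q : Subgroup G).Normal := sylow_normal_of_le_nilpotent_normal H hnil q Q hQH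
    have hQcop : Nat.Coprime (Nat.card (Q : Subgroup G)) p := by
      obtain ⟨k, hk⟩ := Q.2.exists_card_eq
      rw [hk]
      exact Nat.Coprime.pow_left _ ((Nat.coprime_primes hq hp).2 hqp)
    let S : Sylow p G := default
    have hSH : (S : Subgroup G) ⊓ H = ⊥ := by
      apply inf_eq_bot_of_coprime
      obtain ⟨k, hk⟩ := S.2.exists_card_eq
      rw [hk]
      exact Nat.Coprime.pow_left _ ((Nat.Prime.coprime_iff_not_dvd hp).2 hpH)
    have hquot : IsPGroup p (G ⧸ H) := by
      intro g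
      obtain ⟨x, rfl⟩ := QuotientGroup.mk_surjective g
      refine ⟨1, ?_⟩
      rw [pow_one, ← QuotientGroup.mk_pow]
      by_cases hx : x ∈ H
      · exact (QuotientGroup.eq_one_iff _).2 (pow_mem hx p)
      · rw [hyp x hx]
        rfl
    have hsup := sylow_sup_eq_top_of_isPGroup_quotient S H hquot
    have hcard := card_sup_mul_card_inf (S : Subgroup G) H
    rw [hsup, hSH, card_top, card_bot, mul_one] at hcard
    have hidx : H.index = Nat.card (S : Subgroup G) := by
      have h1 := H.index_mul_card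
      rw [hcard] at h1
      exact Nat.eq_of_mul_eq_mul_right Nat.card_pos h1
    rw [hidx]
    have hS1 : (S : Subgroup G) ≠ ⊥ := by
      intro h
      rw [h, card_bot] at hidx
      exact hHtop (index_eq_one.1 hidx)
    haveI : Nontrivial (S : Subgroup G) := (Subgroup.nontrivial_iff_ne_bot _).2 hS1
    haveI : Nontrivial (center (S : Subgroup G)) := S.2.center_nontrivial
    obtain ⟨z, hz⟩ := exists_ne (1 : center (S : Subgroup G))
    have hzS : ((z : (S : Subgroup G)) : G) ∈ (S : Subgroup G) := (z : (S : Subgroup G)).2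
    have hz1 : ((z : (S : Subgroup G)) : G) ≠ 1 := fun h => hz (Subtype.ext (Subtype.ext h))
    have hnotH : ∀ a ∈ (S : Subgroup G), a ≠ 1 → a ∉ H := by
      intro a ha ha1 haH
      have : a ∈ (S : Subgroup G) ⊓ H := mem_inf.2 ⟨ha, haH⟩
      rw [hSH, mem_bot] at this
      exact ha1 this
    have hzp : ((z : (S : Subgroup G)) : G) ^ p = 1 := hyp _ (hnotH _ hzS hz1)
    have hzo : orderOf ((z : (S : Subgroup G)) : G) = p := orderOf_eq_prime hzp hz1
    by_contra hne
    have hlt : zpowers ((z : (S : Subgroup G)) : G) < (S : Subgroup G) := by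
      refine lt_of_le_of_ne (by rw [zpowers_le]; exact hzS) ?_
      intro h
      apply hne
      rw [← h, Nat.card_zpowers, hzo]
    obtain ⟨x, hxS, hxz⟩ := SetLike.exists_of_lt hlt
    have hx1 : x ≠ 1 := fun h => hxz (h ▸ one_mem _)
    have hxp : x ^ p = 1 := hyp _ (hnotH x hxS hx1)
    have hzx : Commute ((z : (S : Subgroup G)) : G) x := by
      have := Subgroup.mem_center_iff.1 z.2 ⟨x, hxS⟩
      exact (congrArg Subtype.val this).symm
    obtain ⟨i, j, ha1, c, hcQ, hc1, hca⟩ := exists_fix_of_pp p (Q : Subgroup G) hQ1 hQcop _ x hzx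
      hzp hxp hz1 hxz
    have haS : ((z : (S : Subgroup G)) : G) ^ i * x ^ j ∈ (S : Subgroup G) :=
      mul_mem (zpow_mem hzS i) (zpow_mem hxS j)
    have haH := hnotH _ haS ha1
    have h1 : c * (((z : (S : Subgroup G)) : G) ^ i * x ^ j) ∉ H := fun h =>
      haH (by simpa using H.mul_mem (H.inv_mem (hQH hcQ)) h)
    have h2 := hyp _ h1
    rw [hca.mul_pow, hyp _ haH, mul_one] at h2
    exact hc1 (hqelt c hcQ h2)

end Cfsg.Agent.H1
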