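import Mathlib
import Cfsg.Agent.Lib_helper1_MinAct2

set_option autoImplicit false
open Pointwise
open scoped commutatorElement

namespace Cfsg.Agent.H1

open Subgroup

universe u

/-- version of `MinAct.exists_prime` which also returns a `q`-element acting nontrivially. -/
theorem MinAct.exists_prime_elt {G : Type u} [Group G] [Finite G] {p : ℕ} [Fact p.Prime]
    {U : Subgroup G} {y : G} (h : MinAct p U y) :
    ∃ q : ℕ, q.Prime ∧ q ≠ p ∧ (∃ z ∈ zpowers y, IsPGroup q (zpowers z) ∧
      z ∉ centralizer (U : Set G)) ∧ ∃ j : ℕ, 1 ≤ j ∧ q ∣ p ^ j - 1 ∧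
      p ^ j ∣ (frattini U).index := by
  have hp : p.Prime := Fact.out
  set A := zpowers y with hA
  let P : ∀ q : Nat.Primes, Sylow (q : ℕ) A := fun q => default
  have hsup := iSup_sylow_eq_top P
  have hex : ∃ q : Nat.Primes, ¬ ((P q : Subgroup A).map A.subtype ≤ centralizer (U : Set G)) := by
    by_contra hcon
    push Not at hcon
    apply h.ncent
    have h1 : A ≤ centralizer (U : Set G) := by
      have : A = (⊤ : Subgroup A).map A.subtype := by
        rw [← MonoidHom.range_eq_map, Subgroup.range_subtype]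
      rw [this, ← hsup, Subgroup.map_iSup]
      exact iSup_le hcon
    exact h1 (mem_zpowers y)
  obtain ⟨q, hq⟩ := hex
  have hqp : (q : ℕ).Prime := q.2
  have : Fact (q : ℕ).Prime := ⟨hqp⟩
  set Q := (P q : Subgroup A).map A.subtype with hQ
  have hQA : Q ≤ A := map_subtype_le _
  have hQq : IsPGroup q Q := (P q).2.map _
  have hQne : Q ≠ ⊥ := by
    intro hb
    apply hq
    rw [hb]; exact bot_le
  have hqdvd : (q : ℕ) ∣ orderOf y := by
    obtain ⟨k, hk⟩ := hQq.exists_card_eq
    have hk0 : k ≠ 0 := by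
      intro h0
      rw [h0, pow_zero, card_eq_one] at hk
      exact hQne hk
    rw [← Nat.card_zpowers]
    exact (dvd_pow_self _ hk0).trans (hk ▸ card_dvd_of_le hQA)
  have hqnep : (q : ℕ) ≠ p := by
    intro he
    have := h.cop
    rw [Nat.coprime_comm, hp.coprime_iff_not_dvd] at this
    exact this (he ▸ hqdvd)
  have hz : ∃ z ∈ A, IsPGroup q (zpowers z) ∧ z ∉ centralizer (U : Set G) := by
    obtain ⟨z, hzQ, hzc⟩ := SetLike.not_le_iff_exists.mp hq
    exact ⟨z, hQA hzQ, hQq.to_le (zpowers_le.mpr hzQ), hzc⟩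
  have hmod := card_modEq_card_inf_centralizer U Q (hQA.trans h.le_normalizer) hQq
  set C₀ := U ⊓ centralizer (Q : Set G) with hC₀
  have hC₀le : C₀ ≤ U := inf_le_left
  have hC₀ne : C₀ ≠ U := by
    intro he
    apply hq
    have : U ≤ centralizer (Q : Set G) := by rw [← he]; exact inf_le_right
    exact le_centralizer_iff.mp this
  have hFle : (frattini U).map U.subtype ≤ C₀ := by
    refine le_inf (map_subtype_le _) ?_
    intro f hf
    rw [mem_centralizer_iff]
    intro a ha
    exact (h.frat_commute_A hf (hQA ha)).eq.symm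
  have hmul : C₀.relIndex U * Nat.card C₀ = Nat.card U := relIndex_mul_card' hC₀le
  obtain ⟨n, hn⟩ := h.pgroup.exists_card_eq
  obtain ⟨j, _, hj⟩ := (Nat.dvd_prime_pow hp).mp (hn ▸ Dvd.intro _ hmul)
  obtain ⟨e, _, he⟩ := (Nat.dvd_prime_pow hp).mp (hn ▸ Dvd.intro_left _ hmul)
  have hj1 : 1 ≤ j := by
    rcases Nat.eq_zero_or_pos j with h0 | h0
    · exfalso
      rw [h0, pow_zero, relIndex_eq_one] at hj
      exact hC₀ne (le_antisymm hC₀le hj)
    · exact h0
  refine ⟨q, hqp, hqnep, hz, j, hj1, ?_, ?_⟩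
  · have h1 : (q : ℕ) ∣ Nat.card U - Nat.card C₀ :=
      (Nat.modEq_iff_dvd' (card_le_of_le hC₀le)).mp hmod.symm
    rw [← hmul, hj, he] at h1
    have h2 : p ^ j * p ^ e - p ^ e = (p ^ j - 1) * p ^ e := by
      rw [Nat.sub_mul, one_mul]
    rw [h2] at h1
    have h3 : Nat.Coprime q (p ^ e) :=
      Nat.Coprime.pow_right _ ((Nat.coprime_primes hqp hp).mpr hqnep)
    exact h3.dvd_of_dvd_mul_right h1
  · rw [← hj]
    have h1 : ((frattini U).map U.subtype).relIndex U = (frattini U).index := by
      rw [relIndex, subgroupOf, comap_map_eq_self_of_injective U.subtype_injective]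
    rw [← h1]
    exact relIndex_dvd_of_le_left U hFle

/-- a group embedding in a metacyclic group is two-generated. -/
theorem exists_two_gen_of_injective_metacyclic {U S : Type*} [Group U] [Group S]
    (φ : U →* S) (hφ : Function.Injective φ) (N : Subgroup S) [N.Normal] (hN : IsCyclic N)
    (hQ : IsCyclic (S ⧸ N)) : ∃ d t : U, closure ({d, t} : Set U) = ⊤ := by
  let ψ : U →* S ⧸ N := (QuotientGroup.mk' N).comp φ
  have h1 : IsCyclic (U ⧸ ψ.ker) :=
    isCyclic_of_injective (QuotientGroup.kerLift ψ) (QuotientGroup.kerLift_injective ψ)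
  have h2 : IsCyclic ψ.ker := by
    let f : ψ.ker →* N := (φ.comp ψ.ker.subtype).codRestrict N (fun x => by
      have := x.2
      rw [MonoidHom.mem_ker] at this
      exact (QuotientGroup.eq_one_iff _).mp this)
    have hf : Function.Injective f := by
      intro a b hab
      have := congrArg Subtype.val hab
      exact Subtype.ext (hφ this)
    exact isCyclic_of_injective f hf
  exact exists_two_gen_of_metacyclic ψ.ker h2 h1

end Cfsg.Agent.H1
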