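import Cfsg.Agent.Lib_helper1_PMin4

set_option autoImplicit false

namespace Cfsg.Agent.H1

open Subgroup Cfsg
open scoped Pointwise commutatorElement

variable {H : Type*} [Group H] {p : ℕ}

theorem le_normalizer_commutator_of {N A B : Subgroup H} (hA : N ≤ normalizer (A : Set H))
    (hB : N ≤ normalizer (B : Set H)) : N ≤ normalizer ((⁅A, B⁆ : Subgroup H) : Set H) := by
  intro b hb
  rw [← conj_smul_eq_iff_mem_normalizer]
  have h1 : MulAut.conj b • A = A := conj_smul_eq_iff_mem_normalizer.mpr (hA hb)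
  have h2 : MulAut.conj b • B = B := conj_smul_eq_iff_mem_normalizer.mpr (hB hb)
  calc MulAut.conj b • ⁅A, B⁆ = (⁅A, B⁆).map (MulAut.conj b).toMonoidHom := rfl
    _ = ⁅A.map (MulAut.conj b).toMonoidHom, B.map (MulAut.conj b).toMonoidHom⁆ :=
        map_commutator _ _ _
    _ = ⁅MulAut.conj b • A, MulAut.conj b • B⁆ := rfl
    _ = ⁅A, B⁆ := by rw [h1, h2]

theorem mem_of_coprime_of_mem_sup_pgroup {C Y : Subgroup H} [C.Normal] (hY : IsPGroup p Y) {x : H}
    (hx : x ∈ C ⊔ Y) (hc : (orderOf x).Coprime p) : x ∈ C := by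
  obtain ⟨n, hn, t, ht, rfl⟩ := mem_sup_of_normal_left.mp hx
  obtain ⟨k, hk⟩ := exists_pow_eq_one_of_mem hY ht
  apply mem_of_pow_mem_of_coprime' (n := p ^ k) _ (Nat.Coprime.pow_left k hc.symm)
  rw [← QuotientGroup.eq_one_iff]
  have h1 : ((n * t : H) : H ⧸ C) = (t : H ⧸ C) := by
    rw [QuotientGroup.mk_mul, (QuotientGroup.eq_one_iff n).mpr hn, one_mul]
  rw [QuotientGroup.mk_pow, h1, ← QuotientGroup.mk_pow, hk, QuotientGroup.mk_one]

theorem pResidual_le_of_le_sup {C Y : Subgroup H} [C.Normal] (hY : IsPGroup p Y)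
    (h : pResidual p H ≤ C ⊔ Y) : pResidual p H ≤ C := by
  unfold pResidual
  rw [closure_le]
  intro x hx
  exact mem_of_coprime_of_mem_sup_pgroup hY (h (mem_pResidual_of_coprime p hx)) hx

theorem isPClosed_of_mulEquiv {A B : Type*} [Group A] [Group B] [Finite A] [Finite B] [Fact p.Prime]
    (e : A ≃* B) (h : IsPClosed p A) : IsPClosed p B := by
  rw [isPClosed_iff] at h ⊢
  intro x ⟨k, hk⟩
  have h1 : e.symm x ∈ pCore p A := h _ ⟨k, by rw [← map_pow, hk, map_one]⟩
  have h2 : (pCore p A).map e.toMonoidHom ≤ pCore p B := by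
    apply le_pCore p
    · exact (pCore_normal (G := A) p).map _ e.surjective
    · exact (pCore_isPGroup p).map _
  apply h2
  exact ⟨_, h1, by simp⟩

theorem pIrr_isPClosed_of_not_le (hH : IsPIrreducible p H) {N : Subgroup H} (hN : N.Normal)
    (h : ¬ pResidual p H ≤ N) : IsPClosed p ↥N := by
  by_contra hc
  exact h (hH.2 N hN hc)

theorem pResidual_le_of_forall_pow {D N : Subgroup H} (hD : pResidual p H ≤ D)
    (h : ∀ d ∈ D, ∃ k : ℕ, d ^ p ^ k ∈ N) : pResidual p H ≤ N := by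
  unfold pResidual
  rw [closure_le]
  intro x hx
  obtain ⟨k, hk⟩ := h x (hD (mem_pResidual_of_coprime p hx))
  exact mem_of_pow_mem_of_coprime' hk (Nat.Coprime.pow_left k (Nat.Coprime.symm hx))

theorem pIrr_pCore_quotient_eq_bot [Finite H] [Fact p.Prime] (hH : IsPIrreducible p H) {N : Subgroup H}
    [hNn : N.Normal] (hN : ¬ pResidual p H ≤ N) (hO : pCore p H ≤ N) : pCore p (H ⧸ N) = ⊥ := by
  rw [pCore_quotient_eq_bot_iff]
  intro D hD h
  have hDc : IsPClosed p ↥D := by
    apply pIrr_isPClosed_of_not_le hH hD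
    intro hle
    exact hN (pResidual_le_of_forall_pow hle h)
  obtain ⟨T⟩ : Nonempty (Sylow p H) := inferInstance
  intro d hd
  obtain ⟨t, ht, c, hc, rfl⟩ := exists_mul_of_pquot T hD hNn h d hd
  exact mul_mem (hO (mem_pCore_of_isPClosed_subnormal hD.isSubnormal hDc ht.2
    (exists_pow_eq_one_of_mem T.2 ht.1))) hc.1

theorem pIrr_not_sylow_le_pCore [Finite H] [Fact p.Prime] (hH : IsPIrreducible p H) (T : Sylow p H) :
    ¬ (T : Subgroup H) ≤ pCore p H := by
  intro h
  apply hH.1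
  rw [← sylow_normal_iff_isPClosed T, ← T.3 (pCore_isPGroup p) h]
  exact pCore_normal p

theorem sylow_sup_pResidual [Finite H] [Fact p.Prime] (T : Sylow p H) :
    (T : Subgroup H) ⊔ pResidual p H = ⊤ := by
  have := pResidual_normal (G := H) p
  exact sylow_sup_eq_top_of_isPGroup_quotient T _ (isPGroup_quotient_pResidual p)

end Cfsg.Agent.H1
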