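import Cfsg.Agent.Lib_helper1_Repl
import Cfsg.Agent.Lib_helper1_PIrr
import Cfsg.Agent.Lib_helper1_PQ

set_option autoImplicit false

namespace Cfsg.Agent.H1

open Subgroup Cfsg
open scoped Pointwise commutatorElement

variable {G : Type*} [Group G]

/-- `A` acts on the `p`-group `V` as a `p`-group: `[W,A] < W` for `A`-invariant `1 ≠ W ≤ V`. -/
theorem commutator_lt_of_pow_mem [Finite G] {p : ℕ} [Fact p.Prime] {V A W : Subgroup G}
    (hVp : IsPGroup p V) (hpow : ∀ a ∈ A, a ^ p ∈ centralizer (V : Set G)) (hW : W ≤ V)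
    (hAW : A ≤ normalizer (W : Set G)) (hne : W ≠ ⊥) : ⁅W, A⁆ < W := by
  obtain ⟨T⟩ : Nonempty (Sylow p A) := inferInstance
  set P := (T : Subgroup A).map A.subtype with hPdef
  have hP : IsPGroup p P := T.2.map _
  have hPA : P ≤ A := map_subtype_le _
  have hres : pResidual p A ≤ (centralizer (V : Set G)).subgroupOf A := by
    apply pResidual_le_of_forall_pow (D := ⊤) le_top
    intro d _
    exact ⟨1, by rw [pow_one]; exact mem_subgroupOf.mpr (by simpa using hpow d d.2)⟩
  have hdec : ∀ a ∈ A, ∃ x ∈ P, ∃ c ∈ centralizer (V : Set G), a = x * c := by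
    intro a ha
    have h1 : (⟨a, ha⟩ : A) ∈ (T : Subgroup A) ⊔ pResidual p A := by
      rw [sylow_sup_pResidual]; trivial
    have hn := pResidual_normal (G := A) p
    have hn' : (T : Subgroup A) ≤ normalizer (pResidual p A : Set A) := by
      rw [normalizer_eq_top]; exact le_top
    obtain ⟨t, ht, r, hr, htr⟩ := exists_mul_of_mem_sup hn' h1
    refine ⟨t, ⟨t, ht, rfl⟩, r, mem_subgroupOf.mp (hres hr), ?_⟩
    exact congrArg Subtype.val htr
  have hle : ⁅W, A⁆ ≤ ⁅W, P⁆ := by
    rw [commutator_le]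
    intro w hw a ha
    obtain ⟨x, hx, c, hc, rfl⟩ := hdec a ha
    have : ⁅w, x * c⁆ = ⁅w, x⁆ := by
      have hc' := mem_centralizer_iff.mp hc w⁻¹ (inv_mem (hW hw))
      rw [commutatorElement_def, commutatorElement_def]
      calc w * (x * c) * w⁻¹ * (x * c)⁻¹ = w * x * (c * w⁻¹) * c⁻¹ * x⁻¹ := by group
        _ = w * x * (w⁻¹ * c) * c⁻¹ * x⁻¹ := by rw [hc']
        _ = _ := by group
    rw [this]; exact commutator_mem_commutator hw hx
  exact lt_of_le_of_lt hle (commutator_lt_of_pgroups (hVp.to_le hW) hP (hPA.trans hAW) hne)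

end Cfsg.Agent.H1
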