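import Mathlib
import Cfsg.Prelude
import Cfsg.Agent.Lib_helper1_PRed5

set_option autoImplicit false

namespace Cfsg.Agent.H1

open Subgroup Cfsg
open scoped Pointwise

theorem le_centralizer_of_sylow_gen {G : Type*} [Group G] [Finite G] {p : ℕ} [Fact p.Prime]
    (V D : Subgroup G) [V.Normal] (hD : D.Normal)
    (W : Sylow p G → Subgroup G) (hW : ∀ S, W S ≤ centralizer ((S : Subgroup G) : Set G))
    (hWV : ∀ S, W S ≤ V) (hV : V ≤ ⨆ S, W S)
    (hCD : centralizer (V : Set G) ≤ D) {k : ℕ} (hk : (centralizer (V : Set G)).relIndex D = p ^ k) :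
    D ≤ centralizer (V : Set G) := by
  set C := centralizer (V : Set G) with hC
  have key : ∀ S : Sylow p G, D ≤ ((S : Subgroup G) ⊓ D) ⊔ C := by
    intro S
    set M := ((S : Subgroup G) ⊓ D) ⊔ C with hM
    have h1 : M.relIndex D ∣ p ^ k := by rw [← hk]; exact relIndex_dvd_of_le_left D le_sup_right
    have h2 : M.relIndex D ∣ ((S : Subgroup G) ⊓ D).relIndex D :=
      relIndex_dvd_of_le_left D le_sup_left
    have h3 := not_dvd_relIndex_sylow_inf S (C := D) (by rw [normalizer_eq_top]; exact le_top)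
    have h4 : M.relIndex D = 1 := by
      obtain ⟨j, -, hj⟩ := (Nat.dvd_prime_pow Fact.out).1 h1
      rcases Nat.eq_zero_or_pos j with rfl | hjpos
      · simpa using hj
      · exact absurd ((dvd_pow_self p hjpos.ne').trans (hj ▸ h2)) h3
    exact relIndex_eq_one.1 h4
  have h5 : ∀ S, W S ≤ centralizer (D : Set G) := by
    intro S
    rw [le_centralizer_iff]
    refine (key S).trans (sup_le ?_ ?_)
    · exact inf_le_left.trans (le_centralizer_iff.1 (hW S))
    · exact centralizer_le (hWV S)
  rw [le_centralizer_iff]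
  exact hV.trans (iSup_le h5)

end Cfsg.Agent.H1
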