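import Mathlib
import Cfsg.Agent.Lib_helper1_PNilp
import Cfsg.Agent.Lib_helper1_PIrr
import Cfsg.Agent.Lib_lead_Gas

set_option autoImplicit false

namespace Cfsg.Agent.H1

open Cfsg Subgroup
open scoped commutatorElement

/-- in a nilpotent group a subgroup contained in its commutator with the whole group is trivial. -/
theorem eq_bot_of_le_commutator_top {P : Type*} [Group P] [Group.IsNilpotent P] {N : Subgroup P}
    (h : N ≤ ⁅N, (⊤ : Subgroup P)⁆) : N = ⊥ := by
  obtain ⟨n, hn⟩ := (Subgroup.nilpotent_iff_lowerCentralSeries).1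
    (inferInstance : Group.IsNilpotent P)
  have key : ∀ n, N ≤ (⊤ : Subgroup P).lowerCentralSeries n := by
    intro n
    induction n with
    | zero => simp
    | succ n ih =>
      refine h.trans ?_
      rw [Subgroup.lowerCentralSeries_succ]
      exact commutator_mono ih le_rfl
  rw [eq_bot_iff, ← hn]
  exact key n

section
variable {X R Q : Type*} [Group X] [Finite X] [Group R] [Group Q] [Finite Q] {p : ℕ} [Fact p.Prime]
  [hn : (pResidual p X).Normal]

/-- the fibre product argument for Tate's theorem. -/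
theorem tate_aux (ι : R →* X) (hι : Function.Injective ι) (hR : IsPGroup p R)
    (hidx : ¬ p ∣ ι.range.index) (hQ : IsPGroup p Q) (π : R →* Q) (hπ : Function.Surjective π)
    (ρ : Q →* X ⧸ pResidual p X) (hρ : ∀ r : R, ρ (π r) = QuotientGroup.mk (ι r))
    (hcent : ∀ x ∈ ρ.ker, ∀ y : Q, x * y = y * x) (hfr : ρ.ker ≤ frattini Q) : ρ.ker = ⊥ := by
  classical
  set K := pResidual p X with hK
  -- `X = ι(R) K`
  have hsup : ι.range ⊔ K = ⊤ := by
    have hp : IsPGroup p ι.range := by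
      rw [MonoidHom.range_eq_map]
      exact IsPGroup.map (IsPGroup.of_equiv hR Subgroup.topEquiv.symm) ι
    exact sylow_sup_pResidual (hp.toSylow hidx)
  set E : Subgroup (X × Q) :=
    ((QuotientGroup.mk' K).comp (MonoidHom.fst X Q)).eqLocus (ρ.comp (MonoidHom.snd X Q)) with hE
  have memE : ∀ e : X × Q, e ∈ E ↔ (QuotientGroup.mk e.1 : X ⧸ K) = ρ e.2 := fun e => Iff.rfl
  set f1 : ↥E →* X := (MonoidHom.fst X Q).comp E.subtype with hf1
  set f2 : ↥E →* Q := (MonoidHom.snd X Q).comp E.subtype with hf2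
  have hext : ∀ a b : ↥E, f1 a = f1 b → f2 a = f2 b → a = b := by
    intro a b h1 h2
    exact Subtype.ext (Prod.ext h1 h2)
  have hrel : ∀ e : ↥E, (QuotientGroup.mk (f1 e) : X ⧸ K) = ρ (f2 e) := fun e => e.2
  set β : R →* ↥E := (ι.prod π).codRestrict E (fun r => by
    rw [memE]; exact (hρ r).symm) with hβ
  have hβ1 : ∀ r, f1 (β r) = ι r := fun r => rfl
  have hβ2 : ∀ r, f2 (β r) = π r := fun r => rfl
  have hf1s : Function.Surjective f1 := by
    intro g
    have hg : g ∈ ι.range ⊔ K := by rw [hsup]; trivial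
    obtain ⟨u, ⟨r, rfl⟩, k, hk, rfl⟩ := Subgroup.mem_sup_of_normal_right.1 hg
    refine ⟨⟨(ι r * k, π r), ?_⟩, rfl⟩
    rw [memE, hρ]
    show (QuotientGroup.mk (ι r * k) : X ⧸ K) = QuotientGroup.mk (ι r)
    rw [QuotientGroup.mk_mul, (QuotientGroup.eq_one_iff k).2 hk, mul_one]
  set A : Subgroup ↥E := f1.ker with hA
  have hA2 : ∀ a ∈ A, f2 a ∈ ρ.ker := by
    intro a ha
    rw [MonoidHom.mem_ker, ← hrel a, MonoidHom.mem_ker.1 ha]
    rfl
  haveI hAc : IsMulCommutative A := by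
    refine ⟨⟨fun a b => ?_⟩⟩
    apply Subtype.ext
    apply hext
    · simp only [Subgroup.coe_mul, map_mul, MonoidHom.mem_ker.1 a.2, MonoidHom.mem_ker.1 b.2]
    · simp only [Subgroup.coe_mul, map_mul]
      exact hcent _ (hA2 _ a.2) _
  have hAp : IsPGroup p A := by
    intro a
    obtain ⟨k, hk⟩ := hQ (f2 a)
    refine ⟨k, ?_⟩
    apply Subtype.ext
    apply hext
    · simp only [Subgroup.coe_pow, map_pow, MonoidHom.mem_ker.1 a.2, one_pow, Subgroup.coe_one,
        map_one]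
    · simp only [Subgroup.coe_pow, map_pow, hk, Subgroup.coe_one, map_one]
  set U : Subgroup ↥E := ι.range.comap f1 with hU
  set B : Subgroup ↥E := β.range with hB
  have hAU : A ≤ U := by
    intro a ha
    rw [hU, Subgroup.mem_comap, MonoidHom.mem_ker.1 ha]
    exact one_mem _
  have hcop : (Nat.card A).Coprime U.index := by
    rw [hU, Subgroup.index_comap_of_surjective _ hf1s]
    obtain ⟨k, hk⟩ := IsPGroup.iff_card.1 hAp
    rw [hk]
    exact Nat.Coprime.pow_left k ((Nat.Prime.coprime_iff_not_dvd Fact.out).2 hidx)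
  have hBA : B ⊓ A = ⊥ := by
    rw [eq_bot_iff]
    rintro _ ⟨⟨r, rfl⟩, h2⟩
    have h3 : ι r = 1 := MonoidHom.mem_ker.1 h2
    have h4 : r = 1 := hι (by rw [h3, map_one])
    rw [h4, map_one]
    exact one_mem _
  have hAB : A ⊔ B = U := by
    apply le_antisymm
    · refine sup_le hAU ?_
      rintro _ ⟨r, rfl⟩
      exact ⟨r, rfl⟩
    · intro e he
      obtain ⟨r, hr⟩ := he
      have h1 : e * (β r)⁻¹ ∈ A := by
        rw [hA, MonoidHom.mem_ker, map_mul, map_inv, hβ1, hr, mul_inv_cancel]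
      have h2 : e = (e * (β r)⁻¹) * β r := by group
      rw [h2]
      exact mul_mem (mem_sup_left h1) (mem_sup_right ⟨r, rfl⟩)
  obtain ⟨H, hH⟩ := LeadGas.gaschutz_exists (K := A) hAU hcop hBA hAB
  have hdec : ∀ e : ↥E, ∃ a ∈ A, ∃ h ∈ H, e = a * h := by
    intro e
    have he : e ∈ A ⊔ H := by rw [hH.sup_eq_top]; trivial
    obtain ⟨a, ha, h, hh, rfl⟩ := Subgroup.mem_sup_of_normal_left.1 he
    exact ⟨a, ha, h, hh, rfl⟩
  have hAH : ∀ e, e ∈ A → e ∈ H → e = 1 := by
    intro e h1 h2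
    have : e ∈ A ⊓ H := ⟨h1, h2⟩
    rw [hH.disjoint.eq_bot] at this
    exact this
  -- the second projection of `H` is onto
  have hT : H.map f2 = ⊤ := by
    apply frattini_nongenerating
    rw [eq_top_iff]
    intro x _
    obtain ⟨r, rfl⟩ := hπ x
    obtain ⟨a, ha, h, hh, heq⟩ := hdec (β r)
    have : π r = f2 h * (f2 h)⁻¹ * f2 a * f2 h := by
      rw [← hβ2, heq, map_mul]; group
    have h3 : π r = f2 a * f2 h := by rw [← hβ2, heq, map_mul]
    rw [h3, hcent _ (hA2 a ha)]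
    exact mul_mem (mem_sup_left ⟨h, hh, rfl⟩) (mem_sup_right (hfr (hA2 a ha)))
  -- elements of `K` lift to elements of `H` with trivial second coordinate
  have hlift : K ≤ (H ⊓ f2.ker).map f1 := by
    rw [hK]
    unfold pResidual
    rw [closure_le]
    intro g hg
    change Nat.Coprime (orderOf g) p at hg
    obtain ⟨e, rfl⟩ := hf1s g
    obtain ⟨a, ha, h, hh, rfl⟩ := hdec e
    have h1 : f1 (a * h) = f1 h := by rw [map_mul, MonoidHom.mem_ker.1 ha, one_mul]
    rw [h1] at hg ⊢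
    refine ⟨h, ⟨hh, ?_⟩, rfl⟩
    have h2 : h ^ orderOf (f1 h) = 1 := by
      apply hAH _ _ (pow_mem hh _)
      rw [hA, MonoidHom.mem_ker, map_pow, pow_orderOf_eq_one]
    have h3 : f2 h ^ orderOf (f1 h) = 1 := by rw [← map_pow, h2, map_one]
    obtain ⟨k, hk⟩ := hQ (f2 h)
    have h4 : orderOf (f2 h) ∣ orderOf (f1 h) := orderOf_dvd_of_pow_eq_one h3
    have h5 : orderOf (f2 h) ∣ p ^ k := orderOf_dvd_of_pow_eq_one hk
    have h6 : Nat.Coprime (orderOf (f1 h)) (p ^ k) := Nat.Coprime.pow_right k hg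
    exact orderOf_eq_one_iff.1 (Nat.eq_one_of_dvd_coprimes h6 h4 h5)
  rw [eq_bot_iff]
  intro x hx
  have hxT : x ∈ H.map f2 := by rw [hT]; trivial
  obtain ⟨h, hh, rfl⟩ := hxT
  have hgK : f1 h ∈ K := by
    rw [← QuotientGroup.eq_one_iff, hrel h]
    exact hx
  obtain ⟨h', ⟨hh', hk'⟩, heq⟩ := hlift hgK
  have h1 : h * h'⁻¹ = 1 := by
    apply hAH _ _ (mul_mem hh (inv_mem hh'))
    rw [hA, MonoidHom.mem_ker, map_mul, map_inv, heq, mul_inv_cancel]
  have h2 : h = h' := by
    rw [mul_inv_eq_one] at h1; exact h1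
  rw [h2]
  exact hk'

end

theorem hasNormalPComplement_of_mulEquiv {A B : Type*} [Group A] [Group B] [Finite A] [Finite B]
    {p : ℕ} [Fact p.Prime] (e : A ≃* B) (h : HasNormalPComplement p A) :
    HasNormalPComplement p B := by
  rw [hasNormalPComplement_iff] at h ⊢
  have : (pResidual p A).map e.toMonoidHom = pResidual p B := by
    unfold pResidual
    rw [MonoidHom.map_closure]
    congr 1
    ext b
    constructor
    · rintro ⟨a, ha, rfl⟩
      show Nat.Coprime (orderOf (e a)) p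
      rw [MulEquiv.orderOf_eq]
      exact ha
    · intro hb
      refine ⟨e.symm b, ?_, by simp⟩
      show Nat.Coprime (orderOf (e.symm b)) p
      rw [MulEquiv.orderOf_eq]
      exact hb
  rw [← this, card_map_of_injective e.injective]
  exact h

/-- Tate's theorem. -/
theorem tate {G : Type*} [Group G] [Finite G] {p : ℕ} [Fact p.Prime] (P : Sylow p G)
    (N : Subgroup G) [N.Normal]
    (h : N ⊓ (P : Subgroup G) ≤ (frattini P).map (P : Subgroup G).subtype) :
    HasNormalPComplement p N := by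
  set G1 : Subgroup G := N ⊔ (P : Subgroup G) with hG1
  have hPG1 : (P : Subgroup G) ≤ G1 := le_sup_right
  have hNG1 : N ≤ G1 := le_sup_left
  set ι : ↥(P : Subgroup G) →* ↥G1 := Subgroup.inclusion hPG1 with hι
  have hιinj : Function.Injective ι := Subgroup.inclusion_injective hPG1
  have hrange : ι.range = (P : Subgroup G).subgroupOf G1 := Subgroup.inclusion_range hPG1
  have hidx : ¬ p ∣ ι.range.index := by
    rw [hrange]
    intro hd
    apply P.not_dvd_index
    rw [← Subgroup.relIndex_mul_index hPG1]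
    exact Dvd.dvd.mul_right hd _
  haveI hKn : (pResidual p ↥G1).Normal := pResidual_normal p
  set KX := pResidual p ↥G1 with hKX
  set f : ↥(P : Subgroup G) →* ↥G1 ⧸ KX := (QuotientGroup.mk' KX).comp ι with hf
  set S' : Subgroup ↥(P : Subgroup G) := f.ker with hS'
  set S1 : Subgroup ↥(P : Subgroup G) := ⁅S', ⊤⁆ with hS1
  have hS1le : S1 ≤ S' := Subgroup.commutator_le_left _ _
  set π : ↥(P : Subgroup G) →* ↥(P : Subgroup G) ⧸ S1 := QuotientGroup.mk' S1 with hπ
  have hπs : Function.Surjective π := QuotientGroup.mk'_surjective S1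
  set ρ : ↥(P : Subgroup G) ⧸ S1 →* ↥G1 ⧸ KX := QuotientGroup.lift S1 f (fun x hx => hS1le hx)
    with hρ
  have hρπ : ∀ r, ρ (π r) = QuotientGroup.mk (ι r) := fun r => rfl
  have hker : ∀ x ∈ ρ.ker, ∃ s ∈ S', π s = x := by
    intro x hx
    obtain ⟨s, rfl⟩ := hπs x
    exact ⟨s, hx, rfl⟩
  -- `KX ≤ N`
  haveI hN'n : (N.subgroupOf G1).Normal := inferInstance
  have hquot : IsPGroup p (↥G1 ⧸ N.subgroupOf G1) := by
    intro y
    obtain ⟨⟨g, hg⟩, rfl⟩ := QuotientGroup.mk_surjective y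
    obtain ⟨n, hn, u, hu, rfl⟩ := Subgroup.mem_sup_of_normal_left.1 hg
    obtain ⟨k, hk⟩ := P.2 ⟨u, hu⟩
    refine ⟨k, ?_⟩
    have h1 : (QuotientGroup.mk (⟨n * u, hg⟩ : ↥G1) : ↥G1 ⧸ N.subgroupOf G1)
        = QuotientGroup.mk (⟨u, hPG1 hu⟩ : ↥G1) := by
      rw [QuotientGroup.eq]
      rw [Subgroup.mem_subgroupOf]
      simp only [Subgroup.coe_mul, InvMemClass.coe_inv]
      have : (n * u)⁻¹ * u = u⁻¹ * n⁻¹ * u⁻¹⁻¹ := by group
      rw [this]
      exact (inferInstance : N.Normal).conj_mem _ (inv_mem hn) _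
    rw [h1, ← QuotientGroup.mk_pow]
    have h2 : (⟨u, hPG1 hu⟩ : ↥G1) ^ p ^ k = 1 := by
      apply Subtype.ext
      have := congrArg Subtype.val hk
      simpa using this
    rw [h2]
    rfl
  have hKXN : KX ≤ N.subgroupOf G1 := pResidual_le_of_isPGroup_quotient _ hquot
  have hS'fr : S' ≤ frattini ↥(P : Subgroup G) := by
    intro s hs
    have h1 : ι s ∈ KX := by
      rw [← QuotientGroup.eq_one_iff]
      exact hs
    have h2 : (s : G) ∈ N := hKXN h1
    obtain ⟨t, ht, hts⟩ := h ⟨h2, s.2⟩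
    have : t = s := Subtype.ext hts
    rw [← this]
    exact ht
  have hcent : ∀ x ∈ ρ.ker, ∀ y, x * y = y * x := by
    intro x hx y
    obtain ⟨s, hs, rfl⟩ := hker x hx
    obtain ⟨u, rfl⟩ := hπs y
    rw [← map_mul, ← map_mul]
    show (QuotientGroup.mk (s * u) : ↥(P : Subgroup G) ⧸ S1) = QuotientGroup.mk (u * s)
    rw [QuotientGroup.eq]
    have h1 : (s * u)⁻¹ * (u * s) = ⁅u⁻¹, s⁻¹⁆ := by
      rw [commutatorElement_def]; group
    rw [h1, hS1, Subgroup.commutator_comm]
    exact Subgroup.commutator_mem_commutator (Subgroup.mem_top _) (inv_mem hs)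
  have hfr : ρ.ker ≤ frattini (↥(P : Subgroup G) ⧸ S1) := by
    intro x hx
    obtain ⟨s, hs, rfl⟩ := hker x hx
    exact frattini_le_comap_frattini_of_surjective hπs (hS'fr hs)
  have hQ : IsPGroup p (↥(P : Subgroup G) ⧸ S1) := P.2.to_quotient S1
  have hbot := tate_aux ι hιinj P.2 hidx hQ π hπs ρ hρπ hcent hfr
  haveI : Group.IsNilpotent ↥(P : Subgroup G) := P.2.isNilpotent
  have hS'bot : S' = ⊥ := by
    apply eq_bot_of_le_commutator_top
    intro s hs
    have h1 : π s ∈ ρ.ker := hs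
    rw [hbot, Subgroup.mem_bot] at h1
    exact (QuotientGroup.eq_one_iff s).1 h1
  -- now `KX` is a normal complement
  have hp : IsPGroup p ι.range := by
    rw [MonoidHom.range_eq_map]
    exact IsPGroup.map (IsPGroup.of_equiv P.2 Subgroup.topEquiv.symm) ι
  set PX : Sylow p ↥G1 := hp.toSylow hidx with hPX
  have hPXc : (PX : Subgroup ↥G1) = ι.range := rfl
  have hdisj : Disjoint KX (PX : Subgroup ↥G1) := by
    rw [disjoint_iff, eq_bot_iff, hPXc]
    rintro _ ⟨h1, ⟨s, rfl⟩⟩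
    have h2 : s ∈ S' := by
      rw [hS', MonoidHom.mem_ker]
      exact (QuotientGroup.eq_one_iff _).2 h1
    rw [hS'bot, Subgroup.mem_bot] at h2
    rw [h2, map_one]
    exact one_mem _
  have hcompl : KX.IsComplement' (PX : Subgroup ↥G1) := by
    apply Subgroup.isComplement'_of_disjoint_and_mul_eq_univ hdisj
    rw [← Subgroup.normal_mul, sup_comm, sylow_sup_pResidual PX]
    rfl
  have hX : HasNormalPComplement p ↥G1 := ⟨PX, KX, hKn, hcompl⟩
  exact hasNormalPComplement_of_mulEquiv (Subgroup.subgroupOfEquivOfLe hNG1)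
    (hasNormalPComplement_subgroup hX (N.subgroupOf G1))

end Cfsg.Agent.H1
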