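import Mathlib

set_option autoImplicit false

namespace Cfsg.Agent.H1

open Subgroup

/-- the trace (norm) from `T` to `G` of a `T`-fixed element of a `G`-module. -/
theorem exists_trace {G M : Type*} [Group G] [Finite G] [CommGroup M] [MulDistribMulAction G M]
    (T : Subgroup G) (z : M) (hz : ∀ t ∈ T, t • z = z) (U : Subgroup M)
    (hU : ∀ g : G, g • z / z ∈ U) :
    ∃ τ : M, (∀ g : G, g • τ = τ) ∧ τ / z ^ T.index ∈ U := by
  classical
  have : Fintype (G ⧸ T) := Fintype.ofFinite _
  let φ : G ⧸ T → M := Quotient.lift (fun g : G => g • z) (by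
    intro a b hab
    have h1 : a⁻¹ * b ∈ T := QuotientGroup.leftRel_apply.mp hab
    have h2 := hz _ h1
    change a • z = b • z
    calc a • z = a • ((a⁻¹ * b) • z) := by rw [h2]
      _ = b • z := by rw [smul_smul]; simp)
  have hφ : ∀ g : G, φ (QuotientGroup.mk g) = g • z := fun g => rfl
  have hφs : ∀ (g : G) (q : G ⧸ T), g • φ q = φ (g • q) := by
    intro g q
    induction q using QuotientGroup.induction_on with
    | H x =>
      have : g • (QuotientGroup.mk x : G ⧸ T) = QuotientGroup.mk (g * x) := rfl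
      rw [this, hφ, hφ, smul_smul]
  refine ⟨∏ q : G ⧸ T, φ q, ?_, ?_⟩
  · intro g
    rw [Finset.smul_prod']
    simp only [hφs]
    exact Fintype.prod_equiv (MulAction.toPerm g) _ _ (fun q => rfl)
  · have h1 : (∏ q : G ⧸ T, φ q) / z ^ T.index = ∏ q : G ⧸ T, (φ q / z) := by
      rw [Finset.prod_div_distrib, Finset.prod_const, Finset.card_univ, Subgroup.index,
        Nat.card_eq_fintype_card]
    rw [h1]
    apply Subgroup.prod_mem
    intro q _
    induction q using QuotientGroup.induction_on with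
    | H x => rw [hφ]; exact hU x

end Cfsg.Agent.H1

namespace Cfsg.Agent.H1

open Subgroup

/-- trace for the conjugation action on an abelian subgroup. -/
theorem exists_trace_conj {H : Type*} [Group H] [Finite H] (V : Subgroup H)
    (hVc : ∀ a ∈ V, ∀ b ∈ V, a * b = b * a) (C T : Subgroup H)
    (hCV : C ≤ normalizer (V : Set H)) {z : H} (hzV : z ∈ V)
    (hz : ∀ t ∈ T, t * z = z * t) (U : Subgroup H) (hU : ∀ g ∈ C, g * z * g⁻¹ * z⁻¹ ∈ U) :
    ∃ τ ∈ V, (∀ g ∈ C, g * τ = τ * g) ∧ τ * (z ^ T.relIndex C)⁻¹ ∈ U := by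
  letI cg : CommGroup ↥V :=
    { (inferInstance : Group ↥V) with
      mul_comm := fun a b => Subtype.ext (hVc a a.2 b b.2) }
  letI act : MulDistribMulAction ↥C ↥V :=
    { smul := fun c v => ⟨(c : H) * v * (c : H)⁻¹, (mem_normalizer_iff.mp (hCV c.2) v).mp v.2⟩
      one_smul := fun v => Subtype.ext (by
        change ((1 : C) : H) * v * ((1 : C) : H)⁻¹ = v
        simp)
      mul_smul := fun a b v => Subtype.ext (by
        change ((a * b : C) : H) * v * ((a * b : C) : H)⁻¹ =
          (a : H) * ((b : H) * v * (b : H)⁻¹) * (a : H)⁻¹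
        rw [Subgroup.coe_mul]; group)
      smul_mul := fun a v w => Subtype.ext (by
        change (a : H) * ((v * w : V) : H) * (a : H)⁻¹ =
          ((a : H) * v * (a : H)⁻¹) * ((a : H) * w * (a : H)⁻¹)
        rw [Subgroup.coe_mul]; group)
      smul_one := fun a => Subtype.ext (by
        change (a : H) * ((1 : V) : H) * (a : H)⁻¹ = ((1 : V) : H)
        simp) }
  have hsm : ∀ (c : C) (v : V), ((c • v : V) : H) = (c : H) * v * (c : H)⁻¹ := fun _ _ => rfl
  obtain ⟨τ, h1, h2⟩ := exists_trace (G := ↥C) (M := ↥V) (T.subgroupOf C) ⟨z, hzV⟩ (by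
      intro t ht
      apply Subtype.ext
      rw [hsm]
      change (t : H) * z * (t : H)⁻¹ = z
      rw [hz t (mem_subgroupOf.mp ht)]; group) (U.subgroupOf V) (by
      intro g
      rw [mem_subgroupOf]
      have : ((g • (⟨z, hzV⟩ : V) / (⟨z, hzV⟩ : V) : V) : H) = (g : H) * z * (g : H)⁻¹ * z⁻¹ := by
        rw [div_eq_mul_inv]
        rfl
      rw [this]
      exact hU g g.2)
  refine ⟨τ, τ.2, ?_, ?_⟩
  · intro g hg
    have := congrArg Subtype.val (h1 ⟨g, hg⟩)
    rw [hsm] at this
    change g * τ * g⁻¹ = τ at this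
    calc g * (τ : H) = (g * τ * g⁻¹) * g := by group
      _ = τ * g := by rw [this]
  · rw [mem_subgroupOf] at h2
    have : ((τ / (⟨z, hzV⟩ : V) ^ (T.subgroupOf C).index : V) : H) =
        (τ : H) * (z ^ T.relIndex C)⁻¹ := by
      rw [div_eq_mul_inv]
      rfl
    rw [this] at h2
    exact h2

end Cfsg.Agent.H1
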