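import Mathlib

set_option autoImplicit false

namespace Cfsg.Agent.H2

theorem ncard_carrier_eq_index {G : Type*} [Group G] (x : G) :
    (ConjClasses.mk x).carrier.ncard = (Subgroup.centralizer ({x} : Set G)).index := by
  have h1 : (Subgroup.centralizer ({x} : Set G)) = Subgroup.comap (ConjAct.toConjAct (G := G)).toMonoidHom
      (MulAction.stabilizer (ConjAct G) x) := Subgroup.centralizer_eq_comap_stabilizer x
  have h2 : (Subgroup.comap (ConjAct.toConjAct (G := G)).toMonoidHom
      (MulAction.stabilizer (ConjAct G) x)).index = (MulAction.stabilizer (ConjAct G) x).index :=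
    Subgroup.index_comap_of_surjective _ (ConjAct.toConjAct (G := G)).surjective
  rw [h1, h2, MulAction.index_stabilizer, ConjAct.orbit_eq_carrier_conjClasses]

theorem card_isConj_eq_index {G : Type*} [Group G] (x : G) :
    Nat.card {y : G // IsConj x y} = (Subgroup.centralizer ({x} : Set G)).index := by
  rw [← ncard_carrier_eq_index, ← Nat.card_coe_set_eq]
  apply Nat.card_congr
  refine Equiv.subtypeEquivRight ?_
  intro y
  rw [ConjClasses.mem_carrier_iff_mk_eq, ConjClasses.mk_eq_mk_iff_isConj]
  exact ⟨fun h => h.symm, fun h => h.symm⟩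

end Cfsg.Agent.H2
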