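import Cfsg.Agent.Lib_helper4_CharL

set_option autoImplicit false
set_option linter.style.haveILetI false
open Cfsg

namespace Cfsg.Agent.H2

open Cfsg.Agent.H4
open scoped ComplexConjugate
universe u

variable {G : Type u} [Group G]

theorem IsCharacter.eq_zero_of_apply_one [Finite G] {Δ : G → ℂ} (h : IsCharacter G Δ) (h1 : Δ 1 = 0) :
    Δ = 0 := by
  classical
  haveI := Fintype.ofFinite G
  haveI := Fintype.ofFinite (IrrCharacter G)
  obtain ⟨m, rfl⟩ := IsCharacter.exists_mult h
  choose d hd0 hd using fun ψ : IrrCharacter G => IsIrrCharacter.apply_one ψ.2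
  simp only [Finset.sum_apply, Pi.smul_apply, smul_eq_mul, hd] at h1
  have h2 : ∑ ψ : IrrCharacter G, m ψ * d ψ = 0 := by exact_mod_cast h1
  rw [Finset.sum_eq_zero_iff] at h2
  apply Finset.sum_eq_zero
  intro ψ hψ
  have h3 := h2 ψ hψ
  have h4 : m ψ = 0 := by
    rcases Nat.mul_eq_zero.1 h3 with h5 | h5
    · exact h5
    · have := hd0 ψ; omega
  rw [h4]; simp

/-- if the codegree `|G|/χ(1)` is a power of `p` then `χ` is induced from a Sylow `p`-subgroup. -/
theorem induced_from_sylow [Fintype G] (p : ℕ) [Fact p.Prime] (χ : IrrCharacter G) (k d : ℕ)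
    (hd : (χ : G → ℂ) 1 = d) (hcod : Nat.card G = p ^ k * d) (P : Sylow p G) :
    ∃ θ : IrrCharacter (P : Subgroup G), indFun (P : Subgroup G) (θ : ↥(P : Subgroup G) → ℂ) = χ ∧
      ∃ e : ℕ, (θ : ↥(P : Subgroup G) → ℂ) 1 = (p ^ e : ℕ) ∧ Nat.card (P : Subgroup G) = p ^ (k + e) := by
  classical
  have hp : p.Prime := Fact.out
  haveI := Fintype.ofFinite (P : Subgroup G)
  haveI := Fintype.ofFinite (IrrCharacter (P : Subgroup G))
  set n := (Nat.card G).factorization p with hn
  have hP : Nat.card (P : Subgroup G) = p ^ n := Sylow.card_eq_multiplicity P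
  set i := (P : Subgroup G).index with hi
  have hpi : ¬ p ∣ i := P.not_dvd_index
  have hG : Nat.card G = p ^ n * i := by rw [← hP]; exact ((P : Subgroup G).card_mul_index).symm
  have hkn : k ≤ n := (Nat.Prime.pow_dvd_iff_le_factorization hp Nat.card_pos.ne').1 ⟨d, hcod⟩
  obtain ⟨e, he⟩ := Nat.exists_eq_add_of_le hkn
  have hde : d = i * p ^ e := by
    have h1 : p ^ k * d = p ^ k * (i * p ^ e) := by
      rw [← hcod, hG, he, pow_add]; ring
    exact Nat.eq_of_mul_eq_mul_left (pow_pos hp.pos k) h1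
  obtain ⟨m, hm⟩ := IsCharacter.exists_mult
    (IsCharacter.restrict (P : Subgroup G) (IsIrrCharacter.isCharacter χ.2))
  choose dg hdg0 hdgdvd hdg using
    fun φ : IrrCharacter (P : Subgroup G) => IsIrrCharacter.exists_degree φ.2
  have hsum : d = ∑ φ : IrrCharacter (P : Subgroup G), m φ * dg φ := by
    have h1 := congrFun hm 1
    simp only [Finset.sum_apply, Pi.smul_apply, smul_eq_mul, hdg, OneMemClass.coe_one, hd] at h1
    exact_mod_cast h1
  obtain ⟨φ, hφm, hφd⟩ : ∃ φ, m φ ≠ 0 ∧ ¬ p ^ (e + 1) ∣ dg φ := by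
    by_contra hcon
    push Not at hcon
    have h1 : p ^ (e + 1) ∣ d := by
      rw [hsum]
      apply Finset.dvd_sum
      intro φ _
      by_cases h0 : m φ = 0
      · rw [h0, zero_mul]; exact dvd_zero _
      · exact (hcon φ h0).mul_left _
    rw [hde, pow_succ, mul_comm i] at h1
    exact hpi (Nat.dvd_of_mul_dvd_mul_left (pow_pos hp.pos e) h1)
  obtain ⟨j, -, hj⟩ := (Nat.dvd_prime_pow hp).1 (hP ▸ hdgdvd φ)
  have hje : j ≤ e := by
    by_contra hlt
    push Not at hlt
    apply hφd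
    rw [hj]
    exact pow_dvd_pow p hlt
  have hinner : classInner (fun x : (P : Subgroup G) => (χ : G → ℂ) x) (φ : ↥(P : Subgroup G) → ℂ) ≠ 0 := by
    rw [hm, classInner_sum_mult]
    exact_mod_cast hφm
  have hind : IsCharacter G (indFun (P : Subgroup G) (φ : ↥(P : Subgroup G) → ℂ)) :=
    IsCharacter.ind _ (IsIrrCharacter.isCharacter φ.2)
  have h3 : classInner (indFun (P : Subgroup G) (φ : ↥(P : Subgroup G) → ℂ)) (χ : G → ℂ) ≠ 0 := by
    rw [frobenius_reciprocity _ _ _ (IrrCharacter.isClassFunction χ), ← classInner_conj_symm]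
    simpa using hinner
  have hΔ := IsCharacter.sub_constituent hind χ.2 h3
  obtain ⟨t, ht⟩ := IsCharacter.apply_one hΔ
  rw [Pi.sub_apply, indFun_apply_one, hdg, hd, hj] at ht
  have ht' : i * p ^ j = d + t := by
    have : ((i * p ^ j : ℕ) : ℂ) = ((d + t : ℕ) : ℂ) := by
      push_cast
      push_cast at ht
      linear_combination ht
    exact_mod_cast this
  have hej : e ≤ j := by
    by_contra hlt
    push Not at hlt
    have h4 : p ^ j < p ^ e := Nat.pow_lt_pow_right hp.one_lt hlt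
    have h5 : 0 < i := Nat.pos_of_ne_zero Subgroup.index_ne_zero_of_finite
    have h6 : i * p ^ j < i * p ^ e := Nat.mul_lt_mul_of_pos_left h4 h5
    omega
  have hjeq : j = e := le_antisymm hje hej
  have ht0 : t = 0 := by
    rw [hjeq, ← hde] at ht'
    omega
  refine ⟨φ, ?_, e, ?_, ?_⟩
  · have h7 := IsCharacter.eq_zero_of_apply_one hΔ (by
      rw [Pi.sub_apply, indFun_apply_one, hdg, hd, hj, ht, ht0]; simp)
    exact sub_eq_zero.1 h7
  · rw [hdg, hj, hjeq]
  · rw [hP, he]

end Cfsg.Agent.H2
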