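import Cfsg.Agent.Lib_helper2_FS

set_option autoImplicit false
set_option linter.style.haveILetI false
open Cfsg

namespace Cfsg.Agent.H2

open Cfsg.Agent.H4
open scoped ComplexConjugate
universe u

variable {G : Type u} [Group G]

/-- indicator of an induced function. -/
theorem nu_ind [Fintype G] (H : Subgroup G) (θ : H → ℂ) :
    nu (indFun H θ) = (Nat.card H : ℂ)⁻¹ * ∑ s : G, extendByZero H θ (s * s) := by
  have h0 : (Nat.card G : ℂ) ≠ 0 := card_ne_zero_C
  have h1 : ∀ x : G, ∑ s : G, extendByZero H θ (x⁻¹ * (s * s) * x) = ∑ s : G, extendByZero H θ (s * s) := by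
    intro x
    rw [← Equiv.sum_comp (MulAut.conj x).toEquiv]
    apply Finset.sum_congr rfl
    intro s _
    congr 1
    simp only [MulEquiv.toEquiv_eq_coe, EquivLike.coe_coe, MulAut.conj_apply]
    group
  simp only [nu, indFun]
  rw [← Finset.mul_sum, Finset.sum_comm]
  simp only [h1, Finset.sum_const, Finset.card_univ, nsmul_eq_mul]
  rw [← Nat.card_eq_fintype_card]
  field_simp

/-- integer-valued version of the indicator -/
theorem exists_nuZ [Fintype G] (χ : IrrCharacter G) :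
    ∃ n : ℤ, nu (χ : G → ℂ) = n ∧ (n = 0 ∨ n = 1 ∨ n = -1) := by
  rcases nu_irr χ with h | h | h
  · exact ⟨0, by simp [h], Or.inl rfl⟩
  · exact ⟨1, by simp [h], Or.inr (Or.inl rfl)⟩
  · exact ⟨-1, by simp [h], Or.inr (Or.inr rfl)⟩

/-- a constituent of `(1_H)^G` has the normal subgroup `K ≤ H` in its kernel -/
theorem ker_of_perm_constituent [Fintype G] (H K : Subgroup G) [hK : K.Normal] (hKH : K ≤ H)
    (χ : IrrCharacter G) (h : classInner (indFun H (fun _ : H => (1 : ℂ))) (χ : G → ℂ) ≠ 0) :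
    ∀ k ∈ K, (χ : G → ℂ) k = (χ : G → ℂ) 1 := by
  classical
  haveI := Fintype.ofFinite H
  haveI := Fintype.ofFinite K
  by_contra hcon
  apply h
  rw [frobenius_reciprocity _ _ _ (IrrCharacter.isClassFunction χ)]
  have hK0 : (Nat.card K : ℂ) ≠ 0 := card_ne_zero_C
  have h1 : ∀ g : G, ∑ n : K, (χ : G → ℂ) ((n : G) * g) = 0 := by
    intro g
    have := avgN_irr_of_not_ker K χ.2 hcon g
    exact (mul_eq_zero.1 this).resolve_left (inv_ne_zero hK0)
  have h2 : ∀ k : K, ∑ x : H, (χ : G → ℂ) x = ∑ x : H, (χ : G → ℂ) ((k : G) * x) := by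
    intro k
    rw [← Equiv.sum_comp (Equiv.mulLeft (⟨k, hKH k.2⟩ : H))]
    rfl
  have h3 : (Nat.card K : ℂ) * ∑ x : H, (χ : G → ℂ) x = 0 := by
    have : (Nat.card K : ℂ) * ∑ x : H, (χ : G → ℂ) x = ∑ k : K, ∑ x : H, (χ : G → ℂ) ((k : G) * x) := by
      rw [← Finset.sum_congr rfl (fun k _ => h2 k)]
      simp [Nat.card_eq_fintype_card]
    rw [this, Finset.sum_comm]
    exact Finset.sum_eq_zero (fun x _ => h1 x)
  have h4 : ∑ x : H, (χ : G → ℂ) x = 0 := (mul_eq_zero.1 h3).resolve_left hK0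
  have h5 : ∑ x : H, conj ((χ : G → ℂ) x) = 0 := by
    rw [← map_sum, h4, map_zero]
  simp only [classInner, one_mul, h5, mul_zero]

end Cfsg.Agent.H2
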