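import Cfsg.Agent.Lib_helper4_CharL

set_option autoImplicit false
set_option linter.style.haveILetI false
open Cfsg

namespace Cfsg.Agent.H2

open Cfsg.Agent.H4
open scoped ComplexConjugate
universe u

variable {G : Type u} [Group G]

theorem cf_comm {f : G → ℂ} (hf : IsClassFunction G f) (a b : G) : f (a * b) = f (b * a) := by
  have := hf (a * b) b
  rw [← this]
  congr 1
  group

theorem sum_shift_conj [Fintype G] (ξ : IrrCharacter G) (a b : G) :
    ∑ y : G, (ξ : G → ℂ) (y * a) * conj ((ξ : G → ℂ) (y * b))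
      = (Nat.card G : ℂ) * (ξ : G → ℂ) (b⁻¹ * a) / (ξ : G → ℂ) 1 := by
  classical
  have h := gen_orthogonality ξ ξ (b⁻¹ * a)
  rw [if_pos rfl] at h
  rw [← h, ← Equiv.sum_comp (Equiv.mulRight a) (fun h => (ξ : G → ℂ) h * (ξ : G → ℂ) (h⁻¹ * (b⁻¹ * a)))]
  apply Finset.sum_congr rfl
  intro y _
  simp only [Equiv.coe_mulRight]
  congr 1
  rw [← IsCharacter.inv_eq_conj (IsIrrCharacter.isCharacter ξ.2)]
  rw [cf_comm (IrrCharacter.isClassFunction ξ) (y * a)⁻¹ (b⁻¹ * a)]
  congr 1
  group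

theorem conv_irr_irr [Fintype G] (θ ν : IrrCharacter G) [Decidable (θ = ν)] (y : G) :
    ∑ w : G, conj ((θ : G → ℂ) w) * (ν : G → ℂ) (y * w)
      = if θ = ν then (Nat.card G : ℂ) * (θ : G → ℂ) y / (θ : G → ℂ) 1 else 0 := by
  rw [← gen_orthogonality θ ν y, ← Equiv.sum_comp (Equiv.inv G)]
  apply Finset.sum_congr rfl
  intro w _
  simp only [Equiv.inv_apply]
  rw [← IsCharacter.inv_eq_conj (IsIrrCharacter.isCharacter θ.2), inv_inv,
    cf_comm (IrrCharacter.isClassFunction ν)]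

theorem conv_irr [Fintype G] (θ : IrrCharacter G) (β : G → ℂ) (hβ : IsClassFunction G β) (y : G) :
    ∑ w : G, conj ((θ : G → ℂ) w) * β (y * w)
      = classInner β (θ : G → ℂ) * ((Nat.card G : ℂ) * (θ : G → ℂ) y / (θ : G → ℂ) 1) := by
  classical
  haveI := Fintype.ofFinite (IrrCharacter G)
  have hexp := classFunction_expansion' β hβ
  have h1 : ∀ w : G, β (y * w) = ∑ ν : IrrCharacter G, classInner β (ν : G → ℂ) * (ν : G → ℂ) (y * w) := by
    intro w
    have := congrFun hexp (y * w)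
    simpa only [Finset.sum_apply, Pi.smul_apply, smul_eq_mul] using this
  simp only [h1, Finset.mul_sum]
  rw [Finset.sum_comm]
  have h2 : ∀ ν : IrrCharacter G, ∑ w : G, conj ((θ : G → ℂ) w) * (classInner β (ν : G → ℂ) * (ν : G → ℂ) (y * w))
      = classInner β (ν : G → ℂ) * (if θ = ν then (Nat.card G : ℂ) * (θ : G → ℂ) y / (θ : G → ℂ) 1 else 0) := by
    intro ν
    rw [← conv_irr_irr θ ν y, Finset.mul_sum]
    apply Finset.sum_congr rfl
    intro w _
    ring
  simp only [h2]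
  simp

/-- the idempotent of `θ` kills characters not lying over `θ`. -/
theorem idem_zero [Fintype G] (Z : Subgroup G) [Fintype Z] (θ : IrrCharacter Z) (ξ : IrrCharacter G)
    (h0 : classInner (fun z : Z => (ξ : G → ℂ) z) (θ : Z → ℂ) = 0) (y : G) :
    ∑ w : Z, conj ((θ : Z → ℂ) w) * (ξ : G → ℂ) (y * w) = 0 := by
  classical
  set f : G → ℂ := fun y => ∑ w : Z, conj ((θ : Z → ℂ) w) * (ξ : G → ℂ) (y * w) with hf
  have hres : IsClassFunction Z (fun z : Z => (ξ : G → ℂ) z) :=
    IsCharacter.isClassFunction (IsCharacter.restrict Z (IsIrrCharacter.isCharacter ξ.2))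
  have hsum : ∑ y : G, f y * conj (f y) = 0 := by
    have h1 : ∀ y : G, f y * conj (f y) = ∑ w' : Z, ∑ w : Z, ((θ : Z → ℂ) w' * conj ((θ : Z → ℂ) w)) *
        ((ξ : G → ℂ) (y * w) * conj ((ξ : G → ℂ) (y * w'))) := by
      intro y
      simp only [hf, map_sum, map_mul, Complex.conj_conj]
      rw [Finset.sum_mul_sum, Finset.sum_comm]
      apply Finset.sum_congr rfl
      intro w' _
      apply Finset.sum_congr rfl
      intro w _
      ring
    simp only [h1]
    rw [Finset.sum_comm]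
    apply Finset.sum_eq_zero
    intro w' _
    rw [Finset.sum_comm]
    simp only [← Finset.mul_sum, sum_shift_conj]
    have h2 := conv_irr θ (fun z : Z => (ξ : G → ℂ) z) hres w'⁻¹
    rw [h0, zero_mul] at h2
    have h3 : ∑ w : Z, (θ : Z → ℂ) w' * conj ((θ : Z → ℂ) w) *
        ((Nat.card G : ℂ) * (ξ : G → ℂ) ((w' : G)⁻¹ * w) / (ξ : G → ℂ) 1)
        = (θ : Z → ℂ) w' * (Nat.card G : ℂ) / (ξ : G → ℂ) 1 *
          ∑ w : Z, conj ((θ : Z → ℂ) w) * (ξ : G → ℂ) ((w'⁻¹ * w : Z) : G) := by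
      rw [Finset.mul_sum]
      apply Finset.sum_congr rfl
      intro w _
      simp only [Subgroup.coe_mul, Subgroup.coe_inv]
      ring
    rw [h3, h2, mul_zero]
  have hnn : ∀ y : G, f y * conj (f y) = ((Complex.normSq (f y) : ℝ) : ℂ) := fun y => Complex.mul_conj _
  simp only [hnn] at hsum
  have hsum' : ∑ y : G, Complex.normSq (f y) = 0 := by exact_mod_cast hsum
  have := (Finset.sum_eq_zero_iff_of_nonneg (fun y _ => Complex.normSq_nonneg (f y))).1 hsum' y
    (Finset.mem_univ y)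
  exact Complex.normSq_eq_zero.1 this

/-- the idempotent of `θ` fixes characters homogeneous over `θ`. -/
theorem idem_self [Fintype G] (Z : Subgroup G) [Fintype Z] (θ : IrrCharacter Z) (ξ : IrrCharacter G)
    (e : ℂ) (he : ∀ z : Z, (ξ : G → ℂ) z = e * (θ : Z → ℂ) z) (y : G) :
    (θ : Z → ℂ) 1 * ∑ w : Z, conj ((θ : Z → ℂ) w) * (ξ : G → ℂ) (y * w)
      = (Nat.card Z : ℂ) * (ξ : G → ℂ) y := by
  classical
  haveI := Fintype.ofFinite (IrrCharacter Z)
  have h1 : ∑ ν : IrrCharacter Z, (ν : Z → ℂ) 1 * ∑ w : Z, conj ((ν : Z → ℂ) w) * (ξ : G → ℂ) (y * w)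
      = (Nat.card Z : ℂ) * (ξ : G → ℂ) y := by
    simp only [Finset.mul_sum]
    rw [Finset.sum_comm]
    have h2 : ∀ w : Z, ∑ ν : IrrCharacter Z, (ν : Z → ℂ) 1 * (conj ((ν : Z → ℂ) w) * (ξ : G → ℂ) (y * w))
        = (if w = 1 then (Nat.card Z : ℂ) else 0) * (ξ : G → ℂ) (y * w) := by
      intro w
      have h3 := column_orthogonality' (1 : Z) w
      simp only [← mul_assoc, ← Finset.sum_mul]
      rw [h3]
      congr 1
      by_cases hw : w = 1
      · subst hw
        simp
      · rw [if_neg hw]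
        have : IsEmpty {x : Z // x * w * x⁻¹ = 1} := by
          constructor
          rintro ⟨x, hx⟩
          apply hw
          have : w = x⁻¹ * (x * w * x⁻¹) * x := by group
          rw [this, hx]; group
        rw [Nat.card_of_isEmpty]; simp
    simp only [h2]
    simp
  rw [← h1]
  symm
  apply Finset.sum_eq_single θ
  · intro ν _ hν
    rw [idem_zero Z ν ξ, mul_zero]
    have : (fun z : Z => (ξ : G → ℂ) z) = e • (θ : Z → ℂ) := by
      funext z; simp [he z]
    rw [this, classInner_smul_left, irr_orthonormal θ ν, if_neg (Ne.symm hν), mul_zero]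
  · intro h; exact absurd (Finset.mem_univ _) h

end Cfsg.Agent.H2
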