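import Mathlib
import Cfsg.Agent.Lib_helper1_PNilp2

set_option autoImplicit false

namespace Cfsg.Agent.H2

/-- `x` is a `σ`-element. -/
def IsPiElt {G : Type*} [Group G] (σ : Set ℕ) (x : G) : Prop :=
  ∀ r : ℕ, r.Prime → r ∣ orderOf x → r ∈ σ

/-- the number of conjugacy classes of `σ`-elements -/
noncomputable def kPi (σ : Set ℕ) (G : Type*) [Group G] : ℕ :=
  Nat.card {c : ConjClasses G // ∀ x ∈ c.carrier, IsPiElt σ x}

theorem orderOf_conj_eq {G : Type*} [Group G] (g x : G) : orderOf (g * x * g⁻¹) = orderOf x := by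
  have := orderOf_injective (MulAut.conj g).toMonoidHom (MulAut.conj g).injective x
  simpa using this

theorem isPiElt_conj {G : Type*} [Group G] (σ : Set ℕ) (g x : G) :
    IsPiElt σ (g * x * g⁻¹) ↔ IsPiElt σ x := by
  unfold IsPiElt
  rw [orderOf_conj_eq]

theorem forall_carrier_mk {G : Type*} [Group G] (σ : Set ℕ) (x : G) :
    (∀ z ∈ (ConjClasses.mk x).carrier, IsPiElt σ z) ↔ IsPiElt σ x := by
  constructor
  · intro h
    exact h x ConjClasses.mem_carrier_mk
  · intro h z hz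
    rw [ConjClasses.mem_carrier_iff_mk_eq, ConjClasses.mk_eq_mk_iff_isConj, isConj_iff] at hz
    obtain ⟨g, hg⟩ := hz
    rw [← isPiElt_conj σ g z, hg]
    exact h

theorem exists_decomp {G : Type*} [Group G] [Finite G] (r : ℕ) [Fact r.Prime] (σ : Set ℕ) (x : G)
    (hx : IsPiElt (insert r σ) x) :
    ∃ y z : G, Commute y z ∧ IsPiElt {r} y ∧ IsPiElt σ z ∧ y * z = x := by
  have hr : r.Prime := Fact.out
  obtain ⟨a, ha, b, hb, hab, ⟨k, hk⟩, hcop⟩ := H1.exists_p_decomposition r x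
  refine ⟨a, b, ?_, ?_, ?_, hab.symm⟩
  · obtain ⟨i, rfl⟩ := Subgroup.mem_zpowers_iff.mp ha
    obtain ⟨j, rfl⟩ := Subgroup.mem_zpowers_iff.mp hb
    exact (Commute.refl x).zpow_zpow i j
  · intro s hs hsd
    have h1 : s ∣ r ^ k := hsd.trans (orderOf_dvd_of_pow_eq_one hk)
    have h2 := (Nat.prime_dvd_prime_iff_eq hs hr).mp (hs.dvd_of_dvd_pow h1)
    exact h2
  · intro s hs hsd
    have h1 : s ∣ orderOf x := hsd.trans (orderOf_dvd_of_mem_zpowers hb)
    rcases hx s hs h1 with h2 | h2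
    · exfalso
      subst h2
      have := Nat.Coprime.eq_one_of_dvd hcop.symm hsd
      exact hs.one_lt.ne' this
    · exact h2

theorem kPi_insert_le {G : Type*} [Group G] [Finite G] (r : ℕ) [Fact r.Prime] (σ : Set ℕ) (M : ℕ)
    (hM : ∀ y : G, kPi σ ↥(Subgroup.centralizer ({y} : Set G)) ≤ M) :
    kPi (insert r σ) G ≤ M * kPi {r} G := by
  classical
  have hdec : ∀ c : {c : ConjClasses G // ∀ x ∈ c.carrier, IsPiElt (insert r σ) x},
      ∃ y z : G, Commute y z ∧ IsPiElt {r} y ∧ IsPiElt σ z ∧ ConjClasses.mk (y * z) = c.1 := by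
    rintro ⟨c, hc⟩
    obtain ⟨x, rfl⟩ := ConjClasses.exists_rep c
    obtain ⟨y, z, h1, h2, h3, h4⟩ := exists_decomp r σ x ((forall_carrier_mk _ x).mp hc)
    exact ⟨y, z, h1, h2, h3, by rw [h4]⟩
  choose Y Z hcomm hY hZ hmk using hdec
  let _ : Fintype {c : ConjClasses G // ∀ x ∈ c.carrier, IsPiElt (insert r σ) x} := Fintype.ofFinite _
  let _ : Fintype {c : ConjClasses G // ∀ x ∈ c.carrier, IsPiElt ({r} : Set ℕ) x} := Fintype.ofFinite _
  let f : {c : ConjClasses G // ∀ x ∈ c.carrier, IsPiElt (insert r σ) x} →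
      {c : ConjClasses G // ∀ x ∈ c.carrier, IsPiElt ({r} : Set ℕ) x} :=
    fun c => ⟨ConjClasses.mk (Y c), (forall_carrier_mk _ _).mpr (hY c)⟩
  have key := Finset.card_le_mul_card_image_of_maps_to (f := f) (s := Finset.univ) (t := Finset.univ)
    (fun a _ => Finset.mem_univ _) M ?_
  · unfold kPi
    rw [Nat.card_eq_fintype_card, Nat.card_eq_fintype_card]
    simpa using key
  · rintro ⟨d, hd⟩ -
    obtain ⟨y₀, rfl⟩ := ConjClasses.exists_rep d
    refine le_trans ?_ (hM y₀)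
    rw [← Fintype.card_subtype, ← Nat.card_eq_fintype_card]
    have hz : ∀ c : {c // f c = ⟨ConjClasses.mk y₀, hd⟩},
        ∃ z' : ↥(Subgroup.centralizer ({y₀} : Set G)), IsPiElt σ z' ∧ ConjClasses.mk (y₀ * (z' : G)) = c.1.1 := by
      rintro ⟨c, hc⟩
      have h1 : ConjClasses.mk (Y c) = ConjClasses.mk y₀ := congrArg Subtype.val hc
      rw [ConjClasses.mk_eq_mk_iff_isConj, isConj_iff] at h1
      obtain ⟨g, hg⟩ := h1
      refine ⟨⟨g * Z c * g⁻¹, ?_⟩, ?_, ?_⟩
      · rw [Subgroup.mem_centralizer_singleton_iff, ← hg]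
        have := (hcomm c).eq
        calc g * Z c * g⁻¹ * (g * Y c * g⁻¹) = g * (Z c * Y c) * g⁻¹ := by group
          _ = g * (Y c * Z c) * g⁻¹ := by rw [this]
          _ = _ := by group
      · have h2 : IsPiElt σ (g * Z c * g⁻¹) := (isPiElt_conj σ g _).mpr (hZ c)
        intro s hs hsd
        rw [← Subgroup.orderOf_coe] at hsd
        exact h2 s hs hsd
      · change ConjClasses.mk (y₀ * (g * Z c * g⁻¹)) = c.1
        rw [← hmk c, ← hg]
        have : g * Y c * g⁻¹ * (g * Z c * g⁻¹) = g * (Y c * Z c) * g⁻¹ := by group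
        rw [this]
        exact (ConjClasses.mk_eq_mk_iff_isConj.mpr (isConj_iff.mpr ⟨g, rfl⟩)).symm
    choose W hW1 hW2 using hz
    unfold kPi
    apply Nat.card_le_card_of_injective (fun c : {c // f c = ⟨ConjClasses.mk y₀, hd⟩} =>
      (⟨ConjClasses.mk (W c), (forall_carrier_mk _ _).mpr (hW1 c)⟩ :
        {e : ConjClasses ↥(Subgroup.centralizer ({y₀} : Set G)) // ∀ x ∈ e.carrier, IsPiElt σ x}))
    intro c₁ c₂ h12
    have h1 : ConjClasses.mk (W c₁) = ConjClasses.mk (W c₂) := congrArg Subtype.val h12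
    rw [ConjClasses.mk_eq_mk_iff_isConj, isConj_iff] at h1
    obtain ⟨h, hh⟩ := h1
    apply Subtype.ext
    apply Subtype.ext
    rw [← hW2 c₁, ← hW2 c₂, ← hh]
    have hy : (h : G) * y₀ = y₀ * h := Subgroup.mem_centralizer_singleton_iff.mp h.2
    have h3 : y₀ * ((h * W c₁ * h⁻¹ : ↥(Subgroup.centralizer ({y₀} : Set G))) : G)
        = (h : G) * (y₀ * (W c₁ : G)) * (h : G)⁻¹ := by
      push_cast
      calc y₀ * ((h : G) * (W c₁ : G) * (h : G)⁻¹) = (y₀ * h) * (W c₁ : G) * (h : G)⁻¹ := by group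
        _ = ((h : G) * y₀) * (W c₁ : G) * (h : G)⁻¹ := by rw [hy]
        _ = _ := by group
    rw [h3]
    exact ConjClasses.mk_eq_mk_iff_isConj.mpr (isConj_iff.mpr ⟨(h : G), rfl⟩)

theorem exists_pow_of_isPiElt {G : Type*} [Group G] [Finite G] (r : ℕ) (x : G)
    (hx : IsPiElt {r} x) : ∃ k : ℕ, orderOf x = r ^ k :=
  ⟨_, Nat.eq_prime_pow_of_unique_prime_dvd (orderOf_pos x).ne' (fun {d} hd hdx => hx d hd hdx)⟩

/-- every element of `p`-power order is conjugate into `P` -/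
theorem exists_conj_mem_sylow' {G : Type*} [Group G] [Finite G] {p : ℕ} [Fact p.Prime] (P : Sylow p G)
    (x : G) (hx : ∃ k : ℕ, orderOf x = p ^ k) :
    ∃ y ∈ (P : Subgroup G), ConjClasses.mk y = ConjClasses.mk x := by
  have hpg : IsPGroup p ↥(Subgroup.zpowers x) := by
    obtain ⟨k, hk⟩ := hx
    apply IsPGroup.of_card (n := k)
    rw [Nat.card_zpowers, hk]
  obtain ⟨Q, hQ⟩ := hpg.exists_le_sylow
  obtain ⟨g, hg⟩ := MulAction.exists_smul_eq G Q P
  refine ⟨g * x * g⁻¹, ?_, ?_⟩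
  · rw [← hg, Sylow.coe_subgroup_smul]
    have : x ∈ (Q : Subgroup G) := hQ (Subgroup.mem_zpowers x)
    have h2 := Subgroup.smul_mem_pointwise_smul x (MulAut.conj g) (Q : Subgroup G) this
    simpa using h2
  · exact (ConjClasses.mk_eq_mk_iff_isConj.mpr (isConj_iff.mpr ⟨g, rfl⟩)).symm

theorem class_meets_sylow {G : Type*} [Group G] [Finite G] (r : ℕ) [Fact r.Prime] (P : Sylow r G)
    (c : ConjClasses G) (hc : ∀ x ∈ c.carrier, IsPiElt ({r} : Set ℕ) x) :
    ∃ x ∈ (P : Subgroup G), ConjClasses.mk x = c := by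
  obtain ⟨x, rfl⟩ := ConjClasses.exists_rep c
  exact exists_conj_mem_sylow' P x (exists_pow_of_isPiElt r x ((forall_carrier_mk _ x).mp hc))

theorem kPi_singleton_le {G : Type*} [Group G] [Finite G] (r : ℕ) [Fact r.Prime] :
    kPi {r} G ≤ r ^ (Nat.card G).factorization r := by
  obtain ⟨P⟩ : Nonempty (Sylow r G) := inferInstance
  rw [← Sylow.card_eq_multiplicity P]
  have h := class_meets_sylow r P
  choose f hf1 hf2 using h
  unfold kPi
  apply Nat.card_le_card_of_injective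
    (fun c : {c : ConjClasses G // ∀ x ∈ c.carrier, IsPiElt ({r} : Set ℕ) x} =>
      (⟨f c.1 c.2, hf1 c.1 c.2⟩ : ↥(P : Subgroup G)))
  intro c d hcd
  apply Subtype.ext
  rw [← hf2 c.1 c.2, ← hf2 d.1 d.2]
  exact congrArg (fun z : ↥(P : Subgroup G) => ConjClasses.mk (z : G)) hcd

theorem prod_factorization_mono {a b : ℕ} (hab : a ∣ b) (hb : b ≠ 0) (σ : Finset ℕ)
    (hσ : ∀ r ∈ σ, r.Prime) :
    σ.prod (fun r => r ^ a.factorization r) ≤ σ.prod (fun r => r ^ b.factorization r) := by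
  apply Finset.prod_le_prod'
  intro r hr
  apply Nat.pow_le_pow_right (hσ r hr).pos
  have ha : a ≠ 0 := fun h => hb (by rw [h] at hab; exact Nat.eq_zero_of_zero_dvd hab)
  exact (Nat.factorization_le_iff_dvd ha hb).mpr hab r

theorem kPi_le.{u} (σ : Finset ℕ) : (∀ r ∈ σ, r.Prime) → ∀ (G : Type u) [Group G] [Finite G],
    kPi (↑σ : Set ℕ) G ≤ σ.prod (fun r => r ^ (Nat.card G).factorization r) := by
  induction σ using Finset.induction_on with
  | empty =>
    intro _ G _ _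
    simp only [Finset.coe_empty, Finset.prod_empty]
    unfold kPi
    rw [Finite.card_le_one_iff_subsingleton]
    constructor
    have h1 : ∀ c : {c : ConjClasses G // ∀ x ∈ c.carrier, IsPiElt (∅ : Set ℕ) x}, c.1 = ConjClasses.mk 1 := by
      rintro ⟨c, hc⟩
      obtain ⟨x, rfl⟩ := ConjClasses.exists_rep c
      have h2 := (forall_carrier_mk _ x).mp hc
      have h3 : orderOf x = 1 := by
        by_contra hne
        obtain ⟨q, hq, hqd⟩ := Nat.exists_prime_and_dvd hne
        exact h2 q hq hqd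
      rw [orderOf_eq_one_iff] at h3
      change ConjClasses.mk x = ConjClasses.mk 1
      rw [h3]
    intro a b
    apply Subtype.ext
    rw [h1 a, h1 b]
  | insert r σ hr ih =>
    intro hσ G _ _
    have hrp : r.Prime := hσ r (Finset.mem_insert_self r σ)
    have : Fact r.Prime := ⟨hrp⟩
    have hσ' : ∀ s ∈ σ, s.Prime := fun s hs => hσ s (Finset.mem_insert_of_mem hs)
    rw [Finset.coe_insert, Finset.prod_insert hr]
    have h1 := kPi_insert_le (G := G) r (↑σ : Set ℕ) (σ.prod (fun r => r ^ (Nat.card G).factorization r)) ?_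
    · calc kPi (insert r (↑σ : Set ℕ)) G ≤ _ := h1
        _ ≤ σ.prod (fun r => r ^ (Nat.card G).factorization r) * r ^ (Nat.card G).factorization r :=
            Nat.mul_le_mul_left _ (kPi_singleton_le r)
        _ = _ := mul_comm _ _
    · intro y
      exact (ih hσ' _).trans (prod_factorization_mono (Subgroup.card_subgroup_dvd_card _) Nat.card_pos.ne' σ hσ')

theorem kPi_le_erase {G : Type*} [Group G] [Finite G] (π : Finset ℕ) (hπ : ∀ r ∈ π, r.Prime) (r : ℕ)
    (hr : r ∈ π) :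
    kPi (↑π : Set ℕ) G ≤ (π.erase r).prod (fun r => r ^ (Nat.card G).factorization r) * kPi {r} G := by
  have : Fact r.Prime := ⟨hπ r hr⟩
  have hσ' : ∀ s ∈ π.erase r, s.Prime := fun s hs => hπ s (Finset.mem_of_mem_erase hs)
  have h0 : (↑π : Set ℕ) = insert r (↑(π.erase r) : Set ℕ) := by
    rw [← Finset.coe_insert, Finset.insert_erase hr]
  rw [h0]
  apply kPi_insert_le
  intro y
  exact (kPi_le _ hσ' _).trans
    (prod_factorization_mono (Subgroup.card_subgroup_dvd_card _) Nat.card_pos.ne' _ hσ')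

end Cfsg.Agent.H2
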