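import Mathlib

set_option autoImplicit false

namespace Cfsg.Agent.H2

/-- the join of a solvable normal subgroup and a solvable subgroup is solvable -/
theorem isSolvable_sup_of_normal {G : Type*} [Group G] (N Q : Subgroup G) [N.Normal]
    (hN : Group.IsSolvable ↥N) (hQ : Group.IsSolvable ↥Q) : Group.IsSolvable ↥(N ⊔ Q) := by
  let g : ↥(N ⊔ Q) →* G ⧸ N := (QuotientGroup.mk' N).comp (N ⊔ Q).subtype
  have hrange : g.range = Q.map (QuotientGroup.mk' N) := by
    rw [MonoidHom.range_comp, Subgroup.range_subtype, Subgroup.map_sup, QuotientGroup.map_mk'_self,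
      bot_sup_eq]
  have h1 : Group.IsSolvable ↥(Q.map (QuotientGroup.mk' N)) :=
    Group.isSolvable_of_surjective ((QuotientGroup.mk' N).subgroupMap_surjective Q)
  have h2 : Group.IsSolvable ↥g.range := hrange ▸ h1
  apply Group.isSolvable_of_ker_le_range (Subgroup.inclusion (le_sup_left : N ≤ N ⊔ Q)) g.rangeRestrict
  intro x hx
  rw [MonoidHom.ker_rangeRestrict, MonoidHom.mem_ker] at hx
  have h3 : (x : G) ∈ N := by
    have : QuotientGroup.mk' N (x : G) = 1 := hx
    rwa [← MonoidHom.mem_ker, QuotientGroup.ker_mk'] at this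
  exact ⟨⟨x, h3⟩, Subtype.ext rfl⟩

theorem isSolvable_of_isPGroup' {G : Type*} [Group G] [Finite G] {p : ℕ} [Fact p.Prime]
    (h : IsPGroup p G) : Group.IsSolvable G := by
  have := h.isNilpotent
  infer_instance

end Cfsg.Agent.H2
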