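import Mathlib

set_option autoImplicit false

namespace Cfsg.Agent.H3

open Subgroup MulAction

variable {G : Type*} [Group G]

/-- A finite group is not the union of the conjugates of a proper subgroup. -/
theorem exists_not_mem_conj [Finite G] (H : Subgroup G) (hH : H ≠ ⊤) :
    ∃ g : G, ∀ a : G, a⁻¹ * g * a ∉ H := by
  classical
  by_contra hcon
  push Not at hcon
  have := Fintype.ofFinite G
  have := Fintype.ofFinite (G ⧸ H)
  have hB := MulAction.sum_card_fixedBy_eq_card_orbits_mul_card_group G (G ⧸ H)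
  have horb : Fintype.card (Quotient (MulAction.orbitRel G (G ⧸ H))) = 1 := by
    rw [Fintype.card_eq_one_iff]
    refine ⟨Quotient.mk'' (QuotientGroup.mk 1 : G ⧸ H), fun y => ?_⟩
    induction y using Quotient.inductionOn' with
    | h y =>
      apply Quotient.sound'
      exact MulAction.exists_smul_eq G _ _
  rw [horb, one_mul] at hB
  have h1 : ∀ g : G, 1 ≤ Fintype.card (fixedBy (G ⧸ H) g) := by
    intro g
    obtain ⟨a, ha⟩ := hcon g
    refine Fintype.card_pos_iff.mpr ⟨⟨(QuotientGroup.mk a : G ⧸ H), ?_⟩⟩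
    rw [mem_fixedBy]
    change (QuotientGroup.mk (g * a) : G ⧸ H) = QuotientGroup.mk a
    rw [QuotientGroup.eq]
    have : (g * a)⁻¹ * a = (a⁻¹ * g * a)⁻¹ := by group
    rw [this]
    exact H.inv_mem ha
  have h2 : 2 ≤ Fintype.card (fixedBy (G ⧸ H) (1 : G)) := by
    have hidx : H.index ≠ 1 := fun h => hH (index_eq_one.mp h)
    have hidx0 : H.index ≠ 0 := index_ne_zero_of_finite
    have : Fintype.card (fixedBy (G ⧸ H) (1 : G)) = H.index := by
      rw [index_eq_card, Nat.card_eq_fintype_card]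
      apply Fintype.card_congr
      exact (Equiv.subtypeUnivEquiv (fun x => by simp))
    omega
  have h3 : Fintype.card G < ∑ g : G, Fintype.card (fixedBy (G ⧸ H) g) := by
    calc Fintype.card G = ∑ _g : G, 1 := by simp
      _ < ∑ g : G, Fintype.card (fixedBy (G ⧸ H) g) :=
        Finset.sum_lt_sum (fun g _ => h1 g) ⟨1, Finset.mem_univ _, h2⟩
  omega

/-- A `p`-subgroup is conjugate into any subgroup of index prime to `p`. -/
theorem exists_conj_le_of_not_dvd_index {p : ℕ} [Fact p.Prime] (P K : Subgroup G) (hP : IsPGroup p P)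
    (hK : ¬ p ∣ K.index) : ∃ a : G, ∀ x ∈ P, a⁻¹ * x * a ∈ K := by
  have h := hP.nonempty_fixed_point_of_prime_not_dvd_card (G ⧸ K) (by rwa [← index_eq_card])
  obtain ⟨y, hy⟩ := h
  induction y using QuotientGroup.induction_on with
  | H a =>
    refine ⟨a, fun x hx => ?_⟩
    have h1 := hy ⟨x, hx⟩
    change (QuotientGroup.mk (x * a) : G ⧸ K) = QuotientGroup.mk a at h1
    rw [QuotientGroup.eq] at h1
    have : a⁻¹ * x * a = ((x * a)⁻¹ * a)⁻¹ := by group
    rw [this]
    exact K.inv_mem h1

theorem mem_zpowers_mul_of_coprime {x y : G} (hc : Commute x y)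
    (hco : (orderOf x).Coprime (orderOf y)) : x ∈ zpowers (x * y) := by
  obtain ⟨m, hm⟩ := exists_pow_eq_self_of_coprime hco.symm
  have h1 : (x * y) ^ orderOf y = x ^ orderOf y := by
    rw [hc.mul_pow, pow_orderOf_eq_one, mul_one]
  have h2 : x = (x * y) ^ (orderOf y * m) := by
    rw [pow_mul, h1, hm]
  exact Subgroup.mem_zpowers_iff.mpr ⟨(orderOf y * m : ℕ), by rw [zpow_natCast]; exact h2.symm⟩

theorem mem_zpowers_mul_of_coprime' {x y : G} (hc : Commute x y)
    (hco : (orderOf x).Coprime (orderOf y)) : y ∈ zpowers (x * y) := by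
  rw [hc.eq]
  exact mem_zpowers_mul_of_coprime hc.symm hco.symm

theorem centralizer_le_of_mem_zpowers {x u : G} (h : x ∈ zpowers u) :
    centralizer ({u} : Set G) ≤ centralizer ({x} : Set G) := by
  intro c hc
  rw [mem_centralizer_singleton_iff] at *
  obtain ⟨k, rfl⟩ := h
  exact ((Commute.zpow_right (show Commute c u from hc) k)).eq

end Cfsg.Agent.H3
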