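import Mathlib
import Cfsg.Agent.S0143
import Cfsg.Agent.Lib_helper2_Solv
import Cfsg.Agent.Lib_helper2_Class
import Cfsg.Agent.Lib_helper1_PNilp
import Cfsg.Agent.Lib_helper1_Cores2
import Cfsg.Agent.Lib_helper1_CompSys
import Cfsg.Agent.Lib_helper3_Conj
import Cfsg.Agent.Lib_helper5_CharP1

set_option autoImplicit false

namespace Cfsg.Agent.H2

/-- all `p`-regular classes have `p`-power size -/
def PRegHyp (p : ℕ) (G : Type*) [Group G] : Prop :=
  ∀ x : G, (orderOf x).Coprime p → ∃ k : ℕ, (Subgroup.centralizer ({x} : Set G)).index = p ^ k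

theorem index_centralizer_map_dvd {G G' : Type*} [Group G] [Group G'] (f : G →* G')
    (hf : Function.Surjective f) (x : G) :
    (Subgroup.centralizer ({f x} : Set G')).index ∣ (Subgroup.centralizer ({x} : Set G)).index := by
  have h1 : (Subgroup.centralizer ({x} : Set G)).map f ≤ Subgroup.centralizer ({f x} : Set G') := by
    rintro _ ⟨c, hc, rfl⟩
    rw [Subgroup.mem_centralizer_singleton_iff]
    have := Subgroup.mem_centralizer_singleton_iff.mp hc
    rw [← map_mul, this, map_mul]
  exact (Subgroup.index_dvd_of_le h1).trans (Subgroup.index_map_dvd _ hf)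

theorem PRegHyp.quotient {G : Type*} [Group G] [Finite G] {p : ℕ} (hp : p.Prime) (h : PRegHyp p G)
    (M : Subgroup G) [M.Normal] : PRegHyp p (G ⧸ M) := by
  have : Fact p.Prime := ⟨hp⟩
  intro xb hxb
  obtain ⟨y, rfl⟩ := QuotientGroup.mk'_surjective M xb
  obtain ⟨k, hk⟩ := H5.exists_pow_coprime_order p y
  obtain ⟨j, hj⟩ := h _ hk
  have h1 := index_centralizer_map_dvd (QuotientGroup.mk' M) (QuotientGroup.mk'_surjective M) (y ^ p ^ k)
  rw [hj, map_pow] at h1
  have h2 : QuotientGroup.mk' M y ∈ Subgroup.zpowers ((QuotientGroup.mk' M y) ^ p ^ k) :=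
    mem_zpowers_pow_iff.2 (Nat.Coprime.pow_left _ hxb.symm)
  have h3 := Subgroup.index_dvd_of_le (H3.centralizer_le_of_mem_zpowers h2)
  obtain ⟨i, -, hi⟩ := (Nat.dvd_prime_pow hp).mp (h3.trans h1)
  exact ⟨i, hi⟩

theorem PRegHyp.normal {G : Type*} [Group G] [Finite G] {p : ℕ} (hp : p.Prime) (h : PRegHyp p G)
    (M : Subgroup G) [M.Normal] : PRegHyp p ↥M := by
  intro x hx
  rw [← Subgroup.orderOf_coe] at hx
  obtain ⟨j, hj⟩ := h _ hx
  have h1 : Subgroup.centralizer ({x} : Set ↥M) = (Subgroup.centralizer ({(x : G)} : Set G)).subgroupOf M := by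
    ext c
    rw [Subgroup.mem_subgroupOf, Subgroup.mem_centralizer_singleton_iff,
      Subgroup.mem_centralizer_singleton_iff]
    constructor
    · intro hc
      exact congrArg Subtype.val hc
    · intro hc
      exact Subtype.ext hc
  have h2 : (Subgroup.centralizer ({x} : Set ↥M)).index ∣ p ^ j := by
    rw [h1, ← hj]
    exact H1.relIndex_dvd_index_of_normal_right _ M
  obtain ⟨i, -, hi⟩ := (Nat.dvd_prime_pow hp).mp h2
  exact ⟨i, hi⟩

theorem exists_other_prime' {G : Type*} [Group G] [Finite G] {p : ℕ} (hGp : ¬ IsPGroup p G) :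
    ∃ q : ℕ, q.Prime ∧ q ≠ p ∧ q ∣ Nat.card G := by
  by_contra hcon
  push Not at hcon
  apply hGp
  apply IsPGroup.of_card (n := (Nat.card G).primeFactorsList.length)
  apply Nat.eq_prime_pow_of_unique_prime_dvd Nat.card_pos.ne'
  intro d hd hdG
  by_contra hne
  exact hcon d hd hne hdG

theorem PRegHyp.solvable.{u} {p : ℕ} (hp : p.Prime) : ∀ (n : ℕ) (G : Type u) [Group G] [Finite G],
    Nat.card G = n → PRegHyp p G → Group.IsSolvable G := by
  have : Fact p.Prime := ⟨hp⟩
  intro n
  induction n using Nat.strong_induction_on with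
  | _ n ih =>
    intro G _ _ hn h
    rcases subsingleton_or_nontrivial G with hs | hnt
    · infer_instance
    by_cases hsimple : ∀ M : Subgroup G, M.Normal → M = ⊥ ∨ M = ⊤
    · have : IsSimpleGroup G := ⟨hsimple⟩
      by_cases hGp : IsPGroup p G
      · exact isSolvable_of_isPGroup' hGp
      obtain ⟨q, hq, hqp, hqd⟩ := exists_other_prime' hGp
      have : Fact q.Prime := ⟨hq⟩
      obtain ⟨g, hg⟩ := exists_prime_orderOf_dvd_card' q hqd
      have hg1 : g ≠ 1 := by
        rintro rfl
        rw [orderOf_one] at hg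
        exact hq.one_lt.ne hg
      obtain ⟨k, hk⟩ := h g (by rw [hg]; exact (Nat.coprime_primes hq hp).mpr hqp)
      have hprime := Cfsg.Agent.S0143.result p k hp g hg1 hk
      have : Fact (Nat.card G).Prime := ⟨hprime⟩
      have hcyc : IsCyclic G := isCyclic_of_prime_card rfl
      exact Group.isSolvable_of_comm (fun a b => hcyc.isMulCommutative.is_comm.comm a b)
    · push Not at hsimple
      obtain ⟨M, hMn, hMbot, hMtop⟩ := hsimple
      have hc := M.card_mul_index
      have h1 : Nat.card ↥M < n := by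
        rw [← hn]
        have h2 : M.index ≠ 1 := fun h => hMtop (Subgroup.index_eq_one.mp h)
        have h3 : M.index ≠ 0 := Subgroup.index_ne_zero_of_finite
        have h4 : 0 < Nat.card ↥M := Nat.card_pos
        have h5 : 2 ≤ M.index := by omega
        nlinarith
      have h2 : Nat.card (G ⧸ M) < n := by
        rw [← hn, ← Subgroup.index_eq_card]
        have h2 : Nat.card ↥M ≠ 1 := fun h => hMbot (Subgroup.card_eq_one.mp h)
        have h4 : 0 < Nat.card ↥M := Nat.card_pos
        have h3 : 0 < M.index := Nat.pos_of_ne_zero Subgroup.index_ne_zero_of_finite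
        have h5 : 2 ≤ Nat.card ↥M := by omega
        nlinarith
      have s1 := ih _ h1 ↥M rfl (h.normal hp M)
      have s2 := ih _ h2 (G ⧸ M) rfl (h.quotient hp M)
      apply Group.isSolvable_of_ker_le_range M.subtype (QuotientGroup.mk' M)
      rw [QuotientGroup.ker_mk', Subgroup.range_subtype]

theorem card_fitting_coprime {G : Type*} [Group G] [Finite G] {p : ℕ} (hp : p.Prime)
    (h : Cfsg.pCore p G = ⊥) : (Nat.card ↥(Cfsg.fittingSubgroup G)).Coprime p := by
  have h1 : Cfsg.fittingSubgroup G ≤ Cfsg.pPrimeCore p G := by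
    rw [H1.fitting_eq_iSup_pCore]
    apply iSup_le
    intro q
    by_cases hq : (q : ℕ) = p
    · rw [hq, h]
      exact bot_le
    · exact H1.pCore_le_pPrimeCore q.2 hp hq
  exact Nat.Coprime.coprime_dvd_left (Subgroup.card_dvd_of_le h1) (H1.card_pPrimeCore_coprime p)

theorem PRegHyp.comm_mem_pCore {G : Type*} [Group G] [Finite G] {p : ℕ} (hp : p.Prime)
    (h : PRegHyp p G) (hs : Group.IsSolvable G) (a b : G) (ha : (orderOf a).Coprime p)
    (hb : (orderOf b).Coprime p) : a * b * a⁻¹ * b⁻¹ ∈ Cfsg.pCore p G := by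
  have : Fact p.Prime := ⟨hp⟩
  set O := Cfsg.pCore p G with hO
  have hbot : Cfsg.pCore p (G ⧸ O) = ⊥ := H1.pCore_quotient_eq_bot p
  have hcop := card_fitting_coprime hp hbot
  set F := Cfsg.fittingSubgroup (G ⧸ O) with hF
  have hFn : F.Normal := H1.fitting_normal
  have key : ∀ c : G, (orderOf c).Coprime p →
      QuotientGroup.mk' O c ∈ Subgroup.centralizer (F : Set (G ⧸ O)) := by
    intro c hc
    obtain ⟨k, hk⟩ := h c hc
    have h1 := index_centralizer_map_dvd (QuotientGroup.mk' O) (QuotientGroup.mk'_surjective O) c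
    rw [hk] at h1
    have h2 : (Subgroup.centralizer ({QuotientGroup.mk' O c} : Set (G ⧸ O))).relIndex F ∣ p ^ k :=
      (H1.relIndex_dvd_index_of_normal_right _ F).trans h1
    have h3 : (Subgroup.centralizer ({QuotientGroup.mk' O c} : Set (G ⧸ O))).relIndex F ∣ Nat.card ↥F :=
      Subgroup.relIndex_dvd_card _ _
    have h4 : (Subgroup.centralizer ({QuotientGroup.mk' O c} : Set (G ⧸ O))).relIndex F = 1 :=
      Nat.Coprime.eq_one_of_dvd (Nat.Coprime.coprime_dvd_left h3 (Nat.Coprime.pow_right k hcop)) h2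
    rw [Subgroup.relIndex_eq_one] at h4
    rw [Subgroup.mem_centralizer_iff]
    intro f hf
    exact Subgroup.mem_centralizer_singleton_iff.mp (h4 hf)
  have ha' : QuotientGroup.mk' O a ∈ F := H1.centralizer_fitting_le (key a ha)
  have hb' := key b hb
  have hcomm : QuotientGroup.mk' O a * QuotientGroup.mk' O b = QuotientGroup.mk' O b * QuotientGroup.mk' O a :=
    Subgroup.mem_centralizer_iff.mp hb' _ ha'
  rw [← QuotientGroup.ker_mk' O, MonoidHom.mem_ker, map_mul, map_mul, map_mul, map_inv, map_inv, hcomm]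
  group

theorem PRegHyp.exists_complement {G : Type*} [Group G] [Finite G] {p : ℕ} (hp : p.Prime)
    (h : PRegHyp p G) :
    ∃ H : Subgroup G, IsMulCommutative H ∧ ¬ p ∣ Nat.card H ∧ ∃ k : ℕ, H.index = p ^ k := by
  have hs : Group.IsSolvable G := PRegHyp.solvable hp _ G rfl h
  obtain ⟨H, hH⟩ := H1.exists_p_complement G p hp
  have hnd : ¬ p ∣ Nat.card ↥H := by
    have h1 := H.card_mul_index
    rw [hH] at h1
    have h2 : Nat.card ↥H = Nat.card G / p ^ (Nat.card G).factorization p :=
      (Nat.div_eq_of_eq_mul_left (pow_pos hp.pos _) h1.symm).symm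
    rw [h2]
    exact Nat.not_dvd_ordCompl hp Nat.card_pos.ne'
  have hcop : ∀ a : ↥H, (orderOf (a : G)).Coprime p := by
    intro a
    rw [Subgroup.orderOf_coe]
    exact Nat.Coprime.coprime_dvd_left (orderOf_dvd_natCard a)
      ((Nat.Prime.coprime_iff_not_dvd hp).mpr hnd).symm
  refine ⟨H, ⟨⟨fun a b => ?_⟩⟩, hnd, _, hH⟩
  have h1 := h.comm_mem_pCore hp hs a b (hcop a) (hcop b)
  have h2 := hcop (a * b * a⁻¹ * b⁻¹)
  have h3 : (a : G) * b * (a : G)⁻¹ * (b : G)⁻¹ = 1 :=
    H5.eq_one_of_mem_pgroup_of_coprime (H1.pCore_isPGroup p) h1 h2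
  apply Subtype.ext
  push_cast
  rw [mul_inv_eq_one, mul_inv_eq_iff_eq_mul] at h3
  exact h3

end Cfsg.Agent.H2
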