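import Cfsg.Agent.Lib_helper4_CharL

set_option autoImplicit false
set_option linter.unusedSectionVars false
open Cfsg

namespace Cfsg.Agent.H2

open Cfsg.Agent.H4
open Module (finrank)
universe u v

section Cover
variable {G : Type u} [Group G] (N : Subgroup G) [hN : N.Normal] {V : Type v} [AddCommGroup V]
  [Module ℂ V] (ρ : Representation ℂ N V)

/-- pairs `(g, T)` with `T ρ(n) = ρ(g n g⁻¹) T`. -/
def interGrp : Subgroup (G × (Module.End ℂ V)ˣ) where
  carrier := {x | ∀ n : N, (x.2 : Module.End ℂ V) * ρ n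
    = ρ (MulAut.conjNormal x.1 n) * (x.2 : Module.End ℂ V)}
  one_mem' := by intro n; simp
  mul_mem' := by
    intro a b ha hb n
    simp only [Prod.snd_mul, Prod.fst_mul, Units.val_mul, map_mul, MulAut.mul_apply]
    rw [mul_assoc, hb n, ← mul_assoc, ha, mul_assoc]
  inv_mem' := by
    intro a ha n
    have h := ha (MulAut.conjNormal a.1⁻¹ n)
    rw [← MulAut.mul_apply, ← map_mul, mul_inv_cancel, map_one, MulAut.one_apply] at h
    simp only [Prod.snd_inv, Prod.fst_inv]
    calc ((a.2⁻¹ : (Module.End ℂ V)ˣ) : Module.End ℂ V) * ρ n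
        = ((a.2⁻¹ : (Module.End ℂ V)ˣ) : Module.End ℂ V) * (ρ n * (a.2 : Module.End ℂ V))
            * ((a.2⁻¹ : (Module.End ℂ V)ˣ) : Module.End ℂ V) := by
          rw [mul_assoc, mul_assoc, Units.mul_inv, mul_one]
      _ = _ := by rw [← h, ← mul_assoc, Units.inv_mul, one_mul]

theorem mem_interGrp (x : G × (Module.End ℂ V)ˣ) : x ∈ interGrp N ρ ↔
    ∀ n : N, (x.2 : Module.End ℂ V) * ρ n
      = ρ (MulAut.conjNormal x.1 n) * (x.2 : Module.End ℂ V) := Iff.rfl

/-- determinant on units -/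
noncomputable def detU : (Module.End ℂ V)ˣ →* ℂˣ := Units.map (LinearMap.det : Module.End ℂ V →* ℂ)

theorem detU_val (T : (Module.End ℂ V)ˣ) : ((detU T : ℂˣ) : ℂ) = LinearMap.det (T : Module.End ℂ V) := rfl

/-- scalars as units -/
noncomputable def scU : ℂˣ →* (Module.End ℂ V)ˣ :=
  Units.map ((algebraMap ℂ (Module.End ℂ V)) : ℂ →* Module.End ℂ V)

theorem scU_val (z : ℂˣ) : ((scU z : (Module.End ℂ V)ˣ) : Module.End ℂ V) = (z : ℂ) • (1 : Module.End ℂ V) := by
  show algebraMap ℂ (Module.End ℂ V) z = _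
  rw [Algebra.algebraMap_eq_smul_one]

theorem detU_scU [FiniteDimensional ℂ V] (z : ℂˣ) : detU (scU z : (Module.End ℂ V)ˣ) = z ^ finrank ℂ V := by
  apply Units.ext
  rw [detU_val, scU_val, LinearMap.det_smul, map_one, mul_one, Units.val_pow_eq_pow_val]

theorem scU_comm (z : ℂˣ) (T : (Module.End ℂ V)ˣ) : scU z * T = T * scU z := by
  apply Units.ext
  rw [Units.val_mul, Units.val_mul, scU_val]
  simp

theorem scU_mem (z : ℂˣ) : ((1 : G), (scU z : (Module.End ℂ V)ˣ)) ∈ interGrp N ρ := by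
  intro n
  simp only [map_one, MulAut.one_apply, scU_val]
  simp

/-- `ρ` as a homomorphism to units -/
noncomputable def rhoU : N →* (Module.End ℂ V)ˣ := MonoidHom.toHomUnits ρ

theorem rhoU_val (n : N) : ((rhoU N ρ n : (Module.End ℂ V)ˣ) : Module.End ℂ V) = ρ n := rfl

theorem rhoU_mem (n : N) : ((n : G), rhoU N ρ n) ∈ interGrp N ρ := by
  intro m
  simp only [rhoU_val]
  rw [← map_mul, ← map_mul]
  congr 1
  apply Subtype.ext
  simp [MulAut.conjNormal_apply]

theorem inter_one [FiniteDimensional ℂ V] [hρ : ρ.IsIrreducible] (S : (Module.End ℂ V)ˣ)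
    (hS : ((1 : G), S) ∈ interGrp N ρ) : ∃ z : ℂˣ, S = scU z := by
  obtain ⟨c, hc⟩ := schur_scalar ρ (S : Module.End ℂ V) (by
    intro n
    have := hS n
    simp only [map_one, MulAut.one_apply] at this
    exact this)
  have hV : Nontrivial V := ((irreducible_iff ρ).mp hρ).1
  have hc0 : c ≠ 0 := by
    rintro rfl
    rw [zero_smul] at hc
    have h1 := S.inv_mul
    rw [hc, mul_zero] at h1
    exact zero_ne_one h1
  refine ⟨Units.mk0 c hc0, ?_⟩
  apply Units.ext
  rw [scU_val, hc]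
  rfl

theorem exists_inter [Finite N] [FiniteDimensional ℂ V] (hV : finrank ℂ V ≠ 0)
    (hinv : ∀ (g : G) (n : N), ρ.character (MulAut.conjNormal g n) = ρ.character n)
    (g : G) (c : ℂˣ) : ∃ T : (Module.End ℂ V)ˣ, (g, T) ∈ interGrp N ρ ∧ detU T = c := by
  let ρg : Representation ℂ N V := ρ.comp (MulAut.conjNormal g : MulAut N).toMonoidHom
  have hchar : ρ.character = ρg.character := by
    funext n
    exact (hinv g n).symm
  obtain ⟨e⟩ := equiv_of_char_eq ρ ρg hchar
  have he : ∀ n : N, e.toLinearEquiv.toLinearMap ∘ₗ ρ n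
      = ρ (MulAut.conjNormal g n) ∘ₗ e.toLinearEquiv.toLinearMap := by
    intro n
    exact e.toIntertwiningMap.isIntertwining' n
  let T₀ : (Module.End ℂ V)ˣ := LinearMap.GeneralLinearGroup.ofLinearEquiv e.toLinearEquiv
  have hT₀ : ((T₀ : (Module.End ℂ V)ˣ) : Module.End ℂ V) = e.toLinearEquiv.toLinearMap := rfl
  obtain ⟨z, hz⟩ := IsAlgClosed.exists_pow_nat_eq (((c * (detU T₀)⁻¹ : ℂˣ)) : ℂ) (Nat.pos_of_ne_zero hV)
  have hz0 : z ≠ 0 := by
    rintro rfl
    rw [zero_pow hV] at hz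
    exact (Units.ne_zero _) hz.symm
  refine ⟨scU (Units.mk0 z hz0) * T₀, ?_, ?_⟩
  · have h1 : ((1 : G), (scU (Units.mk0 z hz0) : (Module.End ℂ V)ˣ)) * (g, T₀) ∈ interGrp N ρ := by
      apply (interGrp N ρ).mul_mem (scU_mem N ρ _)
      intro n
      exact he n
    simpa using h1
  · rw [map_mul, detU_scU]
    have h2 : (Units.mk0 z hz0) ^ finrank ℂ V = c * (detU T₀)⁻¹ := by
      apply Units.ext
      rw [Units.val_pow_eq_pow_val]
      exact hz
    rw [h2, inv_mul_cancel_right]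

/-- the cover attached to a subgroup `E` of `G × ℂˣ`. -/
noncomputable def cover (E : Subgroup (G × ℂˣ)) : Subgroup (G × (Module.End ℂ V)ˣ) :=
  interGrp N ρ ⊓ E.comap (MonoidHom.prodMap (MonoidHom.id G) detU)

theorem mem_cover (E : Subgroup (G × ℂˣ)) (x : G × (Module.End ℂ V)ˣ) :
    x ∈ cover N ρ E ↔ x ∈ interGrp N ρ ∧ (x.1, detU x.2) ∈ E := Iff.rfl

theorem cover_finite [Finite N] [FiniteDimensional ℂ V] [hρ : ρ.IsIrreducible]
    (hinv : ∀ (g : G) (n : N), ρ.character (MulAut.conjNormal g n) = ρ.character n)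
    (E : Subgroup (G × ℂˣ)) [Finite E] : Finite (cover N ρ E) := by
  have hV : Nontrivial V := ((irreducible_iff ρ).mp hρ).1
  have hd : finrank ℂ V ≠ 0 := (Module.finrank_pos (R := ℂ) (M := V)).ne'
  have : NeZero (finrank ℂ V) := ⟨hd⟩
  choose T hT1 hT2 using exists_inter N ρ hd hinv
  let F : E × rootsOfUnity (finrank ℂ V) ℂ → G × (Module.End ℂ V)ˣ :=
    fun p => (p.1.1.1, scU (p.2 : ℂˣ) * T p.1.1.1 p.1.1.2)
  have hsub : (cover N ρ E : Set (G × (Module.End ℂ V)ˣ)) ⊆ Set.range F := by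
    rintro ⟨g, S⟩ hx
    obtain ⟨h1, h2⟩ := (mem_cover N ρ E _).1 hx
    have h3 : ((1 : G), S * (T g (detU S))⁻¹) ∈ interGrp N ρ := by
      have := (interGrp N ρ).mul_mem h1 ((interGrp N ρ).inv_mem (hT1 g (detU S)))
      simpa using this
    obtain ⟨z, hz⟩ := inter_one N ρ _ h3
    have hz1 : z ^ finrank ℂ V = 1 := by
      rw [← detU_scU (V := V), ← hz, map_mul, map_inv, hT2, mul_inv_cancel]
    refine ⟨(⟨(g, detU S), h2⟩, ⟨z, (mem_rootsOfUnity _ _).2 hz1⟩), ?_⟩
    simp only [F]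
    rw [← hz, inv_mul_cancel_right]
  exact (Set.finite_range F).subset hsub

end Cover

section Cover2
variable {G : Type u} [Group G] (N : Subgroup G) [hN : N.Normal] {V : Type v} [AddCommGroup V]
  [Module ℂ V] (ρ : Representation ℂ N V) (E : Subgroup (G × ℂˣ))

/-- projection of the cover onto `G` -/
noncomputable def covProj : cover N ρ E →* G := (MonoidHom.fst G _).comp (cover N ρ E).subtype

/-- the tautological representation of the cover -/
noncomputable def covRep : Representation ℂ (cover N ρ E) V :=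
  (Units.coeHom (Module.End ℂ V)).comp ((MonoidHom.snd G _).comp (cover N ρ E).subtype)

/-- the determinant of the tautological representation -/
noncomputable def covDet : cover N ρ E →* ℂˣ :=
  detU.comp ((MonoidHom.snd G _).comp (cover N ρ E).subtype)

/-- the embedding of `N` in the cover -/
noncomputable def covIncl (hE2 : ∀ n : N, ((n : G), detU (rhoU N ρ n)) ∈ E) : N →* cover N ρ E where
  toFun n := ⟨((n : G), rhoU N ρ n), ⟨rhoU_mem N ρ n, hE2 n⟩⟩
  map_one' := by
    apply Subtype.ext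
    simp
  map_mul' a b := by
    apply Subtype.ext
    simp

theorem covProj_apply (x : cover N ρ E) : covProj N ρ E x = x.1.1 := rfl
theorem covRep_apply (x : cover N ρ E) : covRep N ρ E x = (x.1.2 : Module.End ℂ V) := rfl
theorem covDet_apply (x : cover N ρ E) : covDet N ρ E x = detU x.1.2 := rfl

theorem covDet_val (x : cover N ρ E) : ((covDet N ρ E x : ℂˣ) : ℂ) = LinearMap.det (covRep N ρ E x) := rfl

theorem covDet_mem (x : cover N ρ E) : (covProj N ρ E x, covDet N ρ E x) ∈ E := x.2.2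

theorem covProj_covIncl (hE2 : ∀ n : N, ((n : G), detU (rhoU N ρ n)) ∈ E) (n : N) :
    covProj N ρ E (covIncl N ρ E hE2 n) = n := rfl

theorem covRep_covIncl (hE2 : ∀ n : N, ((n : G), detU (rhoU N ρ n)) ∈ E) (n : N) :
    covRep N ρ E (covIncl N ρ E hE2 n) = ρ n := rfl

theorem covProj_surjective [Finite N] [FiniteDimensional ℂ V] (hV : finrank ℂ V ≠ 0)
    (hinv : ∀ (g : G) (n : N), ρ.character (MulAut.conjNormal g n) = ρ.character n)
    (hE1 : ∀ g : G, ∃ c : ℂˣ, (g, c) ∈ E) : Function.Surjective (covProj N ρ E) := by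
  intro g
  obtain ⟨c, hc⟩ := hE1 g
  obtain ⟨T, hT1, hT2⟩ := exists_inter N ρ hV hinv g c
  exact ⟨⟨(g, T), ⟨hT1, by show (g, detU T) ∈ E; rw [hT2]; exact hc⟩⟩, rfl⟩

theorem covRep_irreducible (hρ : ρ.IsIrreducible)
    (hE2 : ∀ n : N, ((n : G), detU (rhoU N ρ n)) ∈ E) : (covRep N ρ E).IsIrreducible := by
  rw [H4.irreducible_iff] at hρ ⊢
  refine ⟨hρ.1, fun W hW => hρ.2 W ?_⟩
  intro n v hv
  exact hW (covIncl N ρ E hE2 n) v hv

theorem covKer [FiniteDimensional ℂ V] [hρ : ρ.IsIrreducible] (x : cover N ρ E)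
    (hx : covProj N ρ E x = 1) : ∃ z : ℂˣ, x.1 = (1, scU z) := by
  have h1 : ((1 : G), x.1.2) ∈ interGrp N ρ := by
    have := x.2.1
    rw [covProj_apply] at hx
    rw [← hx]
    exact this
  obtain ⟨z, hz⟩ := inter_one N ρ _ h1
  exact ⟨z, Prod.ext hx hz⟩

theorem covKer_le_center [FiniteDimensional ℂ V] [hρ : ρ.IsIrreducible] :
    (covProj N ρ E).ker ≤ Subgroup.center (cover N ρ E) := by
  intro x hx
  obtain ⟨z, hz⟩ := covKer N ρ E x hx
  rw [Subgroup.mem_center_iff]
  intro y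
  apply Subtype.ext
  rw [Subgroup.coe_mul, Subgroup.coe_mul, hz]
  apply Prod.ext
  · simp
  · simp only [Prod.snd_mul]
    exact (scU_comm z _).symm

theorem covIncl_range_normal (hE2 : ∀ n : N, ((n : G), detU (rhoU N ρ n)) ∈ E) :
    (covIncl N ρ E hE2).range.Normal := by
  constructor
  rintro _ ⟨n, rfl⟩ x
  refine ⟨MulAut.conjNormal x.1.1 n, ?_⟩
  apply Subtype.ext
  apply Prod.ext
  · simp [covIncl, MulAut.conjNormal_apply]
  · apply Units.ext
    have h1 := x.2.1 n
    simp only [covIncl, MonoidHom.coe_mk, OneHom.coe_mk, Subgroup.coe_mul, Prod.snd_mul,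
      Units.val_mul, rhoU_val, InvMemClass.coe_inv, Prod.snd_inv]
    rw [h1, mul_assoc, Units.mul_inv, mul_one]

end Cover2

end Cfsg.Agent.H2
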