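import Mathlib
import Cfsg.Agent.Lib_helper4_CharE
import Cfsg.Agent.Lib_helper1_Transfer2

set_option autoImplicit false

namespace Cfsg.Agent.H3
open Subgroup

/-- homomorphisms to `ℂˣ` as complex functions -/
noncomputable def homToFun (G : Type*) [Group G] : (G →* ℂˣ) →* (G → ℂ) where
  toFun F := fun g => (F g : ℂ)
  map_one' := by ext; simp
  map_mul' a b := by ext; simp

theorem homToFun_injective (G : Type*) [Group G] : Function.Injective (homToFun G) := by
  intro a b h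
  ext g
  exact congrFun h g

theorem orderOf_homToFun {G : Type*} [Group G] (F : G →* ℂˣ) :
    orderOf (fun g => (F g : ℂ)) = orderOf F :=
  orderOf_injective (homToFun G) (homToFun_injective G) F

theorem orderOf_linear {G : Type*} [Group G] {χ : G → ℂ} (h : Cfsg.IsCharacter G χ) (h1 : χ 1 = 1) :
    orderOf χ = orderOf (H4.linearHom h h1) :=
  orderOf_homToFun (H4.linearHom h h1)

/-- the transfer of `ν : H →* A` restricted to a normal subgroup `N ≤ H` of `G` on which `ν` is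
`G`-invariant -/
theorem transfer_restrict {G A : Type*} [Group G] [CommGroup A] (N H : Subgroup G) [hN : N.Normal]
    [H.FiniteIndex] (hNH : N ≤ H) (ν : H →* A)
    (hinv : ∀ (g : G) (n : N), ν ⟨g * n * g⁻¹, hNH (hN.conj_mem n n.2 g)⟩ = ν ⟨n, hNH n.2⟩)
    (n : N) : MonoidHom.transfer ν (n : G) = ν ⟨n, hNH n.2⟩ ^ H.index := by
  apply H1.transfer_eq_pow_of_conj ν ⟨n, hNH n.2⟩
  intro k x hx
  have h1 := hinv x⁻¹ (n ^ k)
  rw [← map_pow]
  have e1 : (⟨x⁻¹ * ((⟨n, hNH n.2⟩ : H) : G) ^ k * x, hx⟩ : H)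
      = ⟨x⁻¹ * ((n ^ k : N) : G) * x⁻¹⁻¹, hNH (hN.conj_mem _ (n ^ k).2 x⁻¹)⟩ := by
    apply Subtype.ext
    simp
  have e2 : (⟨n, hNH n.2⟩ : H) ^ k = ⟨((n ^ k : N) : G), hNH (n ^ k).2⟩ := by
    apply Subtype.ext
    simp
  rw [e1, e2, h1]

/-- an invariant homomorphism `N →* A` extends to `G` if it extends to subgroups of index
prime to `p` for each prime `p` dividing its order -/
theorem exists_extension_of_sylow {G A : Type*} [Group G] [Finite G] [CommGroup A] (N : Subgroup G)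
    [hN : N.Normal] (f : N →* A)
    (hinv : ∀ (g : G) (n : N), f ⟨g * n * g⁻¹, hN.conj_mem n n.2 g⟩ = f n)
    (h : ∀ p : ℕ, p.Prime → p ∣ orderOf f → ∃ (H : Subgroup G) (hNH : N ≤ H) (ν : H →* A),
      Nat.Coprime H.index p ∧ ∀ n : N, ν ⟨n, hNH n.2⟩ = f n) :
    ∃ μ : G →* A, ∀ n : N, μ n = f n := by
  let I : AddSubgroup ℤ :=
    { carrier := {k | ∃ μ : G →* A, ∀ n : N, μ n = f n ^ k}
      zero_mem' := ⟨1, fun n => by simp⟩
      add_mem' := by
        rintro a b ⟨μ, hμ⟩ ⟨μ', hμ'⟩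
        exact ⟨μ * μ', fun n => by rw [MonoidHom.mul_apply, hμ, hμ', zpow_add]⟩
      neg_mem' := by
        rintro a ⟨μ, hμ⟩
        exact ⟨μ⁻¹, fun n => by rw [MonoidHom.inv_apply, hμ, zpow_neg]⟩ }
  have hmI : (orderOf f : ℤ) ∈ I := ⟨1, fun n => by
    rw [zpow_natCast, ← MonoidHom.pow_apply, pow_orderOf_eq_one]; simp⟩
  obtain ⟨d, hd⟩ := Int.subgroup_cyclic I
  have hdvd : ∀ k ∈ I, d ∣ k := by
    intro k hk
    rw [hd, AddSubgroup.mem_closure_singleton] at hk
    obtain ⟨c, hc⟩ := hk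
    exact ⟨c, by rw [← hc]; simp [mul_comm]⟩
  have hd1 : d.natAbs = 1 := by
    by_contra hne
    obtain ⟨q, hq, hqd⟩ := Nat.exists_prime_and_dvd hne
    have hqd' : (q : ℤ) ∣ d := Int.natCast_dvd.2 hqd
    have hqm : q ∣ orderOf f := Int.natCast_dvd_natCast.1 (hqd'.trans (hdvd _ hmI))
    obtain ⟨H, hNH, ν, hcop, hν⟩ := h q hq hqm
    have hrI : (H.index : ℤ) ∈ I := by
      refine ⟨MonoidHom.transfer ν, fun n => ?_⟩
      rw [transfer_restrict N H hNH ν (fun g n => by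
        rw [hν n, ← hinv g n]; exact hν ⟨g * n * g⁻¹, hN.conj_mem n n.2 g⟩) n, hν,
        zpow_natCast]
    have hqr : q ∣ H.index := Int.natCast_dvd_natCast.1 (hqd'.trans (hdvd _ hrI))
    have := Nat.eq_one_of_dvd_coprimes hcop hqr dvd_rfl
    exact hq.one_lt.ne' this
  have h1I : (1 : ℤ) ∈ I := by
    have hdI : d ∈ I := by rw [hd]; exact AddSubgroup.mem_closure_singleton_self d
    rcases Int.natAbs_eq d with h' | h'
    · rw [hd1] at h'; rw [h'] at hdI; exact hdI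
    · rw [hd1] at h'; rw [h'] at hdI
      have := I.neg_mem hdI
      simpa using this
  obtain ⟨μ, hμ⟩ := h1I
  exact ⟨μ, fun n => by rw [hμ, zpow_one]⟩

/-- an invariant homomorphism of order prime to the index has a unique extension of order
prime to the index -/
theorem exists_unique_extension_coprime {G A : Type*} [Group G] [Finite G] [CommGroup A]
    (N : Subgroup G) [hN : N.Normal] (f : N →* A)
    (hinv : ∀ (g : G) (n : N), f ⟨g * n * g⁻¹, hN.conj_mem n n.2 g⟩ = f n)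
    (hcop : Nat.Coprime N.index (orderOf f)) :
    ∃ μ : G →* A, (∀ n : N, μ n = f n) ∧ orderOf μ = orderOf f ∧
      ∀ μ' : G →* A, (∀ n : N, μ' n = f n) → Nat.Coprime N.index (orderOf μ') → μ' = μ := by
  set r := N.index with hr
  set m := orderOf f with hm
  have hfm : ∀ n : N, f n ^ m = 1 := fun n => by
    rw [← MonoidHom.pow_apply, hm, pow_orderOf_eq_one]; simp
  have hF : ∀ n : N, MonoidHom.transfer f (n : G) = f n ^ r := fun n =>
    transfer_restrict N N le_rfl f hinv n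
  have hbez : (r : ℤ) * Nat.gcdA r m + (m : ℤ) * Nat.gcdB r m = 1 := by
    have := Nat.gcd_eq_gcd_ab r m
    rw [Nat.Coprime.gcd_eq_one hcop] at this
    exact_mod_cast this.symm
  set a := Nat.gcdA r m with ha
  set b := Nat.gcdB r m with hb
  have hpow : ∀ n : N, f n ^ ((r : ℤ) * a) = f n := fun n => by
    have h1 : (r : ℤ) * a = 1 - (m : ℤ) * b := by linarith
    rw [h1, zpow_sub, zpow_one, zpow_mul, zpow_natCast, hfm, one_zpow, inv_one, mul_one]
  have hμ₀ : ∀ n : N, (MonoidHom.transfer f ^ a) (n : G) = f n := fun n => by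
    rw [MonoidHom.zpow_apply, hF, ← zpow_natCast, ← zpow_mul, hpow]
  set μ₀ : G →* A := MonoidHom.transfer f ^ a with hμ₀def
  have hmemN : ∀ g : G, g ^ r ∈ N := fun g => N.pow_index_mem g
  have hμ : ∀ n : N, (μ₀ ^ ((r : ℤ) * a)) (n : G) = f n := fun n => by
    rw [MonoidHom.zpow_apply, hμ₀, hpow]
  have htriv : ∀ δ : G →* A, (∀ n : N, δ n = 1) → δ ^ r = 1 := by
    intro δ hδ
    ext g
    rw [MonoidHom.pow_apply, ← map_pow]
    exact hδ ⟨g ^ r, hmemN g⟩
  have hμm : (μ₀ ^ ((r : ℤ) * a)) ^ m = 1 := by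
    have h1 : (μ₀ ^ m) ^ r = 1 := htriv _ (fun n => by rw [MonoidHom.pow_apply, hμ₀, hfm])
    rw [← zpow_natCast, ← zpow_mul, mul_comm, ← mul_assoc, zpow_mul, zpow_mul, zpow_natCast,
      zpow_natCast, h1, one_zpow]
  have hord : orderOf (μ₀ ^ ((r : ℤ) * a)) = m := by
    apply Nat.dvd_antisymm (orderOf_dvd_of_pow_eq_one hμm)
    rw [hm]
    apply orderOf_dvd_of_pow_eq_one
    ext n
    rw [MonoidHom.pow_apply, ← hμ n, ← MonoidHom.pow_apply, pow_orderOf_eq_one]
    simp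
  refine ⟨μ₀ ^ ((r : ℤ) * a), hμ, hord, ?_⟩
  intro μ' hμ' hcop'
  set μ := μ₀ ^ ((r : ℤ) * a) with hμdef
  have h1 : (μ' * μ⁻¹) ^ r = 1 := htriv _ (fun n => by
    rw [MonoidHom.mul_apply, MonoidHom.inv_apply, hμ', hμ, mul_inv_cancel])
  have h2 : (μ' * μ⁻¹) ^ (orderOf μ' * m) = 1 := by
    rw [mul_pow, pow_mul, pow_orderOf_eq_one, one_pow, one_mul, inv_pow, mul_comm, pow_mul, hμm,
      one_pow, inv_one]
  have h3 : orderOf (μ' * μ⁻¹) = 1 :=
    Nat.eq_one_of_dvd_coprimes (Nat.Coprime.mul_right hcop' hcop) (orderOf_dvd_of_pow_eq_one h1)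
      (orderOf_dvd_of_pow_eq_one h2)
  rw [orderOf_eq_one_iff] at h3
  exact mul_inv_eq_one.1 h3

end Cfsg.Agent.H3
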