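import Mathlib
import Cfsg.Prelude.Def_CharExt
import Cfsg.Agent.Lib_helper4_CharL
import Cfsg.Agent.Lib_helper3_LinExt

set_option autoImplicit false

namespace Cfsg.Agent.H3
open Subgroup
universe u v

section
variable {G : Type u} [Group G]

/-- the determinantal character can be computed from any representation -/
theorem detChar_rep [Finite G] {V : Type v} [AddCommGroup V] [Module ℂ V] [FiniteDimensional ℂ V]
    (ρ : Representation ℂ G V) : Cfsg.detChar ρ.character = fun g => LinearMap.det (ρ g) := by
  have h : Cfsg.IsCharacter G ρ.character := H4.isCharacter_of_rep ρ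
  unfold Cfsg.detChar
  rw [dif_pos h]
  funext g
  have hσ : (Classical.choose (Classical.choose_spec h)).character = ρ.character :=
    Classical.choose_spec (Classical.choose_spec h)
  obtain ⟨e⟩ := H4.equiv_of_char_eq _ ρ hσ
  have h1 := e.isIntertwining' g
  have h2 : ρ g = (e.toLinearEquiv : _ →ₗ[ℂ] V) ∘ₗ (Classical.choose (Classical.choose_spec h)) g ∘ₗ
      (e.toLinearEquiv.symm : V →ₗ[ℂ] _) := by
    ext v
    have h3 := LinearMap.congr_fun h1 (e.toLinearEquiv.symm v)
    simp only [LinearMap.comp_apply] at h3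
    simp only [LinearMap.comp_apply, LinearEquiv.coe_coe]
    have h4 : e.toLinearMap (e.toLinearEquiv.symm v) = v := e.toLinearEquiv.apply_symm_apply v
    rw [h4] at h3
    exact h3.symm
  rw [h2, LinearMap.det_conj]

/-- the determinant homomorphism of a representation -/
noncomputable def detHom {V : Type v} [AddCommGroup V] [Module ℂ V]
    (ρ : Representation ℂ G V) : G →* ℂˣ := (LinearMap.det.comp ρ).toHomUnits

theorem detHom_apply {V : Type v} [AddCommGroup V] [Module ℂ V]
    (ρ : Representation ℂ G V) (g : G) : ((detHom ρ g : ℂˣ) : ℂ) = LinearMap.det (ρ g) := rfl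

theorem detChar_eq_hom [Finite G] {χ : G → ℂ} (h : Cfsg.IsCharacter G χ) :
    ∃ F : G →* ℂˣ, Cfsg.detChar χ = fun g => (F g : ℂ) := by
  obtain ⟨n, ρ, rfl⟩ := h
  exact ⟨detHom ρ, detChar_rep ρ⟩

theorem detChar_comp [Finite G] {H : Type v} [Group H] [Finite H] (f : H →* G) {χ : G → ℂ}
    (h : Cfsg.IsCharacter G χ) :
    Cfsg.detChar (fun x => χ (f x)) = fun x => Cfsg.detChar χ (f x) := by
  obtain ⟨n, ρ, rfl⟩ := h
  let σ : Representation ℂ H (Fin n → ℂ) := ρ.comp f
  have h1 : (fun x => ρ.character (f x)) = σ.character := rfl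
  rw [h1, detChar_rep, detChar_rep]
  rfl

theorem detChar_linear_mul [Finite G] (B : G →* ℂˣ) {χ : G → ℂ} (h : Cfsg.IsCharacter G χ)
    (d : ℕ) (hd : χ 1 = d) :
    Cfsg.detChar (fun g => (B g : ℂ) * χ g) = fun g => (B g : ℂ) ^ d * Cfsg.detChar χ g := by
  obtain ⟨n, ρ, rfl⟩ := h
  rw [Representation.char_one] at hd
  have hn : n = d := by
    have : Module.finrank ℂ (Fin n → ℂ) = d := by exact_mod_cast hd
    simpa using this
  let τ : Representation ℂ G (Fin n → ℂ) :=
    { toFun := fun g => (B g : ℂ) • ρ g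
      map_one' := by simp
      map_mul' := fun a b => by
        rw [map_mul, map_mul, Units.val_mul, smul_mul_smul_comm] }
  have h1 : (fun g => (B g : ℂ) * ρ.character g) = τ.character := by
    funext g
    simp [Representation.character, τ]
  rw [h1, detChar_rep, detChar_rep]
  funext g
  change LinearMap.det ((B g : ℂ) • ρ g) = _
  rw [LinearMap.det_smul]
  simp [hn]

/-- a hom trivial on `N` is killed by the index -/
theorem pow_index_eq_one_of_trivial {A : Type*} [CommGroup A] (N : Subgroup G) [N.Normal]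
    (δ : G →* A) (hδ : ∀ n : N, δ n = 1) : δ ^ N.index = 1 := by
  ext g
  rw [MonoidHom.pow_apply, ← map_pow]
  exact hδ ⟨g ^ N.index, N.pow_index_mem g⟩

end

end Cfsg.Agent.H3
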