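import Cfsg.Agent.Lib_helper2_Proj
import Cfsg.Agent.Lib_helper3_Det

set_option autoImplicit false
set_option linter.unusedSectionVars false
open Cfsg

namespace Cfsg.Agent.H2

open Cfsg.Agent.H4
open Module (finrank)
universe u v

/-- The finite central cover of `G` on which an invariant irreducible character of `N` extends. -/
theorem exists_cover {G : Type u} [Group G] [Finite G] (N : Subgroup G) [hN : N.Normal] (θ : N → ℂ)
    (hθ : IsIrrCharacter N θ)
    (hinv : ∀ (g : G) (n : N), θ ⟨g * n * g⁻¹, hN.conj_mem (n : G) n.2 g⟩ = θ n)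
    (d : ℕ) (hd : θ 1 = d)
    (E : Subgroup (G × ℂˣ)) [Finite E] (hE1 : ∀ g : G, ∃ c : ℂˣ, (g, c) ∈ E)
    (hE2 : ∀ (n : N) (c : ℂˣ), (c : ℂ) = detChar θ n → ((n : G), c) ∈ E) :
    ∃ (Γ : Type u) (_ : Group Γ) (_ : Finite Γ) (π : Γ →* G) (ι : N →* Γ) (η : Γ → ℂ) (D : Γ →* ℂˣ),
      Function.Surjective π ∧ (∀ n, π (ι n) = n) ∧ ι.range.Normal ∧ π.ker ≤ Subgroup.center Γ ∧
      IsIrrCharacter Γ η ∧ (∀ n, η (ι n) = θ n) ∧ (∀ x, detChar η x = D x) ∧ (∀ x, (π x, D x) ∈ E) ∧
      (∀ x ∈ π.ker, ∃ z : ℂˣ, D x = z ^ d ∧ ∀ k : ℕ, z ^ k = 1 → x ^ k = 1) := by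
  obtain ⟨m, ρ, hρ, rfl⟩ := hθ
  have hV : Nontrivial (Fin m → ℂ) := ((H4.irreducible_iff ρ).mp hρ).1
  have hm : finrank ℂ (Fin m → ℂ) ≠ 0 := (Module.finrank_pos (R := ℂ) (M := Fin m → ℂ)).ne'
  have hmd : finrank ℂ (Fin m → ℂ) = d := by
    rw [Representation.char_one] at hd
    exact_mod_cast hd
  have hinv' : ∀ (g : G) (n : N), ρ.character (MulAut.conjNormal g n) = ρ.character n := by
    intro g n
    rw [← hinv g n]
    congr 1
  have hE2' : ∀ n : N, ((n : G), detU (rhoU N ρ n)) ∈ E := by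
    intro n
    apply hE2
    rw [H3.detChar_rep ρ]
    rfl
  have hfin : Finite (cover N ρ E) := cover_finite N ρ hinv' E
  refine ⟨cover N ρ E, inferInstance, hfin, covProj N ρ E, covIncl N ρ E hE2',
    (covRep N ρ E).character, covDet N ρ E, covProj_surjective N ρ E hm hinv' hE1,
    covProj_covIncl N ρ E hE2', covIncl_range_normal N ρ E hE2', covKer_le_center N ρ E,
    isIrrCharacter_of_rep _ (covRep_irreducible N ρ E hρ hE2'), ?_, ?_, covDet_mem N ρ E, ?_⟩
  · intro n
    rfl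
  · intro x
    rw [H3.detChar_rep (covRep N ρ E)]
    rfl
  · intro x hx
    obtain ⟨z, hz⟩ := covKer N ρ E x hx
    refine ⟨z, ?_, ?_⟩
    · rw [covDet_apply, hz, ← hmd]
      exact detU_scU z
    · intro k hk
      apply Subtype.ext
      rw [Subgroup.coe_pow, hz]
      apply Prod.ext
      · simp
      · simp only [Prod.pow_snd, ← map_pow, hk, map_one]
        rfl

/-- Isaacs 11.29, invariant case. -/
theorem degree_ratio_invariant {G : Type u} [Group G] [Finite G] (N : Subgroup G) [hN : N.Normal]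
    (θ : N → ℂ) (hθ : IsIrrCharacter N θ)
    (hinv : ∀ (g : G) (n : N), θ ⟨g * n * g⁻¹, hN.conj_mem (n : G) n.2 g⟩ = θ n)
    [Fintype N] (χ : G → ℂ) (hχ : IsIrrCharacter G χ)
    (hcon : classInner (fun n : N => χ n) θ ≠ 0) :
    ∃ e : ℕ, χ 1 = e * θ 1 ∧ e ∣ N.index := by
  classical
  obtain ⟨d, hd0, -, hd⟩ := IsIrrCharacter.exists_degree hθ
  have hNpos : NeZero (Nat.card N) := ⟨Nat.card_pos.ne'⟩
  let E : Subgroup (G × ℂˣ) := (⊤ : Subgroup G).prod (rootsOfUnity (Nat.card N) ℂ)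
  have hEfin : Finite E := Finite.of_equiv _ (Subgroup.prodEquiv _ _).symm.toEquiv
  obtain ⟨F, hF⟩ := H3.detChar_eq_hom (IsIrrCharacter.isCharacter hθ)
  obtain ⟨Γ, _, _, π, ι, η, D, hπ, hπι, hιn, hker, hη, hηι, -, -, -⟩ :=
    exists_cover N θ hθ hinv d hd E (fun g => ⟨1, Subgroup.mem_prod.2 ⟨trivial, one_mem _⟩⟩) (by
      intro n c hc
      refine Subgroup.mem_prod.2 ⟨trivial, ?_⟩
      rw [hF] at hc
      have hc' : c = F n := Units.ext hc
      show c ∈ rootsOfUnity (Nat.card N) ℂ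
      rw [mem_rootsOfUnity, hc', ← map_pow, pow_card_eq_one', map_one])
  have := Fintype.ofFinite Γ
  have := Fintype.ofFinite ι.range
  have hιinj : Function.Injective ι := by
    intro a b hab
    have := congrArg π hab
    rw [hπι, hπι] at this
    exact Subtype.ext this
  let e : N ≃* ι.range := MonoidHom.ofInjective hιinj
  have he : ∀ n : N, ((e n : ι.range) : Γ) = ι n := fun n => rfl
  -- the restriction of `η` is irreducible
  have hηres : (fun m : ι.range => η m) = fun m : ι.range => θ (e.symm m) := by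
    funext m
    obtain ⟨n, rfl⟩ := e.surjective m
    rw [he, hηι, e.symm_apply_apply]
  have hηN : IsIrrCharacter ι.range (fun m : ι.range => η m) := by
    rw [hηres]
    exact IsIrrCharacter.comp_surj e.symm.toMonoidHom e.symm.surjective hθ
  have hχ' : IsIrrCharacter Γ (fun x => χ (π x)) := IsIrrCharacter.comp_surj π hπ hχ
  have hχres : (fun m : ι.range => χ (π m)) = fun m : ι.range => (fun n : N => χ n) (e.symm m) := by
    funext m
    obtain ⟨n, rfl⟩ := e.surjective m
    rw [he, hπι, e.symm_apply_apply]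
  have hcon' : classInner (fun m : ι.range => (fun x => χ (π x)) m) (fun m : ι.range => η m) ≠ 0 := by
    rw [hηres]
    show classInner (fun m : ι.range => χ (π m)) _ ≠ 0
    rw [hχres, classInner_equiv e.symm (fun n : N => χ n) θ]
    exact hcon
  obtain ⟨β, hβ, hβk, hβχ⟩ := (gallagher ι.range η hη hηN).2.2 _ hχ' hcon'
  obtain ⟨m, τ, hτ, rfl⟩ := hβ
  have hfr : finrank ℂ (Fin m → ℂ) = m := by simp
  refine ⟨m, ?_, ?_⟩
  · have h1 := congrFun hβχ 1
    simp only [Pi.mul_apply, map_one] at h1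
    rw [h1, Representation.char_one, hfr, ← hηι 1, map_one]
  · have h2 := finrank_dvd_index_of_scalar τ (N.comap π) (by
      intro x hx
      set n : N := ⟨π x, hx⟩ with hn
      have hc : (ι n)⁻¹ * x ∈ π.ker := by
        rw [MonoidHom.mem_ker, map_mul, map_inv, hπι]
        simp [hn]
      obtain ⟨c1, hc1⟩ := (norm_char_eq_iff τ (ι n)).mp (by
        rw [hβk (ι n) ⟨n, rfl⟩, Representation.char_one]
        simp)
      obtain ⟨c2, hc2⟩ := schur_scalar τ (τ ((ι n)⁻¹ * x)) (by
        intro g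
        rw [← Module.End.mul_eq_comp, ← Module.End.mul_eq_comp, ← map_mul, ← map_mul,
          Subgroup.mem_center_iff.mp (hker hc) g])
      refine ⟨c1 * c2, ?_⟩
      have h3 : x = ι n * ((ι n)⁻¹ * x) := by group
      rw [h3, map_mul, hc1, hc2]
      ext v
      simp [mul_smul]
      ring)
    rw [hfr, Subgroup.index_comap_of_surjective N hπ] at h2
    exact h2

/-- Isaacs 11.29. -/
theorem degree_ratio {G : Type u} [Group G] [Finite G] (N : Subgroup G) [hN : N.Normal]
    (θ : N → ℂ) (hθ : IsIrrCharacter N θ)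
    [Fintype N] (χ : G → ℂ) (hχ : IsIrrCharacter G χ)
    (hcon : classInner (fun n : N => χ n) θ ≠ 0) :
    ∃ e : ℕ, χ 1 = e * θ 1 ∧ e ∣ N.index := by
  classical
  have := Fintype.ofFinite G
  set T := inertia hN θ with hT
  have hNT : N ≤ T := le_inertia hN (IsCharacter.isClassFunction (IsIrrCharacter.isCharacter hθ))
  obtain ⟨ψ, hψ, hind, hψcon⟩ := clifford_corr_surj N hN θ hθ T (mem_inertia' hN _) hNT χ hχ hcon
  let e : N.subgroupOf T ≃* N := Subgroup.subgroupOfEquivOfLe hNT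
  have he : ∀ x : N.subgroupOf T, ((e x : N) : G) = ((x : T) : G) := fun x => rfl
  have hθ' : IsIrrCharacter (N.subgroupOf T) (fun x => θ (e x)) :=
    IsIrrCharacter.comp_surj e.toMonoidHom e.surjective hθ
  have := Fintype.ofFinite (N.subgroupOf T)
  obtain ⟨k, hk1, hk2⟩ := degree_ratio_invariant (N.subgroupOf T) (fun x => θ (e x)) hθ' (by
      intro g n
      have h1 := (mem_inertia' hN θ (g : G)).1 g.2 (e n)
      rw [← h1]
      congr 1) ψ hψ (by
      have h2 : (fun n : N.subgroupOf T => ψ n)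
          = fun n : N.subgroupOf T => (fun n : N => ψ ⟨(n : G), hNT n.2⟩) (e n) := by
        funext n
        rfl
      rw [h2, classInner_equiv e (fun n : N => ψ ⟨(n : G), hNT n.2⟩) θ, hψcon]
      exact hcon)
  refine ⟨T.index * k, ?_, ?_⟩
  · rw [← hind, indFun_apply_one, hk1, map_one]
    push_cast
    ring
  · rw [← Subgroup.relIndex_mul_index hNT, mul_comm]
    exact Nat.mul_dvd_mul_right hk2 _

end Cfsg.Agent.H2
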