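import Mathlib
import Cfsg.Agent.Lib_helper4_CharL
import Cfsg.Agent.Lib_helper1_Frattini

set_option autoImplicit false
open Cfsg

namespace Cfsg.Agent.H3

/-- orbit-wise divisibility of an invariant integer weight -/
theorem dvd_sum_of_orbit {L X : Type*} [Group L] [MulAction L X] [Fintype X]
    (w : X → ℤ) (hinv : ∀ (l : L) (x : X), w (l • x) = w x) (m : ℤ)
    (h : ∀ x, m ∣ (Nat.card (MulAction.orbit L x) : ℤ) * w x) : m ∣ ∑ x, w x := by
  classical
  rw [Finset.sum_partition (MulAction.orbitRel L X)]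
  apply Finset.dvd_sum
  intro xbar _
  induction xbar using Quotient.inductionOn with
  | h x =>
    have h1 : ∀ y ∈ Finset.univ.filter (fun y : X => (Quotient.mk (MulAction.orbitRel L X) y) = Quotient.mk _ x), w y = w x := by
      intro y hy
      rw [Finset.mem_filter] at hy
      have := Quotient.exact hy.2
      obtain ⟨l, rfl⟩ := this
      exact hinv l x
    rw [Finset.sum_congr rfl h1, Finset.sum_const, nsmul_eq_mul]
    have h2 : (Finset.univ.filter (fun y : X => (Quotient.mk (MulAction.orbitRel L X) y) = Quotient.mk _ x)).card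
        = Nat.card (MulAction.orbit L x) := by
      rw [Nat.card_eq_fintype_card, Fintype.card_subtype]
      congr 1
      ext y
      simp only [Finset.mem_filter, Finset.mem_univ, true_and]
      rw [Quotient.eq]
      rfl
    rw [h2]
    exact h x

theorem sum_sign_hom {G : Type*} [Group G] [Fintype G] (l : G →* ℤˣ) (hl : l ≠ 1) :
    ∑ g, ((l g : ℤˣ) : ℤ) = 0 := by
  have : ∃ g0, l g0 ≠ 1 := by
    by_contra h
    push Not at h
    exact hl (MonoidHom.ext h)
  obtain ⟨g0, hg0⟩ := this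
  have h1 : l g0 = -1 := (Int.units_eq_one_or (l g0)).resolve_left hg0
  have h2 : ∑ g, ((l g : ℤˣ) : ℤ) = ∑ g, ((l (g0 * g) : ℤˣ) : ℤ) :=
    (Equiv.sum_comp (Equiv.mulLeft g0) (fun g => ((l g : ℤˣ) : ℤ))).symm
  have h3 : ∑ g, ((l (g0 * g) : ℤˣ) : ℤ) = - ∑ g, ((l g : ℤˣ) : ℤ) := by
    rw [← Finset.sum_neg_distrib]
    apply Finset.sum_congr rfl
    intro g _
    rw [map_mul, h1]
    simp
  omega

theorem sum_subgroup_sign {G : Type*} [Group G] (S : Subgroup (G →* ℤˣ)) [Fintype S] (g : G) :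
    ((∀ l ∈ S, l g = 1) ∧ ∑ l : S, (((l : G →* ℤˣ) g : ℤˣ) : ℤ) = Fintype.card S) ∨
    ((¬ ∀ l ∈ S, l g = 1) ∧ ∑ l : S, (((l : G →* ℤˣ) g : ℤˣ) : ℤ) = 0) := by
  by_cases h : ∀ l ∈ S, l g = 1
  · left
    refine ⟨h, ?_⟩
    have h1 : ∀ l : S, (((l : G →* ℤˣ) g : ℤˣ) : ℤ) = 1 := fun l => by rw [h l.1 l.2]; rfl
    simp [h1]
  · right
    refine ⟨h, ?_⟩
    push Not at h
    obtain ⟨l0, hl0, hg0⟩ := h
    have h1 : l0 g = -1 := (Int.units_eq_one_or (l0 g)).resolve_left hg0
    have h2 : ∑ l : S, (((l : G →* ℤˣ) g : ℤˣ) : ℤ)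
        = ∑ l : S, ((((⟨l0, hl0⟩ * l : S) : G →* ℤˣ) g : ℤˣ) : ℤ) :=
      (Equiv.sum_comp (Equiv.mulLeft (⟨l0, hl0⟩ : S)) (fun l : S => (((l : G →* ℤˣ) g : ℤˣ) : ℤ))).symm
    have h3 : ∑ l : S, ((((⟨l0, hl0⟩ * l : S) : G →* ℤˣ) g : ℤˣ) : ℤ)
        = - ∑ l : S, (((l : G →* ℤˣ) g : ℤˣ) : ℤ) := by
      rw [← Finset.sum_neg_distrib]
      apply Finset.sum_congr rfl
      intro l _
      rw [Subgroup.coe_mul, MonoidHom.mul_apply, h1]
      simp
    omega

theorem sum_sum_sign {G : Type*} [Group G] [Fintype G] (S : Subgroup (G →* ℤˣ)) [Fintype S] :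
    ∑ g : G, ∑ l : S, (((l : G →* ℤˣ) g : ℤˣ) : ℤ) = Fintype.card G := by
  classical
  rw [Finset.sum_comm]
  rw [Finset.sum_eq_single (1 : S)]
  · simp
  · intro l _ hl
    apply sum_sign_hom
    intro h
    exact hl (Subtype.ext h)
  · intro h
    exact absurd (Finset.mem_univ _) h

/-- the stabiliser bound -/
theorem card_sign_stab_le {G : Type*} [Group G] [Fintype G] (S : Subgroup (G →* ℤˣ)) [Fintype S]
    {χ : G → ℂ} (hχ : IsIrrCharacter G χ) (n : ℕ) (hn : χ 1 = n)
    (hS : ∀ l ∈ S, ∀ g, (((l g : ℤˣ) : ℤ) : ℂ) * χ g = χ g) : Fintype.card S ≤ n ^ 2 := by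
  have h0 := H4.sum_normSq_eq_card hχ
  have hle : ∀ g, Complex.normSq (χ g) ≤ (n : ℝ) ^ 2 := by
    intro g
    obtain ⟨c, hc, hcg⟩ := H4.IsCharacter.norm_le (H4.IsIrrCharacter.isCharacter hχ) g
    have : c = n := by
      rw [hn] at hc
      exact_mod_cast hc.symm
    rw [Complex.normSq_eq_norm_sq]
    rw [this] at hcg
    exact pow_le_pow_left₀ (norm_nonneg _) hcg 2
  have h1 : ∀ l ∈ S, ∀ g, (((l g : ℤˣ) : ℤ) : ℝ) * Complex.normSq (χ g) = Complex.normSq (χ g) := by
    intro l hl g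
    rcases Int.units_eq_one_or (l g) with h | h
    · rw [h]; simp
    · have := hS l hl g
      rw [h] at this
      have h2 : χ g = 0 := by
        have h3 : -(χ g) = χ g := by simpa using this
        have h4 : (2 : ℂ) * χ g = 0 := by linear_combination -h3
        simpa using h4
      rw [h2]; simp
  have h2 : ∑ g : G, ((∑ l : S, (((l : G →* ℤˣ) g : ℤˣ) : ℤ) : ℤ) : ℝ) * Complex.normSq (χ g)
      = Fintype.card S * (Nat.card G : ℝ) := by
    rw [← h0, Finset.mul_sum]
    apply Finset.sum_congr rfl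
    intro g _
    push_cast
    rw [Finset.sum_mul, Finset.sum_congr rfl (fun l _ => h1 l.1 l.2 g)]
    simp
  have h3 : ∑ g : G, ((∑ l : S, (((l : G →* ℤˣ) g : ℤˣ) : ℤ) : ℤ) : ℝ) * Complex.normSq (χ g)
      ≤ ∑ g : G, ((∑ l : S, (((l : G →* ℤˣ) g : ℤˣ) : ℤ) : ℤ) : ℝ) * (n : ℝ) ^ 2 := by
    apply Finset.sum_le_sum
    intro g _
    apply mul_le_mul_of_nonneg_left (hle g)
    have : (0 : ℤ) ≤ ∑ l : S, (((l : G →* ℤˣ) g : ℤˣ) : ℤ) := by
      rcases sum_subgroup_sign S g with ⟨_, h⟩ | ⟨_, h⟩ <;> rw [h]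
      positivity
    exact_mod_cast this
  rw [h2, ← Finset.sum_mul, ← Int.cast_sum, sum_sum_sign S] at h3
  have hG : (0 : ℝ) < Nat.card G := by exact_mod_cast Nat.card_pos
  rw [Fintype.card_eq_nat_card (α := G)] at h3
  have h4 : (Fintype.card S : ℝ) ≤ (n : ℝ) ^ 2 := by
    have h5 : (Fintype.card S : ℝ) * (Nat.card G : ℝ) ≤ (n : ℝ) ^ 2 * (Nat.card G : ℝ) := by
      calc (Fintype.card S : ℝ) * (Nat.card G : ℝ) ≤ ((Nat.card G : ℤ) : ℝ) * (n : ℝ) ^ 2 := h3
        _ = (n : ℝ) ^ 2 * (Nat.card G : ℝ) := by push_cast; ring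
    exact le_of_mul_le_mul_right h5 hG
  exact_mod_cast h4

theorem finite_sign_homs (G : Type*) [Group G] [Finite G] : Finite (G →* ℤˣ) :=
  Finite.of_injective (fun f : G →* ℤˣ => (f : G → ℤˣ)) DFunLike.coe_injective

/-- the sign character of a subgroup of index two -/
noncomputable def signOfIndexTwo {G : Type*} [Group G] (M : Subgroup G) (hM : M.index = 2) : G →* ℤˣ := by
  classical
  exact
  { toFun := fun g => if g ∈ M then 1 else -1
    map_one' := by simp [M.one_mem]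
    map_mul' := by
      intro a b
      have := Subgroup.mul_mem_iff_of_index_two hM (a := a) (b := b)
      by_cases ha : a ∈ M <;> by_cases hb : b ∈ M <;> simp [ha, hb, this] }

theorem signOfIndexTwo_eq_one {G : Type*} [Group G] (M : Subgroup G) (hM : M.index = 2) (g : G) :
    signOfIndexTwo M hM g = 1 ↔ g ∈ M := by
  classical
  unfold signOfIndexTwo
  simp only [MonoidHom.coe_mk, OneHom.coe_mk]
  by_cases h : g ∈ M <;> simp [h]

theorem card_sign_homs_ge {G : Type*} [Group G] [Finite G] (hG : IsPGroup 2 G) :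
    Nat.card (G ⧸ frattini G) ≤ Nat.card (G →* ℤˣ) := by
  classical
  have := Fintype.ofFinite G
  have := finite_sign_homs G
  have : Fintype (⊤ : Subgroup (G →* ℤˣ)) := Fintype.ofFinite _
  have h1 := sum_sum_sign (⊤ : Subgroup (G →* ℤˣ))
  have hmem : ∀ g : G, (∀ l ∈ (⊤ : Subgroup (G →* ℤˣ)), l g = 1) → g ∈ frattini G := by
    intro g hg
    have : Subgroup.zpowers g ≤ frattini G := by
      rw [H1.le_frattini_iff]
      intro M hM
      have : Fact (Nat.Prime 2) := ⟨Nat.prime_two⟩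
      obtain ⟨_, hi⟩ := H1.coatom_of_pgroup hG hM
      rw [Subgroup.zpowers_le, ← signOfIndexTwo_eq_one M hi]
      exact hg _ (Subgroup.mem_top _)
    exact this (Subgroup.mem_zpowers g)
  have h2 : ∑ g : G, ∑ l : (⊤ : Subgroup (G →* ℤˣ)), (((l : G →* ℤˣ) g : ℤˣ) : ℤ)
      ≤ ∑ g : G, if g ∈ frattini G then (Fintype.card (⊤ : Subgroup (G →* ℤˣ)) : ℤ) else 0 := by
    apply Finset.sum_le_sum
    intro g _
    rcases sum_subgroup_sign (⊤ : Subgroup (G →* ℤˣ)) g with ⟨h, h'⟩ | ⟨_, h'⟩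
    · rw [h', if_pos (hmem g h)]
    · rw [h']
      split_ifs <;> positivity
  rw [h1, ← Finset.sum_filter, Finset.sum_const, nsmul_eq_mul] at h2
  have h3 : (Finset.univ.filter (fun g : G => g ∈ frattini G)).card = Nat.card (frattini G) := by
    rw [Nat.card_eq_fintype_card, Fintype.card_subtype]
  have h4 : Fintype.card (⊤ : Subgroup (G →* ℤˣ)) = Nat.card (G →* ℤˣ) := by
    rw [← Nat.card_eq_fintype_card, Subgroup.card_top]
  rw [h3, h4, Fintype.card_eq_nat_card, (frattini G).card_eq_card_quotient_mul_card_subgroup] at h2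
  have h5 : Nat.card (G ⧸ frattini G) * Nat.card (frattini G)
      ≤ Nat.card (G →* ℤˣ) * Nat.card (frattini G) := by
    have : Nat.card (G ⧸ frattini G) * Nat.card (frattini G)
      ≤ Nat.card (frattini G) * Nat.card (G →* ℤˣ) := by exact_mod_cast h2
    rwa [mul_comm (Nat.card (frattini G))] at this
  exact Nat.le_of_mul_le_mul_right h5 Nat.card_pos

/-- a sign homomorphism as a complex function -/
noncomputable def signChar {G : Type*} [Group G] (l : G →* ℤˣ) : G → ℂ :=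
  fun g => (((l g : ℤˣ) : ℤ) : ℂ)

theorem signChar_isCharacter {G : Type*} [Group G] (l : G →* ℤˣ) : IsCharacter G (signChar l) := by
  have := H4.isCharacter_of_hom ((Units.map ((Int.castRingHom ℂ : ℤ →+* ℂ) : ℤ →* ℂ)).comp l)
  exact this

theorem signChar_one_apply {G : Type*} [Group G] (l : G →* ℤˣ) : signChar l 1 = 1 := by
  simp [signChar]

/-- multiplication of irreducible characters by sign characters -/
@[reducible] noncomputable def signAction (G : Type*) [Group G] [Finite G] :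
    MulAction (G →* ℤˣ) (IrrCharacter G) where
  smul l χ := ⟨signChar l * χ.1,
    H4.IsIrrCharacter.linear_mul_irr (signChar_isCharacter l) (signChar_one_apply l) χ.2⟩
  one_smul χ := by
    apply Subtype.ext
    funext g
    show signChar 1 g * χ.1 g = χ.1 g
    simp [signChar]
  mul_smul a b χ := by
    apply Subtype.ext
    funext g
    show signChar (a * b) g * χ.1 g = signChar a g * (signChar b g * χ.1 g)
    simp [signChar, mul_assoc]

theorem aft {G : Type*} [Group G] [Finite G] (hG : IsPGroup 2 G) (k : ℕ)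
    (hgen : 2 ^ (2 * k + 1) ≤ Nat.card (G ⧸ frattini G)) :
    2 ^ (k + 1) ∣ Nat.card {x : G // x ^ 2 = 1} := by
  classical
  have := Fintype.ofFinite G
  have := Fintype.ofFinite (IrrCharacter G)
  have := finite_sign_homs G
  have := Fintype.ofFinite (G →* ℤˣ)
  let _ := signAction G
  have hsmul : ∀ (l : G →* ℤˣ) (χ : IrrCharacter G) (g : G),
      ((l • χ : IrrCharacter G) : G → ℂ) g = signChar l g * (χ : G → ℂ) g := fun _ _ _ => rfl
  have hν : ∀ χ : IrrCharacter G, ∃ z : ℤ, (z = 0 ∨ z = 1 ∨ z = -1) ∧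
      (z : ℂ) = (Nat.card G : ℂ)⁻¹ * ∑ s : G, (χ : G → ℂ) (s * s) := by
    rintro ⟨χ, n, ρ, hρ, rfl⟩
    have := hρ
    rcases (H4.frobenius_schur ρ).1 with h | h | h
    · exact ⟨0, Or.inl rfl, by rw [h]; simp⟩
    · exact ⟨1, Or.inr (Or.inl rfl), by rw [h]; simp⟩
    · exact ⟨-1, Or.inr (Or.inr rfl), by rw [h]; simp⟩
  choose ν hν1 hν2 using hν
  have hd : ∀ χ : IrrCharacter G, ∃ n : ℕ, 0 < n ∧ n ∣ Nat.card G ∧ (χ : G → ℂ) 1 = n :=
    fun χ => H4.IsIrrCharacter.exists_degree χ.2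
  choose d hd0 hd1 hd2 using hd
  have hcount : (Nat.card {s : G // s * s = 1} : ℤ) = ∑ χ, ν χ * d χ := by
    have h1 := H4.involution_count (G := G)
    rw [finsum_eq_sum_of_fintype] at h1
    have h2 : (Nat.card {s : G // s * s = 1} : ℂ) = ((∑ χ, ν χ * d χ : ℤ) : ℂ) := by
      rw [h1]
      push_cast
      apply Finset.sum_congr rfl
      intro χ _
      rw [← hν2, hd2]
    exact_mod_cast h2
  have hνinv : ∀ (l : G →* ℤˣ) (χ : IrrCharacter G), ν (l • χ) = ν χ := by
    intro l χ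
    have : (ν (l • χ) : ℂ) = ν χ := by
      rw [hν2, hν2]
      congr 1
      apply Finset.sum_congr rfl
      intro s _
      rw [hsmul]
      simp [signChar]
    exact_mod_cast this
  have hdinv : ∀ (l : G →* ℤˣ) (χ : IrrCharacter G), d (l • χ) = d χ := by
    intro l χ
    have : (d (l • χ) : ℂ) = d χ := by
      rw [← hd2, ← hd2, hsmul, signChar_one_apply, one_mul]
    exact_mod_cast this
  have hmain : ((2 ^ (k + 1) : ℕ) : ℤ) ∣ ∑ χ, ν χ * d χ := by
    apply dvd_sum_of_orbit (L := G →* ℤˣ)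
    · intro l χ
      rw [hνinv, hdinv]
    · intro χ
      have hos := MulAction.card_orbit_mul_card_stabilizer_eq_card_group (G →* ℤˣ) χ
      have hP : IsPGroup 2 (G →* ℤˣ) := by
        intro l
        refine ⟨1, ?_⟩
        ext g
        simp [pow_two]
      obtain ⟨D, hD⟩ := hP.exists_card_eq
      have hDk : 2 * k + 1 ≤ D := by
        have h1 := hgen.trans (card_sign_homs_ge hG)
        rw [hD] at h1
        exact (Nat.pow_le_pow_iff_right (by norm_num)).mp h1
      rw [Fintype.card_eq_nat_card (α := G →* ℤˣ), hD] at hos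
      obtain ⟨o, _, ho⟩ := (Nat.dvd_prime_pow Nat.prime_two).mp (Dvd.intro _ hos)
      obtain ⟨s, _, hs⟩ := (Nat.dvd_prime_pow Nat.prime_two).mp (Dvd.intro_left _ hos)
      obtain ⟨a, ha⟩ := hG.exists_card_eq
      have hda := hd1 χ
      rw [ha] at hda
      obtain ⟨e, _, he⟩ := (Nat.dvd_prime_pow Nat.prime_two).mp hda
      have hle := card_sign_stab_le (MulAction.stabilizer (G →* ℤˣ) χ) χ.2 (d χ) (hd2 χ) (by
        intro l hl g
        have h1 : l • χ = χ := hl
        have h2 := congr_fun (congr_arg Subtype.val h1) g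
        exact h2)
      rw [hs, he, ← pow_mul] at hle
      have hse : s ≤ e * 2 := (Nat.pow_le_pow_iff_right (by norm_num)).mp hle
      rw [ho, hs, ← pow_add] at hos
      have hosD : o + s = D := Nat.pow_right_injective (le_refl 2) hos
      have hfin : 2 ^ (k + 1) ∣ Nat.card (MulAction.orbit (G →* ℤˣ) χ) * d χ := by
        rw [Nat.card_eq_fintype_card, ho, he, ← pow_add]
        exact pow_dvd_pow 2 (by omega)
      have hfin' : ((2 ^ (k + 1) : ℕ) : ℤ) ∣ ((Nat.card (MulAction.orbit (G →* ℤˣ) χ) * d χ : ℕ) : ℤ) :=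
        Int.natCast_dvd_natCast.mpr hfin
      have heq : (Nat.card (MulAction.orbit (G →* ℤˣ) χ) : ℤ) * (ν χ * d χ)
          = ν χ * ((Nat.card (MulAction.orbit (G →* ℤˣ) χ) * d χ : ℕ) : ℤ) := by
        push_cast; ring
      rw [heq]
      exact Dvd.dvd.mul_left hfin' _
  have h3 : Nat.card {x : G // x ^ 2 = 1} = Nat.card {s : G // s * s = 1} := by
    simp only [pow_two]
  rw [h3]
  rw [← hcount] at hmain
  exact_mod_cast hmain

end Cfsg.Agent.H3
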