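import Mathlib

set_option autoImplicit false

namespace Cfsg.Agent.H3

open Subgroup MulAction

/-- If a finite group acts freely on a finite set, its order divides the size of the set. -/
theorem card_dvd_of_free {A T : Type*} [Group A] [Finite A] [Finite T] [MulAction A T]
    (hfree : ∀ (a : A) (t : T), a • t = t → a = 1) : Nat.card A ∣ Nat.card T := by
  classical
  have := Fintype.ofFinite A
  have := Fintype.ofFinite T
  have hB := MulAction.sum_card_fixedBy_eq_card_orbits_mul_card_group A T
  have h1 : ∑ a : A, Fintype.card (fixedBy T a) = Fintype.card T := by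
    rw [Finset.sum_eq_single (1 : A)]
    · apply Fintype.card_congr
      exact (Equiv.subtypeUnivEquiv (fun x => by simp))
    · intro a _ ha
      rw [Fintype.card_eq_zero_iff]
      exact ⟨fun t => ha (hfree a t.1 t.2)⟩
    · intro h; exact absurd (Finset.mem_univ _) h
  rw [h1] at hB
  rw [Nat.card_eq_fintype_card, Nat.card_eq_fintype_card, hB]
  exact dvd_mul_left _ _

/-- A group of order `p ^ r` is generated by `r` elements. -/
theorem exists_generators_of_card_eq_pow {Q : Type*} [Group Q] [Finite Q] {p r : ℕ} [hp : Fact p.Prime]
    (hQ : Nat.card Q = p ^ r) : ∃ f : Fin r → Q, closure (Set.range f) = ⊤ := by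
  classical
  have key : ∀ k : ℕ, ∃ f : Fin k → Q, closure (Set.range f) = ⊤ ∨ p ^ k ≤ Nat.card (closure (Set.range f)) := by
    intro k
    induction k with
    | zero => exact ⟨fun i => i.elim0, Or.inr (by simp)⟩
    | succ k ih =>
      obtain ⟨f, hf⟩ := ih
      by_cases htop : closure (Set.range f) = ⊤
      · refine ⟨Fin.snoc f 1, Or.inl ?_⟩
        rw [eq_top_iff, ← htop]
        apply Subgroup.closure_mono
        rintro _ ⟨i, rfl⟩
        exact ⟨i.castSucc, by simp⟩
      · have hf' := hf.resolve_left htop
        obtain ⟨x, hx⟩ : ∃ x : Q, x ∉ closure (Set.range f) := by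
          by_contra hcon
          push Not at hcon
          exact htop (eq_top_iff.mpr fun y _ => hcon y)
        refine ⟨Fin.snoc f x, Or.inr ?_⟩
        set K := closure (Set.range f) with hK
        set K' := closure (Set.range (Fin.snoc f x : Fin (k + 1) → Q)) with hK'
        have hle : K ≤ K' := by
          apply Subgroup.closure_mono
          rintro _ ⟨i, rfl⟩
          exact ⟨i.castSucc, by simp⟩
        have hxK' : x ∈ K' := subset_closure ⟨Fin.last k, by simp⟩
        have h1 : K.relIndex K' * Nat.card K = Nat.card K' := by
          have := relIndex_mul_relIndex ⊥ K K' bot_le hle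
          rw [relIndex_bot_left, relIndex_bot_left] at this
          rw [mul_comm]; exact this
        have h2 : K.relIndex K' ≠ 1 := by
          intro h
          exact hx (relIndex_eq_one.mp h hxK')
        have h3 : K.relIndex K' ∣ p ^ r := by
          rw [← hQ]
          exact (Dvd.intro _ h1).trans (card_subgroup_dvd_card K')
        obtain ⟨j, -, hj⟩ := (Nat.dvd_prime_pow hp.out).mp h3
        have hj0 : j ≠ 0 := by
          rintro rfl
          exact h2 (by simpa using hj)
        have h4 : p ≤ K.relIndex K' := by
          rw [hj]
          calc p = p ^ 1 := (pow_one p).symm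
            _ ≤ p ^ j := Nat.pow_le_pow_right hp.out.pos (Nat.one_le_iff_ne_zero.mpr hj0)
        rw [← h1, pow_succ, mul_comm]
        exact Nat.mul_le_mul h4 hf'
  obtain ⟨f, hf⟩ := key r
  refine ⟨f, ?_⟩
  rcases hf with hf | hf
  · exact hf
  · apply eq_top_of_le_card
    rw [hQ]; exact hf

end Cfsg.Agent.H3
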