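import Mathlib
import Cfsg.Prelude.Def_SylowChains
import Cfsg.Agent.Lib_helper7_SE

namespace Cfsg.Agent.H3

variable {G : Type*} [Group G]

/-- adjacency of Sylow subgroups: distinct with nontrivial intersection -/
def sylAdj (p : ℕ) (S T : Sylow p G) : Prop :=
  S ≠ T ∧ (S : Subgroup G) ⊓ (T : Subgroup G) ≠ ⊥

theorem conn_of_chain {p : ℕ} (h : Cfsg.IsSylowChainConnected p G) (S T : Sylow p G) :
    Relation.ReflTransGen (sylAdj p) S T := by
  obtain ⟨n, c, h0, hn, -, hadj⟩ := h S T
  have key : ∀ i : ℕ, ∀ hi : i < n + 1, Relation.ReflTransGen (sylAdj p) S (c ⟨i, hi⟩) := by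
    intro i
    induction i with
    | zero =>
      intro hi
      have : c ⟨0, hi⟩ = S := h0
      rw [this]
    | succ i ih =>
      intro hi
      have h1 := ih (by omega)
      have h2 := hadj ⟨i, by omega⟩
      exact h1.tail h2
  have := key n (by omega)
  rw [← hn]
  exact this

theorem exists_chain {p : ℕ} {S T : Sylow p G} (h : Relation.ReflTransGen (sylAdj p) S T) :
    ∃ (n : ℕ) (c : Fin (n + 1) → Sylow p G), c 0 = S ∧ c (Fin.last n) = T ∧
      ∀ i : Fin n, sylAdj p (c i.castSucc) (c i.succ) := by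
  induction h with
  | refl => exact ⟨0, fun _ => S, rfl, rfl, fun i => i.elim0⟩
  | @tail b T' hab hbc ih =>
    obtain ⟨n, c, h0, hn, hadj⟩ := ih
    refine ⟨n + 1, Fin.snoc (α := fun _ => Sylow p G) c T', ?_, ?_, ?_⟩
    · rw [← Fin.castSucc_zero, Fin.snoc_castSucc]
      exact h0
    · rw [Fin.snoc_last]
    · intro i
      induction i using Fin.lastCases with
      | last =>
        rw [Fin.snoc_castSucc, Fin.succ_last, Fin.snoc_last, hn]
        exact hbc
      | cast j =>
        rw [Fin.snoc_castSucc, Fin.succ_castSucc, Fin.snoc_castSucc]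
        exact hadj j

theorem chainConnected_iff {p : ℕ} : Cfsg.IsSylowChainConnected p G ↔
    ∀ S T : Sylow p G, Relation.ReflTransGen (sylAdj p) S T := by
  constructor
  · exact conn_of_chain
  · intro h S T
    by_cases hST : S = T
    · subst hST
      exact ⟨0, fun _ => S, rfl, rfl, fun _ => inf_le_left, fun i => i.elim0⟩
    by_cases hb : (S : Subgroup G) ⊓ T = ⊥
    · obtain ⟨n, c, h0, hn, hadj⟩ := exists_chain (h S T)
      exact ⟨n, c, h0, hn, fun i => by rw [hb]; exact bot_le, hadj⟩
    · refine ⟨1, ![S, T], rfl, rfl, ?_, ?_⟩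
      · intro i
        fin_cases i
        · exact inf_le_left
        · exact inf_le_right
      · intro i
        fin_cases i
        exact ⟨hST, hb⟩

theorem mem_smul_sylow {p : ℕ} (g y : G) (A : Sylow p G) :
    y ∈ ((g • A : Sylow p G) : Subgroup G) ↔ g⁻¹ * y * g ∈ (A : Subgroup G) := by
  rw [Sylow.smul_def, Sylow.pointwise_smul_def, Subgroup.mem_pointwise_smul_iff_inv_smul_mem]
  simp only [MulAut.smul_def, ← map_inv, MulAut.conj_apply, inv_inv]

theorem sylAdj_symm {p : ℕ} {A B : Sylow p G} (h : sylAdj p A B) : sylAdj p B A :=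
  ⟨h.1.symm, by rw [inf_comm]; exact h.2⟩

theorem conn_symm {p : ℕ} {A B : Sylow p G} (h : Relation.ReflTransGen (sylAdj p) A B) :
    Relation.ReflTransGen (sylAdj p) B A := by
  induction h with
  | refl => exact Relation.ReflTransGen.refl
  | tail _ hbc ih => exact Relation.ReflTransGen.head (sylAdj_symm hbc) ih

theorem sylAdj_smul {p : ℕ} (g : G) {A B : Sylow p G} (h : sylAdj p A B) :
    sylAdj p (g • A) (g • B) := by
  refine ⟨fun he => h.1 (smul_left_cancel g he), ?_⟩
  obtain ⟨x, hx, hx1⟩ := (Subgroup.bot_or_exists_ne_one _).resolve_left h.2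
  intro hb
  have h1 : g * x * g⁻¹ ∈ ((g • A : Sylow p G) : Subgroup G) ⊓ ((g • B : Sylow p G) : Subgroup G) := by
    refine ⟨?_, ?_⟩
    · change _ ∈ ((g • A : Sylow p G) : Subgroup G)
      rw [mem_smul_sylow]
      have : g⁻¹ * (g * x * g⁻¹) * g = x := by group
      rw [this]; exact hx.1
    · change _ ∈ ((g • B : Sylow p G) : Subgroup G)
      rw [mem_smul_sylow]
      have : g⁻¹ * (g * x * g⁻¹) * g = x := by group
      rw [this]; exact hx.2
  rw [hb, Subgroup.mem_bot] at h1
  apply hx1
  have : x = g⁻¹ * (g * x * g⁻¹) * g := by group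
  rw [this, h1]
  group

theorem conn_smul {p : ℕ} (g : G) {A B : Sylow p G} (h : Relation.ReflTransGen (sylAdj p) A B) :
    Relation.ReflTransGen (sylAdj p) (g • A) (g • B) := by
  induction h with
  | refl => exact Relation.ReflTransGen.refl
  | tail _ hbc ih => exact ih.tail (sylAdj_smul g hbc)

/-- the stabilizer of the connected component of `S` -/
def compStab {p : ℕ} (S : Sylow p G) : Subgroup G where
  carrier := {g | Relation.ReflTransGen (sylAdj p) S (g • S)}
  one_mem' := by
    change Relation.ReflTransGen (sylAdj p) S ((1 : G) • S)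
    rw [one_smul]
  mul_mem' := by
    intro a b ha hb
    change Relation.ReflTransGen (sylAdj p) S ((a * b) • S)
    rw [mul_smul]
    exact Relation.ReflTransGen.trans ha (conn_smul a hb)
  inv_mem' := by
    intro a ha
    change Relation.ReflTransGen (sylAdj p) S (a⁻¹ • S)
    have h1 := conn_smul a⁻¹ ha
    rw [inv_smul_smul] at h1
    exact conn_symm h1

theorem mem_compStab {p : ℕ} (S : Sylow p G) (g : G) :
    g ∈ compStab S ↔ Relation.ReflTransGen (sylAdj p) S (g • S) := Iff.rfl


theorem not_chainConnected_of_SE [Finite G] {p : ℕ} [Fact p.Prime] {M : Subgroup G}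
    (hM : H7.SE p M) : ¬ Cfsg.IsSylowChainConnected p G := by
  intro hc
  rw [chainConnected_iff] at hc
  obtain ⟨S₀, -, hS₀⟩ := H7.exists_isSylowIn_ge (p := p) (Q := ⊥) (H := M) IsPGroup.of_bot bot_le
  obtain ⟨P, hP⟩ := H7.exists_sylow_eq (hM.isSylowIn_top hS₀)
  have hPM : (P : Subgroup G) ≤ M := by rw [hP]; exact hS₀.1
  have hall : ∀ T : Sylow p G, (T : Subgroup G) ≤ M := by
    intro T
    have h := hc P T
    induction h with
    | refl => exact hPM
    | @tail b c _ hbc ih =>
      apply hM.le_of_inf_ne_bot c.2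
      intro hb
      apply hbc.2
      rw [eq_bot_iff, ← hb]
      exact le_inf inf_le_right (inf_le_left.trans ih)
  obtain ⟨x, hxM, hx⟩ := H7.exists_zpowers_of_dvd_card hM.2.1
  apply hM.1
  rw [eq_top_iff]
  intro g _
  apply hM.mem_of_conj hxM (H7.ne_one_of_orderOf_eq_prime hx) (H7.isPGroup_zpowers_of_orderOf hx)
  have hz : IsPGroup p (Subgroup.zpowers (g * x * g⁻¹)) := by
    apply H7.isPGroup_zpowers_of_orderOf
    rw [← hx]
    exact orderOf_injective (MulAut.conj g).toMonoidHom (MulAut.conj g).injective x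
  obtain ⟨T, hT⟩ := hz.exists_le_sylow
  exact hall T (hT (Subgroup.mem_zpowers _))

theorem exists_SE_of_not_chainConnected [Finite G] {p : ℕ} [Fact p.Prime]
    (h : ¬ Cfsg.IsSylowChainConnected p G) : ∃ M : Subgroup G, H7.SE p M := by
  have hp : p.Prime := Fact.out
  rw [chainConnected_iff] at h
  push Not at h
  obtain ⟨S, T, hST⟩ := h
  refine ⟨compStab S, ?_, ?_, ?_⟩
  · intro htop
    obtain ⟨g, hg⟩ := MulAction.exists_smul_eq G S T
    have : g ∈ compStab S := by rw [htop]; trivial
    rw [mem_compStab, hg] at this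
    exact hST this
  · have hSM : (S : Subgroup G) ≤ compStab S := by
      intro s hs
      rw [mem_compStab, Sylow.smul_eq_iff_mem_normalizer.2 (Subgroup.le_normalizer hs)]
    have hSne : (S : Subgroup G) ≠ ⊥ := by
      intro hb
      apply hST
      have h1 : Nat.card (T : Subgroup G) = 1 := by
        rw [← Nat.card_congr (S.equiv T).toEquiv, hb, Subgroup.card_bot]
      have h2 : S = T := Sylow.ext (by rw [hb, Subgroup.card_eq_one.1 h1])
      rw [h2]
    exact (H7.dvd_card_of_isPGroup_ne_bot S.2 hSne).trans (Subgroup.card_dvd_of_le hSM)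
  · intro A hAM hA hAne n hn
    have hSM : (S : Subgroup G) ≤ compStab S := by
      intro s hs
      rw [mem_compStab, Sylow.smul_eq_iff_mem_normalizer.2 (Subgroup.le_normalizer hs)]
    have hSyl : H7.IsSylowIn p (S : Subgroup G) (compStab S) :=
      ⟨hSM, S.2, fun hd => S.not_dvd_index (hd.trans (Subgroup.relIndex_dvd_index_of_le hSM))⟩
    obtain ⟨x, hxM, hx⟩ := hSyl.exists_conj_le hA hAM
    -- `A ≤ x⁻¹ • S`
    have hAR : A ≤ ((x⁻¹ • S : Sylow p G) : Subgroup G) := by
      intro a ha
      rw [mem_smul_sylow, inv_inv]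
      exact hx ⟨a, ha, rfl⟩
    have hAR' : A ≤ ((n • (x⁻¹ • S) : Sylow p G) : Subgroup G) := by
      intro a ha
      rw [mem_smul_sylow]
      apply hAR
      have h1 : n⁻¹ ∈ Subgroup.normalizer (A : Set G) := inv_mem hn
      have := (Subgroup.mem_normalizer_iff.1 h1 a).1 ha
      simpa using this
    have hconn : Relation.ReflTransGen (sylAdj p) (x⁻¹ • S) (n • (x⁻¹ • S)) := by
      by_cases he : x⁻¹ • S = n • (x⁻¹ • S)
      · rw [← he]
      · apply Relation.ReflTransGen.single
        refine ⟨he, fun hb => hAne ?_⟩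
        rw [eq_bot_iff, ← hb]
        exact le_inf hAR hAR'
    have h1 : Relation.ReflTransGen (sylAdj p) S (x⁻¹ • S) :=
      (mem_compStab S x⁻¹).1 (inv_mem hxM)
    have h2 : n * x⁻¹ ∈ compStab S := by
      rw [mem_compStab, mul_smul]
      exact h1.trans hconn
    have h3 := (compStab S).mul_mem h2 hxM
    simpa using h3

theorem not_chainConnected_iff [Finite G] {p : ℕ} [Fact p.Prime] :
    ¬ Cfsg.IsSylowChainConnected p G ↔ ∃ M : Subgroup G, H7.SE p M :=
  ⟨exists_SE_of_not_chainConnected, fun ⟨_, hM⟩ => not_chainConnected_of_SE hM⟩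

end Cfsg.Agent.H3
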