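import Mathlib
import Cfsg.Agent.Lib_helper1_Basic

set_option autoImplicit false
set_option linter.unusedSectionVars false

namespace Cfsg.Agent.H3
open Subgroup
universe u

/-- the join of two disjoint normal subgroups is their direct product -/
theorem sup_equiv_prod {N : Type u} [Group N] (A B : Subgroup N) (hA : A.Normal) (hB : B.Normal)
    (hd : Disjoint A B) : Nonempty ((A ⊔ B : Subgroup N) ≃* A × B) := by
  have comm : ∀ (a : A) (b : B), Commute (A.subtype a) (B.subtype b) := fun a b =>
    commute_of_normal_of_disjoint A B hA hB hd a b a.2 b.2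
  have hinj : Function.Injective (MonoidHom.noncommCoprod A.subtype B.subtype comm) := by
    rw [MonoidHom.noncommCoprod_injective]
    refine ⟨A.subtype_injective, B.subtype_injective, ?_⟩
    rwa [A.range_subtype, B.range_subtype]
  have hr : (MonoidHom.noncommCoprod A.subtype B.subtype comm).range = A ⊔ B := by
    rw [MonoidHom.noncommCoprod_range, A.range_subtype, B.range_subtype]
  exact ⟨((MonoidHom.ofInjective hinj).trans (MulEquiv.subgroupCongr hr)).symm⟩

/-- `T × T ^ m ≃* T ^ (m + 1)` -/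
def consMulEquiv (T : Type u) [Group T] (m : ℕ) : T × (Fin m → T) ≃* (Fin (m + 1) → T) :=
  { Fin.consEquiv (fun _ : Fin (m + 1) => T) with
    map_mul' := by
      intro a b
      funext i
      refine Fin.cases ?_ (fun j => ?_) i
      · simp [Fin.consEquiv]
      · simp [Fin.consEquiv] }

/-- a normal subgroup of one factor gives a normal subgroup of the power -/
theorem exists_small_normal {T : Type u} [Group T] [Finite T] (m : ℕ) (hm : 0 < m) (L : Subgroup T)
    (hL : L.Normal) (hne : L ≠ ⊥) :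
    ∃ K : Subgroup (Fin m → T), K.Normal ∧ K ≠ ⊥ ∧ Nat.card K ≤ Nat.card L := by
  classical
  let i₀ : Fin m := ⟨0, hm⟩
  let K : Subgroup (Fin m → T) :=
    { carrier := {f | f i₀ ∈ L ∧ ∀ i, i ≠ i₀ → f i = 1}
      one_mem' := ⟨L.one_mem, fun _ _ => rfl⟩
      mul_mem' := by
        rintro a b ⟨ha, ha'⟩ ⟨hb, hb'⟩
        refine ⟨L.mul_mem ha hb, fun i hi => ?_⟩
        rw [Pi.mul_apply, ha' i hi, hb' i hi, one_mul]
      inv_mem' := by
        rintro a ⟨ha, ha'⟩
        refine ⟨L.inv_mem ha, fun i hi => ?_⟩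
        rw [Pi.inv_apply, ha' i hi, inv_one] }
  refine ⟨K, ⟨?_⟩, ?_, ?_⟩
  · rintro a ⟨ha, ha'⟩ g
    refine ⟨hL.conj_mem _ ha _, fun i hi => ?_⟩
    simp [ha' i hi]
  · intro hb
    obtain ⟨x, hx1⟩ := Subgroup.ne_bot_iff_exists_ne_one.mp hne
    have hmem : Pi.mulSingle i₀ (x : T) ∈ K := by
      refine ⟨by simp, fun i hi => ?_⟩
      exact Pi.mulSingle_eq_of_ne hi _
    rw [hb, Subgroup.mem_bot] at hmem
    have := congrFun hmem i₀
    simp at this
    exact hx1 this
  · apply Nat.card_le_card_of_injective (fun f : K => (⟨f.1 i₀, f.2.1⟩ : L))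
    intro f g hfg
    apply Subtype.ext
    funext i
    by_cases hi : i = i₀
    · rw [hi]
      exact congrArg Subtype.val hfg
    · rw [f.2.2 i hi, g.2.2 i hi]

/-- a finite group without proper nontrivial normal subgroups invariant under a group of
automorphisms is a direct power of a simple group -/
theorem power_of_simple {N : Type u} [Group N] [Finite N] [Nontrivial N] (𝒜 : Subgroup (MulAut N))
    (h : ∀ K : Subgroup N, K.Normal → (∀ α ∈ 𝒜, K.map (α : N ≃* N).toMonoidHom ≤ K) →
      K = ⊥ ∨ K = ⊤) :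
    ∃ (T : Type) (_ : Group T) (m : ℕ), IsSimpleGroup T ∧ 0 < m ∧ Nonempty (N ≃* (Fin m → T)) := by
  classical
  -- a nontrivial normal subgroup of least order
  obtain ⟨T₀, ⟨hT₀n, hT₀ne⟩, hT₀min⟩ :=
    (measure (fun K : Subgroup N => Nat.card K)).wf.has_min {K | K.Normal ∧ K ≠ ⊥}
      ⟨⊤, inferInstance, top_ne_bot⟩
  have hmin : ∀ K : Subgroup N, K.Normal → K ≠ ⊥ → Nat.card T₀ ≤ Nat.card K := by
    intro K hK hKne
    have := hT₀min K ⟨hK, hKne⟩
    exact not_lt.mp this
  -- a normal subgroup of largest order which is a power of `T₀`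
  obtain ⟨M, ⟨hMn, m, ⟨eM⟩⟩, hMmax⟩ :=
    (measure (fun K : Subgroup N => Nat.card N - Nat.card K)).wf.has_min
      {K | K.Normal ∧ ∃ m : ℕ, Nonempty (K ≃* (Fin m → T₀))}
      ⟨⊥, inferInstance, 0, ⟨
        { toFun := fun _ => 1
          invFun := fun _ => 1
          left_inv := fun x => (Subsingleton.elim _ _)
          right_inv := fun x => (Subsingleton.elim _ _)
          map_mul' := fun _ _ => (Subsingleton.elim _ _) }⟩⟩
  have hmax : ∀ K : Subgroup N, K.Normal → (∃ m : ℕ, Nonempty (K ≃* (Fin m → T₀))) →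
      Nat.card K ≤ Nat.card M := by
    intro K hK hKm
    have h1 := hMmax K ⟨hK, hKm⟩
    have h2 : Nat.card K ≤ Nat.card N := Subgroup.card_le_card_group K
    have h3 : Nat.card M ≤ Nat.card N := Subgroup.card_le_card_group M
    have h4 : ¬ (Nat.card N - Nat.card K < Nat.card N - Nat.card M) := h1
    omega
  have hall : ∀ α : MulAut N, T₀.map (α : N ≃* N).toMonoidHom ≤ M := by
    intro α
    by_contra hnle
    set T' := T₀.map (α : N ≃* N).toMonoidHom with hT'
    have hT'n : T'.Normal := hT₀n.map _ (α : N ≃* N).surjective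
    have hT'card : Nat.card T' = Nat.card T₀ :=
      Subgroup.card_map_of_injective (α : N ≃* N).injective
    have hdisj : Disjoint M T' := by
      rw [disjoint_iff]
      by_contra hne
      have h1 := hmin (M ⊓ T') (Subgroup.normal_inf_normal M T') hne
      have h2 : M ⊓ T' = T' := Subgroup.eq_of_le_of_card_ge inf_le_right (by rw [hT'card]; exact h1)
      exact hnle (inf_eq_right.mp h2)
    obtain ⟨e1⟩ := sup_equiv_prod M T' hMn hT'n hdisj
    have e2 : T' ≃* T₀ := (T₀.equivMapOfInjective _ (α : N ≃* N).injective).symm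
    have e3 : (M ⊔ T' : Subgroup N) ≃* (Fin (m + 1) → T₀) :=
      (e1.trans ((MulEquiv.prodCongr eM e2).trans MulEquiv.prodComm)).trans (consMulEquiv T₀ m)
    have h1 := hmax (M ⊔ T') (Subgroup.sup_normal M T') ⟨m + 1, ⟨e3⟩⟩
    have h2 : M < M ⊔ T' := lt_of_le_of_ne le_sup_left (fun heq => hnle (by
      rw [heq]; exact le_sup_right))
    have h3 := H1.card_lt_card_of_lt h2
    omega
  -- the join of the images is everything
  set K : Subgroup N := ⨆ α : 𝒜, T₀.map ((α : MulAut N) : N ≃* N).toMonoidHom with hK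
  have hKn : K.Normal := by
    haveI : ∀ α : 𝒜, (T₀.map ((α : MulAut N) : N ≃* N).toMonoidHom).Normal :=
      fun α => hT₀n.map _ ((α : MulAut N) : N ≃* N).surjective
    exact Subgroup.iSup_normal _
  have hKinv : ∀ β ∈ 𝒜, K.map (β : N ≃* N).toMonoidHom ≤ K := by
    intro β hβ
    rw [hK, Subgroup.map_iSup]
    apply iSup_le
    intro α
    rw [Subgroup.map_map]
    exact le_iSup (fun α : 𝒜 => T₀.map ((α : MulAut N) : N ≃* N).toMonoidHom)
      (⟨β * α.1, 𝒜.mul_mem hβ α.2⟩ : 𝒜)
  have hKne : K ≠ ⊥ := by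
    intro hb
    apply hT₀ne
    rw [eq_bot_iff, ← hb]
    have := le_iSup (fun α : 𝒜 => T₀.map ((α : MulAut N) : N ≃* N).toMonoidHom) (1 : 𝒜)
    refine le_trans ?_ this
    intro x hx
    exact ⟨x, hx, rfl⟩
  have hKtop : K = ⊤ := (h K hKn hKinv).resolve_left hKne
  have hMtop : M = ⊤ := by
    rw [eq_top_iff, ← hKtop]
    exact iSup_le fun α => hall α
  have eN : N ≃* (Fin m → T₀) :=
    (Subgroup.topEquiv.symm.trans (MulEquiv.subgroupCongr hMtop.symm)).trans eM
  have hm0 : 0 < m := by
    rcases Nat.eq_zero_or_pos m with rfl | hm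
    · exfalso
      have : Subsingleton N := eN.toEquiv.subsingleton
      exact not_subsingleton N this
    · exact hm
  -- `T₀` is simple
  haveI hsimple : IsSimpleGroup T₀ := by
    haveI : Nontrivial T₀ := (Subgroup.nontrivial_iff_ne_bot T₀).mpr hT₀ne
    refine ⟨fun L hL => ?_⟩
    by_contra hcon
    push Not at hcon
    obtain ⟨K', hK'n, hK'ne, hK'card⟩ := exists_small_normal m hm0 L hL hcon.1
    have h1 := hmin (K'.comap eN.toMonoidHom) (hK'n.comap _) (by
      intro hb
      apply hK'ne
      have := congrArg (Subgroup.map eN.toMonoidHom) hb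
      rwa [Subgroup.map_comap_eq_self_of_surjective eN.surjective, Subgroup.map_bot] at this)
    have h2 : Nat.card (K'.comap eN.toMonoidHom) = Nat.card K' := by
      have := Subgroup.card_map_of_injective (f := eN.toMonoidHom)
        (K := K'.comap eN.toMonoidHom) eN.injective
      rw [← this, Subgroup.map_comap_eq_self_of_surjective (f := eN.toMonoidHom) eN.surjective K']
    have h3 : Nat.card L < Nat.card T₀ := by
      have := H1.card_lt_card_of_lt (lt_top_iff_ne_top.mpr hcon.2)
      rwa [Subgroup.card_top] at this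
    omega
  refine ⟨Shrink.{0} T₀, inferInstance, m, ?_, hm0, ⟨eN.trans
    (MulEquiv.piCongrRight fun _ => (Shrink.mulEquiv.{0} (α := T₀)).symm)⟩⟩
  exact (Shrink.mulEquiv.{0} (α := T₀)).isSimpleGroup

end Cfsg.Agent.H3
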