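import Mathlib
import Cfsg.Agent.Lib_helper3_Det

set_option autoImplicit false
set_option linter.unusedSectionVars false

namespace Cfsg.Agent.H3
open Subgroup
universe u v

section
variable {G : Type u} [Group G] [Finite G]

/-- two homs trivial on `N` with equal `d`-th powers, `d` prime to the index, are equal -/
theorem hom_eq_of_pow_eq {A : Type*} [CommGroup A] (N : Subgroup G) [N.Normal] (d : ℕ)
    (hcop : Nat.Coprime N.index d) (β β' : G →* A) (hβ : ∀ n : N, β n = 1) (hβ' : ∀ n : N, β' n = 1)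
    (h : β ^ d = β' ^ d) : β = β' := by
  have h1 : (β * β'⁻¹) ^ N.index = 1 := pow_index_eq_one_of_trivial N _ (fun n => by
    rw [MonoidHom.mul_apply, MonoidHom.inv_apply, hβ, hβ', inv_one, mul_one])
  have h2 : (β * β'⁻¹) ^ d = 1 := by rw [mul_pow, inv_pow, h, mul_inv_cancel]
  have h3 : orderOf (β * β'⁻¹) = 1 :=
    Nat.eq_one_of_dvd_coprimes hcop (orderOf_dvd_of_pow_eq_one h1) (orderOf_dvd_of_pow_eq_one h2)
  rw [orderOf_eq_one_iff] at h3
  exact mul_inv_eq_one.1 h3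

/-- a hom trivial on `N` is a `d`-th power of such a hom -/
theorem exists_root_hom {A : Type*} [CommGroup A] (N : Subgroup G) [N.Normal] (d : ℕ)
    (hcop : Nat.Coprime N.index d) (δ : G →* A) (hδ : ∀ n : N, δ n = 1) :
    ∃ β : G →* A, (∀ n : N, β n = 1) ∧ β ^ d = δ := by
  have h1 := pow_index_eq_one_of_trivial N δ hδ
  have hbez : (N.index : ℤ) * Nat.gcdA N.index d + (d : ℤ) * Nat.gcdB N.index d = 1 := by
    have := Nat.gcd_eq_gcd_ab N.index d
    rw [Nat.Coprime.gcd_eq_one hcop] at this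
    exact_mod_cast this.symm
  refine ⟨δ ^ (Nat.gcdB N.index d), fun n => by rw [MonoidHom.zpow_apply, hδ, one_zpow], ?_⟩
  have h2 : Nat.gcdB N.index d * (d : ℤ) = 1 - (N.index : ℤ) * Nat.gcdA N.index d := by linarith
  rw [← zpow_natCast, ← zpow_mul, h2, zpow_sub, zpow_one, zpow_mul, zpow_natCast, h1, one_zpow,
    inv_one, mul_one]

theorem detChar_restrict (N : Subgroup G) {η : G → ℂ} (hη : Cfsg.IsCharacter G η) {ϑ : N → ℂ}
    (h : ∀ n : N, η n = ϑ n) (n : N) : Cfsg.detChar η n = Cfsg.detChar ϑ n := by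
  have h1 := detChar_comp N.subtype hη
  have h2 : (fun x : N => η (N.subtype x)) = ϑ := funext h
  rw [h2] at h1
  exact (congrFun h1 n).symm

/-- uniqueness of the extension with given determinant -/
theorem ext_det_unique (N : Subgroup G) [hN : N.Normal] (ϑ : N → ℂ) (hϑ : Cfsg.IsIrrCharacter N ϑ)
    (d : ℕ) (hd : ϑ 1 = d) (hcop : Nat.Coprime N.index d) (χ χ' : G → ℂ)
    (hχ : Cfsg.IsIrrCharacter G χ) (hχ' : Cfsg.IsIrrCharacter G χ')
    (h : ∀ n : N, χ n = ϑ n) (h' : ∀ n : N, χ' n = ϑ n)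
    (hdet : Cfsg.detChar χ = Cfsg.detChar χ') : χ' = χ := by
  classical
  have := Fintype.ofFinite G
  have hres : (fun n : N => χ n) = ϑ := funext h
  have hres' : (fun n : N => χ' n) = ϑ := funext h'
  obtain ⟨-, -, g3⟩ := H4.gallagher N χ hχ (by rw [hres]; exact hϑ)
  obtain ⟨β, hβ, hβN, hβχ⟩ := g3 χ' hχ' (by
    rw [hres, hres', H4.IsIrrCharacter.norm_one hϑ]; exact one_ne_zero)
  have hd0 : (d : ℂ) ≠ 0 := by
    rw [← hd]; exact H4.IsIrrCharacter.apply_one_ne_zero hϑ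
  have hχ1 : χ 1 = d := by rw [← hd]; exact h 1
  have hχ'1 : χ' 1 = d := by rw [← hd]; exact h' 1
  have hβ1 : β 1 = 1 := by
    have := congrFun hβχ 1
    rw [Pi.mul_apply, hχ1, hχ'1] at this
    exact (mul_right_cancel₀ hd0 (by rw [one_mul]; exact this)).symm
  have hβc := H4.IsIrrCharacter.isCharacter hβ
  set B := H4.linearHom hβc hβ1 with hB
  have hBβ : ∀ g, ((B g : ℂˣ) : ℂ) = β g := fun g => rfl
  have hdet' := detChar_linear_mul B (H4.IsIrrCharacter.isCharacter hχ) d hχ1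
  have e1 : (fun g => ((B g : ℂˣ) : ℂ) * χ g) = χ' := by rw [hβχ]; rfl
  rw [e1, ← hdet] at hdet'
  obtain ⟨E, hE⟩ := detChar_eq_hom (H4.IsIrrCharacter.isCharacter hχ)
  have hBd : B ^ d = 1 ^ d := by
    ext g
    have h2 := congrFun hdet' g
    rw [hE] at h2
    simp only at h2
    have h3 : ((E g : ℂˣ) : ℂ) ≠ 0 := (E g).ne_zero
    have h4 : ((B g : ℂˣ) : ℂ) ^ d = 1 := by
      apply mul_right_cancel₀ h3
      rw [one_mul]; exact h2.symm
    simp [h4]
  have hB1 : B = 1 := hom_eq_of_pow_eq N d hcop B 1 (fun n => Units.ext (by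
    rw [hBβ, hβN n n.2, hβ1]; rfl)) (fun n => rfl) hBd
  rw [hβχ]
  funext g
  rw [Pi.mul_apply, ← hBβ, hB1]
  simp

/-- existence of the extension with given determinant -/
theorem ext_det_exists (N : Subgroup G) [hN : N.Normal] (ϑ : N → ℂ)
    (d : ℕ) (hd : ϑ 1 = d) (hcop : Nat.Coprime N.index d) (η : G → ℂ)
    (hη : Cfsg.IsIrrCharacter G η) (h : ∀ n : N, η n = ϑ n)
    (μ : G → ℂ) (hμ : Cfsg.IsCharacter G μ) (hμ1 : μ 1 = 1)
    (hμN : ∀ n : N, μ n = Cfsg.detChar ϑ n) :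
    ∃ χ : G → ℂ, Cfsg.IsIrrCharacter G χ ∧ (∀ n : N, χ n = ϑ n) ∧ Cfsg.detChar χ = μ := by
  have hηc := H4.IsIrrCharacter.isCharacter hη
  obtain ⟨E, hE⟩ := detChar_eq_hom hηc
  set M := H4.linearHom hμ hμ1 with hM
  have hMμ : ∀ g, ((M g : ℂˣ) : ℂ) = μ g := fun g => rfl
  have hδ : ∀ n : N, (M * E⁻¹) n = 1 := by
    intro n
    rw [MonoidHom.mul_apply, MonoidHom.inv_apply, mul_inv_eq_one]
    apply Units.ext
    rw [hMμ, hμN, ← detChar_restrict N hηc h, hE]
  obtain ⟨β, hβN, hβd⟩ := exists_root_hom N d hcop (M * E⁻¹) hδ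
  have hη1 : η 1 = d := by rw [← hd]; exact h 1
  refine ⟨fun g => (β g : ℂ) * η g, ?_, ?_, ?_⟩
  · exact H4.IsIrrCharacter.linear_mul_irr (H4.isCharacter_of_hom β) (by simp) hη
  · intro n
    show ((β (n : G) : ℂˣ) : ℂ) * η n = ϑ n
    rw [hβN, h]; simp
  · rw [detChar_linear_mul β hηc d hη1, hE]
    funext g
    have h1 : (β ^ d) g = (M * E⁻¹) g := by rw [hβd]
    rw [MonoidHom.pow_apply, MonoidHom.mul_apply, MonoidHom.inv_apply] at h1
    have h2 : β g ^ d * E g = M g := by rw [h1]; simp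
    rw [← hMμ, ← h2]
    simp

end

end Cfsg.Agent.H3
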