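import Mathlib
import Cfsg.Agent.Lib_helper3_Det2
import Cfsg.Agent.Lib_helper1_Schmidt

set_option autoImplicit false

namespace Cfsg.Agent.H3
open Subgroup
universe u v

theorem solvable_quotient_subgroupOf {G : Type u} [Group G] (N M : Subgroup G) [N.Normal]
    (h : Group.IsSolvable (G ⧸ N)) : Group.IsSolvable (M ⧸ N.subgroupOf M) := by
  let f : M ⧸ N.subgroupOf M →* G ⧸ N := QuotientGroup.map (N.subgroupOf M) N M.subtype le_rfl
  apply Group.isSolvable_of_isSolvable_injective (f := f)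
  rw [injective_iff_map_eq_one]
  intro q hq
  obtain ⟨m, rfl⟩ := QuotientGroup.mk_surjective q
  have h1 : ((m : G) : G ⧸ N) = 1 := hq
  rw [QuotientGroup.eq_one_iff] at h1 ⊢
  exact h1

/-- an invariant irreducible character of degree prime to the index with solvable quotient
extends as soon as its determinant does -/
theorem ext_of_det_ext : ∀ (k : ℕ) (G : Type u) [Group G] [Finite G] (N : Subgroup G)
    [hN : N.Normal], Nat.card G = k → Group.IsSolvable (G ⧸ N) → ∀ (ϑ : N → ℂ),
    Cfsg.IsIrrCharacter N ϑ →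
    (∀ (g : G) (n : N), ϑ ⟨g * n * g⁻¹, hN.conj_mem (n : G) n.2 g⟩ = ϑ n) → ∀ d : ℕ, ϑ 1 = d →
    Nat.Coprime N.index d → ∀ μ : G → ℂ, Cfsg.IsCharacter G μ → μ 1 = 1 →
    (∀ n : N, μ n = Cfsg.detChar ϑ n) →
    ∃ χ : G → ℂ, Cfsg.IsIrrCharacter G χ ∧ ∀ n : N, χ n = ϑ n := by
  intro k
  induction k using Nat.strong_induction_on with
  | _ k ih =>
  intro G _ _ N hN hk hsolv ϑ hϑ hinv d hd hcop μ hμ hμ1 hμN
  by_cases hnt : Nontrivial (G ⧸ N)
  · obtain ⟨Mb, hMbn, hMbp, -⟩ := H1.exists_normal_prime_index (G ⧸ N)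
    set M : Subgroup G := Mb.comap (QuotientGroup.mk' N) with hM
    have hMn : M.Normal := hMbn.comap _
    have hNM : N ≤ M := by
      intro n hn
      rw [hM, mem_comap]
      have : QuotientGroup.mk' N n = 1 := (QuotientGroup.eq_one_iff n).2 hn
      rw [this]; exact one_mem _
    have hMidx : M.index = Mb.index := index_comap_of_surjective _ (QuotientGroup.mk'_surjective N)
    have hMp : M.index.Prime := hMidx ▸ hMbp
    have hMlt : Nat.card M < k := by
      rw [← hk, ← M.index_mul_card]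
      have := hMp.one_lt
      have h2 : 0 < Nat.card M := Nat.card_pos
      nlinarith
    let e : N.subgroupOf M ≃* N := subgroupOfEquivOfLe hNM
    have he : ∀ x : N.subgroupOf M, ((e x : N) : G) = ((x : M) : G) := fun x => rfl
    set ϑ' : N.subgroupOf M → ℂ := fun x => ϑ (e x) with hϑ'
    have hϑ'irr : Cfsg.IsIrrCharacter (N.subgroupOf M) ϑ' :=
      H4.IsIrrCharacter.comp_surj e.toMonoidHom e.surjective hϑ
    have hN'n : (N.subgroupOf M).Normal := inferInstance
    have hinv' : ∀ (m : M) (x : N.subgroupOf M),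
        ϑ' ⟨m * x * m⁻¹, hN'n.conj_mem (x : M) x.2 m⟩ = ϑ' x := by
      intro m x
      have h1 := hinv (m : G) (e x)
      rw [hϑ']
      simp only
      rw [← h1]
      congr 1
    have hd' : ϑ' 1 = d := by rw [hϑ']; simp only; rw [map_one, hd]
    have hcop' : Nat.Coprime (N.subgroupOf M).index d :=
      Nat.Coprime.coprime_dvd_left (relIndex_dvd_index_of_normal N M) hcop
    have hμ'N : ∀ x : N.subgroupOf M, (fun m : M => μ m) x = Cfsg.detChar ϑ' x := by
      intro x
      have h1 := detChar_comp e.toMonoidHom (H4.IsIrrCharacter.isCharacter hϑ)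
      have h2 : Cfsg.detChar ϑ' x = Cfsg.detChar ϑ (e x) := congrFun h1 x
      rw [h2, ← hμN]
      rfl
    have hμ' : Cfsg.IsCharacter M (fun m : M => μ m) := H4.IsCharacter.restrict M hμ
    obtain ⟨ψ₀, hψ₀, hψ₀N⟩ := ih (Nat.card M) hMlt M (N.subgroupOf M) rfl
      (solvable_quotient_subgroupOf N M hsolv) ϑ' hϑ'irr hinv' d hd' hcop' (fun m : M => μ m) hμ'
      hμ1 hμ'N
    obtain ⟨ψ, hψ, hψN, hψd⟩ := ext_det_exists (N.subgroupOf M) ϑ' d hd' hcop' ψ₀ hψ₀ hψ₀N
      (fun m : M => μ m) hμ' hμ1 hμ'N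
    have hψinv : ∀ (g : G) (m : M), ψ ⟨g * m * g⁻¹, hMn.conj_mem (m : G) m.2 g⟩ = ψ m := by
      intro g m
      let c : M →* M := (MulAut.conjNormal g : MulAut M).toMonoidHom
      have hc : ∀ m : M, c m = ⟨g * m * g⁻¹, hMn.conj_mem (m : G) m.2 g⟩ := fun m => rfl
      have hcs : Function.Surjective c := (MulAut.conjNormal g : MulAut M).surjective
      have h1 : Cfsg.IsIrrCharacter M (fun m => ψ (c m)) := H4.IsIrrCharacter.comp_surj c hcs hψ
      have h2 : ∀ x : N.subgroupOf M, (fun m => ψ (c m)) x = ϑ' x := by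
        intro x
        have hmem : c x ∈ N.subgroupOf M := by
          rw [mem_subgroupOf, hc]
          exact hN.conj_mem _ x.2 g
        have h3 := hψN ⟨c x, hmem⟩
        simp only at h3 ⊢
        rw [h3, hϑ']
        simp only
        rw [← hinv g (e x)]
        congr 1
      have h3 : Cfsg.detChar ψ = Cfsg.detChar (fun m => ψ (c m)) := by
        rw [detChar_comp c (H4.IsIrrCharacter.isCharacter hψ), hψd]
        funext m
        rw [hc]
        exact (H4.IsCharacter.isClassFunction hμ (m : G) g).symm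
      have h4 := ext_det_unique (N.subgroupOf M) ϑ' hϑ'irr d hd' hcop' ψ (fun m => ψ (c m)) hψ h1
        hψN h2 h3
      exact congrFun h4 m
    have hcyc : IsCyclic (G ⧸ M) := by
      have : Fact (Nat.card (G ⧸ M)).Prime := ⟨by rw [← index_eq_card]; exact hMp⟩
      exact isCyclic_of_prime_card rfl
    obtain ⟨χ, hχ, hχM⟩ := H4.extends_of_cyclic M hcyc ψ hψ hψinv
    refine ⟨χ, hχ, fun n => ?_⟩
    have h1 := hχM ⟨n, hNM n.2⟩
    have h2 := hψN ⟨⟨n, hNM n.2⟩, n.2⟩
    exact h1.trans h2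
  · rw [not_nontrivial_iff_subsingleton] at hnt
    exact H4.extends_of_cyclic N inferInstance ϑ hϑ hinv

end Cfsg.Agent.H3
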