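import Mathlib
import Cfsg.Prelude.Def_Blocks
import Cfsg.Agent.Lib_helper3_Det3
import Cfsg.Agent.Lib_helper3_AFT

set_option autoImplicit false
set_option linter.unusedSectionVars false

namespace Cfsg.Agent.H3
open Subgroup
universe u v

section
variable {G : Type u} [Group G] [Finite G]

theorem comm_mem_of_prime_index (M : Subgroup G) [hM : M.Normal] (hp : M.index.Prime) (x y : G) :
    x * y * x⁻¹ * y⁻¹ ∈ M := by
  have hcyc : IsCyclic (G ⧸ M) := by
    have : Fact (Nat.card (G ⧸ M)).Prime := ⟨by rw [← index_eq_card]; exact hp⟩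
    exact isCyclic_of_prime_card rfl
  rw [← QuotientGroup.eq_one_iff]
  simp only [QuotientGroup.mk_mul, QuotientGroup.mk_inv]
  rw [hcyc.isMulCommutative.is_comm.comm (x : G ⧸ M) (y : G ⧸ M)]
  group

/-- an irreducible character of degree prime to `p` restricts irreducibly to a normal subgroup of
index `p` -/
theorem restrict_irr_of_prime_index (M : Subgroup G) [hM : M.Normal] (p : ℕ) (hp : p.Prime)
    (hidx : M.index = p) (χ : G → ℂ) (hχ : Cfsg.IsIrrCharacter G χ)
    (hdeg : ¬ p ∣ Cfsg.charDegree χ) : Cfsg.IsIrrCharacter M (fun m : M => χ m) := by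
  classical
  have := Fintype.ofFinite G
  have hχc := H4.IsIrrCharacter.isCharacter hχ
  have hres : Cfsg.IsCharacter M (fun m : M => χ m) := H4.IsCharacter.restrict M hχc
  have h0 : (fun m : M => χ m) ≠ 0 :=
    H4.IsCharacter.ne_zero_of_apply_one (H4.IsIrrCharacter.apply_one_ne_zero hχ)
  obtain ⟨ψ, hψ⟩ := H4.IsCharacter.exists_constituent hres h0
  by_cases hinv : ∀ (g : G) (m : M), ψ.1 ⟨g * m * g⁻¹, hM.conj_mem (m : G) m.2 g⟩ = ψ.1 m
  · have hcyc : IsCyclic (G ⧸ M) := by
      have : Fact (Nat.card (G ⧸ M)).Prime := ⟨by rw [← index_eq_card, hidx]; exact hp⟩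
      exact isCyclic_of_prime_card rfl
    obtain ⟨η, hη, hηM⟩ := H4.extends_of_cyclic M hcyc ψ.1 ψ.2 hinv
    have hηres : (fun m : M => η m) = ψ.1 := funext hηM
    obtain ⟨-, -, g3⟩ := H4.gallagher M η hη (by rw [hηres]; exact ψ.2)
    obtain ⟨β, hβ, hβM, hβχ⟩ := g3 χ hχ (by rw [hηres]; exact hψ)
    have hβ1 : β 1 = 1 := H4.linear_of_ker_of_abelian_quotient M
      (comm_mem_of_prime_index M (hidx ▸ hp)) hβ hβM
    have h1 : (fun m : M => χ m) = ψ.1 := by
      funext m
      rw [hβχ, Pi.mul_apply, hβM m m.2, hβ1, one_mul, hηM]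
    rw [h1]; exact ψ.2
  · exfalso
    set T := H4.inertia hM ψ.1 with hT
    have hMT : M ≤ T := H4.le_inertia hM
      (H4.IsCharacter.isClassFunction (H4.IsIrrCharacter.isCharacter ψ.2))
    have hTne : T ≠ ⊤ := by
      intro h
      apply hinv
      intro g m
      have : g ∈ T := by rw [h]; trivial
      exact (H4.mem_inertia' hM ψ.1 g).1 this m
    have hTidx : T.index = p := by
      have h1 : T.index ∣ p := hidx ▸ index_dvd_of_le hMT
      rcases (Nat.dvd_prime hp).1 h1 with h2 | h2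
      · exact (hTne (index_eq_one.1 h2)).elim
      · exact h2
    obtain ⟨ψ', hψ', hind, -⟩ := H4.clifford_corr_surj M hM ψ.1 ψ.2 T
      (fun g => H4.mem_inertia' hM ψ.1 g) hMT χ hχ hψ
    obtain ⟨n, -, -, hn⟩ := H4.IsIrrCharacter.exists_degree hψ'
    apply hdeg
    have h1 : χ 1 = ((p * n : ℕ) : ℂ) := by
      rw [← hind, H4.indFun_apply_one, hTidx, hn]; push_cast; ring
    rw [H4.charDegree_eq h1]
    exact Dvd.intro _ rfl

end

section action
variable {G : Type u} [Group G]

/-- the conjugation action on the irreducible characters of a normal subgroup -/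
@[reducible] noncomputable def irrAction (M : Subgroup G) (hM : M.Normal) :
    MulAction G (Cfsg.IrrCharacter M) where
  smul g ψ := ⟨H4.conjFun hM ψ.1 g⁻¹, H4.conjFun_irr hM ψ.2 g⁻¹⟩
  one_smul ψ := Subtype.ext (by
    show H4.conjFun hM ψ.1 (1 : G)⁻¹ = ψ.1
    rw [inv_one, H4.conjFun_one])
  mul_smul g h ψ := Subtype.ext (by
    show H4.conjFun hM ψ.1 (g * h)⁻¹ = H4.conjFun hM (H4.conjFun hM ψ.1 h⁻¹) g⁻¹
    rw [H4.conjFun_mul, mul_inv_rev])

/-- conjugation of functions as a monoid homomorphism -/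
noncomputable def conjFunHom (M : Subgroup G) (hM : M.Normal) (a : G) : (M → ℂ) →* (M → ℂ) where
  toFun θ := H4.conjFun hM θ a
  map_one' := rfl
  map_mul' _ _ := rfl

theorem conjFunHom_injective (M : Subgroup G) (hM : M.Normal) (a : G) :
    Function.Injective (conjFunHom M hM a) := by
  intro θ θ' h
  have h1 : H4.conjFun hM θ a = H4.conjFun hM θ' a := h
  have h2 := congrArg (fun f => H4.conjFun hM f a⁻¹) h1
  simp only [H4.conjFun_mul, mul_inv_cancel, H4.conjFun_one] at h2
  exact h2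

theorem charDegree_conjFun (M : Subgroup G) (hM : M.Normal) (θ : M → ℂ) (a : G) :
    Cfsg.charDegree (H4.conjFun hM θ a) = Cfsg.charDegree θ := by
  unfold Cfsg.charDegree
  have : H4.conjFun hM θ a 1 = θ 1 := by
    rw [H4.conjFun_apply]
    congr 1
    apply Subtype.ext
    simp
  rw [this]

theorem detChar_conjFun [Finite G] (M : Subgroup G) (hM : M.Normal) {θ : M → ℂ}
    (hθ : Cfsg.IsCharacter M θ) (a : G) :
    Cfsg.detChar (H4.conjFun hM θ a) = H4.conjFun hM (Cfsg.detChar θ) a := by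
  let c : M →* M := (MulAut.conjNormal a : MulAut M).toMonoidHom
  exact detChar_comp c hθ

theorem detOrder_conjFun [Finite G] (M : Subgroup G) (hM : M.Normal) {θ : M → ℂ}
    (hθ : Cfsg.IsCharacter M θ) (a : G) :
    Cfsg.detOrder (H4.conjFun hM θ a) = Cfsg.detOrder θ := by
  unfold Cfsg.detOrder
  rw [detChar_conjFun M hM hθ a]
  exact orderOf_injective (conjFunHom M hM a) (conjFunHom_injective M hM a) _

theorem inv_conjFun_iff (M : Subgroup G) (hM : M.Normal) (θ : M → ℂ) (a : G) :
    (∀ g : G, H4.conjFun hM (H4.conjFun hM θ a) g = H4.conjFun hM θ a) ↔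
      ∀ g : G, H4.conjFun hM θ g = θ := by
  constructor
  · intro h
    have h1 := h a⁻¹
    rw [H4.conjFun_mul, mul_inv_cancel, H4.conjFun_one] at h1
    rw [← h1] at h
    exact h
  · intro h g
    rw [h a, h g]

end action

end Cfsg.Agent.H3
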