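import Mathlib
import Cfsg.Prelude.Def_Transfer
import Cfsg.Agent.Lib_helper3_Det4
import Cfsg.Agent.Lib_helper1_Transfer

set_option autoImplicit false
set_option linter.unusedSectionVars false

namespace Cfsg.Agent.H3
open Subgroup
universe u v

/-- `χ` has degree and determinantal order prime to `p` -/
def IsGood (p : ℕ) {G : Type u} [Group G] (χ : G → ℂ) : Prop :=
  ¬ p ∣ Cfsg.charDegree χ ∧ ¬ p ∣ Cfsg.detOrder χ

section
variable {G : Type u} [Group G] [Finite G]

open Classical in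
theorem sum_good_modEq (M : Subgroup G) [hM : M.Normal] (p : ℕ) (hp : p.Prime)
    (hidx : M.index = p) [Fintype (Cfsg.IrrCharacter M)] :
    (p : ℤ) ∣ ∑ ψ : Cfsg.IrrCharacter M,
      (if IsGood p ψ.1 ∧ ¬ (∀ g : G, H4.conjFun hM ψ.1 g = ψ.1) then
        (Cfsg.charDegree ψ.1 : ℤ) ^ 2 else 0) := by
  let _ := irrAction M hM
  have hsm : ∀ (g : G) (ψ : Cfsg.IrrCharacter M), (g • ψ).1 = H4.conjFun hM ψ.1 g⁻¹ :=
    fun _ _ => rfl
  apply dvd_sum_of_orbit (L := G)
  · intro g ψ
    have hc := H4.IsIrrCharacter.isCharacter ψ.2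
    have h1 : IsGood p (g • ψ).1 ↔ IsGood p ψ.1 := by
      unfold IsGood
      rw [hsm, charDegree_conjFun, detOrder_conjFun M hM hc]
    have h2 : (∀ a : G, H4.conjFun hM (g • ψ).1 a = (g • ψ).1) ↔
        ∀ a : G, H4.conjFun hM ψ.1 a = ψ.1 := by
      rw [hsm]; exact inv_conjFun_iff M hM ψ.1 g⁻¹
    have h3 : Cfsg.charDegree (g • ψ).1 = Cfsg.charDegree ψ.1 := by
      rw [hsm, charDegree_conjFun]
    simp only [h1, h2, h3]
  · intro ψ
    by_cases hc : IsGood p ψ.1 ∧ ¬ (∀ g : G, H4.conjFun hM ψ.1 g = ψ.1)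
    · rw [if_pos hc]
      apply Dvd.dvd.mul_right
      have hst : M ≤ MulAction.stabilizer G ψ := by
        intro m hm
        rw [MulAction.mem_stabilizer_iff]
        apply Subtype.ext
        rw [hsm]
        have := H4.le_inertia hM
          (H4.IsCharacter.isClassFunction (H4.IsIrrCharacter.isCharacter ψ.2)) (M.inv_mem hm)
        exact this
      have hne : MulAction.stabilizer G ψ ≠ ⊤ := by
        intro h
        apply hc.2
        intro g
        have h1 : g⁻¹ ∈ MulAction.stabilizer G ψ := by rw [h]; trivial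
        rw [MulAction.mem_stabilizer_iff] at h1
        have h2 := congrArg Subtype.val h1
        rw [hsm, inv_inv] at h2
        exact h2
      have hi : (MulAction.stabilizer G ψ).index = p := by
        have h1 : (MulAction.stabilizer G ψ).index ∣ p := hidx ▸ index_dvd_of_le hst
        rcases (Nat.dvd_prime hp).1 h1 with h2 | h2
        · exact (hne (index_eq_one.1 h2)).elim
        · exact h2
      rw [MulAction.index_stabilizer] at hi
      rw [Nat.card_coe_set_eq, hi]
    · rw [if_neg hc, mul_zero]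
      exact dvd_zero _

theorem charDegree_restrict (M : Subgroup G) (χ : G → ℂ) :
    Cfsg.charDegree (fun m : M => χ m) = Cfsg.charDegree χ := rfl

/-- restriction of functions as a monoid homomorphism -/
def restrictHom (M : Subgroup G) : (G → ℂ) →* (M → ℂ) where
  toFun θ := fun m => θ m
  map_one' := rfl
  map_mul' _ _ := rfl

theorem detOrder_restrict_dvd (M : Subgroup G) {χ : G → ℂ} (hχ : Cfsg.IsCharacter G χ) :
    Cfsg.detOrder (fun m : M => χ m) ∣ Cfsg.detOrder χ := by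
  unfold Cfsg.detOrder
  have h1 : Cfsg.detChar (fun m : M => χ m) = restrictHom M (Cfsg.detChar χ) :=
    detChar_comp M.subtype hχ
  rw [h1]
  exact orderOf_map_dvd _ _

theorem hom_eq_of_coprime_orders {A : Type*} [CommGroup A] (M : Subgroup G) [hM : M.Normal]
    (E E' : G →* A) (hEE : ∀ m : M, E m = E' m)
    (hc : Nat.Coprime M.index (orderOf E * orderOf E')) : E = E' := by
  have h1 : (E * E'⁻¹) ^ M.index = 1 := pow_index_eq_one_of_trivial M _ (fun m => by
    rw [MonoidHom.mul_apply, MonoidHom.inv_apply, hEE, mul_inv_cancel])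
  have h2 : (E * E'⁻¹) ^ (orderOf E * orderOf E') = 1 := by
    rw [mul_pow, pow_mul, pow_orderOf_eq_one, one_pow, one_mul, inv_pow, mul_comm, pow_mul,
      pow_orderOf_eq_one, one_pow, inv_one]
  have h3 : orderOf (E * E'⁻¹) = 1 :=
    Nat.eq_one_of_dvd_coprimes hc (orderOf_dvd_of_pow_eq_one h1) (orderOf_dvd_of_pow_eq_one h2)
  rw [orderOf_eq_one_iff] at h3
  exact mul_inv_eq_one.1 h3

/-- the unique good extension -/
theorem good_ext_unique (M : Subgroup G) [hM : M.Normal] (p : ℕ) (hp : p.Prime)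
    (hidx : M.index = p) (χ χ' : G → ℂ) (hχ : Cfsg.IsIrrCharacter G χ)
    (hχ' : Cfsg.IsIrrCharacter G χ') (hg : IsGood p χ) (hg' : IsGood p χ')
    (hres : ∀ m : M, χ m = χ' m) : χ = χ' := by
  have hχc := H4.IsIrrCharacter.isCharacter hχ
  have hχ'c := H4.IsIrrCharacter.isCharacter hχ'
  have hψ := restrict_irr_of_prime_index M p hp hidx χ hχ hg.1
  obtain ⟨d, -, -, hd⟩ := H4.IsIrrCharacter.exists_degree hχ
  have hdd : Cfsg.charDegree χ = d := H4.charDegree_eq hd
  have hcop : Nat.Coprime M.index d := by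
    rw [hidx, Nat.Prime.coprime_iff_not_dvd hp, ← hdd]; exact hg.1
  obtain ⟨E, hE⟩ := detChar_eq_hom hχc
  obtain ⟨E', hE'⟩ := detChar_eq_hom hχ'c
  have hEo : ¬ p ∣ orderOf E := by
    have := hg.2
    unfold Cfsg.detOrder at this
    rwa [hE, orderOf_homToFun] at this
  have hE'o : ¬ p ∣ orderOf E' := by
    have := hg'.2
    unfold Cfsg.detOrder at this
    rwa [hE', orderOf_homToFun] at this
  -- both determinants extend the same homomorphism
  have hEE : ∀ m : M, E m = E' m := by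
    intro m
    apply Units.ext
    have h1 := detChar_restrict M hχc (ϑ := fun m : M => χ m) (fun _ => rfl) m
    have h2 := detChar_restrict M hχ'c (ϑ := fun m : M => χ m) (fun m => (hres m).symm) m
    rw [hE] at h1
    rw [hE'] at h2
    exact h1.trans h2.symm
  have hEeq : E = E' := by
    apply hom_eq_of_coprime_orders M E E' hEE
    rw [hidx]
    exact Nat.Coprime.mul_right ((Nat.Prime.coprime_iff_not_dvd hp).2 hEo)
      ((Nat.Prime.coprime_iff_not_dvd hp).2 hE'o)
  exact (ext_det_unique M (fun m : M => χ m) hψ d hd hcop χ χ' hχ hχ' (fun _ => rfl)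
    (fun m => (hres m).symm) (by rw [hE, hE', hEeq])).symm

/-- existence of the good extension -/
theorem good_ext_exists (M : Subgroup G) [hM : M.Normal] (p : ℕ) (hp : p.Prime)
    (hidx : M.index = p) (ψ : M → ℂ) (hψ : Cfsg.IsIrrCharacter M ψ) (hg : IsGood p ψ)
    (hinv : ∀ g : G, H4.conjFun hM ψ g = ψ) :
    ∃ χ : G → ℂ, Cfsg.IsIrrCharacter G χ ∧ IsGood p χ ∧ ∀ m : M, χ m = ψ m := by
  have hψc := H4.IsIrrCharacter.isCharacter hψ
  have hcyc : IsCyclic (G ⧸ M) := by
    have : Fact (Nat.card (G ⧸ M)).Prime := ⟨by rw [← index_eq_card, hidx]; exact hp⟩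
    exact isCyclic_of_prime_card rfl
  obtain ⟨η, hη, hηM⟩ := H4.extends_of_cyclic M hcyc ψ hψ (fun g m => congrFun (hinv g) m)
  obtain ⟨d, -, -, hd⟩ := H4.IsIrrCharacter.exists_degree hψ
  have hdd : Cfsg.charDegree ψ = d := H4.charDegree_eq hd
  have hcop : Nat.Coprime M.index d := by
    rw [hidx, Nat.Prime.coprime_iff_not_dvd hp, ← hdd]; exact hg.1
  obtain ⟨f, hf⟩ := detChar_eq_hom hψc
  have hfo : ¬ p ∣ orderOf f := by
    have := hg.2
    unfold Cfsg.detOrder at this
    rwa [hf, orderOf_homToFun] at this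
  have hfinv : ∀ (g : G) (m : M), f ⟨g * m * g⁻¹, hM.conj_mem m m.2 g⟩ = f m := by
    intro g m
    apply Units.ext
    have h1 := detChar_conjFun M hM hψc g
    rw [hinv g, hf] at h1
    exact (congrFun h1 m).symm
  obtain ⟨μ, hμ, hμo, -⟩ := exists_unique_extension_coprime M f hfinv (by
    rw [hidx]; exact (Nat.Prime.coprime_iff_not_dvd hp).2 hfo)
  obtain ⟨χ, hχ, hχM, hχd⟩ := ext_det_exists M ψ d hd hcop η hη hηM (fun g => (μ g : ℂ))
    (H4.isCharacter_of_hom μ) (by simp) (fun m => by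
      show ((μ (m : G) : ℂˣ) : ℂ) = _
      rw [hμ, hf])
  refine ⟨χ, hχ, ⟨?_, ?_⟩, hχM⟩
  · have h1 : χ 1 = d := by rw [← hd]; exact hχM 1
    rw [H4.charDegree_eq h1, ← hdd]; exact hg.1
  · unfold Cfsg.detOrder
    rw [hχd, orderOf_homToFun, hμo]; exact hfo

open Classical in
theorem sum_good_eq (M : Subgroup G) [hM : M.Normal] (p : ℕ) (hp : p.Prime)
    (hidx : M.index = p) [Fintype (Cfsg.IrrCharacter M)] [Fintype (Cfsg.IrrCharacter G)] :
    ∑ χ : Cfsg.IrrCharacter G, (if IsGood p χ.1 then (Cfsg.charDegree χ.1 : ℤ) ^ 2 else 0) =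
    ∑ ψ : Cfsg.IrrCharacter M,
      (if IsGood p ψ.1 ∧ (∀ g : G, H4.conjFun hM ψ.1 g = ψ.1) then
        (Cfsg.charDegree ψ.1 : ℤ) ^ 2 else 0) := by
  rw [← Finset.sum_filter, ← Finset.sum_filter]
  refine Finset.sum_bij (fun χ hχ => ⟨fun m : M => χ.1 m, restrict_irr_of_prime_index M p hp hidx
    χ.1 χ.2 (Finset.mem_filter.1 hχ).2.1⟩) ?_ ?_ ?_ ?_
  · intro χ hχ
    have hg := (Finset.mem_filter.1 hχ).2
    rw [Finset.mem_filter]
    refine ⟨Finset.mem_univ _, ⟨hg.1, ?_⟩, ?_⟩
    · intro h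
      exact hg.2 (h.trans (detOrder_restrict_dvd M (H4.IsIrrCharacter.isCharacter χ.2)))
    · intro g
      funext m
      exact H4.IsCharacter.isClassFunction (H4.IsIrrCharacter.isCharacter χ.2) (m : G) g
  · intro χ hχ χ' hχ' h
    apply Subtype.ext
    exact good_ext_unique M p hp hidx χ.1 χ'.1 χ.2 χ'.2 (Finset.mem_filter.1 hχ).2
      (Finset.mem_filter.1 hχ').2 (fun m => congrFun (congrArg Subtype.val h) m)
  · intro ψ hψ
    have hg := (Finset.mem_filter.1 hψ).2
    obtain ⟨χ, hχ, hχg, hχM⟩ := good_ext_exists M p hp hidx ψ.1 ψ.2 hg.1 hg.2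
    exact ⟨⟨χ, hχ⟩, Finset.mem_filter.2 ⟨Finset.mem_univ _, hχg⟩, Subtype.ext (funext hχM)⟩
  · intro χ hχ
    rfl

end

end Cfsg.Agent.H3
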