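import Mathlib
import Cfsg.Agent.Lib_helper3_Det5

set_option autoImplicit false
set_option linter.unusedSectionVars false

namespace Cfsg.Agent.H3
open Subgroup
universe u v

section
variable {G : Type u} [Group G] [Finite G]

theorem pResidual_le_of_index (M : Subgroup G) [hM : M.Normal] (p : ℕ) [hp : Fact p.Prime]
    (hidx : M.index = p) : Cfsg.pResidual p G ≤ M := by
  have hQ : IsPGroup p (G ⧸ M) := IsPGroup.of_card (n := 1) (by rw [← index_eq_card, hidx, pow_one])
  have := H1.pResidual_le_ker p hQ (QuotientGroup.mk' M)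
  rwa [QuotientGroup.ker_mk'] at this

theorem pResidual_map_subtype (M : Subgroup G) [hM : M.Normal] (p : ℕ) [hp : Fact p.Prime]
    (hidx : M.index = p) : (Cfsg.pResidual p M).map M.subtype = Cfsg.pResidual p G := by
  have hle := pResidual_le_of_index M p hidx
  unfold Cfsg.pResidual
  rw [MonoidHom.map_closure]
  congr 1
  ext g
  constructor
  · rintro ⟨m, hm, rfl⟩
    change Nat.Coprime (orderOf m) p at hm
    change Nat.Coprime (orderOf (m : G)) p
    rwa [Subgroup.orderOf_coe]
  · intro hg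
    have hgM : g ∈ M := hle (H1.mem_pResidual_of_coprime p hg)
    refine ⟨⟨g, hgM⟩, ?_, rfl⟩
    change Nat.Coprime (orderOf (⟨g, hgM⟩ : M)) p
    rwa [Subgroup.orderOf_mk]

theorem card_pResidual_subgroup (M : Subgroup G) [hM : M.Normal] (p : ℕ) [hp : Fact p.Prime]
    (hidx : M.index = p) : Nat.card (Cfsg.pResidual p M) = Nat.card (Cfsg.pResidual p G) := by
  rw [← pResidual_map_subtype M p hidx, card_map_of_injective (subtype_injective M)]

theorem not_dvd_orderOf_hom {A : Type*} [CommGroup A] (p : ℕ) (hp : p.Prime)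
    (htop : Cfsg.pResidual p G = ⊤) (E : G →* A) : ¬ p ∣ orderOf E := by
  obtain ⟨a, m, hm, ham⟩ := Nat.exists_eq_pow_mul_and_not_dvd (n := Nat.card G) Nat.card_pos.ne' p
    hp.ne_one
  have hEm : E ^ m = 1 := by
    apply MonoidHom.eq_of_eqOn_dense (s := {g : G | Nat.Coprime (orderOf g) p}) htop
    intro g hg
    change Nat.Coprime (orderOf g) p at hg
    have h1 : orderOf g ∣ p ^ a * m := ham ▸ orderOf_dvd_natCard g
    have h2 : orderOf g ∣ m := (Nat.Coprime.pow_right a hg).dvd_of_dvd_mul_left h1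
    rw [MonoidHom.pow_apply, ← map_pow, orderOf_dvd_iff_pow_eq_one.1 h2]
    simp
  intro h
  exact hm (h.trans (orderOf_dvd_of_pow_eq_one hEm))

theorem coe_charDegree {χ : G → ℂ} (hχ : Cfsg.IsIrrCharacter G χ) :
    ((Cfsg.charDegree χ : ℕ) : ℂ) = χ 1 := by
  obtain ⟨d, -, -, hd⟩ := H4.IsIrrCharacter.exists_degree hχ
  rw [H4.charDegree_eq hd, hd]

theorem sum_charDegree_sq [Fintype (Cfsg.IrrCharacter G)] :
    ∑ χ : Cfsg.IrrCharacter G, (Cfsg.charDegree χ.1 : ℤ) ^ 2 = Nat.card G := by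
  have := Fintype.ofFinite G
  have h := H4.sum_sq_degrees' (G := G)
  have h2 : ∑ χ : Cfsg.IrrCharacter G, ((Cfsg.charDegree χ.1 : ℕ) : ℂ) ^ 2 = (Nat.card G : ℂ) := by
    rw [← h]
    apply Finset.sum_congr rfl
    intro χ _
    rw [coe_charDegree χ.2]
  exact_mod_cast h2

end

open Classical in
theorem card_pResidual_modEq (p : ℕ) (hp : p.Prime) : ∀ (k : ℕ) (G : Type u) [Group G] [Finite G]
    [Fintype (Cfsg.IrrCharacter G)], Nat.card G = k →
    (p : ℤ) ∣ (Nat.card (Cfsg.pResidual p G) : ℤ) -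
      ∑ χ : Cfsg.IrrCharacter G, (if IsGood p χ.1 then (Cfsg.charDegree χ.1 : ℤ) ^ 2 else 0) := by
  have : Fact p.Prime := ⟨hp⟩
  intro k
  induction k using Nat.strong_induction_on with
  | _ k ih =>
  intro G _ _ _ hk
  by_cases htop : Cfsg.pResidual p G = ⊤
  · rw [htop, card_top, ← sum_charDegree_sq, ← Finset.sum_sub_distrib]
    apply Finset.dvd_sum
    intro χ _
    by_cases hg : IsGood p χ.1
    · rw [if_pos hg, sub_self]; exact dvd_zero _
    · rw [if_neg hg, sub_zero]
      have h1 : ¬ p ∣ Cfsg.detOrder χ.1 := by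
        obtain ⟨E, hE⟩ := detChar_eq_hom (H4.IsIrrCharacter.isCharacter χ.2)
        unfold Cfsg.detOrder
        rw [hE, orderOf_homToFun]
        exact not_dvd_orderOf_hom p hp htop E
      have h2 : p ∣ Cfsg.charDegree χ.1 := by
        by_contra h
        exact hg ⟨h, h1⟩
      exact Dvd.dvd.pow (Int.natCast_dvd_natCast.2 h2) two_ne_zero
  · have hRn : (Cfsg.pResidual p G).Normal := H1.pResidual_normal p
    have hQ : IsPGroup p (G ⧸ Cfsg.pResidual p G) := H1.isPGroup_quotient_pResidual p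
    have hnt : Nontrivial (G ⧸ Cfsg.pResidual p G) := by
      rw [← Finite.one_lt_card_iff_nontrivial, ← index_eq_card]
      have h1 : (Cfsg.pResidual p G).index ≠ 1 := fun h => htop (index_eq_one.1 h)
      have h2 : (Cfsg.pResidual p G).index ≠ 0 := index_ne_zero_of_finite
      omega
    have hnil : Group.IsNilpotent (G ⧸ Cfsg.pResidual p G) := hQ.isNilpotent
    obtain ⟨Mb, hMbn, hMbp, -⟩ := H1.exists_normal_prime_index (G ⧸ Cfsg.pResidual p G)
    set M : Subgroup G := Mb.comap (QuotientGroup.mk' (Cfsg.pResidual p G)) with hM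
    have hMn : M.Normal := hMbn.comap _
    have hMidx : M.index = Mb.index :=
      index_comap_of_surjective _ (QuotientGroup.mk'_surjective _)
    have hidx : M.index = p := by
      rw [hMidx]
      obtain ⟨n, hn⟩ := IsPGroup.iff_card.1 hQ
      have h1 : Mb.index ∣ p ^ n := hn ▸ Mb.index_dvd_card
      exact (Nat.prime_dvd_prime_iff_eq hMbp hp).1 (hMbp.dvd_of_dvd_pow h1)
    have hMlt : Nat.card M < k := by
      rw [← hk, ← M.index_mul_card, hidx]
      have := hp.one_lt
      have h2 : 0 < Nat.card M := Nat.card_pos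
      nlinarith
    have := Fintype.ofFinite (Cfsg.IrrCharacter M)
    have h1 := ih (Nat.card M) hMlt M rfl
    have h2 := sum_good_modEq M p hp hidx
    have h3 := sum_good_eq M p hp hidx
    rw [card_pResidual_subgroup M p hidx] at h1
    have h4 : ∑ ψ : Cfsg.IrrCharacter M, (if IsGood p ψ.1 then (Cfsg.charDegree ψ.1 : ℤ) ^ 2 else 0)
        = ∑ ψ : Cfsg.IrrCharacter M,
          (if IsGood p ψ.1 ∧ (∀ g : G, H4.conjFun hMn ψ.1 g = ψ.1) then
            (Cfsg.charDegree ψ.1 : ℤ) ^ 2 else 0) +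
          ∑ ψ : Cfsg.IrrCharacter M,
          (if IsGood p ψ.1 ∧ ¬ (∀ g : G, H4.conjFun hMn ψ.1 g = ψ.1) then
            (Cfsg.charDegree ψ.1 : ℤ) ^ 2 else 0) := by
      rw [← Finset.sum_add_distrib]
      apply Finset.sum_congr rfl
      intro ψ _
      by_cases hg : IsGood p ψ.1 <;> by_cases hi : (∀ g : G, H4.conjFun hMn ψ.1 g = ψ.1) <;>
        simp [hg, hi]
    rw [h3]
    rw [h4] at h1
    have h5 := dvd_add h1 h2
    rwa [sub_add_eq_sub_sub, sub_add_cancel] at h5

end Cfsg.Agent.H3
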