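import Mathlib
import Cfsg.Prelude.Def_Transfer
import Cfsg.Agent.Lib_helper4_CharL

set_option autoImplicit false
set_option linter.unusedSectionVars false

namespace Cfsg.Agent.H3
open Subgroup Cfsg
open scoped ComplexConjugate
universe u

section
variable {G : Type u} [Group G]

/-- central elements act by scalars, in terms of characters -/
theorem irr_central_mul {χ : G → ℂ} (hχ : IsIrrCharacter G χ) {z : G} (hz : z ∈ center G) (y : G) :
    χ (y * z) * χ 1 = χ z * χ y := by
  obtain ⟨m, ρ, hirr, rfl⟩ := hχ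
  have := hirr
  obtain ⟨c, hc⟩ := H4.schur_scalar ρ (ρ z) (by
    intro y
    rw [← Module.End.mul_eq_comp, ← Module.End.mul_eq_comp, ← map_mul, ← map_mul,
      mem_center_iff.mp hz y])
  have h1 : ∀ y, ρ.character (y * z) = c * ρ.character y := by
    intro y
    rw [Representation.character, map_mul, hc]
    have : ρ y * (c • (LinearMap.id : (Fin m → ℂ) →ₗ[ℂ] (Fin m → ℂ))) = c • ρ y := by ext v; simp
    rw [this, map_smul, smul_eq_mul]; rfl
  have h2 := h1 1
  rw [one_mul] at h2
  rw [h1, h2]; ring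

theorem irr_central_pow {χ : G → ℂ} (hχ : IsIrrCharacter G χ) {z : G} (hz : z ∈ center G)
    (h : χ z = χ 1) (k : ℕ) : χ (z ^ k) = χ 1 := by
  have h0 := H4.IsIrrCharacter.apply_one_ne_zero hχ
  induction k with
  | zero => simp
  | succ k ih =>
    have h1 := irr_central_mul hχ hz (z ^ k)
    rw [← pow_succ, h, ih] at h1
    exact mul_right_cancel₀ h0 h1

theorem irr_central_normSq [Finite G] {χ : G → ℂ} (hχ : IsIrrCharacter G χ) {z : G}
    (hz : z ∈ center G) : χ z * conj (χ z) = χ 1 * χ 1 := by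
  have := Fintype.ofFinite G
  rw [← H4.IsCharacter.inv_eq_conj (H4.IsIrrCharacter.isCharacter hχ)]
  have h1 := irr_central_mul hχ hz z⁻¹
  rw [inv_mul_cancel] at h1
  exact h1.symm

/-- a character not trivial on a centre of prime order containing the commutator subgroup vanishes
off the centre -/
theorem irr_vanish_off_center [Finite G] {p : ℕ} [hp : Fact p.Prime]
    (hcard : Nat.card (center G) = p) (hcomm : commutator G ≤ center G) {χ : G → ℂ}
    (hχ : IsIrrCharacter G χ) {z₀ : G} (hz₀ : z₀ ∈ center G) (hne : χ z₀ ≠ χ 1) {g : G}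
    (hg : g ∉ center G) : χ g = 0 := by
  rw [mem_center_iff] at hg
  push Not at hg
  obtain ⟨x, hx⟩ := hg
  set z := g⁻¹ * x⁻¹ * g * x with hz
  have hzc : z ∈ center G := by
    apply hcomm
    rw [commutator_def]
    have h0 : g⁻¹ * x⁻¹ * g⁻¹⁻¹ * x⁻¹⁻¹ ∈ ⁅(⊤ : Subgroup G), ⊤⁆ :=
      commutator_mem_commutator (mem_top g⁻¹) (mem_top x⁻¹)
    rwa [inv_inv, inv_inv] at h0
  have hz1 : z ≠ 1 := by
    intro h
    apply hx
    have h2 : x * g * z = g * x := by rw [hz]; group
    rw [h, mul_one] at h2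
    exact h2
  have hcl := H4.IsCharacter.isClassFunction (H4.IsIrrCharacter.isCharacter hχ)
  have h1 : χ (g * z) = χ g := by
    have h2 : g * z = x⁻¹ * g * x⁻¹⁻¹ := by rw [hz]; group
    rw [h2]; exact hcl g x⁻¹
  have h3 := irr_central_mul hχ hzc g
  rw [h1] at h3
  have hzne : χ z ≠ χ 1 := by
    intro h
    apply hne
    have h4 : (⟨z₀, hz₀⟩ : center G) ∈ zpowers (⟨z, hzc⟩ : center G) :=
      mem_zpowers_of_prime_card hcard (fun h => hz1 (congrArg Subtype.val h))
    obtain ⟨k, hk⟩ := (mem_powers_iff_mem_zpowers.2 h4)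
    have hk' : z ^ k = z₀ := congrArg Subtype.val hk
    rw [← hk']
    exact irr_central_pow hχ hzc h k
  have h5 : χ g * (χ 1 - χ z) = 0 := by linear_combination h3
  rcases mul_eq_zero.1 h5 with h6 | h6
  · exact h6
  · exact (hzne (sub_eq_zero.1 h6).symm).elim

/-- degree of such a character -/
theorem irr_degree_sq_of_vanish [Finite G] {χ : G → ℂ} (hχ : IsIrrCharacter G χ)
    (hv : ∀ g : G, g ∉ center G → χ g = 0) (d : ℕ) (hd : χ 1 = d) :
    Nat.card (center G) * d ^ 2 = Nat.card G := by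
  classical
  have := Fintype.ofFinite G
  have h1 := H4.IsIrrCharacter.norm_one hχ
  unfold classInner at h1
  have h2 : ∀ g : G, χ g * conj (χ g) = if g ∈ center G then (d : ℂ) ^ 2 else 0 := by
    intro g
    by_cases hg : g ∈ center G
    · rw [if_pos hg, irr_central_normSq hχ hg, hd]; ring
    · rw [if_neg hg, hv g hg, zero_mul]
  simp only [h2] at h1
  rw [← Finset.sum_filter, Finset.sum_const, nsmul_eq_mul] at h1
  have h3 : (Finset.univ.filter (fun g : G => g ∈ center G)).card = Nat.card (center G) := by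
    rw [Nat.card_eq_fintype_card, Fintype.card_subtype]
  rw [h3] at h1
  have hG : (Nat.card G : ℂ) ≠ 0 := by exact_mod_cast Nat.card_pos.ne'
  have h4 : ((Nat.card (center G) * d ^ 2 : ℕ) : ℂ) = (Nat.card G : ℂ) := by
    push_cast
    field_simp at h1
    exact h1
  exact_mod_cast h4

end

section extra
variable {P : Type u} [Group P] [Finite P]

theorem extraspecial_degree (p n : ℕ) [hp : Fact p.Prime] (hP : IsExtraspecial p P)
    (hcard : Nat.card P = p ^ (2 * n + 1)) {χ : P → ℂ} (hχ : IsIrrCharacter P χ) {z₀ : P}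
    (hz₀ : z₀ ∈ center P) (hne : χ z₀ ≠ χ 1) :
    χ 1 = (p : ℂ) ^ n ∧ ∀ g : P, g ∉ center P → χ g = 0 := by
  have hv : ∀ g : P, g ∉ center P → χ g = 0 := fun g hg =>
    irr_vanish_off_center hP.2 hP.1.2.2.le hχ hz₀ hne hg
  refine ⟨?_, hv⟩
  obtain ⟨d, -, -, hd⟩ := H4.IsIrrCharacter.exists_degree hχ
  have h1 := irr_degree_sq_of_vanish hχ hv d hd
  rw [hP.2, hcard, pow_succ, mul_comm] at h1
  have h2 : d ^ 2 = (p ^ n) ^ 2 := by
    rw [← pow_mul, mul_comm n 2]
    exact Nat.eq_of_mul_eq_mul_right hp.out.pos h1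
  have h3 : d = p ^ n := Nat.pow_left_injective (n := 2) (by norm_num) h2
  rw [hd, h3]; push_cast; rfl

theorem extraspecial_linear (p : ℕ) (hP : IsExtraspecial p P) {χ : P → ℂ}
    (hχ : IsIrrCharacter P χ) (h : ∀ z ∈ center P, χ z = χ 1) : χ 1 = 1 := by
  apply H4.linear_of_ker_of_abelian_quotient (center P) _ hχ h
  intro x y
  rw [← hP.1.2.2, commutator_def]
  exact commutator_mem_commutator (mem_top x) (mem_top y)

theorem extraspecial_n_pos (p n : ℕ) [hp : Fact p.Prime] (hP : IsExtraspecial p P)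
    (hcard : Nat.card P = p ^ (2 * n + 1)) : 0 < n := by
  by_contra h
  have hn : n = 0 := by omega
  rw [hn, mul_zero, zero_add, pow_one] at hcard
  have hcyc : IsCyclic P := isCyclic_of_prime_card hcard
  have h1 : commutator P = ⊥ := by
    rw [commutator_eq_bot_iff_center_eq_top, eq_top_iff]
    intro x _
    rw [mem_center_iff]
    intro y
    exact hcyc.isMulCommutative.is_comm.comm y x
  have h2 := hP.2
  rw [← hP.1.2.2, h1, card_bot] at h2
  exact hp.out.one_lt.ne h2

end extra

end Cfsg.Agent.H3
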