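import Cfsg.Agent.Lib_helper3_Sylow

set_option autoImplicit false

namespace Cfsg.Agent.H3

open Subgroup
open scoped Pointwise

variable {G : Type*} [Group G]

theorem mem_conj_smul_iff (H : Subgroup G) (g x : G) :
    x ∈ MulAut.conj g • H ↔ g⁻¹ * x * g ∈ H := by
  rw [Subgroup.mem_pointwise_smul_iff_inv_smul_mem]
  have : (MulAut.conj g)⁻¹ • x = g⁻¹ * x * g := by simp [MulAut.smul_def]
  rw [this]

theorem mem_smul_sylow_iff {p : ℕ} (P : Sylow p G) (g x : G) :
    x ∈ g • P ↔ g⁻¹ * x * g ∈ P := by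
  have h : x ∈ g • P ↔ x ∈ ((g • P : Sylow p G) : Subgroup G) := Iff.rfl
  rw [h, Sylow.coe_subgroup_smul, mem_conj_smul_iff]
  rfl

theorem orderOf_conj' (g x : G) : orderOf (g * x * g⁻¹) = orderOf x := by
  have := (MulAut.conj g).orderOf_eq x
  simpa using this

theorem exists_mem_sylow {p : ℕ} {x : G} (hx : ∃ k : ℕ, orderOf x = p ^ k) :
    ∃ P : Sylow p G, x ∈ P := by
  obtain ⟨P, hP⟩ := (isPGroup_zpowers hx).exists_le_sylow
  exact ⟨P, hP (mem_zpowers x)⟩

theorem pCore_isPGroup (p : ℕ) : IsPGroup p (Cfsg.pCore p G) :=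
  Sylow.sSup_of_normal _ (fun _ h => h.2) (fun _ h => h.1)

theorem pCore_normal (p : ℕ) : (Cfsg.pCore p G).Normal :=
  Subgroup.sSup_normal _ (fun _ h => h.1)

theorem pCore_le_sylow {p : ℕ} (P : Sylow p G) : Cfsg.pCore p G ≤ P := by
  have := pCore_normal (G := G) p
  exact (pCore_isPGroup p).le_sylow_of_normal P

theorem le_pCore {p : ℕ} (N : Subgroup G) [hN : N.Normal] (h : IsPGroup p N) : N ≤ Cfsg.pCore p G :=
  le_sSup ⟨hN, h⟩

theorem index_conj_smul (H : Subgroup G) (g : G) : (MulAut.conj g • H).index = H.index :=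
  Subgroup.index_map_equiv (H := H) (MulAut.conj g)

theorem card_conj_smul (H : Subgroup G) (g : G) : Nat.card (MulAut.conj g • H : Subgroup G) = Nat.card H :=
  Subgroup.card_map_of_injective (K := H) (f := (MulAut.conj g).toMonoidHom) (MulAut.conj g).injective

end Cfsg.Agent.H3
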