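import Mathlib
import Cfsg.Prelude.Def_Solvable
import Cfsg.Agent.Lib_helper3_Sylow2
import Cfsg.Agent.Lib_helper3_Action

set_option autoImplicit false

namespace Cfsg.Agent.H3

open scoped Pointwise

variable {G : Type*} [Group G]

/-- TI property in elementwise form. -/
theorem frob_mem_of_conj_mem {H : Subgroup G} (hH : Cfsg.IsFrobeniusComplement H)
    {h g : G} (hh : h ∈ H) (h1 : h ≠ 1) (hg : g⁻¹ * h * g ∈ H) : g ∈ H := by
  by_contra hgH
  have hbot := hH.2.2 g hgH
  have : h ∈ H ⊓ (MulAut.conj g • H) := Subgroup.mem_inf.mpr ⟨hh, (mem_conj_smul_iff H g h).mpr hg⟩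
  rw [hbot, Subgroup.mem_bot] at this
  exact h1 this

theorem frob_card_nonkernel [Finite G] {H : Subgroup G} (hH : Cfsg.IsFrobeniusComplement H) :
    Nat.card {x : G // x ≠ 1 ∧ ∃ g : G, x ∈ MulAut.conj g • H} = H.index * (Nat.card H - 1) := by
  classical
  have e : (G ⧸ H) × {h : H // h ≠ 1} ≃ {x : G // x ≠ 1 ∧ ∃ g : G, x ∈ MulAut.conj g • H} := by
    refine Equiv.ofBijective (fun qh => ⟨qh.1.out * (qh.2.1 : G) * qh.1.out⁻¹, ?_, qh.1.out, ?_⟩) ⟨?_, ?_⟩
    · intro h
      apply qh.2.2
      apply Subtype.ext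
      have : (qh.2.1 : G) = qh.1.out⁻¹ * (qh.1.out * (qh.2.1 : G) * qh.1.out⁻¹) * qh.1.out := by group
      rw [this, h]; simp
    · rw [mem_conj_smul_iff]
      have : qh.1.out⁻¹ * (qh.1.out * (qh.2.1 : G) * qh.1.out⁻¹) * qh.1.out = (qh.2.1 : G) := by group
      rw [this]; exact qh.2.1.2
    · rintro ⟨q, h, hh⟩ ⟨q', h', hh'⟩ heq
      have heq' : q.out * (h : G) * q.out⁻¹ = q'.out * (h' : G) * q'.out⁻¹ := congrArg Subtype.val heq
      have h1 : (h : G) ≠ 1 := fun hc => hh (Subtype.ext hc)
      have h2 : (q.out⁻¹ * q'.out)⁻¹ * (h : G) * (q.out⁻¹ * q'.out) ∈ H := by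
        have : (q.out⁻¹ * q'.out)⁻¹ * (h : G) * (q.out⁻¹ * q'.out)
            = q'.out⁻¹ * (q.out * (h : G) * q.out⁻¹) * q'.out := by group
        rw [this, heq']
        have : q'.out⁻¹ * (q'.out * (h' : G) * q'.out⁻¹) * q'.out = (h' : G) := by group
        rw [this]; exact h'.2
      have h3 := frob_mem_of_conj_mem hH h.2 h1 h2
      have h4 : q = q' := by
        rw [← QuotientGroup.out_eq' q, ← QuotientGroup.out_eq' q']
        exact QuotientGroup.eq.mpr h3
      subst h4
      have h5 : (h : G) = h' := by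
        have := congrArg (fun x => q.out⁻¹ * x * q.out) heq'
        simpa [mul_assoc] using this
      have h6 : h = h' := Subtype.ext h5
      subst h6
      rfl
    · rintro ⟨x, hx1, g, hg⟩
      rw [mem_conj_smul_iff] at hg
      have hq : ((g : G ⧸ H)).out⁻¹ * g ∈ H := QuotientGroup.eq.mp (QuotientGroup.out_eq' _)
      set r := ((g : G ⧸ H)).out with hr
      have hmem : r⁻¹ * x * r ∈ H := by
        have : r⁻¹ * x * r = (r⁻¹ * g) * (g⁻¹ * x * g) * (r⁻¹ * g)⁻¹ := by group
        rw [this]
        exact H.mul_mem (H.mul_mem hq hg) (H.inv_mem hq)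
      refine ⟨((g : G ⧸ H), ⟨⟨r⁻¹ * x * r, hmem⟩, ?_⟩), ?_⟩
      · intro hc
        have hc' : r⁻¹ * x * r = 1 := congrArg Subtype.val hc
        apply hx1
        have : x = r * (r⁻¹ * x * r) * r⁻¹ := by group
        rw [this, hc']; simp
      · apply Subtype.ext
        show r * (r⁻¹ * x * r) * r⁻¹ = x
        group
  rw [← Nat.card_congr e, Nat.card_prod, ← Subgroup.index_eq_card]
  congr 1
  have : Nat.card {h : H // h ≠ 1} = Nat.card H - 1 := by
    have := Fintype.ofFinite H
    rw [Nat.card_eq_fintype_card, Nat.card_eq_fintype_card, Fintype.card_subtype_compl]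
    simp
  exact this

theorem frob_card_kernel [Finite G] {H : Subgroup G} (hH : Cfsg.IsFrobeniusComplement H) :
    Nat.card (Cfsg.frobeniusKernel H) = H.index := by
  classical
  have h1 := frob_card_nonkernel hH
  have h2 : Nat.card (Cfsg.frobeniusKernel H) +
      Nat.card {x : G // x ≠ 1 ∧ ∃ g : G, x ∈ MulAut.conj g • H} = Nat.card G := by
    have e : {x : G // ¬ (x ≠ 1 ∧ ∃ g : G, x ∈ MulAut.conj g • H)} ≃ Cfsg.frobeniusKernel H := by
      refine Equiv.subtypeEquivRight (fun x => ?_)
      unfold Cfsg.frobeniusKernel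
      simp only [Set.mem_ofPred_eq]
      constructor
      · intro h
        by_cases hx : x = 1
        · exact Or.inl hx
        · right
          intro g hg
          exact h ⟨hx, g, hg⟩
      · rintro (h | h) ⟨hx, g, hg⟩
        · exact hx h
        · exact h g hg
    rw [← Nat.card_congr e]
    have := Fintype.ofFinite G
    simp only [Nat.card_eq_fintype_card]
    have h3 := Fintype.card_subtype_compl (fun x : G => x ≠ 1 ∧ ∃ g : G, x ∈ MulAut.conj g • H)
    have h4 := Fintype.card_subtype_le (fun x : G => x ≠ 1 ∧ ∃ g : G, x ∈ MulAut.conj g • H)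
    omega
  rw [h1] at h2
  have h3 := Subgroup.index_mul_card H
  have h4 : 0 < Nat.card H := Nat.card_pos
  have h5 : H.index * (Nat.card H - 1) + H.index = Nat.card G := by
    rw [← h3]
    obtain ⟨k, hk⟩ : ∃ k, Nat.card H = k + 1 := ⟨Nat.card H - 1, by omega⟩
    rw [hk]; simp; ring
  omega

theorem frob_index_mod [Finite G] {H : Subgroup G} (hH : Cfsg.IsFrobeniusComplement H) :
    Nat.card H ∣ H.index - 1 := by
  classical
  let T := {q : G ⧸ H // q ≠ ((1 : G) : G ⧸ H)}
  let act : MulAction H T :=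
    { smul := fun h q => ⟨(h : G) • q.1, by
        intro hc
        apply q.2
        have : q.1 = (h : G)⁻¹ • ((h : G) • q.1) := by simp
        rw [this, hc]
        show (((h : G)⁻¹ * 1 : G) : G ⧸ H) = _
        apply QuotientGroup.eq.mpr
        simp⟩
      one_smul := fun q => Subtype.ext (one_smul G q.1)
      mul_smul := fun a b q => Subtype.ext (mul_smul (a : G) (b : G) q.1) }
  have hcard : Nat.card T = H.index - 1 := by
    have := Fintype.ofFinite (G ⧸ H)
    rw [Subgroup.index_eq_card, Nat.card_eq_fintype_card, Nat.card_eq_fintype_card,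
      Fintype.card_subtype_compl]
    simp
  rw [← hcard]
  apply card_dvd_of_free
  rintro h ⟨q, hq⟩ hfix
  have hfix' : (h : G) • q = q := congrArg Subtype.val hfix
  induction q using QuotientGroup.induction_on with | _ x => ?_
  have hx : x⁻¹ * (h : G) * x ∈ H := by
    have : (((h : G) * x : G) : G ⧸ H) = (x : G ⧸ H) := hfix'
    have := QuotientGroup.eq.mp this.symm
    simpa [mul_assoc] using this
  by_contra h1
  have h1' : (h : G) ≠ 1 := fun hc => h1 (Subtype.ext hc)
  have := frob_mem_of_conj_mem hH h.2 h1' hx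
  apply hq
  apply QuotientGroup.eq.mpr
  simpa using H.inv_mem this

end Cfsg.Agent.H3
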