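import Cfsg.Agent.Lib_helper4_CharF
import Cfsg.Agent.Lib_helper3_FrobA

set_option autoImplicit false

namespace Cfsg.Agent.H3

open Cfsg Cfsg.Agent.H4
open scoped ComplexConjugate Pointwise
universe u

section
variable {G : Type u} [Group G]

/-- The kernel of a character is a normal subgroup. -/
theorem exists_char_ker [Finite G] {χ : G → ℂ} (h : IsCharacter G χ) :
    ∃ N : Subgroup G, N.Normal ∧ ∀ g, g ∈ N ↔ χ g = χ 1 := by
  obtain ⟨n, ρ, rfl⟩ := h
  refine ⟨MonoidHom.ker ρ, MonoidHom.normal_ker ρ, fun g => ?_⟩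
  have h1 : ρ.character 1 = (Module.finrank ℂ (Fin n → ℂ) : ℂ) := by
    rw [char_eq_finrank_iff]; exact map_one ρ
  rw [h1, char_eq_finrank_iff, MonoidHom.mem_ker]
  rfl

/-- A generalized character of norm one with positive degree is irreducible. -/
theorem isIrr_of_sub [Fintype G] {A B : G → ℂ} (hA : IsCharacter G A)
    (hB : IsCharacter G B) (hn : classInner (A - B) (A - B) = 1)
    (h1 : ∃ n : ℕ, (A - B) 1 = n) (h0 : (A - B) 1 ≠ 0) : IsIrrCharacter G (A - B) := by
  classical
  have := Fintype.ofFinite (IrrCharacter G)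
  obtain ⟨a, rfl⟩ := IsCharacter.exists_mult hA
  obtain ⟨b, rfl⟩ := IsCharacter.exists_mult hB
  let c : IrrCharacter G → ℤ := fun ψ => (a ψ : ℤ) - (b ψ : ℤ)
  have e : (∑ ψ : IrrCharacter G, (a ψ : ℂ) • (ψ : G → ℂ)) - (∑ ψ : IrrCharacter G, (b ψ : ℂ) • (ψ : G → ℂ))
      = ∑ ψ : IrrCharacter G, ((c ψ : ℤ) : ℂ) • (ψ : G → ℂ) := by
    rw [← Finset.sum_sub_distrib]
    apply Finset.sum_congr rfl
    intro ψ _
    rw [← sub_smul]
    simp [c]
  rw [e] at hn h1 h0 ⊢
  rw [classInner_sum_sum] at hn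
  have h3 : ∑ φ, c φ * c φ = 1 := by
    have : (∑ φ, ((c φ : ℤ) : ℂ) * conj ((c φ : ℤ) : ℂ)) = ((∑ φ, c φ * c φ : ℤ) : ℂ) := by simp
    rw [this] at hn
    exact_mod_cast hn
  have h4 : ∃ φ, c φ ≠ 0 := by
    by_contra hcon
    push Not at hcon
    simp [hcon] at h3
  obtain ⟨φ, hφ⟩ := h4
  have hsq : ∀ φ', c φ' ≠ 0 → 1 ≤ c φ' * c φ' := by
    intro φ' h
    have : 0 < c φ' * c φ' := mul_self_pos.mpr h
    omega
  have h5 : ∀ φ', φ' ≠ φ → c φ' = 0 := by
    intro φ' hne
    by_contra hφ'
    have h6 : c φ * c φ + c φ' * c φ' ≤ ∑ φ, c φ * c φ := by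
      rw [← Finset.sum_pair (f := fun φ => c φ * c φ) hne.symm]
      exact Finset.sum_le_sum_of_subset_of_nonneg (Finset.subset_univ _)
        (fun i _ _ => mul_self_nonneg _)
    have h7 := hsq φ hφ
    have h8 := hsq φ' hφ'
    omega
  have h6 : c φ * c φ = 1 := by
    rw [Finset.sum_eq_single φ (fun b _ hb => by simp [h5 b hb]) (by simp)] at h3
    exact h3
  have h7 : (∑ ψ : IrrCharacter G, ((c ψ : ℤ) : ℂ) • (ψ : G → ℂ)) = ((c φ : ℤ) : ℂ) • (φ : G → ℂ) :=
    Finset.sum_eq_single φ (fun b _ hb => by simp [h5 b hb]) (by simp)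
  rw [h7] at h1 h0 ⊢
  rcases (mul_self_eq_one_iff.mp h6) with h8 | h8
  · rw [h8]; simpa using φ.2
  · exfalso
    obtain ⟨n, hn⟩ := h1
    obtain ⟨m, hm, hm'⟩ := IsIrrCharacter.apply_one φ.2
    rw [h8] at hn
    simp only [Pi.smul_apply, smul_eq_mul, hm'] at hn
    have : ((-(m : ℤ) : ℤ) : ℂ) = ((n : ℤ) : ℂ) := by push_cast; simpa using hn
    have h9 : -(m : ℤ) = (n : ℤ) := by exact_mod_cast this
    omega

theorem frob_indFun_apply [Fintype G] {H : Subgroup G} (hH : Cfsg.IsFrobeniusComplement H)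
    (θ : H → ℂ) (hθ : IsClassFunction H θ) (h : H) (h1 : h ≠ 1) : indFun H θ h = θ h := by
  classical
  have := Fintype.ofFinite H
  unfold indFun
  have key : ∀ x : G, extendByZero H θ (x⁻¹ * h * x) = extendByZero H (fun _ => θ h) x := by
    intro x
    by_cases hx : x ∈ H
    · rw [extendByZero_mem _ _ hx]
      have hmem : x⁻¹ * h * x ∈ H := H.mul_mem (H.mul_mem (H.inv_mem hx) h.2) hx
      rw [extendByZero_mem _ _ hmem]
      have := hθ h (⟨x, hx⟩ : H)⁻¹
      rw [← this]
      congr 1
      apply Subtype.ext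
      simp
    · rw [extendByZero_not_mem _ _ hx]
      apply extendByZero_not_mem
      intro hmem
      exact hx (frob_mem_of_conj_mem hH h.2 (fun hc => h1 (Subtype.ext hc)) hmem)
  simp only [key]
  rw [sum_extendByZero]
  simp only [Finset.sum_const, Finset.card_univ, nsmul_eq_mul]
  rw [← Nat.card_eq_fintype_card, ← mul_assoc, inv_mul_cancel₀ card_ne_zero_C, one_mul]

theorem indFun_eq_zero_of_not_conj [Fintype G] {H : Subgroup G} (θ : H → ℂ) (g : G)
    (hg : ∀ x : G, g ∉ MulAut.conj x • H) : indFun H θ g = 0 := by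
  unfold indFun
  have key : ∀ x : G, extendByZero H θ (x⁻¹ * g * x) = 0 := by
    intro x
    apply extendByZero_not_mem
    intro hmem
    exact hg x ((mem_conj_smul_iff H x g).mpr hmem)
  simp [key]

theorem classInner_one_one [Fintype G] : classInner (fun _ : G => (1 : ℂ)) (fun _ => 1) = 1 := by
  have := irr_orthonormal (trivIrr G) (trivIrr G)
  simpa [trivIrr] using this

/-- Extension of a nontrivial irreducible character of a Frobenius complement. -/
theorem frob_extend [Fintype G] {H : Subgroup G} (hH : Cfsg.IsFrobeniusComplement H)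
    (φ : H → ℂ) (hφ : IsIrrCharacter H φ) (hφ1 : φ ≠ fun _ => 1) :
    ∃ ψ : G → ℂ, IsIrrCharacter G ψ ∧ (∀ h : H, ψ h = φ h) ∧
      (∀ g ∈ Cfsg.frobeniusKernel H, ψ g = ψ 1) := by
  classical
  have := Fintype.ofFinite H
  obtain ⟨d, hd, hd'⟩ := IsIrrCharacter.apply_one hφ
  let oneH : H → ℂ := fun _ => 1
  let oneG : G → ℂ := fun _ => 1
  let θ : H → ℂ := φ + (-(d : ℂ)) • oneH
  let Θ : G → ℂ := indFun H θ
  have hθ1 : θ 1 = 0 := by simp [θ, oneH, hd']
  have hθcf : IsClassFunction H θ :=
    IsClassFunction.add (IsCharacter.isClassFunction (IsIrrCharacter.isCharacter hφ))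
      (IsClassFunction.smul _ (IsCharacter.isClassFunction IsCharacter.one))
  have hΘ1 : Θ 1 = 0 := by
    show indFun H θ 1 = 0
    rw [indFun_apply_one, hθ1, mul_zero]
  have hΘH : (fun h : H => Θ h) = θ := by
    funext h
    by_cases h1 : h = 1
    · subst h1
      rw [hθ1]; exact hΘ1
    · exact frob_indFun_apply hH θ hθcf h h1
  have hΘcf : IsClassFunction G Θ := indFun_isClassFunction H θ
  have hφφ : classInner φ φ = 1 := by
    have := irr_orthonormal (⟨φ, hφ⟩ : IrrCharacter H) ⟨φ, hφ⟩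
    simpa using this
  have hφo : classInner φ oneH = 0 := by
    have := irr_orthonormal (⟨φ, hφ⟩ : IrrCharacter H) (trivIrr H)
    rw [if_neg] at this
    · exact this
    · intro hc
      exact hφ1 (congrArg Subtype.val hc)
  have hoφ : classInner oneH φ = 0 := by
    rw [← classInner_conj_symm, hφo, map_zero]
  have hoo : classInner oneH oneH = 1 := classInner_one_one
  have hooG : classInner oneG oneG = 1 := classInner_one_one
  have hθθ : classInner θ θ = 1 + (d : ℂ) ^ 2 := by
    simp only [θ, classInner_add_left, classInner_add_right, classInner_smul_left,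
      classInner_smul_right, hφφ, hφo, hoφ, hoo]
    simp
    ring
  have hθo : classInner θ oneH = -(d : ℂ) := by
    simp only [θ, classInner_add_left, classInner_smul_left, hφo, hoo]
    simp
  have hΘΘ : classInner Θ Θ = 1 + (d : ℂ) ^ 2 := by
    show classInner (indFun H θ) Θ = _
    rw [frobenius_reciprocity H θ Θ hΘcf, hΘH, hθθ]
  have hΘo : classInner Θ oneG = -(d : ℂ) := by
    show classInner (indFun H θ) oneG = _
    rw [frobenius_reciprocity H θ oneG (IsCharacter.isClassFunction IsCharacter.one)]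
    exact hθo
  have hoΘ : classInner oneG Θ = -(d : ℂ) := by
    rw [← classInner_conj_symm, hΘo]; simp
  let A : G → ℂ := indFun H φ + (d : ℂ) • oneG
  let B : G → ℂ := (d : ℂ) • indFun H oneH
  have hA : IsCharacter G A :=
    IsCharacter.add (IsCharacter.ind H (IsIrrCharacter.isCharacter hφ)) (IsCharacter.nsmul d IsCharacter.one)
  have hB : IsCharacter G B := IsCharacter.nsmul d (IsCharacter.ind H IsCharacter.one)
  have hAB : A - B = Θ + (d : ℂ) • oneG := by
    show _ = indFun H θ + _
    simp only [A, B, θ, indFun_add, indFun_smul]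
    funext g
    simp only [Pi.add_apply, Pi.sub_apply, Pi.smul_apply, smul_eq_mul]
    ring
  have hnorm : classInner (A - B) (A - B) = 1 := by
    rw [hAB]
    simp only [classInner_add_left, classInner_add_right, classInner_smul_left,
      classInner_smul_right, hΘΘ, hΘo, hoΘ, hooG]
    simp
    ring
  have hval1 : (A - B) 1 = d := by
    rw [hAB]
    simp [hΘ1, oneG]
  have hirr : IsIrrCharacter G (A - B) := by
    apply isIrr_of_sub hA hB hnorm ⟨d, hval1⟩
    rw [hval1]
    exact_mod_cast hd.ne'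
  refine ⟨A - B, hirr, ?_, ?_⟩
  · intro h
    rw [hAB]
    have := congrFun hΘH h
    simp only [Pi.add_apply, Pi.smul_apply, smul_eq_mul, oneG, this, θ, oneH]
    ring
  · intro g hg
    rw [hval1, hAB]
    rcases hg with rfl | hg
    · simp [hΘ1, oneG]
    · have : Θ g = 0 := indFun_eq_zero_of_not_conj θ g hg
      simp [this, oneG]

/-- **Frobenius' theorem.** -/
theorem frobenius_theorem [Finite G] (H : Subgroup G) (hH : Cfsg.IsFrobeniusComplement H) :
    ∃ N : Subgroup G, (N : Set G) = Cfsg.frobeniusKernel H ∧ N.Normal ∧ Subgroup.IsComplement' N H := by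
  classical
  have := Fintype.ofFinite G
  let N := Subgroup.normalClosure (Cfsg.frobeniusKernel H)
  have hNn : N.Normal := Subgroup.normalClosure_normal
  have hKN : Cfsg.frobeniusKernel H ⊆ N := Subgroup.subset_normalClosure
  have hNH : ∀ h ∈ H, h ∈ N → h = 1 := by
    intro h hh hN
    have hconj : IsConj (⟨h, hh⟩ : H) 1 := by
      rw [isConj_iff_irr]
      intro φ
      by_cases hφ1 : (φ : H → ℂ) = fun _ => 1
      · rw [hφ1]
      · obtain ⟨ψ, hψ, hψH, hψK⟩ := frob_extend hH φ φ.2 hφ1
        obtain ⟨M, hMn, hM⟩ := exists_char_ker (IsIrrCharacter.isCharacter hψ)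
        have hle : N ≤ M := Subgroup.normalClosure_le_normal (fun g hg => (hM g).mpr (hψK g hg))
        have h2 := (hM h).mp (hle hN)
        have h3 := hψH ⟨h, hh⟩
        have h4 := hψH 1
        simp only [Subgroup.coe_one] at h4
        rw [← h3, ← h4]
        exact h2
    have := isConj_one_left.mp hconj
    exact congrArg Subtype.val this
  have hNK : (N : Set G) = Cfsg.frobeniusKernel H := by
    apply Set.Subset.antisymm _ hKN
    intro g hg
    by_cases g1 : g = 1
    · exact Or.inl g1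
    · right
      intro x hx
      rw [mem_conj_smul_iff] at hx
      have h1 : x⁻¹ * g * x ∈ N := by
        have := hNn.conj_mem g hg x⁻¹
        simpa using this
      have h2 := hNH _ hx h1
      apply g1
      have : g = x * (x⁻¹ * g * x) * x⁻¹ := by group
      rw [this, h2]; simp
  refine ⟨N, hNK, hNn, ?_⟩
  apply Subgroup.isComplement'_of_card_mul_and_disjoint
  · have h1 : Nat.card N = H.index := by
      rw [← frob_card_kernel hH, ← hNK]
      rfl
    rw [h1]
    exact Subgroup.index_mul_card H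
  · rw [Subgroup.disjoint_def]
    intro x hxN hxH
    exact hNH x hxH hxN

end

end Cfsg.Agent.H3
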