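import Mathlib

set_option autoImplicit false
set_option linter.unusedSectionVars false

namespace Cfsg.Agent.H3

theorem dvd_card_fiberwise {α β : Type*} [Finite α] (f : α → β) (Q : β → Prop) (d : ℕ)
    (h : ∀ b, Q b → d ∣ Nat.card {a // f a = b}) : d ∣ Nat.card {a // Q (f a)} := by
  classical
  have := Fintype.ofFinite α
  rw [Nat.card_eq_fintype_card, Fintype.card_subtype]
  rw [Finset.card_eq_sum_card_fiberwise (f := f) (t := Finset.univ.image f)
    (by intro a _; simp)]
  apply Finset.dvd_sum
  intro b _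
  by_cases hb : Q b
  · have h1 := h b hb
    rw [Nat.card_eq_fintype_card, Fintype.card_subtype] at h1
    have h2 : ((Finset.univ.filter (fun a => Q (f a))).filter (fun a => f a = b))
        = Finset.univ.filter (fun a => f a = b) := by
      ext a
      simp only [Finset.mem_filter, Finset.mem_univ, true_and]
      constructor
      · exact fun h => h.2
      · exact fun h => ⟨h ▸ hb, h⟩
    rw [h2]
    exact h1
  · have h2 : ((Finset.univ.filter (fun a => Q (f a))).filter (fun a => f a = b)) = ∅ := by
      ext a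
      simp only [Finset.mem_filter, Finset.mem_univ, true_and, Finset.notMem_empty, iff_false]
      rintro ⟨h1, h2⟩
      exact hb (h2 ▸ h1)
    rw [h2]
    simp

theorem card_fiberwise_const {α β : Type*} [Finite α] [Finite β] (f : α → β) (Q : β → Prop) (s : ℕ)
    (h : ∀ b, Q b → Nat.card {a // f a = b} = s) :
    Nat.card {a // Q (f a)} = Nat.card {b // Q b} * s := by
  classical
  have := Fintype.ofFinite α
  have := Fintype.ofFinite β
  rw [Nat.card_eq_fintype_card, Fintype.card_subtype, Nat.card_eq_fintype_card, Fintype.card_subtype]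
  rw [Finset.card_eq_sum_card_fiberwise (f := f) (t := Finset.univ.filter Q)
    (by intro a ha; simpa using ha)]
  rw [← smul_eq_mul, ← Finset.sum_const]
  apply Finset.sum_congr rfl
  intro b hb
  have hb' : Q b := by simpa using hb
  rw [← h b hb', Nat.card_eq_fintype_card, Fintype.card_subtype]
  congr 1
  ext a
  simp only [Finset.mem_filter, Finset.mem_univ, true_and]
  constructor
  · exact fun h => h.2
  · exact fun h => ⟨h ▸ hb', h⟩

section
variable {G : Type*} [Group G] [Finite G]

theorem card_pow_eq_conj (n : ℕ) (c y : G) (h : IsConj c y) :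
    Nat.card {x : G // x ^ n = y} = Nat.card {x : G // x ^ n = c} := by
  obtain ⟨g, hg⟩ := isConj_iff.mp h
  refine Nat.card_congr ⟨fun x => ⟨g⁻¹ * x.1 * g, ?_⟩, fun x => ⟨g * x.1 * g⁻¹, ?_⟩, ?_, ?_⟩
  · have := conj_pow (i := n) (a := g⁻¹) (b := x.1)
    rw [inv_inv] at this
    rw [this, x.2, ← hg]; group
  · rw [conj_pow, x.2, hg]
  · intro x; apply Subtype.ext; simp only; group
  · intro x; apply Subtype.ext; simp only; group

/-- `A = h * a` -/
theorem card_pow_isConj (n : ℕ) (c : G) :
    Nat.card {x : G // IsConj c (x ^ n)} = Nat.card {y : G // IsConj c y} * Nat.card {x : G // x ^ n = c} :=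
  card_fiberwise_const (fun x : G => x ^ n) (IsConj c) _ (fun y hy => card_pow_eq_conj n c y hy)

theorem card_pow_eq_centralizer (n : ℕ) (c : G) :
    Nat.card {x : G // x ^ n = c} =
      Nat.card {x : Subgroup.centralizer ({c} : Set G) // x ^ n = ⟨c, Subgroup.mem_centralizer_singleton_iff.mpr rfl⟩} := by
  refine Nat.card_congr ⟨fun x => ⟨⟨x.1, ?_⟩, ?_⟩, fun x => ⟨x.1.1, ?_⟩, ?_, ?_⟩
  · obtain ⟨x, rfl⟩ := x
    rw [Subgroup.mem_centralizer_singleton_iff, ← pow_succ, ← pow_succ']
  · apply Subtype.ext
    simp [x.2]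
  · have := congr_arg Subtype.val x.2
    simpa using this
  · intro x; rfl
  · intro x; rfl

theorem card_isConj_mul_card_centralizer (c : G) :
    Nat.card {y : G // IsConj c y} * Nat.card (Subgroup.centralizer ({c} : Set G)) = Nat.card G := by
  have h1 : (Subgroup.centralizer ({c} : Set G)).index = Nat.card {y : G // IsConj c y} := by
    have h1 : (Subgroup.centralizer ({c} : Set G)).index
        = (MulAction.stabilizer (ConjAct G) c).index := by
      rw [Subgroup.centralizer_eq_comap_stabilizer]
      exact Subgroup.index_comap_of_surjective _ (f := ConjAct.toConjAct.toMonoidHom)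
        (ConjAct.toConjAct (G := G)).surjective
    rw [h1, MulAction.index_stabilizer, ConjAct.orbit_eq_carrier_conjClasses, ← Nat.card_coe_set_eq]
    apply Nat.card_congr
    apply Equiv.subtypeEquivRight
    intro y
    rw [ConjClasses.mem_carrier_iff_mk_eq, ConjClasses.mk_eq_mk_iff_isConj]
    exact ⟨fun h => h.symm, fun h => h.symm⟩
  rw [← h1, mul_comm]
  exact Subgroup.card_mul_index _

theorem card_isConj_of_mem_center (c : G) (hc : c ∈ Subgroup.center G) :
    Nat.card {y : G // IsConj c y} = 1 := by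
  rw [Nat.card_eq_one_iff_unique]
  refine ⟨⟨?_⟩, ⟨⟨c, IsConj.refl c⟩⟩⟩
  rintro ⟨a, ha⟩ ⟨b, hb⟩
  apply Subtype.ext
  obtain ⟨g, hg⟩ := isConj_iff.mp ha
  obtain ⟨g', hg'⟩ := isConj_iff.mp hb
  have h1 := Subgroup.mem_center_iff.mp hc g
  have h2 := Subgroup.mem_center_iff.mp hc g'
  simp only
  rw [← hg, ← hg', h1, h2]; group

theorem orderOf_of_pow_prime_pow_eq {x c : G} {p e : ℕ} (hp : p.Prime) (hx : x ^ (p ^ e) = c)
    (hc : p ∣ orderOf c) : orderOf x = p ^ e * orderOf c := by
  have h1 : orderOf c = orderOf x / Nat.gcd (orderOf x) (p ^ e) := by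
    rw [← hx]; exact orderOf_pow x
  obtain ⟨i, hi, hgi⟩ := (Nat.dvd_prime_pow hp).mp (Nat.gcd_dvd_right (orderOf x) (p ^ e))
  have h2 : orderOf x = orderOf c * p ^ i := by
    rw [h1, hgi]
    exact (Nat.div_mul_cancel (hgi ▸ Nat.gcd_dvd_left _ _)).symm
  rcases Nat.lt_or_ge i e with hlt | hge
  · exfalso
    have h3 : p ^ (i + 1) ∣ orderOf x := by
      rw [h2, pow_succ, mul_comm]
      exact Nat.mul_dvd_mul_right hc _
    have h4 : p ^ (i + 1) ∣ p ^ e := pow_dvd_pow p hlt
    have h5 := Nat.dvd_gcd h3 h4
    rw [hgi] at h5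
    have := (Nat.pow_dvd_pow_iff_le_right hp.one_lt).mp h5
    omega
  · have : i = e := le_antisymm hi hge
    rw [h2, this, mul_comm]

theorem dvd_card_pow_prime_pow_eq (p e : ℕ) (hp : p.Prime) (c : G) (hc : p ∣ orderOf c) :
    p ^ e ∣ Nat.card {x : G // x ^ (p ^ e) = c} := by
  classical
  set m := orderOf c with hm
  have hm2 : 2 ≤ m := (hp.two_le).trans (Nat.le_of_dvd (orderOf_pos c) hc)
  have key := dvd_card_fiberwise (α := {x : G // x ^ (p ^ e) = c})
    (fun x => Subgroup.zpowers x.1) (fun _ => True) (p ^ e) ?_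
  · rwa [Nat.card_congr (Equiv.subtypeUnivEquiv (fun _ => trivial))] at key
  · intro H _
    by_cases hH : Nonempty {a : {x : G // x ^ (p ^ e) = c} // Subgroup.zpowers a.1 = H}
    · obtain ⟨⟨⟨x0, hx0⟩, rfl⟩⟩ := hH
      have hN : orderOf x0 = p ^ e * m := orderOf_of_pow_prime_pow_eq hp hx0 hc
      have hS : ∀ k : ℕ, (x0 ^ (1 + m * k)) ^ (p ^ e) = c := by
        intro k
        rw [← pow_mul, mul_comm, pow_mul, hx0, pow_add, pow_one, pow_mul, hm, pow_orderOf_eq_one,
          one_pow, mul_one]
      have hcard : Nat.card {a : {x : G // x ^ (p ^ e) = c} //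
          Subgroup.zpowers a.1 = Subgroup.zpowers x0} = p ^ e := by
        refine Eq.trans ?_ (Nat.card_fin (p ^ e))
        symm
        apply Nat.card_congr
        refine Equiv.ofBijective (fun k => ⟨⟨x0 ^ (1 + m * k.1), hS k.1⟩, ?_⟩) ⟨?_, ?_⟩
        · apply Subgroup.eq_of_le_of_card_ge
          · exact Subgroup.zpowers_le.mpr (Subgroup.pow_mem _ (Subgroup.mem_zpowers x0) _)
          · rw [Nat.card_zpowers, Nat.card_zpowers, hN,
              orderOf_of_pow_prime_pow_eq hp (hS k.1) hc]
        · intro k k' hkk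
          have h1 : x0 ^ (1 + m * k.1) = x0 ^ (1 + m * k'.1) := by
            have := congr_arg (fun a => a.1.1) hkk
            exact this
          have hb : ∀ k : Fin (p ^ e), 1 + m * k.1 < orderOf x0 := by
            intro k
            have h2 : m * (k.1 + 1) ≤ m * p ^ e := Nat.mul_le_mul_left _ k.2
            rw [hN, mul_comm (p ^ e) m]
            rw [mul_add, mul_one] at h2
            omega
          have h3 := pow_injOn_Iio_orderOf (hb k) (hb k') h1
          have h4 : m * k.1 = m * k'.1 := by omega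
          exact Fin.ext (Nat.eq_of_mul_eq_mul_left (by omega) h4)
        · rintro ⟨⟨a, ha⟩, hza⟩
          have ha0 : a ∈ Subgroup.zpowers x0 := by
            have : a ∈ Subgroup.zpowers a := Subgroup.mem_zpowers a
            simp only at hza
            rwa [hza] at this
          rw [← mem_powers_iff_mem_zpowers, mem_powers_iff_mem_range_orderOf] at ha0
          obtain ⟨j, hj, rfl⟩ := Finset.mem_image.mp ha0
          rw [Finset.mem_range] at hj
          have h1 : c ^ j = c ^ 1 := by
            rw [pow_one]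
            conv_rhs => rw [← ha]
            rw [← hx0, ← pow_mul, ← pow_mul, mul_comm]
          rw [pow_eq_pow_iff_modEq, ← hm] at h1
          have hj1 : 1 ≤ j := by
            rcases Nat.eq_zero_or_pos j with h0 | h0
            · exfalso
              rw [h0] at h1
              have := (Nat.modEq_zero_iff_dvd.mp h1.symm)
              have := Nat.le_of_dvd one_pos this
              omega
            · exact h0
          obtain ⟨k, hk⟩ := (Nat.modEq_iff_dvd' hj1).mp h1.symm
          have hk' : j = 1 + m * k := by omega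
          have hklt : k < p ^ e := by
            by_contra hcon
            push Not at hcon
            have : m * p ^ e ≤ m * k := Nat.mul_le_mul_left _ hcon
            rw [hN, mul_comm (p ^ e) m] at hj
            omega
          refine ⟨⟨k, hklt⟩, ?_⟩
          apply Subtype.ext
          apply Subtype.ext
          simp only
          rw [hk']
      rw [hcard]
    · rw [not_nonempty_iff] at hH
      simp

theorem dvd_card_of_conj_invariant (n : ℕ) (Q : G → Prop) (hQ : ∀ a b, IsConj a b → Q a → Q b) (d : ℕ)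
    (h : ∀ y, Q y → d ∣ Nat.card {x : G // IsConj y (x ^ n)}) : d ∣ Nat.card {x : G // Q (x ^ n)} := by
  have key := dvd_card_fiberwise (fun x : G => ConjClasses.mk (x ^ n))
    (fun C => ∃ y, Q y ∧ ConjClasses.mk y = C) d ?_
  · have e : Nat.card {x : G // ∃ y, Q y ∧ ConjClasses.mk y = ConjClasses.mk (x ^ n)}
        = Nat.card {x : G // Q (x ^ n)} := by
      apply Nat.card_congr
      apply Equiv.subtypeEquivRight
      intro x
      constructor
      · rintro ⟨y, hy, hyx⟩
        exact hQ y _ (ConjClasses.mk_eq_mk_iff_isConj.mp hyx) hy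
      · intro hx
        exact ⟨_, hx, rfl⟩
    rwa [e] at key
  · rintro C ⟨y, hy, rfl⟩
    have e : Nat.card {x : G // ConjClasses.mk (x ^ n) = ConjClasses.mk y}
        = Nat.card {x : G // IsConj y (x ^ n)} := by
      apply Nat.card_congr
      apply Equiv.subtypeEquivRight
      intro x
      rw [ConjClasses.mk_eq_mk_iff_isConj]
      exact ⟨fun h => h.symm, fun h => h.symm⟩
    rw [e]
    exact h y hy

theorem card_split {α : Type*} [Finite α] (P : α → Prop) :
    Nat.card α = Nat.card {a // P a} + Nat.card {a // ¬ P a} := by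
  classical
  rw [← Nat.card_sum]
  exact Nat.card_congr (Equiv.sumCompl P).symm

theorem card_split3 {α : Type*} [Finite α] (P1 P2 : α → Prop) :
    Nat.card α = Nat.card {a // ¬ P1 a} + Nat.card {a // P1 a ∧ P2 a} + Nat.card {a // P1 a ∧ ¬ P2 a} := by
  rw [card_split P1, card_split (α := {a // P1 a}) (fun a => P2 a.1),
    Nat.card_congr (Equiv.subtypeSubtypeEquivSubtypeInter P1 P2),
    Nat.card_congr (Equiv.subtypeSubtypeEquivSubtypeInter P1 (fun a => ¬ P2 a))]
  ring

theorem card_pow_eq_of_coprime (n : ℕ) (c : G) (hc : c ∈ Subgroup.center G)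
    (hcop : n.Coprime (orderOf c)) :
    Nat.card {x : G // x ^ n = c} = Nat.card {x : G // x ^ n = 1} := by
  obtain ⟨u, hu⟩ := exists_pow_eq_self_of_coprime hcop
  have hw : (c ^ u) ^ n = c := by rw [← pow_mul, mul_comm, pow_mul, hu]
  have hwc : c ^ u ∈ Subgroup.center G := Subgroup.pow_mem _ hc _
  have hcomm : ∀ x : G, Commute x (c ^ u) := fun x => (Subgroup.mem_center_iff.mp hwc x)
  refine Nat.card_congr ⟨fun x => ⟨x.1 * (c ^ u)⁻¹, ?_⟩, fun x => ⟨x.1 * c ^ u, ?_⟩, ?_, ?_⟩
  · rw [(hcomm x.1).inv_right.mul_pow, x.2, inv_pow, hw, mul_inv_cancel]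
  · rw [(hcomm x.1).mul_pow, x.2, hw, one_mul]
  · intro x; apply Subtype.ext; simp
  · intro x; apply Subtype.ext; simp

/-- the number of central `p'`-elements is prime to `p` -/
theorem coprime_card_center_pprime (p : ℕ) (hp : p.Prime) :
    (Nat.card {c : G // c ∈ Subgroup.center G ∧ ¬ p ∣ orderOf c}).Coprime p := by
  let W : Subgroup G :=
    { carrier := {c | c ∈ Subgroup.center G ∧ ¬ p ∣ orderOf c}
      one_mem' := ⟨Subgroup.one_mem _, by rw [orderOf_one]; exact hp.one_lt.ne' ∘ Nat.dvd_one.mp⟩
      mul_mem' := by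
        rintro a b ⟨ha, ha'⟩ ⟨hb, hb'⟩
        refine ⟨Subgroup.mul_mem _ ha hb, ?_⟩
        intro hdiv
        have hcomm : Commute a b := (Subgroup.mem_center_iff.mp hb a)
        have h1 := hdiv.trans hcomm.orderOf_mul_dvd_lcm
        have h2 := h1.trans (Nat.lcm_dvd_mul _ _)
        rcases (Nat.Prime.dvd_mul hp).mp h2 with h | h
        · exact ha' h
        · exact hb' h
      inv_mem' := by
        rintro a ⟨ha, ha'⟩
        exact ⟨Subgroup.inv_mem _ ha, by rwa [orderOf_inv]⟩ }
  have hW : Nat.card {c : G // c ∈ Subgroup.center G ∧ ¬ p ∣ orderOf c} = Nat.card W := rfl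
  rw [hW, Nat.coprime_comm, Nat.Prime.coprime_iff_not_dvd hp]
  intro hdiv
  have : Fact p.Prime := ⟨hp⟩
  obtain ⟨w, hw⟩ := exists_prime_orderOf_dvd_card' p hdiv
  have h1 : orderOf (w : G) = p := by rw [Subgroup.orderOf_coe, hw]
  exact w.2.2 (by rw [h1])

/-- the central form of the Frobenius–Hall statement -/
def FrobT (H : Type*) [Group H] : Prop :=
  ∀ (n : ℕ) (c : H), c ∈ Subgroup.center H → Nat.gcd n (Nat.card H) ∣ Nat.card {x : H // x ^ n = c}

theorem frobF_of_T_centralizer (c : G) (hT : FrobT (Subgroup.centralizer ({c} : Set G))) (n : ℕ) :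
    Nat.gcd (Nat.card {y : G // IsConj c y} * n) (Nat.card G) ∣ Nat.card {x : G // IsConj c (x ^ n)} := by
  rw [card_pow_isConj, card_pow_eq_centralizer]
  conv_lhs => rw [← card_isConj_mul_card_centralizer c]
  rw [Nat.gcd_mul_left]
  apply Nat.mul_dvd_mul_left
  apply hT
  rw [Subgroup.mem_center_iff]
  intro y
  apply Subtype.ext
  exact (Subgroup.mem_centralizer_singleton_iff.mp y.2)

theorem frobT_step (IH : ∀ c : G, c ∉ Subgroup.center G → FrobT (Subgroup.centralizer ({c} : Set G))) :
    ∀ (n : ℕ) (c : G),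
      Nat.gcd (Nat.card {y : G // IsConj c y} * n) (Nat.card G) ∣ Nat.card {x : G // IsConj c (x ^ n)} := by
  intro n
  have hcentral : ∀ (n : ℕ) (c : G), c ∈ Subgroup.center G →
      Nat.gcd n (Nat.card G) ∣ Nat.card {x : G // x ^ n = c} →
      Nat.gcd (Nat.card {y : G // IsConj c y} * n) (Nat.card G) ∣ Nat.card {x : G // IsConj c (x ^ n)} := by
    intro n c hc h
    rw [card_pow_isConj, card_isConj_of_mem_center c hc, one_mul, one_mul]
    exact h
  have hweak : ∀ (n : ℕ) (y : G), Nat.gcd (Nat.card {z : G // IsConj y z} * n) (Nat.card G) ∣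
      Nat.card {x : G // IsConj y (x ^ n)} → Nat.gcd n (Nat.card G) ∣ Nat.card {x : G // IsConj y (x ^ n)} := by
    intro n y h
    exact (Nat.gcd_dvd_gcd_mul_left_left _ _ _).trans h
  induction n using Nat.recOnPosPrimePosCoprime with
  | zero =>
    intro c
    by_cases hc : c ∈ Subgroup.center G
    · apply hcentral 0 c hc
      rw [Nat.gcd_zero_left]
      by_cases h1 : c = 1
      · subst h1
        simp
      · have : IsEmpty {x : G // x ^ 0 = c} := ⟨fun x => h1 (by rw [← x.2, pow_zero])⟩
        rw [Nat.card_of_isEmpty (α := {x : G // x ^ 0 = c})]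
        exact dvd_zero _
    · exact frobF_of_T_centralizer c (IH c hc) 0
  | one =>
    intro c
    by_cases hc : c ∈ Subgroup.center G
    · apply hcentral 1 c hc
      simp
    · exact frobF_of_T_centralizer c (IH c hc) 1
  | coprime a b _ _ hab iha ihb =>
    intro c
    by_cases hc : c ∈ Subgroup.center G
    · apply hcentral (a * b) c hc
      rw [Nat.gcd_comm, Nat.Coprime.gcd_mul _ hab]
      have hinv : ∀ k : ℕ, ∀ u v : G, IsConj u v → u ^ k = c → v ^ k = c := by
        intro k u v huv hu
        obtain ⟨g, rfl⟩ := isConj_iff.mp huv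
        rw [conj_pow, hu, (Subgroup.mem_center_iff.mp hc g)]
        group
      apply Nat.Coprime.mul_dvd_of_dvd_of_dvd
      · exact Nat.Coprime.coprime_dvd_left (Nat.gcd_dvd_right _ _)
          (Nat.Coprime.coprime_dvd_right (Nat.gcd_dvd_right _ _) hab)
      · have := dvd_card_of_conj_invariant a (fun y => y ^ b = c) (hinv b) (Nat.gcd a (Nat.card G))
          (fun y _ => hweak a y (iha y))
        simp only [← pow_mul] at this
        rwa [Nat.gcd_comm]
      · have := dvd_card_of_conj_invariant b (fun y => y ^ a = c) (hinv a) (Nat.gcd b (Nat.card G))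
          (fun y _ => hweak b y (ihb y))
        simp only [← pow_mul, mul_comm b a] at this
        rwa [Nat.gcd_comm]
    · exact frobF_of_T_centralizer c (IH c hc) (a * b)
  | prime_pow p e hp he =>
    intro c
    by_cases hc : c ∈ Subgroup.center G
    · apply hcentral (p ^ e) c hc
      by_cases hpc : p ∣ orderOf c
      · exact (Nat.gcd_dvd_left _ _).trans (dvd_card_pow_prime_pow_eq p e hp c hpc)
      · rw [card_pow_eq_of_coprime (p ^ e) c hc
          (Nat.Coprime.pow_left e ((Nat.Prime.coprime_iff_not_dvd hp).mpr hpc))]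
        set d := Nat.gcd (p ^ e) (Nat.card G) with hd
        have hsplit := card_split3 (α := G) (fun x => x ^ (p ^ e) ∈ Subgroup.center G)
          (fun x => p ∣ orderOf (x ^ (p ^ e)))
        have h1 : d ∣ Nat.card {x : G // ¬ x ^ (p ^ e) ∈ Subgroup.center G} := by
          apply dvd_card_of_conj_invariant (p ^ e) (fun y => ¬ y ∈ Subgroup.center G)
          · intro u v huv hu hv
            apply hu
            obtain ⟨g, rfl⟩ := isConj_iff.mp huv
            have := (Subgroup.center G).normal_of_characteristic.conj_mem _ hv g⁻¹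
            simpa [mul_assoc] using this
          · intro y hy
            exact hweak _ y (frobF_of_T_centralizer y (IH y hy) _)
        have h2 : d ∣ Nat.card {x : G // x ^ (p ^ e) ∈ Subgroup.center G ∧ p ∣ orderOf (x ^ (p ^ e))} := by
          apply dvd_card_fiberwise (fun x : G => x ^ (p ^ e))
            (fun y => y ∈ Subgroup.center G ∧ p ∣ orderOf y)
          intro y hy
          exact (Nat.gcd_dvd_left _ _).trans (dvd_card_pow_prime_pow_eq p e hp y hy.2)
        have h3 : Nat.card {x : G // x ^ (p ^ e) ∈ Subgroup.center G ∧ ¬ p ∣ orderOf (x ^ (p ^ e))}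
            = Nat.card {y : G // y ∈ Subgroup.center G ∧ ¬ p ∣ orderOf y} *
              Nat.card {x : G // x ^ (p ^ e) = 1} := by
          apply card_fiberwise_const (fun x : G => x ^ (p ^ e))
            (fun y => y ∈ Subgroup.center G ∧ ¬ p ∣ orderOf y)
          intro y hy
          exact card_pow_eq_of_coprime (p ^ e) y hy.1
            (Nat.Coprime.pow_left e ((Nat.Prime.coprime_iff_not_dvd hp).mpr hy.2))
        have h4 : d ∣ Nat.card G := Nat.gcd_dvd_right _ _
        rw [hsplit, h3] at h4
        have h5 : d ∣ Nat.card {y : G // y ∈ Subgroup.center G ∧ ¬ p ∣ orderOf y} *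
              Nat.card {x : G // x ^ (p ^ e) = 1} :=
          (Nat.dvd_add_right (Dvd.dvd.add h1 h2)).mp h4
        have h6 : d.Coprime (Nat.card {y : G // y ∈ Subgroup.center G ∧ ¬ p ∣ orderOf y}) := by
          apply Nat.Coprime.coprime_dvd_left (Nat.gcd_dvd_left (p ^ e) (Nat.card G))
          exact Nat.Coprime.pow_left e (coprime_card_center_pprime p hp).symm
        exact h6.dvd_of_dvd_mul_left h5
    · exact frobF_of_T_centralizer c (IH c hc) (p ^ e)

end

theorem frobT_all_aux : ∀ (N : ℕ) (G : Type*) [Group G] [Finite G], Nat.card G = N → FrobT G := by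
  intro N
  induction N using Nat.strong_induction_on with
  | _ N ih =>
    intro G _ _ hN n c hc
    have key := frobT_step (G := G) (fun y hy => by
      apply ih (Nat.card (Subgroup.centralizer ({y} : Set G))) _ _ rfl
      rw [← hN]
      apply lt_of_le_of_ne (Subgroup.card_le_card_group _)
      intro heq
      have := Subgroup.eq_top_of_card_eq _ heq
      rw [Subgroup.centralizer_eq_top_iff_subset] at this
      exact hy (this rfl)) n c
    rwa [card_pow_isConj, card_isConj_of_mem_center c hc, one_mul, one_mul] at key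

/-- **Frobenius–Hall**: the number of `x` with `x ^ n` conjugate to `c` is a multiple of `gcd (h n, g)`. -/
theorem hall_frobenius {G : Type*} [Group G] [Finite G] (c : G) (n : ℕ) :
    Nat.gcd (Nat.card {y : G // IsConj c y} * n) (Nat.card G) ∣ Nat.card {x : G // IsConj c (x ^ n)} :=
  frobT_step (fun _ _ => frobT_all_aux _ _ rfl) n c

/-- **Frobenius**: `gcd (n, g)` divides the number of solutions of `x ^ n = 1`. -/
theorem frobenius_pow_eq_one {G : Type*} [Group G] [Finite G] (n : ℕ) :
    Nat.gcd n (Nat.card G) ∣ Nat.card {x : G // x ^ n = 1} :=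
  frobT_all_aux _ G rfl n 1 (Subgroup.one_mem _)

end Cfsg.Agent.H3
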