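import Mathlib

namespace Cfsg.Agent.H3

/-- kernel of an additive endomorphism, as an additive subgroup -/
def endKer {V : Type*} [AddCommGroup V] (r : AddMonoid.End V) : AddSubgroup V where
  carrier := {w | r w = 0}
  zero_mem' := map_zero r
  add_mem' := by
    intro a b ha hb
    simp only [Set.mem_ofPred_eq] at ha hb ⊢
    rw [map_add, ha, hb, add_zero]
  neg_mem' := by
    intro a ha
    simp only [Set.mem_ofPred_eq] at ha ⊢
    rw [map_neg, ha, neg_zero]

theorem mem_endKer {V : Type*} [AddCommGroup V] (r : AddMonoid.End V) (w : V) :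
    w ∈ endKer r ↔ r w = 0 := Iff.rfl

open Polynomial in
theorem card_field_gen {R : Type*} [CommRing R] [IsDomain R] [Finite R] {p q : ℕ} [Fact p.Prime]
    [Fact q.Prime] [CharP R q] (hpq : q ≠ p) (x : R) (hx : x ^ p = 1) (hx1 : x ≠ 1)
    (hgen : ∀ S : Subring R, x ∈ S → S = ⊤) : Nat.card R = q ^ orderOf (q : ZMod p) := by
  classical
  have hp : p.Prime := Fact.out
  have hqp : q.Prime := Fact.out
  have hord : orderOf x = p := orderOf_eq_prime hx hx1
  have hq0 : (q : ZMod p) ≠ 0 := by
    intro h
    rw [ZMod.natCast_eq_zero_iff] at h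
    exact hpq ((Nat.prime_dvd_prime_iff_eq hp hqp).1 h).symm
  have he : 0 < orderOf (q : ZMod p) := by
    rw [orderOf_pos_iff, isOfFinOrder_iff_pow_eq_one]
    exact ⟨p - 1, Nat.sub_pos_of_lt hp.one_lt, ZMod.pow_card_sub_one_eq_one hq0⟩
  obtain ⟨e, hee⟩ : ∃ e, e = orderOf (q : ZMod p) := ⟨_, rfl⟩
  rw [← hee] at he ⊢
  have hqe : (q : ZMod p) ^ e = 1 := by rw [hee]; exact pow_orderOf_eq_one _
  have hmod : q ^ e ≡ 1 [MOD p] := by
    rw [← ZMod.natCast_eq_natCast_iff]
    push_cast
    exact hqe
  have hxe : x ^ (q ^ e) = x := by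
    obtain ⟨k, hk⟩ := (Nat.modEq_iff_dvd' (Nat.one_le_pow _ _ hqp.pos)).1 hmod.symm
    have h1 : q ^ e = p * k + 1 := by
      have := Nat.one_le_pow e q hqp.pos
      omega
    rw [h1, pow_succ, pow_mul, hx, one_pow, one_mul]
  have hall : ∀ r : R, r ^ (q ^ e) = r := by
    intro r
    have h1 := hgen ((iterateFrobenius R q e).eqLocus (RingHom.id R)) (by
      rw [RingHom.mem_eqLocus, iterateFrobenius_def]
      exact hxe)
    have h2 : r ∈ ((iterateFrobenius R q e).eqLocus (RingHom.id R)) := by rw [h1]; trivial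
    rw [RingHom.mem_eqLocus, iterateFrobenius_def] at h2
    exact h2
  haveI : Fintype R := Fintype.ofFinite R
  letI : Field R := Fintype.fieldOfDomain R
  obtain ⟨n, -, hn⟩ := FiniteField.card R q
  have hle : Fintype.card R ≤ q ^ e := by
    have h1 : (Finset.univ : Finset R).val ⊆ (X ^ q ^ e - X : R[X]).roots := by
      intro r _
      rw [mem_roots (FiniteField.X_pow_card_pow_sub_X_ne_zero R he.ne' hqp.one_lt)]
      simp [hall r]
    have h2 := card_le_degree_of_subset_roots h1
    rw [FiniteField.X_pow_card_pow_sub_X_natDegree_eq R he.ne' hqp.one_lt] at h2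
    exact h2
  have hdvd : e ∣ (n : ℕ) := by
    rw [hee, orderOf_dvd_iff_pow_eq_one]
    have h1 : x ^ (Fintype.card R - 1) = 1 := FiniteField.pow_card_sub_one_eq_one x (by
      intro h0
      rw [h0, zero_pow hp.ne_zero] at hx
      exact zero_ne_one hx)
    have h2 : p ∣ q ^ (n : ℕ) - 1 := by
      rw [← hord, ← hn]
      exact orderOf_dvd_of_pow_eq_one h1
    have h3 : ((q ^ (n : ℕ) - 1 : ℕ) : ZMod p) = 0 := (ZMod.natCast_eq_zero_iff _ _).2 h2
    rw [Nat.cast_sub (Nat.one_le_pow _ _ hqp.pos)] at h3
    push_cast at h3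
    exact sub_eq_zero.1 h3
  have hle2 : e ≤ n := Nat.le_of_dvd n.pos hdvd
  rw [Nat.card_eq_fintype_card]
  apply le_antisymm hle
  rw [hn]
  exact Nat.pow_le_pow_right hqp.pos hle2

/-- An irreducible automorphism of prime order `p` of an elementary abelian `q`-group `V`:
`|V| = q ^ (order of q mod p)`. -/
theorem card_of_irred_cyclic {V : Type*} [AddCommGroup V] [Finite V] {p q : ℕ} [Fact p.Prime]
    [Fact q.Prime] (hpq : q ≠ p) (hq : ∀ v : V, q • v = 0) (f : AddMonoid.End V) (hfp : f ^ p = 1)
    (hf1 : f ≠ 1) (hirr : ∀ W : AddSubgroup V, (∀ w ∈ W, f w ∈ W) → W = ⊥ ∨ W = ⊤) :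
    Nat.card V = q ^ orderOf (q : ZMod p) := by
  classical
  have hcomm : ∀ x ∈ ({f} : Set (AddMonoid.End V)), ∀ y ∈ ({f} : Set (AddMonoid.End V)),
      x * y = y * x := by
    intro x hx y hy
    rw [Set.mem_singleton_iff] at hx hy
    rw [hx, hy]
  have hmc : IsMulCommutative (Subring.closure ({f} : Set (AddMonoid.End V))) :=
    Subring.isMulCommutative_closure hcomm
  let _ : CommRing (Subring.closure ({f} : Set (AddMonoid.End V))) :=
    { (inferInstance : Ring (Subring.closure ({f} : Set (AddMonoid.End V)))) with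
      mul_comm := fun a b => hmc.is_comm.comm a b }
  obtain ⟨fR, hfR⟩ : ∃ fR : Subring.closure ({f} : Set (AddMonoid.End V)),
      (fR : AddMonoid.End V) = f := ⟨⟨f, Subring.subset_closure rfl⟩, rfl⟩
  have hA : ∀ (r : Subring.closure ({f} : Set (AddMonoid.End V))) (v : V),
      (r : AddMonoid.End V) (f v) = f ((r : AddMonoid.End V) v) := by
    intro r v
    have h1 : r * fR = fR * r := mul_comm _ _
    have h2 : (r : AddMonoid.End V) * f = f * (r : AddMonoid.End V) := by
      have := congrArg (Subtype.val) h1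
      simpa [hfR] using this
    exact DFunLike.congr_fun h2 v
  have hB : ∀ (r : Subring.closure ({f} : Set (AddMonoid.End V))) (v : V), v ≠ 0 →
      (r : AddMonoid.End V) v = 0 → r = 0 := by
    intro r v hv hrv
    have hW := hirr (endKer (r : AddMonoid.End V)) (by
      intro w hw
      rw [mem_endKer] at hw ⊢
      rw [hA, hw, map_zero])
    rcases hW with hW | hW
    · exfalso
      apply hv
      have : v ∈ endKer (r : AddMonoid.End V) := hrv
      rw [hW] at this
      exact this
    · apply Subtype.ext
      ext w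
      have : w ∈ endKer (r : AddMonoid.End V) := by rw [hW]; trivial
      exact this
  obtain ⟨v0, hv0⟩ : ∃ v0 : V, v0 ≠ 0 := by
    by_contra hcon
    push Not at hcon
    apply hf1
    ext w
    rw [hcon w, map_zero, map_zero]
  have hnt : Nontrivial (Subring.closure ({f} : Set (AddMonoid.End V))) := by
    refine ⟨⟨1, 0, ?_⟩⟩
    intro h10
    apply hv0
    have := congrArg (fun r : Subring.closure ({f} : Set (AddMonoid.End V)) =>
      (r : AddMonoid.End V) v0) h10
    simpa using this
  have hnzd : NoZeroDivisors (Subring.closure ({f} : Set (AddMonoid.End V))) := by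
    refine ⟨?_⟩
    intro r s hrs
    by_contra hcon
    push Not at hcon
    have h1 : (s : AddMonoid.End V) v0 ≠ 0 := fun h => hcon.2 (hB s v0 hv0 h)
    apply hcon.1
    apply hB r _ h1
    have := congrArg (fun r : Subring.closure ({f} : Set (AddMonoid.End V)) =>
      (r : AddMonoid.End V) v0) hrs
    simpa using this
  have hdom : IsDomain (Subring.closure ({f} : Set (AddMonoid.End V))) :=
    NoZeroDivisors.to_isDomain _
  have hfinE : Finite (AddMonoid.End V) := DFunLike.finite (AddMonoid.End V)
  have hfinR : Finite (Subring.closure ({f} : Set (AddMonoid.End V))) := inferInstance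
  have hchar : CharP (Subring.closure ({f} : Set (AddMonoid.End V))) q := by
    rw [CharP.charP_iff_prime_eq_zero (Fact.out : q.Prime)]
    apply Subtype.ext
    ext w
    simp [hq]
  have hfRp : fR ^ p = 1 := by
    apply Subtype.ext
    simp [hfR, hfp]
  have hfR1 : fR ≠ 1 := by
    intro h
    apply hf1
    rw [← hfR, h]
    rfl
  have hgen : ∀ S : Subring (Subring.closure ({f} : Set (AddMonoid.End V))), fR ∈ S → S = ⊤ := by
    intro S hS
    rw [eq_top_iff]
    rintro ⟨r0, h0⟩ -
    induction h0 using Subring.closure_induction with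
    | mem x hx =>
      rw [Set.mem_singleton_iff] at hx
      have : (⟨x, Subring.subset_closure hx⟩ : Subring.closure ({f} : Set (AddMonoid.End V))) = fR :=
        Subtype.ext (by rw [hfR]; exact hx)
      rw [this]
      exact hS
    | zero => exact S.zero_mem
    | one => exact S.one_mem
    | add x y hx hy h1 h2 => exact S.add_mem h1 h2
    | neg x hx h1 => exact S.neg_mem h1
    | mul x y hx hy h1 h2 => exact S.mul_mem h1 h2
  rw [← card_field_gen hpq fR hfRp hfR1 hgen]
  symm
  apply Nat.card_eq_of_bijective (fun r : Subring.closure ({f} : Set (AddMonoid.End V)) =>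
    (r : AddMonoid.End V) v0)
  constructor
  · intro r s hrs
    have h1 : ((r - s : Subring.closure ({f} : Set (AddMonoid.End V))) : AddMonoid.End V) v0 = 0 := by
      have : (r : AddMonoid.End V) v0 = (s : AddMonoid.End V) v0 := hrs
      change (r : AddMonoid.End V) v0 - (s : AddMonoid.End V) v0 = 0
      rw [this, sub_self]
    exact sub_eq_zero.1 (hB _ v0 hv0 h1)
  · have hW := hirr
      { carrier := Set.range (fun r : Subring.closure ({f} : Set (AddMonoid.End V)) =>
          (r : AddMonoid.End V) v0)
        zero_mem' := ⟨0, by simp⟩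
        add_mem' := by
          rintro _ _ ⟨a, rfl⟩ ⟨b, rfl⟩
          exact ⟨a + b, rfl⟩
        neg_mem' := by
          rintro _ ⟨a, rfl⟩
          exact ⟨-a, rfl⟩ } (by
        rintro _ ⟨a, rfl⟩
        exact ⟨fR * a, by simp [hfR]⟩)
    rcases hW with hW | hW
    · exfalso
      apply hv0
      have h1 : v0 ∈ (⊥ : AddSubgroup V) := by
        rw [← hW]
        exact ⟨1, by simp⟩
      exact h1
    · intro w
      have h1 : w ∈ (⊤ : AddSubgroup V) := trivial
      rw [← hW] at h1
      exact h1

theorem card_of_irred_mulAut {A : Type*} [CommGroup A] [Finite A] {p q : ℕ} [Fact p.Prime]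
    [Fact q.Prime] (hpq : q ≠ p) (hq : ∀ a : A, a ^ q = 1) (σ : MulAut A) (hσp : σ ^ p = 1)
    (hσ1 : σ ≠ 1) (hirr : ∀ B : Subgroup A, (∀ b ∈ B, σ b ∈ B) → B = ⊥ ∨ B = ⊤) :
    Nat.card A = q ^ orderOf (q : ZMod p) := by
  obtain ⟨f, hf⟩ : ∃ f : AddMonoid.End (Additive A),
      ∀ a : A, f (Additive.ofMul a) = Additive.ofMul (σ a) :=
    ⟨MonoidHom.toAdditive σ.toMonoidHom, fun a => rfl⟩
  have hpow : ∀ (k : ℕ) (a : A), (f ^ k) (Additive.ofMul a) = Additive.ofMul ((σ ^ k) a) := by
    intro k
    induction k with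
    | zero => intro a; rfl
    | succ k ih =>
      intro a
      rw [pow_succ, pow_succ]
      change (f ^ k) (f (Additive.ofMul a)) = _
      rw [hf, ih]
      rfl
  have := card_of_irred_cyclic (V := Additive A) hpq (fun v => hq v.toMul) f (by
      ext a
      have := hpow p a.toMul
      rw [hσp] at this
      exact this) (by
      intro h
      apply hσ1
      ext a
      have := DFunLike.congr_fun h (Additive.ofMul a)
      rw [hf] at this
      exact this) (by
      intro W hW
      rcases hirr (AddSubgroup.toSubgroup' W) (fun b hb => by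
        have := hW (Additive.ofMul b) hb
        rw [hf] at this
        exact this) with h | h
      · left
        rw [eq_bot_iff]
        intro w hw
        have : w.toMul ∈ AddSubgroup.toSubgroup' W := hw
        rw [h] at this
        exact this
      · right
        rw [eq_top_iff]
        intro w _
        have : w.toMul ∈ AddSubgroup.toSubgroup' W := by rw [h]; trivial
        exact this)
  exact this

end Cfsg.Agent.H3
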