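import Mathlib
import Cfsg.Prelude.Def_OddOrderLocal
import Cfsg.Agent.Lib_helper1_Coprime

set_option autoImplicit false
open Pointwise

namespace Cfsg.Agent.H3

open Subgroup Cfsg

universe u

/-- `n` is a `π`-number -/
def piN (π : Set ℕ) (n : ℕ) : Prop := ∀ p : ℕ, p.Prime → p ∣ n → p ∈ π

/-- `n` is a `π'`-number -/
def piN' (π : Set ℕ) (n : ℕ) : Prop := ∀ p : ℕ, p.Prime → p ∈ π → ¬ p ∣ n

theorem piN_mul {π : Set ℕ} {a b : ℕ} (ha : piN π a) (hb : piN π b) : piN π (a * b) :=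
  fun p hp hd => (hp.dvd_mul.1 hd).elim (ha p hp) (hb p hp)

theorem piN'_mul {π : Set ℕ} {a b : ℕ} (ha : piN' π a) (hb : piN' π b) : piN' π (a * b) :=
  fun p hp hm hd => (hp.dvd_mul.1 hd).elim (ha p hp hm) (hb p hp hm)

theorem piN_of_dvd {π : Set ℕ} {a b : ℕ} (hb : piN π b) (h : a ∣ b) : piN π a :=
  fun p hp hd => hb p hp (hd.trans h)

theorem piN'_of_dvd {π : Set ℕ} {a b : ℕ} (hb : piN' π b) (h : a ∣ b) : piN' π a :=
  fun p hp hm hd => hb p hp hm (hd.trans h)

theorem pi_coprime {π : Set ℕ} {a b : ℕ} (ha : piN π a) (hb : piN' π b) : a.Coprime b :=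
  Nat.coprime_of_dvd (fun k hk hka hkb => hb k hk (ha k hk hka) hkb)

theorem pi_unique {π : Set ℕ} {a b c d : ℕ} (h : a * b = c * d) (ha : piN π a) (hb : piN' π b)
    (hc : piN π c) (hd : piN' π d) : a = c := by
  apply Nat.dvd_antisymm
  · exact (pi_coprime ha hd).dvd_of_dvd_mul_right (h ▸ Dvd.intro _ rfl)
  · exact (pi_coprime hc hb).dvd_of_dvd_mul_right (h ▸ Dvd.intro _ rfl)

theorem exists_pi_decomp (π : Set ℕ) (N : ℕ) (hN : N ≠ 0) :
    ∃ m n : ℕ, N = m * n ∧ piN π m ∧ piN' π n := by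
  classical
  induction N using Nat.recOnMul with
  | zero => exact absurd rfl hN
  | one =>
    refine ⟨1, 1, rfl, fun p hp hd => ?_, fun p hp _ hd => ?_⟩
    · exact absurd (Nat.dvd_one.1 hd) hp.ne_one
    · exact absurd (Nat.dvd_one.1 hd) hp.ne_one
  | prime q hq =>
    by_cases hqπ : q ∈ π
    · refine ⟨q, 1, (mul_one q).symm, fun p hp hd => ?_, fun p hp _ hd => ?_⟩
      · rwa [(Nat.prime_dvd_prime_iff_eq hp hq).1 hd]
      · exact absurd (Nat.dvd_one.1 hd) hp.ne_one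
    · refine ⟨1, q, (one_mul q).symm, fun p hp hd => ?_, fun p hp hm hd => ?_⟩
      · exact absurd (Nat.dvd_one.1 hd) hp.ne_one
      · rw [(Nat.prime_dvd_prime_iff_eq hp hq).1 hd] at hm
        exact hqπ hm
  | mul a b iha ihb =>
    obtain ⟨m1, n1, e1, h1, h1'⟩ := iha (left_ne_zero_of_mul hN)
    obtain ⟨m2, n2, e2, h2, h2'⟩ := ihb (right_ne_zero_of_mul hN)
    exact ⟨m1 * m2, n1 * n2, by rw [e1, e2]; ring, piN_mul h1 h2, piN'_mul h1' h2'⟩

variable {X : Type u} [Group X]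

theorem hall_of_card [Finite X] {π : Set ℕ} {H H₀ G : Subgroup X} (h0 : IsPiHallOf π H₀ G)
    (hle : H ≤ G) (hc : Nat.card H = Nat.card H₀) : IsPiHallOf π H G := by
  refine ⟨hle, fun p hp hd => h0.2.1 p hp (hc ▸ hd), ?_⟩
  have : H.relIndex G = H₀.relIndex G := by
    have h1 := H1.relIndex_mul_card' hle
    have h2 := H1.relIndex_mul_card' h0.1
    rw [hc] at h1
    exact Nat.eq_of_mul_eq_mul_right Nat.card_pos (h1.trans h2.symm)
  rw [this]; exact h0.2.2

theorem hall_card_eq {π : Set ℕ} {H₁ H₂ G : Subgroup X} (h1 : IsPiHallOf π H₁ G)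
    (h2 : IsPiHallOf π H₂ G) : Nat.card H₁ = Nat.card H₂ := by
  have e1 := H1.relIndex_mul_card' h1.1
  have e2 := H1.relIndex_mul_card' h2.1
  exact pi_unique (π := π) (b := H₁.relIndex G) (d := H₂.relIndex G)
    (by rw [mul_comm, e1, mul_comm, e2]) h1.2.1 h1.2.2 h2.2.1 h2.2.2

theorem hall_coprime {π : Set ℕ} {H G : Subgroup X} (h : IsPiHallOf π H G) :
    (Nat.card H).Coprime (H.relIndex G) := pi_coprime (π := π) h.2.1 h.2.2

theorem card_conj_smul (g : X) (H : Subgroup X) :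
    Nat.card (MulAut.conj g • H : Subgroup X) = Nat.card H :=
  Nat.card_congr (Subgroup.equivSMul (MulAut.conj g) H).symm.toEquiv

theorem conj_smul_le_of_mem_normalizer {g : X} {H G : Subgroup X} (hg : g ∈ normalizer (G : Set X))
    (h : H ≤ G) : MulAut.conj g • H ≤ G := by
  intro x hx
  rw [H1.mem_conj_smul] at hx
  have := (mem_normalizer_iff.1 hg _).1 (h hx)
  simpa [mul_assoc] using this

theorem hall_conj_smul [Finite X] {π : Set ℕ} {H G : Subgroup X} (h : IsPiHallOf π H G) {g : X}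
    (hg : g ∈ normalizer (G : Set X)) : IsPiHallOf π (MulAut.conj g • H) G :=
  hall_of_card h (conj_smul_le_of_mem_normalizer hg h.1) (card_conj_smul g H)

theorem hall_exists [Finite X] (π : Set ℕ) (G : Subgroup X) (hsolv : Group.IsSolvable G) :
    ∃ H : Subgroup X, IsPiHallOf π H G := by
  obtain ⟨m, n, e, hm, hn⟩ := exists_pi_decomp π (Nat.card G) Nat.card_pos.ne'
  obtain ⟨H', hH', -⟩ := (H1.hall_aux _ G m n rfl e (pi_coprime hm hn)).1 ⊥ (by simp)
  have hc : Nat.card (H'.map G.subtype) = m := by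
    rw [card_map_of_injective G.subtype_injective, hH']
  have hle : H'.map G.subtype ≤ G := map_subtype_le _
  refine ⟨H'.map G.subtype, hle, by rw [hc]; exact hm, ?_⟩
  have h1 := H1.relIndex_mul_card' hle
  rw [hc, e, mul_comm] at h1
  have hm0 : 0 < m := by
    rcases Nat.eq_zero_or_pos m with h | h
    · rw [h, zero_mul] at e; exact absurd e Nat.card_pos.ne'
    · exact h
  rw [Nat.eq_of_mul_eq_mul_left hm0 h1]
  exact hn

theorem hall_conj [Finite X] {π : Set ℕ} {G H₁ H₂ : Subgroup X} (hsolv : Group.IsSolvable G)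
    (h1 : IsPiHallOf π H₁ G) (h2 : IsPiHallOf π H₂ G) : ∃ l ∈ G, MulAut.conj l • H₁ = H₂ :=
  H1.hall_conj_internal G H₁ H₂ hsolv h1.1 h2.1 (hall_card_eq h1 h2) (hall_coprime h1)

/-- coprime action: existence of an invariant Hall subgroup -/
theorem inv_hall_exists [Finite X] (A G : Subgroup X) (hAG : A ≤ normalizer (G : Set X))
    (hcop : (Nat.card A).Coprime (Nat.card G)) (hsolv : Group.IsSolvable G) (π : Set ℕ) :
    ∃ H : Subgroup X, IsPiHallOf π H G ∧ A ≤ normalizer (H : Set X) := by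
  obtain ⟨H₀, h0⟩ := hall_exists π G hsolv
  obtain ⟨k, hk, hk'⟩ := H1.glauberman_exists A G (normalizer (H₀ : Set X)) hAG hcop (Or.inr hsolv)
    (fun a ha => by
      obtain ⟨l, hl, hl'⟩ := hall_conj hsolv (hall_conj_smul h0 (hAG ha)) h0
      refine ⟨l, hl, ?_⟩
      rw [← H1.conj_smul_eq_iff_mem_normalizer, map_mul, mul_smul]
      exact hl')
  exact ⟨MulAut.conj k⁻¹ • H₀, hall_conj_smul h0 (le_normalizer (inv_mem hk)),
    (H1.conj_smul_le_normalizer_iff k A _).mp hk'⟩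

/-- coprime action: conjugacy of invariant Hall subgroups -/
theorem inv_hall_conj [Finite X] (A G : Subgroup X) (hAG : A ≤ normalizer (G : Set X))
    (hcop : (Nat.card A).Coprime (Nat.card G)) (hsolv : Group.IsSolvable G) {π : Set ℕ}
    {H₁ H₂ : Subgroup X} (h1 : IsPiHallOf π H₁ G) (hA1 : A ≤ normalizer (H₁ : Set X))
    (h2 : IsPiHallOf π H₂ G) (hA2 : A ≤ normalizer (H₂ : Set X)) :
    ∃ c ∈ G ⊓ centralizer (A : Set X), MulAut.conj c • H₁ = H₂ := by
  obtain ⟨k, hk, hk'⟩ := hall_conj hsolv h1 h2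
  have h3 : MulAut.conj k • A ≤ normalizer (H₂ : Set X) := by
    rw [H1.conj_smul_le_normalizer_iff, ← hk', ← mul_smul, ← map_mul, inv_mul_cancel, map_one,
      one_smul]
    exact hA1
  obtain ⟨c, hc, hck⟩ := H1.glauberman_conj A G _ hAG hcop (Or.inr hsolv) hA2 k hk h3
  refine ⟨c * k, mem_inf.2 ⟨mul_mem hc.1 hk, hck⟩, ?_⟩
  rw [map_mul, mul_smul, hk']
  exact H1.conj_smul_eq_iff_mem_normalizer.mpr hc.2

theorem le_normalizer_sup_normal {A U N : Subgroup X} (hN : N.Normal)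
    (hAU : A ≤ normalizer (U : Set X)) : A ≤ normalizer ((U ⊔ N : Subgroup X) : Set X) := by
  apply H1.le_normalizer_of_forall
  intro a ha x hx
  obtain ⟨u, hu, n, hn, rfl⟩ := mem_sup_of_normal_right.1 hx
  have e : a * (u * n) * a⁻¹ = (a * u * a⁻¹) * (a * n * a⁻¹) := by group
  rw [e]
  exact mul_mem (mem_sup_left (H1.conj_mem_of_le_normalizer hAU ha hu))
    (mem_sup_right (hN.conj_mem n hn a))

theorem le_normalizer_inf {A U V : Subgroup X} (hU : A ≤ normalizer (U : Set X))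
    (hV : A ≤ normalizer (V : Set X)) : A ≤ normalizer ((U ⊓ V : Subgroup X) : Set X) := by
  apply H1.le_normalizer_of_forall
  intro a ha x hx
  exact mem_inf.2 ⟨H1.conj_mem_of_le_normalizer hU ha hx.1, H1.conj_mem_of_le_normalizer hV ha hx.2⟩

/-- a complement-type Hall subgroup: `U ⊔ N = W`, `N` a normal `π'`-group, `U` a `π`-group -/
theorem hall_of_sup_normal [Finite X] {π : Set ℕ} {U N : Subgroup X} (hN : N.Normal)
    (hU : piN π (Nat.card U)) (hN' : piN' π (Nat.card N)) : IsPiHallOf π U (U ⊔ N) := by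
  refine ⟨le_sup_left, hU, ?_⟩
  have h1 := H1.card_sup_mul_card_inf U N
  rw [(disjoint_of_coprime_natCard (pi_coprime hU hN')).eq_bot, card_bot, mul_one] at h1
  have h2 := H1.relIndex_mul_card' (le_sup_left : U ≤ U ⊔ N)
  rw [h1, mul_comm] at h2
  rw [Nat.eq_of_mul_eq_mul_left Nat.card_pos h2]
  exact hN'

theorem inv_hall_contains_step [Finite X] {π : Set ℕ} (A H N U : Subgroup X) (hN : N.Normal)
    (hNH : N ≤ H) (hAH : A ≤ normalizer (H : Set X)) (hcop : (Nat.card A).Coprime (Nat.card H))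
    (hsolv : Group.IsSolvable H) (hN' : piN' π (Nat.card N)) (hHN : piN π (N.relIndex H))
    (hUH : U ≤ H) (hAU : A ≤ normalizer (U : Set X)) (hU : piN π (Nat.card U)) :
    ∃ H₂ : Subgroup X, IsPiHallOf π H₂ H ∧ A ≤ normalizer (H₂ : Set X) ∧ U ≤ H₂ := by
  obtain ⟨H₁, hH₁, hAH₁⟩ := inv_hall_exists A H hAH hcop hsolv π
  have c1 := H1.relIndex_mul_card' hNH
  have c2 := H1.relIndex_mul_card' hH₁.1
  have e1 : Nat.card H₁ = N.relIndex H :=
    pi_unique (π := π) (b := H₁.relIndex H) (d := Nat.card N) (by rw [mul_comm, c2, c1])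
      hH₁.2.1 hH₁.2.2 hHN hN'
  have d1 : H₁ ⊓ N = ⊥ := (disjoint_of_coprime_natCard (pi_coprime hH₁.2.1 hN')).eq_bot
  have s1 : H₁ ⊔ N = H := by
    apply eq_of_le_of_card_ge (sup_le hH₁.1 hNH)
    have h1 := H1.card_sup_mul_card_inf H₁ N
    rw [d1, card_bot, mul_one, e1, c1] at h1
    exact h1.ge
  have hWH : U ⊔ N ≤ H := sup_le hUH hNH
  have hAW : A ≤ normalizer ((U ⊔ N : Subgroup X) : Set X) := le_normalizer_sup_normal hN hAU
  have hUW : IsPiHallOf π U (U ⊔ N) := hall_of_sup_normal hN hU hN'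
  have hU₁ : piN π (Nat.card ((U ⊔ N) ⊓ H₁ : Subgroup X)) :=
    piN_of_dvd hH₁.2.1 (card_dvd_of_le inf_le_right)
  have s2 : ((U ⊔ N) ⊓ H₁) ⊔ N = U ⊔ N := by
    apply le_antisymm (sup_le inf_le_left le_sup_right)
    intro w hw
    have hwH : w ∈ H₁ ⊔ N := by rw [s1]; exact hWH hw
    obtain ⟨h, hh, n, hn, rfl⟩ := mem_sup_of_normal_right.1 hwH
    refine mul_mem (mem_sup_left (mem_inf.2 ⟨?_, hh⟩)) (mem_sup_right hn)
    have := mul_mem hw (inv_mem (mem_sup_right (S := U) hn))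
    simpa using this
  have hU₁W : IsPiHallOf π ((U ⊔ N) ⊓ H₁) (U ⊔ N) := by
    have := hall_of_sup_normal hN hU₁ hN'
    rwa [s2] at this
  obtain ⟨c, hc, hcU⟩ := inv_hall_conj A (U ⊔ N) hAW
    (hcop.coprime_dvd_right (card_dvd_of_le hWH)) (H1.isSolvable_of_le hWH hsolv)
    hU₁W (le_normalizer_inf hAW hAH₁) hUW hAU
  refine ⟨MulAut.conj c • H₁, hall_conj_smul hH₁ (le_normalizer (hWH hc.1)), ?_, ?_⟩
  · apply H1.le_normalizer_of_forall
    intro a ha x hx
    rw [H1.mem_conj_smul] at hx ⊢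
    have hca : a * c = c * a := (mem_centralizer_iff.1 hc.2) a ha
    have hca' : c⁻¹ * a = a * c⁻¹ := by
      calc c⁻¹ * a = c⁻¹ * (a * c) * c⁻¹ := by group
        _ = c⁻¹ * (c * a) * c⁻¹ := by rw [hca]
        _ = a * c⁻¹ := by group
    have e : c⁻¹ * (a * x * a⁻¹) * c = a * (c⁻¹ * x * c) * a⁻¹ := by
      calc c⁻¹ * (a * x * a⁻¹) * c = (c⁻¹ * a) * x * (c⁻¹ * a)⁻¹ := by group
        _ = (a * c⁻¹) * x * (a * c⁻¹)⁻¹ := by rw [hca']
        _ = a * (c⁻¹ * x * c) * a⁻¹ := by group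
    rw [e]
    exact H1.conj_mem_of_le_normalizer hAH₁ ha hx
  · rw [← hcU]
    intro x hx
    rw [H1.mem_conj_smul] at hx ⊢
    exact hx.2

theorem inv_hall_contains_aux (π : Set ℕ) (n : ℕ) : ∀ (X : Type u) [Group X] [Finite X]
    (A G U : Subgroup X), Nat.card G = n → G.Normal → (Nat.card A).Coprime (Nat.card G) →
    Group.IsSolvable G → U ≤ G → A ≤ normalizer (U : Set X) → piN π (Nat.card U) →
    ∃ H : Subgroup X, IsPiHallOf π H G ∧ A ≤ normalizer (H : Set X) ∧ U ≤ H := by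
  induction n using Nat.strong_induction_on with
  | _ n ih =>
  intro X _ _ A G U hn hG hcop hsolv hUG hAU hU
  have hAG : A ≤ normalizer (G : Set X) := by rw [normalizer_eq_top]; exact le_top
  by_cases hGb : G = ⊥
  · obtain ⟨H, hH, hAH⟩ := inv_hall_exists A G hAG hcop hsolv π
    exact ⟨H, hH, hAH, by rw [hGb] at hUG; exact hUG.trans bot_le⟩
  have hnt : Nontrivial ↥G := (nontrivial_iff_ne_bot G).2 hGb
  obtain ⟨q, hq, M, hMc, hMp, hMne, -⟩ := H1.exists_normal_pgroup_of_solvable ↥G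
  have hqf : Fact q.Prime := ⟨hq⟩
  obtain ⟨N, hNdef⟩ : ∃ N : Subgroup X, N = M.map G.subtype := ⟨_, rfl⟩
  have hN : N.Normal := by rw [hNdef]; exact ConjAct.normal_of_characteristic_of_normal
  have hNG : N ≤ G := by rw [hNdef]; exact map_subtype_le _
  have hNcard : Nat.card N = Nat.card M := by
    rw [hNdef, card_map_of_injective G.subtype_injective]
  obtain ⟨k, hk⟩ := hMp.exists_card_eq
  have hNne : 1 < Nat.card N := by
    rw [hNcard]
    exact (one_lt_card_iff_ne_bot M).2 hMne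
  -- pass to the quotient
  have cG := H1.card_map_mk_of_le hNG
  have hlt : Nat.card (G.map (QuotientGroup.mk' N)) < n := by
    rw [← hn, ← cG]
    exact lt_mul_of_one_lt_right Nat.card_pos hNne
  obtain ⟨Hb, hHb, hAHb, hUHb⟩ := ih _ hlt (X ⧸ N) (A.map (QuotientGroup.mk' N))
    (G.map (QuotientGroup.mk' N)) (U.map (QuotientGroup.mk' N)) rfl
    (hG.map _ (QuotientGroup.mk'_surjective N))
    ((hcop.coprime_dvd_left (card_map_dvd _ _)).coprime_dvd_right (card_map_dvd _ _))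
    (H1.isSolvable_map _ hsolv) (map_mono hUG)
    ((map_mono hAU).trans (le_normalizer_map _))
    (piN_of_dvd hU (card_map_dvd _ _))
  obtain ⟨H, hHdef⟩ : ∃ H : Subgroup X, H = Hb.comap (QuotientGroup.mk' N) := ⟨_, rfl⟩
  have hHG : H ≤ G := by
    rw [hHdef]
    refine (comap_mono hHb.1).trans ?_
    rw [comap_map_eq, QuotientGroup.ker_mk']
    exact sup_le le_rfl hNG
  have hAH : A ≤ normalizer (H : Set X) := by
    rw [hHdef]
    refine le_trans ?_ (le_normalizer_comap _)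
    rw [← map_le_iff_le_comap]
    exact hAHb
  have hUH : U ≤ H := by
    rw [hHdef, ← map_le_iff_le_comap]; exact hUHb
  have hNH : N ≤ H := by
    rw [hHdef]
    conv_lhs => rw [← QuotientGroup.ker_mk' N]
    exact ker_le_comap _ _
  have cH : Nat.card H = Nat.card Hb * Nat.card N := by
    rw [hHdef]; exact H1.card_comap_mk N Hb
  have hrel : H.relIndex G = Hb.relIndex (G.map (QuotientGroup.mk' N)) := by
    have h1 := H1.relIndex_mul_card' hHG
    have h2 := H1.relIndex_mul_card' hHb.1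
    rw [cH, ← cG, ← h2, ← mul_assoc] at h1
    exact Nat.eq_of_mul_eq_mul_right Nat.card_pos
      (Nat.eq_of_mul_eq_mul_right Nat.card_pos h1)
  by_cases hqπ : q ∈ π
  · refine ⟨H, ⟨hHG, ?_, ?_⟩, hAH, hUH⟩
    · rw [cH]
      apply piN_mul hHb.2.1
      intro p hp hd
      rw [hNcard, hk] at hd
      rwa [(Nat.prime_dvd_prime_iff_eq hp hq).1 (hp.dvd_of_dvd_pow hd)]
    · rw [hrel]; exact hHb.2.2
  · have hN' : piN' π (Nat.card N) := by
      intro p hp hm hd
      rw [hNcard, hk] at hd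
      rw [(Nat.prime_dvd_prime_iff_eq hp hq).1 (hp.dvd_of_dvd_pow hd)] at hm
      exact hqπ hm
    have hHN : piN π (N.relIndex H) := by
      have h1 := H1.relIndex_mul_card' hNH
      rw [cH] at h1
      rw [Nat.eq_of_mul_eq_mul_right Nat.card_pos h1]
      exact hHb.2.1
    obtain ⟨H₂, hH₂, hAH₂, hUH₂⟩ := inv_hall_contains_step A H N U hN hNH hAH
      (hcop.coprime_dvd_right (card_dvd_of_le hHG)) (H1.isSolvable_of_le hHG hsolv) hN' hHN hUH hAU hU
    refine ⟨H₂, ⟨hH₂.1.trans hHG, hH₂.2.1, ?_⟩, hAH₂, hUH₂⟩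
    rw [← relIndex_mul_relIndex H₂ H G hH₂.1 hHG]
    apply piN'_mul hH₂.2.2
    rw [hrel]; exact hHb.2.2

/-- coprime action: every invariant `π`-subgroup lies in an invariant Hall `π`-subgroup -/
theorem inv_hall_contains [Finite X] (A G U : Subgroup X) (hAG : A ≤ normalizer (G : Set X))
    (hcop : (Nat.card A).Coprime (Nat.card G)) (hsolv : Group.IsSolvable G) (π : Set ℕ)
    (hUG : U ≤ G) (hAU : A ≤ normalizer (U : Set X)) (hU : piN π (Nat.card U)) :
    ∃ H : Subgroup X, IsPiHallOf π H G ∧ A ≤ normalizer (H : Set X) ∧ U ≤ H := by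
  obtain ⟨L, hL⟩ : ∃ L : Subgroup X, L = normalizer (G : Set X) := ⟨_, rfl⟩
  have hGL : G ≤ L := hL ▸ le_normalizer
  have hAL : A ≤ L := hL ▸ hAG
  have hUL : U ≤ L := hUG.trans hGL
  have hGn : (G.subgroupOf L).Normal := by
    rw [hL]; exact normal_in_normalizer
  obtain ⟨H', hH', hAH', hUH'⟩ := inv_hall_contains_aux π _ ↥L (A.subgroupOf L) (G.subgroupOf L)
    (U.subgroupOf L) rfl hGn
    (by rw [H1.card_subgroupOf_of_le hAL, H1.card_subgroupOf_of_le hGL]; exact hcop)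
    (H1.isSolvable_subgroupOf L hsolv)
    (fun x hx => hUG hx)
    (by
      apply H1.le_normalizer_of_forall
      intro a ha x hx
      rw [mem_subgroupOf] at ha hx ⊢
      exact H1.conj_mem_of_le_normalizer hAU ha hx)
    (by rw [H1.card_subgroupOf_of_le hUL]; exact hU)
  have hle : H'.map L.subtype ≤ G := by
    rw [map_le_iff_le_comap]; exact hH'.1
  have hc : Nat.card (H'.map L.subtype) = Nat.card H' := card_map_of_injective L.subtype_injective
  refine ⟨H'.map L.subtype, ⟨hle, by rw [hc]; exact hH'.2.1, ?_⟩, ?_, ?_⟩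
  · have h1 := H1.relIndex_mul_card' hle
    have h2 := H1.relIndex_mul_card' hH'.1
    rw [H1.card_subgroupOf_of_le hGL, ← h1, hc] at h2
    rw [← Nat.eq_of_mul_eq_mul_right Nat.card_pos h2]
    exact hH'.2.2
  · apply H1.le_normalizer_of_forall
    rintro a ha _ ⟨y, hy, rfl⟩
    have ha' : (⟨a, hAL ha⟩ : ↥L) ∈ A.subgroupOf L := mem_subgroupOf.2 ha
    exact ⟨_, H1.conj_mem_of_le_normalizer hAH' ha' hy, rfl⟩
  · intro u hu
    exact ⟨⟨u, hUL hu⟩, hUH' (mem_subgroupOf.2 hu), rfl⟩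

end Cfsg.Agent.H3
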