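import Mathlib
import Cfsg.Agent.Lib_helper3_FrobN
import Cfsg.Agent.Lib_helper3_Sylow2
import Cfsg.Agent.Lib_helper1_Hall

set_option autoImplicit false

namespace Cfsg.Agent.H3
open Subgroup

theorem card_eq_card_mul_of_fiber {α β : Type*} [Finite α] [Finite β] (f : α → β) (s : ℕ)
    (h : ∀ b, Nat.card {a // f a = b} = s) : Nat.card α = Nat.card β * s := by
  classical
  have := Fintype.ofFinite β
  rw [Nat.card_congr (Equiv.sigmaFiberEquiv f).symm, Nat.card_sigma]
  simp only [h]
  simp [Nat.card_eq_fintype_card]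

theorem card_subtype_ne_one {H : Type*} [Group H] [Finite H] :
    Nat.card {q : H // q ≠ 1} = Nat.card H - 1 := by
  classical
  have := Fintype.ofFinite H
  rw [Nat.card_eq_fintype_card, Nat.card_eq_fintype_card, Fintype.card_subtype_compl,
    Fintype.card_subtype_eq]

section
variable {G : Type*} [Group G] [Finite G] {p : ℕ} [Fact p.Prime] {x : G}

omit [Finite G] in
theorem zpowers_eq_of_mem_of_ne_one {y z : G} (hy : orderOf y = p) (hz : z ∈ zpowers y)
    (hz1 : z ≠ 1) : zpowers z = zpowers y := by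
  have hfin : Finite (zpowers y) := by
    rw [← Nat.card_pos_iff.trans ⟨fun h => h.2, fun h => ⟨⟨1⟩, h⟩⟩] 
    rw [Nat.card_zpowers, hy]; exact (Fact.out : p.Prime).pos
  apply eq_of_le_of_card_ge (zpowers_le.2 hz)
  rw [Nat.card_zpowers, Nat.card_zpowers, hy]
  have h1 : orderOf z ∣ p := by
    have := orderOf_dvd_natCard (⟨z, hz⟩ : zpowers y)
    rwa [Subgroup.orderOf_mk, Nat.card_zpowers, hy] at this
  rcases (Nat.dvd_prime Fact.out).1 h1 with h | h
  · exact absurd (orderOf_eq_one_iff.1 h) hz1
  · exact h.ge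

/-- a self-centralizing subgroup of prime order is a Sylow subgroup -/
theorem selfCent_card_sylow (hx : orderOf x = p) (hC : centralizer ({x} : Set G) = zpowers x)
    (Q : Sylow p G) : Nat.card Q = p := by
  have hP : IsPGroup p (zpowers x) := IsPGroup.of_card (n := 1) (by rw [Nat.card_zpowers, hx, pow_one])
  obtain ⟨Q₁, hQ₁⟩ := hP.exists_le_sylow
  have hxQ : x ∈ Q₁ := hQ₁ (mem_zpowers x)
  have hx1 : x ≠ 1 := by
    intro h; rw [h, orderOf_one] at hx; exact (Fact.out : p.Prime).one_lt.ne hx
  have hnt : Nontrivial (Q₁ : Subgroup G) := ⟨⟨⟨x, hxQ⟩, 1, fun h => hx1 (congrArg Subtype.val h)⟩⟩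
  have hc := Q₁.2.center_nontrivial
  obtain ⟨⟨z, hz⟩, hz1⟩ := exists_ne (1 : center (Q₁ : Subgroup G))
  have hz1' : (z : G) ≠ 1 := fun h => hz1 (Subtype.ext (Subtype.ext h))
  have hzx : (z : G) ∈ zpowers x := by
    rw [← hC, mem_centralizer_singleton_iff]
    have := mem_center_iff.1 hz ⟨x, hxQ⟩
    exact (congrArg Subtype.val this).symm
  have hzp := zpowers_eq_of_mem_of_ne_one hx hzx hz1'
  have hxz : x ∈ zpowers (z : G) := hzp ▸ mem_zpowers x
  obtain ⟨k, hk⟩ := mem_zpowers_iff.1 hxz
  have hle : (Q₁ : Subgroup G) ≤ zpowers x := by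
    intro q hq
    rw [← hC, mem_centralizer_singleton_iff, ← hk]
    have h1 := mem_center_iff.1 hz ⟨q, hq⟩
    have h2 : q * (z : G) = z * q := congrArg Subtype.val h1
    exact ((Commute.zpow_right (show Commute q (z : G) from h2) k).eq)
  have hQ₁c : Nat.card Q₁ = p := by
    rw [le_antisymm hle hQ₁, Nat.card_zpowers, hx]
  exact (Q.card_eq_multiplicity.trans Q₁.card_eq_multiplicity.symm).trans hQ₁c

theorem selfCent_card_centralizer (hx : orderOf x = p)
    (hC : centralizer ({x} : Set G) = zpowers x) (y : G) (hy : orderOf y = p) :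
    Nat.card (centralizer ({y} : Set G)) = p := by
  have hP : IsPGroup p (zpowers x) := IsPGroup.of_card (n := 1) (by rw [Nat.card_zpowers, hx, pow_one])
  obtain ⟨Q₁, hQ₁⟩ := hP.exists_le_sylow
  have hQ₁e : (Q₁ : Subgroup G) = zpowers x := by
    symm
    apply eq_of_le_of_card_ge hQ₁
    rw [selfCent_card_sylow hx hC Q₁, Nat.card_zpowers, hx]
  obtain ⟨Q₂, hQ₂⟩ := exists_mem_sylow (p := p) (x := y) ⟨1, by rw [hy, pow_one]⟩
  obtain ⟨g, hg⟩ := MulAction.exists_smul_eq G Q₁ Q₂
  rw [← hg, mem_smul_sylow_iff] at hQ₂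
  set w := g⁻¹ * y * g with hw
  have hwx : w ∈ zpowers x := by rw [← hQ₁e]; exact hQ₂
  have hwo : orderOf w = p := by
    have := orderOf_conj' g⁻¹ y
    rw [inv_inv] at this
    rw [hw, this, hy]
  have hw1 : w ≠ 1 := by
    intro h; rw [h, orderOf_one] at hwo; exact (Fact.out : p.Prime).one_lt.ne hwo
  have hzp := zpowers_eq_of_mem_of_ne_one hx hwx hw1
  have hCw : centralizer ({w} : Set G) = centralizer ({x} : Set G) := by
    have e : ∀ u : G, centralizer ((zpowers u : Subgroup G) : Set G) = centralizer ({u} : Set G) :=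
      fun u => by rw [zpowers_eq_closure, centralizer_closure]
    rw [← e w, ← e x, hzp]
  have h1 := card_isConj_mul_card_centralizer y
  have h2 := card_isConj_mul_card_centralizer w
  have hyw : IsConj y w := isConj_iff.2 ⟨g⁻¹, by rw [hw, inv_inv]⟩
  have h3 : Nat.card {z : G // IsConj y z} = Nat.card {z : G // IsConj w z} := by
    apply Nat.card_congr
    exact Equiv.subtypeEquivRight (fun z => ⟨fun h => hyw.symm.trans h, fun h => hyw.trans h⟩)
  rw [hCw, hC, Nat.card_zpowers, hx] at h2
  rw [h3] at h1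
  have hpos : 0 < Nat.card {z : G // IsConj w z} := by
    have : Nonempty {z : G // IsConj w z} := ⟨⟨w, IsConj.refl w⟩⟩
    exact Nat.card_pos
  exact Nat.eq_of_mul_eq_mul_left hpos (h1.trans h2.symm)

/-- number of elements of order `p`, counted by classes -/
theorem selfCent_card_order_mul (hx : orderOf x = p)
    (hC : centralizer ({x} : Set G) = zpowers x) :
    Nat.card {g : G // orderOf g = p} * p =
      Nat.card {C : ConjClasses G // ∃ g ∈ C.carrier, orderOf g = p} * Nat.card G := by
  obtain ⟨c, hc⟩ : p ∣ Nat.card G := hx ▸ orderOf_dvd_natCard x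
  have hp0 : 0 < p := (Fact.out : p.Prime).pos
  have h1 := card_fiberwise_const (ConjClasses.mk : G → ConjClasses G)
    (fun C => ∃ g ∈ C.carrier, orderOf g = p) c (by
      rintro C ⟨g, hg, hgo⟩
      rw [ConjClasses.mem_carrier_iff_mk_eq] at hg
      subst hg
      have h2 := card_isConj_mul_card_centralizer g
      rw [selfCent_card_centralizer hx hC g hgo, hc, mul_comm p c] at h2
      have h3 := Nat.eq_of_mul_eq_mul_right hp0 h2
      rw [← h3]
      apply Nat.card_congr
      exact Equiv.subtypeEquivRight (fun z => by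
        rw [ConjClasses.mk_eq_mk_iff_isConj]
        exact ⟨fun h => h.symm, fun h => h.symm⟩))
  have h4 : Nat.card {g : G // orderOf g = p}
      = Nat.card {a : G // ∃ g ∈ (ConjClasses.mk a).carrier, orderOf g = p} := by
    apply Nat.card_congr
    refine Equiv.subtypeEquivRight (fun z => ⟨fun h => ⟨z, ConjClasses.mem_carrier_mk, h⟩, ?_⟩)
    rintro ⟨g, hg, hgo⟩
    rw [ConjClasses.mem_carrier_iff_mk_eq, ConjClasses.mk_eq_mk_iff_isConj] at hg
    obtain ⟨a, ha⟩ := isConj_iff.1 hg
    rw [← ha, orderOf_conj', hgo]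
  rw [h4, h1, hc]
  ring

/-- number of elements of order `p`, counted by Sylow subgroups -/
theorem selfCent_card_order (hx : orderOf x = p)
    (hC : centralizer ({x} : Set G) = zpowers x) :
    Nat.card {g : G // orderOf g = p} = Nat.card (Sylow p G) * (p - 1) := by
  have hmult : p ^ (Nat.card G).factorization p = p := by
    obtain ⟨Q⟩ : Nonempty (Sylow p G) := inferInstance
    rw [← Q.card_eq_multiplicity, selfCent_card_sylow hx hC Q]
  let F : {g : G // orderOf g = p} → Sylow p G := fun g =>
    Sylow.ofCard (zpowers g.1) (by rw [Nat.card_zpowers, g.2, hmult])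
  apply card_eq_card_mul_of_fiber F
  intro Q
  have hQ := selfCent_card_sylow hx hC Q
  suffices hgoal : Nat.card {a // F a = Q} = Nat.card {q : (Q : Subgroup G) // q ≠ 1} by
    rw [hgoal, card_subtype_ne_one, hQ]
  have hF : ∀ g, ((F g : Sylow p G) : Subgroup G) = zpowers g.1 := fun g => Sylow.coe_ofCard _ _
  have hord : ∀ q : {q : (Q : Subgroup G) // q ≠ 1}, orderOf q.1.1 = p := by
    intro q
    have h1 : orderOf q.1.1 ∣ p := by
      have := orderOf_dvd_natCard q.1
      rwa [← Subgroup.orderOf_coe, hQ] at this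
    rcases (Nat.dvd_prime Fact.out).1 h1 with h | h
    · exact absurd (Subtype.ext (orderOf_eq_one_iff.1 h)) q.2
    · exact h
  have hmem : ∀ a : {a // F a = Q}, a.1.1 ∈ (Q : Subgroup G) := by
    intro a
    have h1 := hF a.1
    rw [a.2] at h1
    rw [h1]; exact mem_zpowers _
  have hne : ∀ a : {a // F a = Q}, (⟨a.1.1, hmem a⟩ : (Q : Subgroup G)) ≠ 1 := by
    intro a h
    have h1 : a.1.1 = 1 := congrArg Subtype.val h
    have h2 := a.1.2
    rw [h1, orderOf_one] at h2
    exact (Fact.out : p.Prime).one_lt.ne h2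
  have hFq : ∀ q : {q : (Q : Subgroup G) // q ≠ 1}, F ⟨q.1.1, hord q⟩ = Q := by
    intro q
    apply Sylow.ext
    rw [hF]
    apply eq_of_le_of_card_ge (zpowers_le.2 q.1.2)
    rw [hQ, Nat.card_zpowers]
    exact (hord q).ge
  apply Nat.card_congr
  exact
    { toFun := fun a => ⟨⟨a.1.1, hmem a⟩, hne a⟩
      invFun := fun q => ⟨⟨q.1.1, hord q⟩, hFq q⟩
      left_inv := fun a => rfl
      right_inv := fun q => rfl }

/-- Brauer's order formula `|G| t = (p-1) p n_p`. -/
theorem selfCent_order_formula (hx : orderOf x = p)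
    (hC : centralizer ({x} : Set G) = zpowers x) :
    Nat.card G * Nat.card {C : ConjClasses G // ∃ g ∈ C.carrier, orderOf g = p}
      = (p - 1) * p * Nat.card (Sylow p G) := by
  have h1 := selfCent_card_order_mul hx hC
  rw [selfCent_card_order hx hC] at h1
  rw [mul_comm, ← h1]; ring

/-- the Sylow subgroup `⟨x⟩` -/
theorem selfCent_exists_sylow (hx : orderOf x = p)
    (hC : centralizer ({x} : Set G) = zpowers x) : ∃ P : Sylow p G, (P : Subgroup G) = zpowers x := by
  have hmult : p ^ (Nat.card G).factorization p = p := by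
    obtain ⟨Q⟩ : Nonempty (Sylow p G) := inferInstance
    rw [← Q.card_eq_multiplicity, selfCent_card_sylow hx hC Q]
  exact ⟨Sylow.ofCard (zpowers x) (by rw [Nat.card_zpowers, hx, hmult]), Sylow.coe_ofCard _ _⟩

/-- `e t = p - 1` with `e = [N(P) : P]`. -/
theorem selfCent_relIndex_mul (hx : orderOf x = p)
    (hC : centralizer ({x} : Set G) = zpowers x) :
    (zpowers x).relIndex (normalizer ((zpowers x : Subgroup G) : Set G)) *
      Nat.card {C : ConjClasses G // ∃ g ∈ C.carrier, orderOf g = p} = p - 1 := by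
  obtain ⟨P, hP⟩ := selfCent_exists_sylow hx hC
  have h1 := selfCent_order_formula hx hC
  have h2 : Nat.card (Sylow p G) = (normalizer ((zpowers x : Subgroup G) : Set G)).index := by
    rw [P.card_eq_index_normalizer, ← hP]; rfl
  have h3 := (normalizer ((zpowers x : Subgroup G) : Set G)).index_mul_card
  have h4 : (zpowers x).relIndex (normalizer ((zpowers x : Subgroup G) : Set G)) * p
      = Nat.card (normalizer ((zpowers x : Subgroup G) : Set G)) := by
    have := H1.relIndex_mul_card' (le_normalizer : zpowers x ≤ normalizer ((zpowers x : Subgroup G) : Set G))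
    rwa [Nat.card_zpowers, hx] at this
  rw [← h3, ← h4, h2] at h1
  set e := (zpowers x).relIndex (normalizer ((zpowers x : Subgroup G) : Set G))
  set t := Nat.card {C : ConjClasses G // ∃ g ∈ C.carrier, orderOf g = p}
  set n := (normalizer ((zpowers x : Subgroup G) : Set G)).index with hn
  have hn0 : 0 < n := Nat.pos_of_ne_zero index_ne_zero_of_finite
  have hp0 : 0 < p := (Fact.out : p.Prime).pos
  have h5 : (n * p) * (e * t) = (n * p) * (p - 1) := by
    calc (n * p) * (e * t) = n * (e * p) * t := by ring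
      _ = (p - 1) * p * n := h1
      _ = (n * p) * (p - 1) := by ring
  exact Nat.eq_of_mul_eq_mul_left (Nat.mul_pos hn0 hp0) h5

end

end Cfsg.Agent.H3
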