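import Cfsg.Agent.Lib_helper3_Sylow2

set_option autoImplicit false

namespace Cfsg.Agent.H3

open Subgroup

variable {G : Type*} [Group G]

/-- number of Sylow subgroups of an overgroup `M` of `P` is the relative index of the normalizer -/
theorem card_sylow_subgroup_eq_relIndex [Finite G] {p : ℕ} [Fact p.Prime] (P : Sylow p G) (M : Subgroup G)
    (hPM : (P : Subgroup G) ≤ M) :
    Nat.card (Sylow p M) = (normalizer ((P : Subgroup G) : Set G)).relIndex M := by
  rw [Sylow.card_eq_index_normalizer (P.subtype hPM)]
  have h : normalizer (((P.subtype hPM : Sylow p M) : Subgroup M) : Set M) = (normalizer ((P : Subgroup G) : Set G)).subgroupOf M := by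
    rw [Sylow.coe_subtype, ← subgroupOf_normalizer_eq hPM]
  exact congrArg Subgroup.index h

/-- If `M` contains the normalizer of a Sylow `p`-subgroup then `[G : M] ≡ 1 mod p`. -/
theorem index_modEq_one_of_normalizer_le [Finite G] {p : ℕ} [Fact p.Prime] (P : Sylow p G) (M : Subgroup G)
    (hM : normalizer ((P : Subgroup G) : Set G) ≤ M) : M.index ≡ 1 [MOD p] := by
  have hPM : (P : Subgroup G) ≤ M := le_normalizer.trans hM
  have h1 := card_sylow_subgroup_eq_relIndex P M hPM
  have h2 : Nat.card (Sylow p G) = (normalizer ((P : Subgroup G) : Set G)).index := Sylow.card_eq_index_normalizer P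
  have h3 := relIndex_mul_index hM
  have h4 : Nat.card (Sylow p G) ≡ 1 [MOD p] := card_sylow_modEq_one p G
  have h5 : Nat.card (Sylow p M) ≡ 1 [MOD p] := card_sylow_modEq_one p M
  rw [h2, ← h3, ← h1] at h4
  calc M.index = 1 * M.index := (one_mul _).symm
    _ ≡ Nat.card (Sylow p M) * M.index [MOD p] := (h5.symm).mul_right _
    _ ≡ 1 [MOD p] := h4

end Cfsg.Agent.H3
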