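import Mathlib
import Cfsg.Agent.Lib_lead_SylNum
import Cfsg.Agent.Lib_helper1_Coprime
import Cfsg.Agent.Lib_helper7_Sylow
import Cfsg.Agent.Lib_helper3_Sylow3

set_option autoImplicit false

namespace Cfsg.Agent.H3
open Subgroup

universe u

/-- Coprime case of M. Hall's congruence: if `K` is a normal `p'`-subgroup, every prime-power part of
`[K : N_K(P)]` is `≡ 1 mod p`. -/
theorem coprime_part_modEq_one {G : Type u} [Group G] [Finite G] (p ℓ : ℕ) [Fact p.Prime]
    [Fact ℓ.Prime] (P : Sylow p G) (K : Subgroup G) [K.Normal]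
    (hcop : (Nat.card P).Coprime (Nat.card K)) :
    ℓ ^ ((normalizer ((P : Subgroup G) : Set G)).relIndex K).factorization ℓ ≡ 1 [MOD p] := by
  set NP : Subgroup G := normalizer ((P : Subgroup G) : Set G) with hNP
  set C : Subgroup G := NP ⊓ K with hC
  have hPK : (P : Subgroup G) ⊓ K = ⊥ := (disjoint_of_coprime_natCard hcop).eq_bot
  have hcent : ∀ c ∈ C, ∀ x ∈ (P : Subgroup G), x * c * x⁻¹ = c := by
    intro c hc x hx
    have h1 : x * c * x⁻¹ * c⁻¹ ∈ (P : Subgroup G) ⊓ K := by
      refine ⟨?_, ?_⟩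
      · have : x * c * x⁻¹ * c⁻¹ = x * (c * x⁻¹ * c⁻¹) := by group
        rw [this]
        exact (P : Subgroup G).mul_mem hx
          ((mem_normalizer_iff.1 hc.1 x⁻¹).1 ((P : Subgroup G).inv_mem hx))
      · exact K.mul_mem (‹K.Normal›.conj_mem c hc.2 x) (K.inv_mem hc.2)
    rw [hPK, mem_bot] at h1
    exact mul_inv_eq_one.1 h1
  obtain ⟨T⟩ : Nonempty (Sylow ℓ C) := inferInstance
  set T' : Subgroup G := (T : Subgroup C).map C.subtype with hT'
  have hTsyl : H7.IsSylowIn ℓ T' C := H7.Sylow_isSylowIn T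
  have hPT : (P : Subgroup G) ≤ normalizer (T' : Set G) := by
    apply H1.le_normalizer_of_forall
    intro x hx t ht
    rw [hcent t (hTsyl.1 ht) x hx]
    exact ht
  have hPKn : (P : Subgroup G) ≤ normalizer (K : Set G) := by
    rw [normalizer_eq_top]; exact le_top
  have hsolv : Group.IsSolvable (P : Subgroup G) := by
    have := P.2.isNilpotent
    infer_instance
  obtain ⟨R, hTR, hPR⟩ := H1.coprime_invariant_psubgroup_le_sylow (P : Subgroup G) K hPKn hcop
    (Or.inl hsolv) ℓ T' (hTsyl.1.trans inf_le_right) hTsyl.2.1 hPT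
  set R' : Subgroup G := (R : Subgroup K).map K.subtype with hR'
  have hRsyl : H7.IsSylowIn ℓ R' K := H7.Sylow_isSylowIn R
  have e1 := card_sylow_subgroup_eq_relIndex P ((P : Subgroup G) ⊔ R') le_sup_left
  have e2 : NP.relIndex ((P : Subgroup G) ⊔ R') = NP.relIndex R' := by
    apply LeadSyl.relIndex_eq_of_sup R' _ NP le_sup_right (sup_le hPR le_normalizer)
    exact sup_le (le_trans (le_inf le_normalizer le_sup_left) le_sup_right) le_sup_left
  have e3 : Nat.card (Sylow p ↥((P : Subgroup G) ⊔ R')) ≡ 1 [MOD p] := card_sylow_modEq_one p _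
  rw [e1, e2] at e3
  have e4 : NP ⊓ R' = T' := by
    symm
    apply hTsyl.eq_of_le (hRsyl.2.1.to_le inf_le_right)
    · exact le_inf inf_le_left (inf_le_right.trans hRsyl.1)
    · exact le_inf (hTsyl.1.trans inf_le_left) hTR
  have e5 := H1.relIndex_mul_card_inf NP R'
  have e6 := H1.relIndex_mul_card_inf NP K
  have cR : Nat.card R' = ℓ ^ (Nat.card K).factorization ℓ := by
    rw [hR', card_map_of_injective K.subtype_injective]
    exact R.card_eq_multiplicity
  have cT : Nat.card T' = ℓ ^ (Nat.card C).factorization ℓ := by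
    rw [hT', card_map_of_injective C.subtype_injective]
    exact T.card_eq_multiplicity
  have hne : NP.relIndex K ≠ 0 := by
    intro h0
    rw [h0, zero_mul] at e6
    exact Nat.card_pos.ne' e6.symm
  rw [e4, cR, cT, ← e6, Nat.factorization_mul hne Nat.card_pos.ne',
    Finsupp.add_apply, pow_add] at e5
  have hpos : 0 < ℓ ^ (Nat.card C).factorization ℓ := pow_pos (Fact.out : ℓ.Prime).pos _
  have e7 := Nat.eq_of_mul_eq_mul_right hpos e5
  rw [← e7]
  exact e3

/-- `[N(F) : C(F)]` divides `r - 1` for a subgroup `F` of prime order `r`. -/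
theorem relIndex_centralizer_normalizer_dvd {G : Type*} [Group G] [Finite G] (r : ℕ)
    [Fact r.Prime] (F : Subgroup G) (hF : Nat.card F = r) :
    (centralizer (F : Set G)).relIndex (normalizer (F : Set G)) ∣ r - 1 := by
  have key := card_dvd_of_injective _ (QuotientGroup.kerLift_injective F.normalizerMonoidHom)
  rw [normalizerMonoidHom_ker, ← index, ← relIndex] at key
  have hcyc : IsCyclic F := isCyclic_of_prime_card hF
  rwa [hcyc.card_mulAut, hF, Nat.totient_prime Fact.out] at key

/-- A simple group whose order is `r * m` with `r ∤ m` and `gcd(|G|, r-1) = 1` has order `r`. -/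
theorem simple_card_of_coprime_pred {G : Type*} [Group G] [Finite G] [IsSimpleGroup G] (r m : ℕ)
    [Fact r.Prime] (hG : Nat.card G = r * m) (hm : ¬ r ∣ m) (hcop : (r * m).Coprime (r - 1)) :
    m = 1 := by
  have hr : r.Prime := Fact.out
  obtain ⟨F⟩ : Nonempty (Sylow r G) := inferInstance
  have hm0 : m ≠ 0 := by rintro rfl; exact hm (dvd_zero _)
  have hF : Nat.card F = r := by
    rw [F.card_eq_multiplicity, hG, Nat.factorization_mul hr.ne_zero hm0, Finsupp.add_apply,
      hr.factorization_self, Nat.factorization_eq_zero_of_not_dvd hm, pow_one]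
  have h1 := relIndex_centralizer_normalizer_dvd r (F : Subgroup G) hF
  have h2 : (centralizer ((F : Subgroup G) : Set G)).relIndex
      (normalizer ((F : Subgroup G) : Set G)) ∣ r * m := by
    rw [← hG]
    exact (relIndex_dvd_card _ _).trans (card_subgroup_dvd_card _)
  have h3 : normalizer ((F : Subgroup G) : Set G) ≤ centralizer ((F : Subgroup G) : Set G) :=
    relIndex_eq_one.1 (Nat.eq_one_of_dvd_coprimes hcop h2 h1)
  have h4 := MonoidHom.ker_transferSylow_isComplement' F h3
  have h5 := h4.card_mul_card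
  rcases (MonoidHom.normal_ker (MonoidHom.transferSylow F h3)).eq_bot_or_eq_top with h | h
  · rw [h, card_bot, hF, hG, one_mul] at h5
    have : r * 1 = r * m := by rw [mul_one]; exact h5
    exact (Nat.eq_of_mul_eq_mul_left hr.pos this).symm
  · rw [h, card_top, hF] at h5
    have hpos : 0 < Nat.card G := Nat.card_pos
    have : Nat.card G * r = Nat.card G * 1 := by rw [mul_one]; exact h5
    exact absurd (Nat.eq_of_mul_eq_mul_left hpos this) hr.one_lt.ne'

end Cfsg.Agent.H3
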