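import Mathlib
import Cfsg.Agent.Lib_helper3_Conj
import Cfsg.Agent.Lib_helper3_Fitting2

set_option autoImplicit false

namespace Cfsg.Agent.H3

open Subgroup

variable {G : Type*} [Group G]

/-- a `p`-element of a quotient lifts to a `p`-element -/
theorem lift_pElement [Finite G] {p : ℕ} [hp : Fact p.Prime] (N : Subgroup G) [N.Normal] (x : G ⧸ N)
    (hx : ∃ k : ℕ, orderOf x = p ^ k) :
    ∃ y : G, (∃ j : ℕ, orderOf y = p ^ j) ∧ (y : G ⧸ N) = x := by
  obtain ⟨k, hk⟩ := hx
  obtain ⟨g, rfl⟩ := QuotientGroup.mk_surjective x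
  set n := orderOf g with hn
  have hn0 : n ≠ 0 := (orderOf_pos g).ne'
  have hco : (ordCompl[p] n).Coprime (orderOf (g : G ⧸ N)) := by
    rw [hk]
    exact Nat.Coprime.pow_right k (Nat.coprime_ordCompl hp.out hn0).symm
  obtain ⟨c, hc⟩ := exists_pow_eq_self_of_coprime hco
  refine ⟨(g ^ (ordCompl[p] n)) ^ c, ?_, ?_⟩
  · have h1 : ((g ^ (ordCompl[p] n)) ^ c) ^ (p ^ n.factorization p) = 1 := by
      rw [← pow_mul, ← pow_mul]
      have : ordCompl[p] n * c * p ^ n.factorization p = n * c := by
        have := Nat.ordProj_mul_ordCompl_eq_self n p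
        calc ordCompl[p] n * c * p ^ n.factorization p
            = (p ^ n.factorization p * ordCompl[p] n) * c := by ring
          _ = n * c := by rw [this]
      rw [← mul_assoc, this, pow_mul, hn, pow_orderOf_eq_one, one_pow]
    have h2 := orderOf_dvd_of_pow_eq_one h1
    obtain ⟨j, -, hj⟩ := (Nat.dvd_prime_pow hp.out).mp h2
    exact ⟨j, hj⟩
  · rw [QuotientGroup.mk_pow, QuotientGroup.mk_pow]
    exact hc

theorem isPGroup_zpowers {p : ℕ} {x : G} (hx : ∃ k : ℕ, orderOf x = p ^ k) :
    IsPGroup p (zpowers x) := by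
  obtain ⟨k, hk⟩ := hx
  exact IsPGroup.of_card (n := k) (by rw [Nat.card_zpowers, hk])

/-- a `p`-element centralizing a Sylow `p`-subgroup lies in it -/
theorem mem_sylow_of_commute {p : ℕ} [Fact p.Prime] (P : Sylow p G) (x : G)
    (hx : ∃ k : ℕ, orderOf x = p ^ k) (hc : ∀ y ∈ P, y * x = x * y) : x ∈ P := by
  have h1 : zpowers x ≤ normalizer ((P : Subgroup G) : Set G) := by
    rw [zpowers_le, mem_normalizer_iff]
    intro y
    constructor
    · intro hy
      have : x * y * x⁻¹ = y := by rw [← hc y hy]; group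
      rw [this]; exact hy
    · intro hy
      have h2 := hc _ hy
      have : y = x * y * x⁻¹ := by
        have h3 : x * y * x⁻¹ * x = x * (x * y * x⁻¹) := h2
        have h4 : x * y = x * (x * y * x⁻¹) := by simpa using h3
        exact mul_left_cancel h4
      rw [this]; exact hy
  have h2 : IsPGroup p (zpowers x ⊔ (P : Subgroup G) : Subgroup G) :=
    IsPGroup.to_sup_of_normal_right' (isPGroup_zpowers hx) P.isPGroup' h1
  have h3 := P.is_maximal' h2 le_sup_right
  have h4 : x ∈ zpowers x ⊔ (P : Subgroup G) := (le_sup_left : zpowers x ≤ _) (mem_zpowers x)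
  rw [h3] at h4
  exact h4

theorem orderOf_of_mem_pGroup {p : ℕ} [Fact p.Prime] {H : Subgroup G} (hH : IsPGroup p H) {x : G} (hx : x ∈ H) :
    ∃ k : ℕ, orderOf x = p ^ k := by
  have := (IsPGroup.iff_orderOf.mp hH) ⟨x, hx⟩
  simpa using this

/-- the double centralizer of a commuting set is commutative -/
theorem commute_of_mem_double_centralizer (X : Set G) (hX : ∀ a ∈ X, ∀ b ∈ X, a * b = b * a)
    {u v : G} (hu : u ∈ centralizer (centralizer X : Set G)) (hv : v ∈ centralizer (centralizer X : Set G)) :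
    u * v = v * u := by
  have h1 : X ⊆ centralizer X := by
    intro a ha
    rw [SetLike.mem_coe, mem_centralizer_iff]
    intro b hb
    exact hX b hb a ha
  have h2 : v ∈ centralizer X := by
    rw [mem_centralizer_iff]
    intro a ha
    exact (mem_centralizer_iff.mp hv) a (h1 ha)
  exact ((mem_centralizer_iff.mp hu) v h2).symm

theorem subset_double_centralizer (X : Set G) : X ⊆ centralizer (centralizer X : Set G) := by
  intro a ha
  rw [SetLike.mem_coe, mem_centralizer_iff]
  intro c hc
  exact ((mem_centralizer_iff.mp hc) a ha).symm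

end Cfsg.Agent.H3
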