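import Cfsg.Statements.S4343
import Cfsg.Agent.Lib_helper7_Sylow
import Cfsg.Agent.Lib_helper3_Sylow2

set_option autoImplicit false
open Cfsg

namespace Cfsg.Agent.S4343

open Subgroup in
theorem relIndex_cases {S : Type*} [Group S] [Finite S] (p : ℕ) [Fact p.Prime]
    (hn : Nat.card (Sylow p S) < p ^ 2) (P Q : Sylow p S) :
    ((P : Subgroup S) ⊓ Q).relIndex P = 1 ∨ ((P : Subgroup S) ⊓ Q).relIndex P = p := by
  have h1 : ((P : Subgroup S) ⊓ Q).relIndex P
      = (normalizer ((Q : Subgroup S) : Set S)).relIndex P := by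
    rw [← P.2.inf_normalizer_sylow Q, inf_relIndex_left]
    rfl
  have h2 : (normalizer ((Q : Subgroup S) : Set S)).relIndex P ≤ Nat.card (Sylow p S) := by
    rw [Q.card_eq_index_normalizer]
    change _ ≤ (normalizer ((Q : Subgroup S) : Set S)).index
    rw [← relIndex_top_right]
    exact relIndex_le_of_le_right le_top (by rw [relIndex_top_right]; exact index_ne_zero_of_finite)
  have h3 : ((P : Subgroup S) ⊓ Q).relIndex P ∣ Nat.card P := relIndex_dvd_card _ _
  obtain ⟨k, hk⟩ := P.2.exists_card_eq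
  rw [hk] at h3
  obtain ⟨j, -, hj⟩ := (Nat.dvd_prime_pow Fact.out).1 h3
  have h4 : p ^ j < p ^ 2 := by rw [← hj, h1]; exact lt_of_le_of_lt h2 hn
  have hj2 : j < 2 := (Nat.pow_lt_pow_iff_right (Fact.out : p.Prime).one_lt).1 h4
  interval_cases j
  · left; simpa using hj
  · right; simpa using hj

open Subgroup in
theorem le_normalizer_inf {S : Type*} [Group S] [Finite S] (p : ℕ) [Fact p.Prime]
    (hn : Nat.card (Sylow p S) < p ^ 2) (P Q : Sylow p S) :
    (P : Subgroup S) ≤ normalizer (((P : Subgroup S) ⊓ Q : Subgroup S) : Set S) := by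
  rcases relIndex_cases p hn P Q with h | h
  · have h1 : (P : Subgroup S) ≤ (P : Subgroup S) ⊓ Q := relIndex_eq_one.1 h
    exact h1.trans le_normalizer
  · have hnorm : (((P : Subgroup S) ⊓ Q).subgroupOf P).Normal := by
      apply normal_of_index_eq_minFac_card
      change ((P : Subgroup S) ⊓ Q).relIndex P = _
      rw [h]
      obtain ⟨k, hk⟩ := P.2.exists_card_eq
      have hk0 : k ≠ 0 := by
        rintro rfl
        have h3 : ((P : Subgroup S) ⊓ Q).relIndex P ∣ Nat.card P := relIndex_dvd_card _ _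
        rw [h, hk, pow_zero] at h3
        exact (Fact.out : p.Prime).one_lt.ne' (Nat.dvd_one.1 h3)
      rw [hk, Nat.Prime.pow_minFac Fact.out hk0]
    exact (normal_subgroupOf_iff_le_normalizer inf_le_left).1 hnorm

open Subgroup in
theorem brodkey {S : Type*} [Group S] [Finite S] (p : ℕ) [Fact p.Prime]
    (hn : Nat.card (Sylow p S) < p ^ 2) :
    ∃ P Q : Sylow p S, ∀ R : Sylow p S, (P : Subgroup S) ⊓ Q ≤ R := by
  obtain ⟨⟨P, Q⟩, hmin⟩ := Finite.exists_min
    (fun x : Sylow p S × Sylow p S => Nat.card ((x.1 : Subgroup S) ⊓ x.2 : Subgroup S))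
  refine ⟨P, Q, fun R => ?_⟩
  set D : Subgroup S := (P : Subgroup S) ⊓ Q with hD
  set M : Subgroup S := normalizer (D : Set S) with hM
  have hPM : (P : Subgroup S) ≤ M := le_normalizer_inf p hn P Q
  have hQM : (Q : Subgroup S) ≤ M := by
    have := le_normalizer_inf p hn Q P
    rwa [inf_comm] at this
  have hsyl : H7.IsSylowIn p (P : Subgroup S) M :=
    ⟨hPM, P.2, fun h => P.not_dvd_index (h.trans (relIndex_dvd_index_of_le hPM))⟩
  obtain ⟨x, hxM, hx⟩ := hsyl.exists_conj_le (Q := (R : Subgroup S) ⊓ M)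
    (R.2.to_le inf_le_left) inf_le_right
  rw [H7.map_conj_le_iff] at hx
  have hle : ((R : Subgroup S) ⊓ ((x⁻¹ • Q : Sylow p S) : Subgroup S)) ≤ D := by
    intro y hy
    have hy1 : y ∈ (R : Subgroup S) := hy.1
    have hy2 : x * y * x⁻¹ ∈ Q := by
      have := (H3.mem_smul_sylow_iff Q x⁻¹ y).1 hy.2
      simpa using this
    have hyM : y ∈ M := by
      have : y = x⁻¹ * (x * y * x⁻¹) * x := by group
      rw [this]
      exact M.mul_mem (M.mul_mem (M.inv_mem hxM) (hQM hy2)) hxM
    have hy3 : x * y * x⁻¹ ∈ (P : Subgroup S) := hx y ⟨hy1, hyM⟩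
    exact (mem_normalizer_iff.1 hxM y).2 ⟨hy3, hy2⟩
  have hcard := hmin (R, x⁻¹ • Q)
  have heq := Subgroup.eq_of_le_of_card_ge hle hcard
  rw [← heq]
  exact inf_le_left

/-- Let S be a finite non-abelian simple group and p a prime dividing its order. If S has fewer than p² Sylow p-subgroups, then its Sylow p-subgroups have order p. -/
theorem result {S : Type*} [Group S] [Finite S]
    [IsSimpleGroup S] (hS : ¬ IsMulCommutative S) (p : ℕ) [Fact p.Prime] (hp : p ∣ Nat.card S)
    (hn : Nat.card (Sylow p S) < p ^ 2) (P : Sylow p S) : Nat.card P = p := by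
  obtain ⟨P₁, Q₁, hPQ⟩ := brodkey p hn
  have hcore : (P₁ : Subgroup S) ⊓ Q₁ ≤ (P₁ : Subgroup S).normalCore := by
    intro d hd b
    have := hPQ (b⁻¹ • P₁) hd
    have h2 := (H3.mem_smul_sylow_iff P₁ b⁻¹ d).1 this
    rw [inv_inv] at h2
    exact h2
  have hbot : (P₁ : Subgroup S).normalCore = ⊥ := by
    rcases (Subgroup.normalCore_normal (P₁ : Subgroup S)).eq_bot_or_eq_top with h | h
    · exact h
    · exfalso
      have htop : (P₁ : Subgroup S) = ⊤ := top_le_iff.1 (h ▸ Subgroup.normalCore_le _)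
      have hpg : IsPGroup p S := by
        have := P₁.2
        rw [htop] at this
        exact this.of_surjective (Subgroup.topEquiv (G := S)).toMonoidHom
          (Subgroup.topEquiv (G := S)).surjective
      have hc := hpg.center_nontrivial
      have hc' : Subgroup.center S = ⊤ := by
        rcases (inferInstance : (Subgroup.center S).Normal).eq_bot_or_eq_top with h' | h'
        · exact absurd h' ((Subgroup.nontrivial_iff_ne_bot _).1 hc)
        · exact h'
      apply hS
      refine ⟨⟨fun a b => ?_⟩⟩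
      have : b ∈ Subgroup.center S := by rw [hc']; trivial
      exact (Subgroup.mem_center_iff.1 this a)
  have hD : (P₁ : Subgroup S) ⊓ Q₁ = ⊥ := eq_bot_iff.2 (hbot ▸ hcore)
  have hc1 : Nat.card P₁ = p := by
    rcases relIndex_cases p hn P₁ Q₁ with h | h
    · rw [hD, Subgroup.relIndex_bot_left] at h
      exact absurd ((Subgroup.card_eq_one).1 h) (P₁.ne_bot_of_dvd_card hp)
    · rwa [hD, Subgroup.relIndex_bot_left] at h
  exact (P.card_eq_multiplicity.trans P₁.card_eq_multiplicity.symm).trans hc1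

end Cfsg.Agent.S4343
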