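import Mathlib
import Cfsg.Agent.Lib_helper3_SylNum
import Cfsg.Agent.Lib_helper3_Sylow
import Cfsg.Agent.S4343

set_option autoImplicit false

namespace Cfsg.Agent.H3
open Subgroup

section
variable {S : Type*} [Group S] [Finite S] {p : ℕ} [Fact p.Prime]

theorem sylow_inf_eq_bot_of_card_prime (P Q : Sylow p S) (hP : Nat.card P = p) (hne : Q ≠ P) :
    (P : Subgroup S) ⊓ Q = ⊥ := by
  by_contra h
  have h1 : Nat.card ((P : Subgroup S) ⊓ Q : Subgroup S) ∣ p := by
    have := card_dvd_of_le (inf_le_left : (P : Subgroup S) ⊓ Q ≤ P)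
    rwa [hP] at this
  rcases (Nat.dvd_prime Fact.out).1 h1 with h2 | h2
  · exact h (card_eq_one.1 h2)
  · have h3 : (P : Subgroup S) ⊓ Q = P := eq_of_le_of_card_ge inf_le_left (by rw [h2, hP])
    have h4 : (P : Subgroup S) ≤ Q := inf_eq_left.1 h3
    exact hne (Sylow.ext (P.3 Q.2 h4))

theorem sylow_stab_trivial (P Q : Sylow p S) (hP : Nat.card P = p) (hne : Q ≠ P) (x : S)
    (hx : x ∈ P) (hxQ : x • Q = Q) : x = 1 := by
  have h1 : x ∈ (P : Subgroup S) ⊓ normalizer ((Q : Subgroup S) : Set S) :=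
    ⟨hx, Sylow.smul_eq_iff_mem_normalizer.1 hxQ⟩
  have h2 : (P : Subgroup S) ⊓ normalizer ((Q : Subgroup S) : Set S) = (P : Subgroup S) ⊓ Q :=
    P.2.inf_normalizer_sylow Q
  rw [h2, sylow_inf_eq_bot_of_card_prime P Q hP hne] at h1
  exact h1

omit [Finite S] [Fact p.Prime] in
theorem sylow_smul_self (P : Sylow p S) (x : S) (hx : x ∈ P) : x • P = P :=
  Sylow.smul_eq_iff_mem_normalizer.2 (le_normalizer hx)

theorem sylow_cover (P Q R : Sylow p S) (hP : Nat.card P = p)
    (hn : Nat.card (Sylow p S) = 2 * p + 1)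
    (hQ : Q ≠ P) (hR : R ≠ P) (hQR : ∀ x ∈ P, x • Q ≠ R) (Y : Sylow p S) :
    Y = P ∨ (∃ x ∈ P, x • Q = Y) ∨ (∃ x ∈ P, x • R = Y) := by
  let Z : Bool → Sylow p S := fun b => cond b R Q
  have hZ : ∀ b, Z b ≠ P := by intro b; cases b <;> assumption
  let φ : Option (↥(P : Subgroup S) × Bool) → Sylow p S := fun o =>
    match o with
    | none => P
    | some (x, b) => (x : S) • Z b
  have hnone : ∀ (x : (P : Subgroup S)) (b : Bool), (x : S) • Z b ≠ P := by
    intro x b h
    have h' : (x : S) • Z b = (x : S) • P := h.trans (sylow_smul_self P x x.2).symm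
    exact hZ b (smul_left_cancel _ h')
  have hinj : Function.Injective φ := by
    intro o1 o2 h
    rcases o1 with _ | ⟨x, b⟩ <;> rcases o2 with _ | ⟨y, c⟩
    · rfl
    · exact absurd h.symm (hnone y c)
    · exact absurd h (hnone x b)
    · have h' : (x : S) • Z b = (y : S) • Z c := h
      have h2 : ((y : S)⁻¹ * x) • Z b = Z c := by
        rw [mul_smul, h', inv_smul_smul]
      have hmem : (y : S)⁻¹ * x ∈ P := (P : Subgroup S).mul_mem ((P : Subgroup S).inv_mem y.2) x.2
      have hbc : b = c := by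
        cases b <;> cases c
        · rfl
        · exact absurd h2 (hQR _ hmem)
        · exfalso
          have h3 : ((y : S)⁻¹ * x)⁻¹ • Q = R := by
            have h2' : ((y : S)⁻¹ * x) • R = Q := h2
            rw [← h2', inv_smul_smul]
          exact hQR _ ((P : Subgroup S).inv_mem hmem) h3
        · rfl
      subst hbc
      have h4 := sylow_stab_trivial P (Z b) hP (hZ b) _ hmem h2
      have h5 : (x : S) = y := by
        have := inv_mul_eq_one.1 h4
        exact this.symm
      have h6 : x = y := Subtype.ext h5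
      rw [h6]
  have hbij := hinj.bijective_of_nat_card_le (by
    rw [Finite.card_option, Nat.card_prod, hP, hn]; simp; omega)
  obtain ⟨o, ho⟩ := hbij.2 Y
  rcases o with _ | ⟨x, b⟩
  · left; exact ho.symm
  · cases b
    · right; left; exact ⟨x, x.2, ho⟩
    · right; right; exact ⟨x, x.2, ho⟩

theorem centralizer_stab_trivial (hfaith : ∀ g : S, (∀ Y : Sylow p S, g • Y = Y) → g = 1)
    (P Q : Sylow p S) (hP : Nat.card P = p) (hn : Nat.card (Sylow p S) = 2 * p + 1)
    (hQ : Q ≠ P) (d : S) (hd : d ∈ centralizer ((P : Subgroup S) : Set S)) (hdQ : d • Q = Q) :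
    d = 1 := by
  have hdP : d • P = P := Sylow.smul_eq_iff_mem_normalizer.2 (centralizer_le_normalizer _ hd)
  have hcomm : ∀ x ∈ P, x * d = d * x := fun x hx => mem_centralizer_iff.1 hd x hx
  have hfix : ∀ Y : Sylow p S, d • Y = Y → d ^ p • Y = Y := by
    intro Y hY
    have : d ∈ MulAction.stabilizer S Y := hY
    exact pow_mem this p
  have hfixQ : ∀ x ∈ P, d • (x • Q) = x • Q := by
    intro x hx
    rw [← mul_smul, ← hcomm x hx, mul_smul, hdQ]
  have hdp : d ^ p = 1 := by
    apply hfaith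
    intro Y
    by_cases hYP : Y = P
    · rw [hYP]; exact hfix P hdP
    by_cases hYQ : ∃ x ∈ P, x • Q = Y
    · obtain ⟨x, hx, rfl⟩ := hYQ
      exact hfix _ (hfixQ x hx)
    push Not at hYQ
    rcases sylow_cover P Q Y hP hn hQ hYP hYQ (d • Y) with h | ⟨x, hx, h⟩ | ⟨x, hx, h⟩
    · rw [← hdP] at h
      exact absurd (smul_left_cancel _ h) hYP
    · rw [← hfixQ x hx] at h
      exact absurd (smul_left_cancel _ h) (hYQ x hx)
    · have hpow : ∀ k : ℕ, d ^ k • Y = x ^ k • Y := by
        intro k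
        induction k with
        | zero => simp
        | succ k ih =>
          have hc : x ^ k * d = d * x ^ k := hcomm _ ((P : Subgroup S).pow_mem hx k)
          rw [pow_succ', mul_smul, ih, ← mul_smul, ← hc, mul_smul, ← h, ← mul_smul, ← pow_succ]
      rw [hpow p]
      have hx1 : x ^ p = 1 := by
        have := pow_card_eq_one' (G := (P : Subgroup S)) (x := ⟨x, hx⟩)
        rw [hP] at this
        exact congrArg Subtype.val this
      rw [hx1, one_smul]
  have hord : ∃ k : ℕ, orderOf d = p ^ k := by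
    have h1 : orderOf d ∣ p ^ 1 := by rw [pow_one]; exact orderOf_dvd_of_pow_eq_one hdp
    obtain ⟨k, -, hk⟩ := (Nat.dvd_prime_pow Fact.out).1 h1
    exact ⟨k, hk⟩
  have hdmem : d ∈ P := mem_sylow_of_commute P d hord hcomm
  exact sylow_stab_trivial P Q hP hQ d hdmem hdQ

end

theorem sign_involution_fifteen {α : Type*} [Fintype α] [DecidableEq α] (σ : Equiv.Perm α)
    (hσ : σ ^ 2 = 1) (a : α) (hfix : ∀ b, σ b = b ↔ b = a) (hcard : Fintype.card α = 15) :
    Equiv.Perm.sign σ = -1 := by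
  have hne : σ ≠ 1 := by
    intro h
    have h1 : ∀ b, b = a := fun b => (hfix b).1 (by rw [h]; rfl)
    have h2 : Fintype.card α = 1 := Fintype.card_eq_one_iff.2 ⟨a, h1⟩
    omega
  have hord : orderOf σ = 2 := orderOf_eq_prime hσ hne
  obtain ⟨n, hn⟩ := Equiv.Perm.cycleType_prime_order (σ := σ) (by rw [hord]; exact Nat.prime_two)
  rw [hord] at hn
  have h3 : σ.cycleType = Multiset.replicate σ.cycleType.card 2 := by
    rw [hn, Multiset.card_replicate]
  rw [Equiv.Perm.sign_of_cycleType_eq_replicate (by norm_num) h3]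
  have h4 : Fintype.card (Function.fixedPoints σ) = 1 := by
    rw [Fintype.card_eq_one_iff]
    refine ⟨⟨a, (hfix a).2 rfl⟩, ?_⟩
    rintro ⟨b, hb⟩
    exact Subtype.ext ((hfix b).1 hb)
  rw [h4, hcard]
  have h5 : ¬ Odd 2 := by decide
  rw [if_neg h5]
  exact Odd.neg_one_pow (by decide)

end Cfsg.Agent.H3
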