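import Mathlib
import Cfsg.Agent.Lib_helper3_SylNum2

set_option autoImplicit false

namespace Cfsg.Agent.H3
open Subgroup

theorem sign_involution_one_fixed {α : Type*} [Fintype α] [DecidableEq α] (σ : Equiv.Perm α)
    (hσ : σ ^ 2 = 1) (a : α) (hfix : ∀ b, σ b = b ↔ b = a) (k : ℕ) (hk : Odd k)
    (hcard : Fintype.card α = 2 * k + 1) :
    Equiv.Perm.sign σ = -1 := by
  have hk0 : 0 < k := hk.pos
  have hne : σ ≠ 1 := by
    intro h
    have h1 : ∀ b, b = a := fun b => (hfix b).1 (by rw [h]; rfl)
    have h2 : Fintype.card α = 1 := Fintype.card_eq_one_iff.2 ⟨a, h1⟩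
    omega
  have hord : orderOf σ = 2 := orderOf_eq_prime hσ hne
  obtain ⟨n, hn⟩ := Equiv.Perm.cycleType_prime_order (σ := σ) (by rw [hord]; exact Nat.prime_two)
  rw [hord] at hn
  have h3 : σ.cycleType = Multiset.replicate σ.cycleType.card 2 := by
    rw [hn, Multiset.card_replicate]
  rw [Equiv.Perm.sign_of_cycleType_eq_replicate (by norm_num) h3]
  have h4 : Fintype.card (Function.fixedPoints σ) = 1 := by
    rw [Fintype.card_eq_one_iff]
    refine ⟨⟨a, (hfix a).2 rfl⟩, ?_⟩
    rintro ⟨b, hb⟩
    exact Subtype.ext ((hfix b).1 hb)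
  rw [h4, hcard]
  have h5 : ¬ Odd 2 := by decide
  rw [if_neg h5]
  have h6 : (2 * k + 1 - 1) / 2 = k := by omega
  rw [h6]
  exact hk.neg_one_pow

/-- Structure of a simple group with exactly `2p+1` Sylow `p`-subgroups (`p` odd):
`|P| = p` and `C(P) = P`. -/
theorem simple_two_p_add_one {S : Type*} [Group S] [Finite S] [IsSimpleGroup S] (p : ℕ)
    [Fact p.Prime] (hodd : Odd p) (hn : Nat.card (Sylow p S) = 2 * p + 1) (P : Sylow p S) :
    Nat.card P = p ∧ Nat.card (centralizer ((P : Subgroup S) : Set S)) = p := by
  have hp : p.Prime := Fact.out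
  have hp3 : 3 ≤ p := by
    have := hp.two_le
    rcases hodd with ⟨k, hk⟩
    omega
  have hPn : ¬ (P : Subgroup S).Normal := by
    intro h
    have := Sylow.unique_of_normal P h
    rw [Nat.card_unique] at hn
    omega
  have hS : ¬ IsMulCommutative S := by
    intro h
    apply hPn
    refine ⟨fun n hn g => ?_⟩
    have : g * n * g⁻¹ = n := by rw [h.is_comm.comm g n]; group
    rw [this]; exact hn
  have hPbot : (P : Subgroup S) ≠ ⊥ := by
    intro h
    apply hPn
    rw [h]; infer_instance
  have hdvd : p ∣ Nat.card S := by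
    obtain ⟨k, hk⟩ := P.2.exists_card_eq
    have hk0 : k ≠ 0 := by
      rintro rfl
      rw [pow_zero] at hk
      exact hPbot (card_eq_one.1 hk)
    exact ((dvd_pow_self p hk0).trans (hk ▸ dvd_rfl)).trans (card_subgroup_dvd_card (P : Subgroup S))
  have hP : Nat.card P = p := S4343.result hS p hdvd (by rw [hn]; nlinarith) P
  refine ⟨hP, ?_⟩
  have hfaith : ∀ g : S, (∀ Y : Sylow p S, g • Y = Y) → g = 1 := by
    intro g hg
    have hker : g ∈ (MulAction.toPermHom S (Sylow p S)).ker := by
      rw [MonoidHom.mem_ker]
      ext1 Y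
      exact hg Y
    rcases (MonoidHom.normal_ker (MulAction.toPermHom S (Sylow p S))).eq_bot_or_eq_top with h | h
    · rw [h] at hker; exact hker
    · exfalso
      apply hPn
      rw [← normalizer_eq_top_iff, eq_top_iff]
      intro x _
      have hx : x ∈ (MulAction.toPermHom S (Sylow p S)).ker := by rw [h]; trivial
      rw [MonoidHom.mem_ker] at hx
      have hx' : x • P = P := by
        have := congrArg (fun σ : Equiv.Perm (Sylow p S) => σ P) hx
        exact this
      exact Sylow.smul_eq_iff_mem_normalizer.1 hx'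
  have hnt : Nontrivial (Sylow p S) := by
    rw [← Finite.one_lt_card_iff_nontrivial, hn]; omega
  obtain ⟨Q, hQ⟩ := exists_ne P
  set C : Subgroup S := centralizer ((P : Subgroup S) : Set S) with hC
  have hD : ∀ Y : Sylow p S, Y ≠ P → ∀ d ∈ C, d • Y = Y → d = 1 := fun Y hY d hd hdY =>
    centralizer_stab_trivial hfaith P Y hP hn hY d hd hdY
  have hCP : ∀ c ∈ C, c • P = P := fun c hc =>
    Sylow.smul_eq_iff_mem_normalizer.2 (centralizer_le_normalizer _ hc)
  have hCle : Nat.card C + 1 ≤ 2 * p + 1 := by
    let φ : Option C → Sylow p S := fun o =>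
      match o with
      | none => P
      | some c => (c : S) • Q
    have hnone : ∀ c : C, (c : S) • Q ≠ P := by
      intro c h
      have h' : (c : S) • Q = (c : S) • P := h.trans (hCP c c.2).symm
      exact hQ (smul_left_cancel _ h')
    have hinj : Function.Injective φ := by
      intro o1 o2 h
      rcases o1 with _ | x <;> rcases o2 with _ | y
      · rfl
      · exact absurd h.symm (hnone y)
      · exact absurd h (hnone x)
      · have h' : (x : S) • Q = (y : S) • Q := h
        have h2 : ((y : S)⁻¹ * x) • Q = Q := by rw [mul_smul, h', inv_smul_smul]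
        have h4 := hD Q hQ _ (C.mul_mem (C.inv_mem y.2) x.2) h2
        have h5 : (y : S) = x := inv_mul_eq_one.1 h4
        have h6 : x = y := Subtype.ext h5.symm
        rw [h6]
    have := Nat.card_le_card_of_injective φ hinj
    rwa [Finite.card_option, hn] at this
  have hcyc : IsCyclic (P : Subgroup S) := isCyclic_of_prime_card hP
  have hPC : (P : Subgroup S) ≤ C := by
    intro x hx
    rw [hC, mem_centralizer_iff]
    intro y hy
    have := hcyc.isMulCommutative.is_comm.comm (⟨y, hy⟩ : (P : Subgroup S)) ⟨x, hx⟩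
    exact congrArg Subtype.val this
  have h7C : p ∣ Nat.card C := by
    have := card_dvd_of_le hPC
    rwa [hP] at this
  have h2C : ¬ 2 ∣ Nat.card C := by
    intro h2
    have hp2 : Fact (Nat.Prime 2) := ⟨Nat.prime_two⟩
    obtain ⟨t, ht⟩ := exists_prime_orderOf_dvd_card' (G := C) 2 h2
    have ht1 : (t : S) ≠ 1 := by
      intro h
      have : t = 1 := Subtype.ext h
      rw [this, orderOf_one] at ht
      omega
    have ht2 : (t : S) ^ 2 = 1 := by
      have := pow_orderOf_eq_one t
      rw [ht] at this
      exact congrArg Subtype.val this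
    classical
    have := Fintype.ofFinite (Sylow p S)
    have hsign : Equiv.Perm.sign (MulAction.toPermHom S (Sylow p S) (t : S)) = -1 := by
      apply sign_involution_one_fixed _ _ P _ p hodd
      · rw [← Nat.card_eq_fintype_card, hn]
      · rw [← map_pow, ht2, map_one]
      · intro Y
        constructor
        · intro hY
          by_contra hne
          exact ht1 (hD Y hne t t.2 hY)
        · rintro rfl
          exact hCP t t.2
    let ψ : S →* ℤˣ := Equiv.Perm.sign.comp (MulAction.toPermHom S (Sylow p S))
    rcases (MonoidHom.normal_ker ψ).eq_bot_or_eq_top with h | h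
    · apply hS
      refine ⟨⟨fun a b => ?_⟩⟩
      apply (MonoidHom.ker_eq_bot_iff ψ).1 h
      rw [map_mul, map_mul, mul_comm]
    · have : (t : S) ∈ ψ.ker := by rw [h]; trivial
      rw [MonoidHom.mem_ker] at this
      have h3 : ψ (t : S) = -1 := hsign
      rw [h3] at this
      exact absurd this (by decide)
  obtain ⟨j, hj⟩ := h7C
  have hj1 : j = 1 := by
    have hpos : 0 < Nat.card C := Nat.card_pos
    have hj2 : j ≤ 2 := by
      by_contra hlt
      push Not at hlt
      have : p * 3 ≤ p * j := Nat.mul_le_mul_left p hlt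
      omega
    interval_cases j
    · omega
    · rfl
    · exact absurd ⟨p, by rw [hj]; ring⟩ h2C
  rw [hj, hj1, mul_one]

/-- If `F` has prime order, `C(F) = F`-sized, and `r ≠ |F|` does not divide `[G : N(F)]`, then `G`
has a cyclic Sylow `r`-subgroup. -/
theorem exists_cyclic_sylow_of_self_centralizing {G : Type*} [Group G] [Finite G] (p r : ℕ)
    [Fact p.Prime] [Fact r.Prime] (hpr : p ≠ r) (F : Subgroup G) (hF : Nat.card F = p)
    (hC : Nat.card (centralizer (F : Set G)) = p)
    (hr : ¬ r ∣ (normalizer (F : Set G)).index) :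
    ∃ T : Sylow r G, IsCyclic (T : Subgroup G) := by
  have hrp : r.Prime := Fact.out
  have hpp : p.Prime := Fact.out
  obtain ⟨T⟩ : Nonempty (Sylow r (normalizer (F : Set G))) := inferInstance
  have hcycF : IsCyclic F := isCyclic_of_prime_card hF
  have hcycAut : IsCyclic (MulAut F) := by
    have : Fact (Nat.card F).Prime := ⟨hF ▸ hpp⟩
    exact isCyclic_of_injective (hcycF.mulAutMulEquiv F).toMonoidHom (hcycF.mulAutMulEquiv F).injective
  let f : (T : Subgroup (normalizer (F : Set G))) →* MulAut F :=
    F.normalizerMonoidHom.comp (T : Subgroup (normalizer (F : Set G))).subtype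
  have hinj : Function.Injective f := by
    rw [injective_iff_map_eq_one]
    intro t ht
    have h1 : (t : normalizer (F : Set G)) ∈ F.normalizerMonoidHom.ker := ht
    rw [normalizerMonoidHom_ker, mem_subgroupOf] at h1
    have h2 : orderOf ((t : normalizer (F : Set G)) : G) ∣ p := by
      rw [← hC]
      have := orderOf_dvd_natCard (⟨_, h1⟩ : centralizer (F : Set G))
      rwa [Subgroup.orderOf_mk] at this
    obtain ⟨k, hk⟩ := T.2 t
    have h3 : orderOf ((t : normalizer (F : Set G)) : G) ∣ r ^ k := by
      apply orderOf_dvd_of_pow_eq_one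
      have h := congrArg (fun x : (T : Subgroup (normalizer (F : Set G))) =>
        ((x : normalizer (F : Set G)) : G)) hk
      simpa using h
    have h4 : orderOf ((t : normalizer (F : Set G)) : G) = 1 :=
      Nat.eq_one_of_dvd_coprimes
        (Nat.Coprime.pow_right k ((Nat.coprime_primes hpp hrp).2 hpr)) h2 h3
    rw [orderOf_eq_one_iff] at h4
    exact Subtype.ext (Subtype.ext h4)
  have hcycT : IsCyclic (T : Subgroup (normalizer (F : Set G))) := isCyclic_of_injective f hinj
  have hcard : Nat.card ((T : Subgroup (normalizer (F : Set G))).map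
      (normalizer (F : Set G)).subtype) = r ^ (Nat.card G).factorization r := by
    rw [card_map_of_injective (subtype_injective _), T.card_eq_multiplicity,
      ← (normalizer (F : Set G)).index_mul_card,
      Nat.factorization_mul index_ne_zero_of_finite Nat.card_pos.ne', Finsupp.add_apply,
      Nat.factorization_eq_zero_of_not_dvd hr, zero_add]
  refine ⟨Sylow.ofCard _ hcard, ?_⟩
  rw [Sylow.coe_ofCard]
  exact isCyclic_of_surjective ((normalizer (F : Set G)).subtype.subgroupMap
    (T : Subgroup (normalizer (F : Set G)))) (MonoidHom.subgroupMap_surjective _ _)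

/-- A simple group of even order with a cyclic Sylow 2-subgroup has order 2. -/
theorem simple_cyclic_sylow_two {G : Type*} [Group G] [Finite G] [IsSimpleGroup G]
    (h2 : 2 ∣ Nat.card G) (T : Sylow 2 G) (hT : IsCyclic (T : Subgroup G)) :
    Nat.card G = Nat.card T := by
  have hp2 : Fact (Nat.Prime 2) := ⟨Nat.prime_two⟩
  have hmin : (Nat.card G).minFac = 2 := (Nat.minFac_eq_two_iff _).2 h2
  have h4 := IsCyclic.isComplement' hmin hT
  have h5 := h4.card_mul_card
  rcases (MonoidHom.normal_ker
    (MonoidHom.transferSylow T (hT.normalizer_le_centralizer hmin))).eq_bot_or_eq_top with h | h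
  · rw [h, card_bot, one_mul] at h5
    exact h5.symm
  · rw [h, card_top] at h5
    have hpos : 0 < Nat.card G := Nat.card_pos
    have h6 : Nat.card G * Nat.card T = Nat.card G * 1 := by rw [mul_one]; exact h5
    have h7 := Nat.eq_of_mul_eq_mul_left hpos h6
    exact absurd (card_eq_one.1 h7) (T.ne_bot_of_dvd_card h2)

end Cfsg.Agent.H3
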