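import Cfsg.Statements.S4341
import Mathlib
import Cfsg.Agent.Lib_lead_SylNum

set_option autoImplicit false
open Cfsg

namespace Cfsg.Agent.S4341

/-- Let K be a normal subgroup of a finite group G, p a prime and P a Sylow p-subgroup of G; let N be the normalizer of P ∩ K inside the subgroup PK. Then the number of Sylow p-subgroups of G equals the product of the numbers of Sylow p-subgroups of G/K, of K, and of N/(P ∩ K). (The normality of P ∩ K in N, which always holds, is assumed as a hypothesis so that the quotient can be formed.) -/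
theorem result {G : Type*} [Group G] [Finite G]
    (p : ℕ) [Fact p.Prime] (K : Subgroup G) [K.Normal] (P : Sylow p G) (N : Subgroup G)
    (hN : N = ((P : Subgroup G) ⊔ K) ⊓ Subgroup.normalizer (((P : Subgroup G) ⊓ K : Subgroup G) : Set G))
    [hn : (((P : Subgroup G) ⊓ K).subgroupOf N).Normal] :
    Nat.card (Sylow p G) =
      Nat.card (Sylow p (G ⧸ K)) * Nat.card (Sylow p K) * Nat.card (Sylow p (N ⧸ ((P : Subgroup G) ⊓ K).subgroupOf N)) := by
  subst hN
  have hPNQ : (P : Subgroup G) ≤ Subgroup.normalizer (((P : Subgroup G) ⊓ K : Subgroup G) : Set G) :=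
    Subgroup.le_normalizer.trans (LeadSyl.normalizer_le_normalizer_inf (P : Subgroup G) K)
  have hPN : (P : Subgroup G) ≤ ((P : Subgroup G) ⊔ K) ⊓
      Subgroup.normalizer (((P : Subgroup G) ⊓ K : Subgroup G) : Set G) := le_inf le_sup_left hPNQ
  obtain ⟨Q', hQ'⟩ := LeadSyl.exists_sylow_inf K P
  have e1 := P.card_eq_index_normalizer
  have e2 := LeadSyl.card_sylow_quotient K P
  have e3 := LeadSyl.card_sylow_subgroup K ((P : Subgroup G) ⊓ K) inf_le_right Q' hQ'
  have e4 : Nat.card (Sylow p (↥(((P : Subgroup G) ⊔ K) ⊓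
      Subgroup.normalizer (((P : Subgroup G) ⊓ K : Subgroup G) : Set G)) ⧸
      ((P : Subgroup G) ⊓ K).subgroupOf (((P : Subgroup G) ⊔ K) ⊓
      Subgroup.normalizer (((P : Subgroup G) ⊓ K : Subgroup G) : Set G)))) =
      (Subgroup.normalizer ((P : Subgroup G) : Set G)).relIndex (((P : Subgroup G) ⊔ K) ⊓
      Subgroup.normalizer (((P : Subgroup G) ⊓ K : Subgroup G) : Set G)) := by
    have hle : ((P : Subgroup G) ⊓ K).subgroupOf (((P : Subgroup G) ⊔ K) ⊓
      Subgroup.normalizer (((P : Subgroup G) ⊓ K : Subgroup G) : Set G)) ≤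
      (P : Subgroup G).subgroupOf (((P : Subgroup G) ⊔ K) ⊓
      Subgroup.normalizer (((P : Subgroup G) ⊓ K : Subgroup G) : Set G)) :=
      Subgroup.comap_mono inf_le_left
    rw [LeadSyl.card_sylow_quotient _ (P.subtype hPN), Sylow.coe_subtype,
      sup_eq_left.2 hle, ← Subgroup.subgroupOf_normalizer_eq hPN]
    rfl
  rw [e1, e2, e3, e4]
  change (Subgroup.normalizer ((P : Subgroup G) : Set G)).index = _
  rw [LeadSyl.index_normalizer_eq K P, mul_assoc]
  congr 1
  have h1 := Subgroup.relIndex_inf_mul_relIndex (Subgroup.normalizer ((P : Subgroup G) : Set G))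
    (Subgroup.normalizer (((P : Subgroup G) ⊓ K : Subgroup G) : Set G)) ((P : Subgroup G) ⊔ K)
  rw [inf_eq_left.2 (LeadSyl.normalizer_le_normalizer_inf (P : Subgroup G) K)] at h1
  rw [← h1, mul_comm, inf_comm (Subgroup.normalizer (((P : Subgroup G) ⊓ K : Subgroup G) : Set G)) ((P : Subgroup G) ⊔ K)]
  congr 1
  apply LeadSyl.relIndex_eq_of_sup K _ _ le_sup_right
  · rw [Subgroup.normalizer_eq_top]; exact le_top
  · exact sup_le (le_trans (le_inf hPNQ le_sup_left) le_sup_right) le_sup_left

end Cfsg.Agent.S4341
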