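import Mathlib
import Cfsg.Agent.Lib_helper3_SylNum
import Cfsg.Agent.S4341

set_option autoImplicit false

namespace Cfsg.Agent.H3
open Subgroup

universe u

theorem sylow_number_reduction_aux (p t ℓ : ℕ) [Fact p.Prime] [Fact ℓ.Prime]
    (hdiv : ∀ a, a ∣ t → a ≡ 1 [MOD p] → a = 1 ∨ a = t)
    (hℓ : ¬ ℓ ^ t.factorization ℓ ≡ 1 [MOD p])
    (hsimple : ∀ (S : Type u) [Group S] [Finite S] [IsSimpleGroup S], Nat.card (Sylow p S) ≠ t)
    (ht1 : t ≠ 1) (n : ℕ) :
    ∀ (G : Type u) [Group G] [Finite G], Nat.card G = n → Nat.card (Sylow p G) ≠ t := by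
  induction n using Nat.strong_induction_on with
  | _ n ih =>
  intro G _ _ hn h15
  have hp : p.Prime := Fact.out
  by_cases hs : ∀ K : Subgroup G, K.Normal → K = ⊥ ∨ K = ⊤
  · have hnt : Nontrivial G := by
      by_contra h
      rw [not_nontrivial_iff_subsingleton] at h
      have : Subsingleton (Sylow p G) := ⟨fun P Q => Sylow.ext (Subsingleton.elim _ _)⟩
      have h1 : Nat.card (Sylow p G) ≤ 1 := Finite.card_le_one_iff_subsingleton.2 this
      have h2 : 0 < Nat.card (Sylow p G) := Nat.card_pos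
      omega
    have : IsSimpleGroup G := ⟨hs⟩
    exact hsimple G h15
  · push Not at hs
    obtain ⟨K, hKn, hKbot, hKtop⟩ := hs
    obtain ⟨P⟩ : Nonempty (Sylow p G) := inferInstance
    have hDN : (((P : Subgroup G) ⊓ K).subgroupOf (((P : Subgroup G) ⊔ K) ⊓
        normalizer (((P : Subgroup G) ⊓ K : Subgroup G) : Set G))).Normal :=
      normal_subgroupOf_of_le_normalizer inf_le_right
    have key := S4341.result p K P _ rfl
    rw [h15] at key
    have ha : Nat.card (Sylow p (G ⧸ K)) = 1 := by
      refine (hdiv _ ?_ (card_sylow_modEq_one p _)).resolve_right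
        (ih _ (hn ▸ H1.card_quotient_lt hKbot) _ rfl)
      rw [key, mul_assoc]; exact Dvd.intro _ rfl
    have hb : Nat.card (Sylow p K) = 1 := by
      refine (hdiv _ ?_ (card_sylow_modEq_one p _)).resolve_right
        (ih _ (hn ▸ H1.card_lt_of_ne_top hKtop) _ rfl)
      rw [key, ha, one_mul]; exact Dvd.intro _ rfl
    rw [ha, hb, one_mul, one_mul] at key
    set D : Subgroup G := (P : Subgroup G) ⊓ K with hD
    set N : Subgroup G := ((P : Subgroup G) ⊔ K) ⊓ normalizer (D : Set G) with hN
    have hge : n ≤ Nat.card (N ⧸ D.subgroupOf N) := by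
      by_contra hlt
      push Not at hlt
      exact ih _ hlt _ rfl key.symm
    have hmul := (D.subgroupOf N).card_eq_card_quotient_mul_card_subgroup
    have hNle : Nat.card N ≤ n := hn ▸ Subgroup.card_le_card_group N
    have hDpos : 0 < Nat.card (D.subgroupOf N) := Nat.card_pos
    have hnpos : 0 < n := hn ▸ Nat.card_pos
    have hD1 : Nat.card (D.subgroupOf N) = 1 := by
      by_contra hne
      have h2 : 2 ≤ Nat.card (D.subgroupOf N) := by omega
      have : n * 2 ≤ Nat.card N := by
        rw [hmul]; exact Nat.mul_le_mul hge h2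
      omega
    have hNtop : N = ⊤ := by
      apply Subgroup.eq_top_of_card_eq
      rw [hD1, mul_one] at hmul
      omega
    have hDle : D ≤ N := le_inf (inf_le_left.trans le_sup_left) le_normalizer
    have hDbot : D = ⊥ := by
      rw [H1.card_subgroupOf_of_le hDle] at hD1
      exact card_eq_one.1 hD1
    have hPK : (P : Subgroup G) ⊔ K = ⊤ := top_le_iff.1 (hNtop ▸ inf_le_left)
    have h7K : ¬ p ∣ Nat.card K := by
      intro h7
      obtain ⟨Q, hQ⟩ := LeadSyl.exists_sylow_inf K P
      apply Q.ne_bot_of_dvd_card h7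
      rw [hQ, ← hD, hDbot]
      simp
    have hcop : (Nat.card P).Coprime (Nat.card K) := by
      obtain ⟨k, hk⟩ := P.2.exists_card_eq
      rw [hk]
      exact Nat.Coprime.pow_left _ ((Nat.Prime.coprime_iff_not_dvd hp).2 h7K)
    have h1 := coprime_part_modEq_one p ℓ P K hcop
    have h2 : (normalizer ((P : Subgroup G) : Set G)).relIndex K = t := by
      rw [← h15, P.card_eq_index_normalizer]
      change _ = (normalizer ((P : Subgroup G) : Set G)).index
      rw [← relIndex_top_right, ← hPK]
      symm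
      apply LeadSyl.relIndex_eq_of_sup K _ _ le_sup_right
      · rw [normalizer_eq_top]; exact le_top
      · exact sup_le (le_trans (le_inf le_normalizer le_sup_left) le_sup_right) le_sup_left
    rw [h2] at h1
    exact hℓ h1

/-- Reduction of "`t` is not a Sylow `p`-number" to simple groups. -/
theorem sylow_number_reduction (p t ℓ : ℕ) [Fact p.Prime] [Fact ℓ.Prime]
    (hdiv : ∀ a, a ∣ t → a ≡ 1 [MOD p] → a = 1 ∨ a = t)
    (hℓ : ¬ ℓ ^ t.factorization ℓ ≡ 1 [MOD p])
    (hsimple : ∀ (S : Type u) [Group S] [Finite S] [IsSimpleGroup S], Nat.card (Sylow p S) ≠ t)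
    (ht1 : t ≠ 1) (G : Type u) [Group G] [Finite G] : Nat.card (Sylow p G) ≠ t :=
  sylow_number_reduction_aux p t ℓ hdiv hℓ hsimple ht1 _ G rfl

end Cfsg.Agent.H3
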