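import Cfsg.Agent.Lib_helper4_BlkZ
import Cfsg.Prelude.Def_BlockRank

set_option autoImplicit false
set_option linter.style.haveILetI false
set_option linter.unusedSectionVars false
namespace Cfsg.Agent.H4
open Module
open scoped ComplexConjugate
universe u v w

section BF3
variable {p : ℕ} {M : Ideal AlgInt} {G : Type u} [Group G]

theorem tilde_in_block_span [Fact p.Prime] [Finite G] (hM : IsPModular p M)
    (B : Set (IrrCharacter G)) (hB : IsPBlock M B) (χ : IrrCharacter G) (hχ : χ ∈ B) :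
    ∃ a : IrrCharacter G → ℤ, (∀ ψ, ψ ∉ B → a ψ = 0) ∧
      (fun x : G => if p ∣ orderOf x then (0 : ℂ) else ((p ^ (Nat.card G).factorization p : ℕ) : ℂ) * (χ : G → ℂ) x)
        = fun x => ∑ᶠ ψ : IrrCharacter G, (a ψ : ℂ) * (ψ : G → ℂ) x := by
  haveI := Fintype.ofFinite G
  haveI := Fintype.ofFinite (IrrCharacter G)
  refine ⟨fun ψ => rN p χ ψ, ?_, ?_⟩
  · intro ψ hψ
    apply rN_eq_zero hM
    intro h
    apply hψ
    rw [IsPBlock.eq_blockOf hM hB hχ]; exact h
  · have h := tildeFun_expansion (p := p) χ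
    funext x
    have h2 := congrFun h x
    rw [finsum_eq_sum_of_fintype]
    simp only [Finset.sum_apply, Pi.smul_apply, smul_eq_mul] at h2
    exact h2

theorem tilde_exact_divisibility [Fact p.Prime] [Finite G] (χ : IrrCharacter G) :
    IsGeneralizedCharacter G (fun x : G => if p ∣ orderOf x then (0 : ℂ) else
      ((p ^ ((Nat.card G).factorization p - (charDegree (χ : G → ℂ)).factorization p) : ℕ) : ℂ) * (χ : G → ℂ) x) ∧
    ¬ IsGeneralizedCharacter G (fun x : G => if p ∣ orderOf x then (0 : ℂ) else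
      ((p ^ (Nat.card G).factorization p : ℕ) : ℂ) / ((p ^ ((charDegree (χ : G → ℂ)).factorization p + 1) : ℕ) : ℂ)
        * (χ : G → ℂ) x) := by
  classical
  haveI := Fintype.ofFinite G
  haveI := Fintype.ofFinite (IrrCharacter G)
  have hp : p.Prime := Fact.out
  have hle := degree_val_le_card (p := p) χ
  set a := (Nat.card G).factorization p with ha
  set b := (charDegree (χ : G → ℂ)).factorization p with hb
  have hpC : (p : ℂ) ≠ 0 := by exact_mod_cast hp.pos.ne'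
  constructor
  · choose c hc using fun ψ => rN_dvd_left (p := p) χ ψ
    have h := tildeFun_expansion (p := p) χ
    have e : (fun x : G => if p ∣ orderOf x then (0 : ℂ) else ((p ^ (a - b) : ℕ) : ℂ) * (χ : G → ℂ) x)
        = ∑ ψ : IrrCharacter G, (c ψ : ℂ) • (ψ : G → ℂ) := by
      funext x
      have h2 := congrFun h x
      simp only [Finset.sum_apply, Pi.smul_apply, smul_eq_mul] at h2 ⊢
      have h3 : ((p : ℂ) ^ b) * (if p ∣ orderOf x then (0 : ℂ) else ((p ^ (a - b) : ℕ) : ℂ) * (χ : G → ℂ) x)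
          = ((p : ℂ) ^ b) * ∑ ψ : IrrCharacter G, (c ψ : ℂ) * (ψ : G → ℂ) x := by
        rw [Finset.mul_sum]
        have h4 : ∑ ψ : IrrCharacter G, (p : ℂ) ^ b * ((c ψ : ℂ) * (ψ : G → ℂ) x)
            = ∑ ψ : IrrCharacter G, (rN p χ ψ : ℂ) * (ψ : G → ℂ) x := by
          apply Finset.sum_congr rfl; intro ψ _
          rw [hc ψ]; push_cast; ring
        rw [h4, ← h2]
        unfold tildeFun
        split_ifs
        · rw [mul_zero]
        · rw [← ha]
          push_cast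
          rw [← mul_assoc, ← pow_add]
          congr 2; omega
      exact mul_left_cancel₀ (pow_ne_zero _ hpC) h3
    rw [e]
    exact isGeneralizedCharacter_of_int c
  · intro hgen
    obtain ⟨S⟩ : Nonempty (Sylow p G) := inferInstance
    haveI := Fintype.ofFinite (S : Subgroup G)
    obtain ⟨α, β, hα, hβ, hθ⟩ := hgen
    have hres : IsGeneralizedCharacter (S : Subgroup G) (fun s : (S : Subgroup G) =>
        (fun x : G => if p ∣ orderOf x then (0 : ℂ) else
      ((p ^ a : ℕ) : ℂ) / ((p ^ (b + 1) : ℕ) : ℂ) * (χ : G → ℂ) x) (s : G)) := by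
      refine ⟨fun s => α s, fun s => β s, IsCharacter.restrict _ hα, IsCharacter.restrict _ hβ, ?_⟩
      funext s
      exact congrFun hθ (s : G)
    obtain ⟨n, hn⟩ := IsGeneralizedCharacter.classInner_int hres (trivIrr (S : Subgroup G))
    obtain ⟨d, hd0, hd1, hd2⟩ := IrrCharacter.exists_degree χ
    have hcardS : Nat.card (S : Subgroup G) = p ^ a := S.card_eq_multiplicity
    unfold classInner at hn
    rw [Finset.sum_eq_single (1 : (S : Subgroup G))] at hn
    · simp only [Subgroup.coe_one, orderOf_one, Nat.dvd_one, hp.one_lt.ne', if_false] at hn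
      rw [hcardS, hd1] at hn
      have htr : conj ((trivIrr (S : Subgroup G)).1 1) = 1 := by
        show conj (1 : ℂ) = 1
        simp
      rw [htr, mul_one] at hn
      have hpa : ((p ^ a : ℕ) : ℂ) ≠ 0 := by exact_mod_cast (pow_pos hp.pos _).ne'
      have hpb : ((p ^ (b + 1) : ℕ) : ℂ) ≠ 0 := by exact_mod_cast (pow_pos hp.pos _).ne'
      have h5 : (d : ℂ) = (n : ℂ) * ((p ^ (b + 1) : ℕ) : ℂ) := by
        rw [← hn]; field_simp
      have h6 : (d : ℤ) = n * ((p ^ (b + 1) : ℕ) : ℤ) := by exact_mod_cast h5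
      have h7 : ((p ^ (b + 1) : ℕ) : ℤ) ∣ (d : ℤ) := ⟨n, by rw [h6]; ring⟩
      have h8 : p ^ (b + 1) ∣ d := Int.natCast_dvd_natCast.mp h7
      rw [hb, hd2] at h8
      exact Nat.pow_succ_factorization_not_dvd hd0.ne' hp h8
    · intro s _ hs
      have hs1 : p ∣ orderOf (s : G) := by
        rw [Subgroup.orderOf_coe]
        obtain ⟨k, hk⟩ := (S.2 : IsPGroup p (S : Subgroup G)) s
        obtain ⟨j, _, hj⟩ := (Nat.dvd_prime_pow hp).mp (orderOf_dvd_of_pow_eq_one hk)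
        have hj0 : j ≠ 0 := by
          rintro rfl
          rw [pow_zero] at hj
          exact hs (orderOf_eq_one_iff.mp hj)
        rw [hj]; exact dvd_pow_self p hj0
      simp only [if_pos hs1, zero_mul]
    · intro h; exact absurd (Finset.mem_univ _) h

theorem pRegularPart_eq (χ : G → ℂ) (g : G) : pRegularPart p χ g = regInd p G g * χ g := by
  unfold pRegularPart regInd IsPRegular
  by_cases h : p ∣ orderOf g
  · simp [h]
  · simp [h]

theorem defect_power_regular_part [Fact p.Prime] [Fintype G] (hM : IsPModular p M)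
    (B : Set (IrrCharacter G)) (hB : IsPBlock M B) (χ : G → ℂ)
    (hχ : ∃ n : IrrCharacter G → ℤ, ∀ g : G, χ g = ∑ᶠ ψ ∈ B, (n ψ : ℂ) * (ψ : G → ℂ) g) :
    ∃ n : IrrCharacter G → ℤ, ∀ g : G,
      (p ^ blockDefect p B : ℂ) * pRegularPart p χ g = ∑ᶠ ψ ∈ B, (n ψ : ℂ) * (ψ : G → ℂ) g := by
  classical
  haveI := Fintype.ofFinite (IrrCharacter G)
  have hp : p.Prime := Fact.out
  have hpC : (p : ℂ) ≠ 0 := by exact_mod_cast hp.pos.ne'
  obtain ⟨n, hn⟩ := hχ
  obtain ⟨χ0, hχ0⟩ : B.Nonempty := by obtain ⟨ξ0, h⟩ := hB; rw [h]; exact ⟨ξ0, SameBlock.refl hM _⟩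
  have va := card_val_eq (p := p) B χ0 hχ0
  set s := sInf ((fun χ : IrrCharacter G => (charDegree (χ : G → ℂ)).factorization p) '' B) with hs
  set d := blockDefect p B with hd
  have hdvd : ∀ ψ ξ : IrrCharacter G, ψ ∈ B → (p : ℤ) ^ s ∣ rN p ψ ξ := by
    intro ψ ξ hψ
    have h1 := rN_dvd_left (p := p) ψ ξ
    have h2 := val_eq_add_height (p := p) B ψ hψ
    rw [h2, pow_add] at h1
    exact (Dvd.intro _ rfl).trans h1
  have key : ∀ ψ ∈ B, ∀ g, (p : ℂ) ^ d * (regInd p G g * (ψ : G → ℂ) g)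
      = ∑ ξ : IrrCharacter G, B.indicator 1 ξ * (((rN p ψ ξ / (p : ℤ) ^ s : ℤ) : ℂ) * (ξ : G → ℂ) g) := by
    intro ψ hψ g
    have h2 := congrFun (tildeFun_expansion (p := p) ψ) g
    simp only [Finset.sum_apply, Pi.smul_apply, smul_eq_mul] at h2
    rw [tildeFun_eq, va] at h2
    apply mul_left_cancel₀ (pow_ne_zero s hpC)
    rw [← mul_assoc, ← pow_add]
    push_cast at h2
    rw [h2, Finset.mul_sum]
    apply Finset.sum_congr rfl; intro ξ _
    by_cases hξ : ξ ∈ B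
    · rw [Set.indicator_of_mem hξ, Pi.one_apply, one_mul, ← mul_assoc]
      congr 1
      obtain ⟨c, hc⟩ := hdvd ψ ξ hψ
      have hps : (p : ℤ) ^ s ≠ 0 := pow_ne_zero _ (by exact_mod_cast hp.pos.ne')
      rw [hc, Int.mul_ediv_cancel_left _ hps]
      push_cast; ring
    · rw [Set.indicator_of_notMem hξ, zero_mul, mul_zero, rN_eq_zero hM ψ ξ (fun h => hξ (by
        rw [IsPBlock.eq_blockOf hM hB hψ]; exact h))]
      simp
  refine ⟨fun ξ => ∑ ψ : IrrCharacter G, if ψ ∈ B then n ψ * (rN p ψ ξ / (p : ℤ) ^ s) else 0, ?_⟩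
  intro g
  rw [pRegularPart_eq, hn g, finsum_mem_eq_sum_indicator, finsum_mem_eq_sum_indicator]
  have e1 : (p : ℂ) ^ d * (regInd p G g * ∑ ψ : IrrCharacter G, B.indicator 1 ψ * ((n ψ : ℂ) * (ψ : G → ℂ) g))
      = ∑ ψ : IrrCharacter G, ∑ ξ : IrrCharacter G, B.indicator 1 ψ * ((n ψ : ℂ) *
          (B.indicator 1 ξ * (((rN p ψ ξ / (p : ℤ) ^ s : ℤ) : ℂ) * (ξ : G → ℂ) g))) := by
    rw [Finset.mul_sum, Finset.mul_sum]
    apply Finset.sum_congr rfl; intro ψ _
    by_cases hψ : ψ ∈ B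
    · rw [← Finset.mul_sum, ← Finset.mul_sum, ← key ψ hψ g]; ring
    · simp [Set.indicator_of_notMem hψ]
  rw [e1, Finset.sum_comm]
  apply Finset.sum_congr rfl; intro ξ _
  push_cast
  rw [Finset.sum_mul, Finset.mul_sum]
  apply Finset.sum_congr rfl; intro ψ _
  by_cases hψ : ψ ∈ B
  · rw [Set.indicator_of_mem hψ, if_pos hψ]; push_cast; simp only [Pi.one_apply]; ring
  · rw [Set.indicator_of_notMem hψ, if_neg hψ]; simp

theorem height_zero_iff_inner_val [Fact p.Prime] [Fintype G] (hM : IsPModular p M)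
    (B : Set (IrrCharacter G)) (hB : IsPBlock M B) (χ : IrrCharacter G) (hχ : χ ∈ B) :
    (blockHeight p B (χ : G → ℂ) = 0 ↔ ∃ ξ ∈ B, ∃ n : ℤ, classInner (fun x : G => if p ∣ orderOf x then (0 : ℂ) else
      ((p ^ (Nat.card G).factorization p : ℕ) : ℂ) * (χ : G → ℂ) x) (ξ : G → ℂ) = (n : ℂ) ∧ n ≠ 0 ∧
      padicValInt p n = (charDegree (ξ : G → ℂ)).factorization p) ∧
    (blockHeight p B (χ : G → ℂ) = 0 ↔ ∀ ξ ∈ B, ∃ n : ℤ, classInner (fun x : G => if p ∣ orderOf x then (0 : ℂ) else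
      ((p ^ (Nat.card G).factorization p : ℕ) : ℂ) * (χ : G → ℂ) x) (ξ : G → ℂ) = (n : ℂ) ∧ n ≠ 0 ∧
      padicValInt p n = (charDegree (ξ : G → ℂ)).factorization p) := by
  have c1 : blockHeight p B (χ : G → ℂ) = 0 → ∀ ξ ∈ B, ∃ n : ℤ, classInner (fun x : G => if p ∣ orderOf x then (0 : ℂ) else
      ((p ^ (Nat.card G).factorization p : ℕ) : ℂ) * (χ : G → ℂ) x) (ξ : G → ℂ) = (n : ℂ) ∧ n ≠ 0 ∧
      padicValInt p n = (charDegree (ξ : G → ℂ)).factorization p := by
    intro h0 ξ hξ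
    refine ⟨rN p χ ξ, rN_spec χ ξ, ?_, ?_⟩
    · intro h
      apply rN_not_dvd hM B hB χ hχ h0 ξ hξ
      rw [h]; exact dvd_zero _
    · have h1 := rN_dvd (p := p) χ ξ
      have h2 := rN_not_dvd hM B hB χ hχ h0 ξ hξ
      rw [padicValInt_dvd_iff] at h1 h2
      push Not at h2
      rcases h1 with h1 | h1
      · exact absurd h1 h2.1
      · omega
  have c2 : (∃ ξ ∈ B, ∃ n : ℤ, classInner (fun x : G => if p ∣ orderOf x then (0 : ℂ) else
      ((p ^ (Nat.card G).factorization p : ℕ) : ℂ) * (χ : G → ℂ) x) (ξ : G → ℂ) = (n : ℂ) ∧ n ≠ 0 ∧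
      padicValInt p n = (charDegree (ξ : G → ℂ)).factorization p) → blockHeight p B (χ : G → ℂ) = 0 := by
    rintro ⟨ξ, hξ, n, hn, hn0, hnv⟩
    by_contra hh
    have h1 := rN_self_dvd_of_pos_height hM B hB χ hχ hh ξ hξ
    have h2 : (n : ℂ) = (rN p χ ξ : ℂ) := by rw [← hn]; exact rN_spec χ ξ
    have h3 : n = rN p χ ξ := by exact_mod_cast h2
    rw [← h3, padicValInt_dvd_iff] at h1
    rcases h1 with h1 | h1
    · exact hn0 h1
    · omega
  refine ⟨⟨fun h0 => ⟨χ, hχ, c1 h0 χ hχ⟩, c2⟩, ⟨c1, fun h => c2 ⟨χ, hχ, h χ hχ⟩⟩⟩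

end BF3
end Cfsg.Agent.H4
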