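import Cfsg.Agent.Lib_helper4_BlkAA

set_option autoImplicit false
set_option linter.style.haveILetI false
set_option linter.unusedSectionVars false
namespace Cfsg.Agent.H4
open Module
open scoped ComplexConjugate
universe u v w

section BF4
variable {p : ℕ} {M : Ideal AlgInt} {G : Type u} [Group G]

theorem blockDefect_le_card_val (B : Set (IrrCharacter G)) : blockDefect p B ≤ (Nat.card G).factorization p := by
  unfold blockDefect; omega

theorem real_odd_principal [Finite G] (hM : IsPModular 2 M) :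
    (∀ χ : IrrCharacter G, (∀ g : G, ((χ : G → ℂ) g).im = 0) → Odd (charDegree (χ : G → ℂ)) →
      χ ∈ principalBlock M G) ∧
    Nat.card {χ : IrrCharacter G // (∀ g : G, ((χ : G → ℂ) g).im = 0) ∧ Odd (charDegree (χ : G → ℂ))}
      ≤ 2 ^ (2 * (Nat.card G).factorization 2) := by
  classical
  haveI : Fact (Nat.Prime 2) := ⟨Nat.prime_two⟩
  haveI := Fintype.ofFinite G
  haveI := Fintype.ofFinite (IrrCharacter G)
  have h1 : ∀ χ : IrrCharacter G, (∀ g : G, ((χ : G → ℂ) g).im = 0) → Odd (charDegree (χ : G → ℂ)) →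
      χ ∈ principalBlock M G := by
    intro χ hre hodd
    rw [principalBlock_eq]
    apply principal_of_real_like hM χ χ (SameBlock.refl hM _)
    · intro h; exact (Nat.not_even_iff_odd.mpr hodd) (even_iff_two_dvd.mpr h)
    · intro g _
      rw [IsCharacter.inv_eq_conj (IsIrrCharacter.isCharacter χ.2)]
      exact (Complex.conj_eq_iff_im.mpr (hre g)).symm
  refine ⟨h1, ?_⟩
  have h2 := brauer_feit hM (principalBlock M G) ⟨trivIrr G, principalBlock_eq⟩
  have h3 : Nat.card {χ : IrrCharacter G // (∀ g : G, ((χ : G → ℂ) g).im = 0) ∧ Odd (charDegree (χ : G → ℂ))}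
      ≤ Nat.card (principalBlock M G) := by
    have hsub : {χ : IrrCharacter G | (∀ g : G, ((χ : G → ℂ) g).im = 0) ∧ Odd (charDegree (χ : G → ℂ))}
        ⊆ principalBlock M G := fun χ hχ => h1 χ hχ.1 hχ.2
    have := Set.ncard_le_ncard hsub (Set.toFinite _)
    rw [← Nat.card_coe_set_eq, ← Nat.card_coe_set_eq] at this
    exact this
  have h4 : 2 ^ (2 * blockDefect 2 (principalBlock M G)) ≤ 2 ^ (2 * (Nat.card G).factorization 2) :=
    Nat.pow_le_pow_right (by norm_num) (by have := blockDefect_le_card_val (p := 2) (principalBlock M G); omega)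
  have h5 : 1 ≤ 2 ^ (2 * (Nat.card G).factorization 2) := Nat.one_le_pow _ _ (by norm_num)
  generalize 2 ^ (2 * (Nat.card G).factorization 2) = X at *
  generalize 2 ^ (2 * blockDefect 2 (principalBlock M G)) = Y at *
  omega

theorem near_full_power_whole_block [Fact p.Prime] [Finite G] (hM : IsPModular p M)
    (B : Set (IrrCharacter G)) (hB : IsPBlock M B) (χ : IrrCharacter G) (hχ : χ ∈ B)
    (hdiv : p ^ ((Nat.card G).factorization p - 1) ∣ charDegree (χ : G → ℂ)) (ψ : IrrCharacter G) (hψ : ψ ∈ B) :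
    p ^ ((Nat.card G).factorization p - 1) ∣ charDegree (ψ : G → ℂ) := by
  have hp : p.Prime := Fact.out
  obtain ⟨d, hd0, hd1, hd2⟩ := IrrCharacter.exists_degree χ
  obtain ⟨e, he0, he1, he2⟩ := IrrCharacter.exists_degree ψ
  have h1 := (brauer_feit_complement hM B hB _ rfl).2 χ hχ
  have v1 := val_eq_add_height (p := p) B χ hχ
  have v2 := val_eq_add_height (p := p) B ψ hψ
  have va := card_val_eq (p := p) B χ hχ
  rw [hd2] at hdiv v1
  rw [he2] at v2 ⊢
  have h2 := (hp.pow_dvd_iff_le_factorization hd0.ne').mp hdiv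
  rw [hp.pow_dvd_iff_le_factorization he0.ne']
  by_cases hd : blockDefect p B ≤ 1
  · omega
  · have := h1.2 (by omega)
    omega

end BF4
end Cfsg.Agent.H4
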