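import Cfsg.Agent.Lib_helper4_BlkAB

set_option autoImplicit false
set_option linter.style.haveILetI false
set_option linter.unusedSectionVars false
namespace Cfsg.Agent.H4
open Module
open scoped ComplexConjugate
universe u v w

section BF5
variable {p : ℕ} {M : Ideal AlgInt} {G : Type u} [Group G]

/-- blocks do not depend on the maximal ideal -/
theorem sameBlock_indep [Finite G] (hM : IsPModular p M) {χ ψ : IrrCharacter G}
    (h : SameBlock M (χ : G → ℂ) (ψ : G → ℂ)) {M' : Ideal AlgInt} (hM' : IsPModular p M') :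
    SameBlock M' (χ : G → ℂ) (ψ : G → ℂ) := by
  haveI := Fintype.ofFinite G
  haveI := Fintype.ofFinite (IrrCharacter G)
  obtain ⟨χ0, hχ0, hχ00⟩ := exists_height_zero hM (blockOf M (χ : G → ℂ)) ⟨χ, rfl⟩
  have hbe := IsPBlock.eq_blockOf hM ⟨χ, rfl⟩ hχ0
  rw [hbe] at hχ00
  have key : ∀ ξ : IrrCharacter G, SameBlock M (χ0 : G → ℂ) (ξ : G → ℂ) → SameBlock M' (χ0 : G → ℂ) (ξ : G → ℂ) := by
    intro ξ hξ
    by_contra hc
    apply (regPair_not_mem_iff hM χ0 hχ00 ξ).mpr hξ
    rw [regPair_eq_zero hM' χ0 ξ hc, zero_div]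
    exact MemLocalIdeal.zero hM
  have h1 := key χ (SameBlock.symm hχ0)
  have h2 := key ψ (SameBlock.trans hM (SameBlock.symm hχ0) h)
  exact SameBlock.trans hM' (SameBlock.symm h1) h2

theorem sameBlock_indep' [Finite G] (hM : IsPModular p M) (χ ψ : IrrCharacter G)
    (h : SameBlock M (χ : G → ℂ) (ψ : G → ℂ)) (M' : Ideal AlgInt) (hM' : IsPModular p M') (g : G) :
    ∃ r : AlgInt, r ∈ M' ∧ (r : ℂ) = centralChar (χ : G → ℂ) g - centralChar (ψ : G → ℂ) g := by
  haveI := Fintype.ofFinite G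
  haveI := Fintype.ofFinite (IrrCharacter G)
  have h1 := sameBlock_indep hM h hM' g
  have h2 : IsIntegral ℤ (centralChar (χ : G → ℂ) g - centralChar (ψ : G → ℂ) g) :=
    (isIntegral_centralChar χ g).sub (isIntegral_centralChar ψ g)
  refine ⟨⟨_, h2⟩, ?_, rfl⟩
  exact (memLocalIdeal_coe_iff hM' _).mp h1

theorem regPair_self_eq_zero [Fintype G] (f : G → ℂ) (hf : ∀ g, f g⁻¹ = conj (f g)) (h : regPair p f f = 0) :
    ∀ g, ¬ p ∣ orderOf g → f g = 0 := by
  classical
  unfold regPair at h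
  have e : ∀ g : G, regInd p G g * f g⁻¹ * f g
      = (((if p ∣ orderOf g then 0 else 1) * Complex.normSq (f g) : ℝ) : ℂ) := by
    intro g
    rw [hf g, mul_assoc, mul_comm (conj (f g)), Complex.mul_conj]
    unfold regInd
    split_ifs <;> simp
  simp only [e] at h
  rw [← Complex.ofReal_sum] at h
  have h2 : ∑ g : G, ((if p ∣ orderOf g then 0 else 1) * Complex.normSq (f g) : ℝ) = 0 := by exact_mod_cast h
  rw [Finset.sum_eq_zero_iff_of_nonneg] at h2
  · intro g hg
    have := h2 g (Finset.mem_univ g)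
    rw [if_neg hg, one_mul] at this
    exact Complex.normSq_eq_zero.mp this
  · intro g _
    split_ifs
    · simp
    · rw [one_mul]; exact Complex.normSq_nonneg _

theorem regPair_sub_smul [Fintype G] (a b : G → ℂ) (s : ℂ) :
    regPair p (fun g => a g - s * b g) (fun g => a g - s * b g)
      = regPair p a a - s * regPair p a b - s * regPair p b a + s ^ 2 * regPair p b b := by
  unfold regPair
  rw [Finset.mul_sum, Finset.mul_sum, Finset.mul_sum, ← Finset.sum_sub_distrib, ← Finset.sum_sub_distrib,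
    ← Finset.sum_add_distrib]
  apply Finset.sum_congr rfl; intro g _
  ring

/-- a `2`-block of defect one -/
theorem two_block_defect_one [Finite G] (hM : IsPModular 2 M) (B : Set (IrrCharacter G)) (hB : IsPBlock M B)
    (hd : blockDefect 2 B = 1) :
    Nat.card B = 2 ∧ ∀ χ ∈ B, ∀ ψ ∈ B, ∀ g : G, ¬ 2 ∣ orderOf g → (χ : G → ℂ) g = (ψ : G → ℂ) g := by
  classical
  haveI : Fact (Nat.Prime 2) := ⟨Nat.prime_two⟩
  haveI := Fintype.ofFinite G
  haveI := Fintype.ofFinite (IrrCharacter G)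
  have hht : ∀ χ ∈ B, blockHeight 2 B (χ : G → ℂ) = 0 := fun χ hχ =>
    ((brauer_feit_complement hM B hB 1 hd).2 χ hχ).1 le_rfl
  set s := sInf ((fun χ : IrrCharacter G => (charDegree (χ : G → ℂ)).factorization 2) '' B) with hs
  have hval : ∀ χ ∈ B, (charDegree (χ : G → ℂ)).factorization 2 = s := by
    intro χ hχ
    have := val_eq_add_height (p := 2) B χ hχ
    rw [hht χ hχ, add_zero] at this
    exact this
  -- the basic analysis for a base character
  have base : ∀ χ ∈ B, ∃ u : IrrCharacter G → ℤ, (∀ ξ, rN 2 χ ξ = (2 : ℤ) ^ s * u ξ) ∧ u χ = 1 ∧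
      ∑ ξ ∈ Finset.univ.erase χ, u ξ ^ 2 = 1 ∧ (∀ ξ ∈ B, u ξ ≠ 0) ∧ (∀ ξ, ξ ∉ B → u ξ = 0) := by
    intro χ hχ
    obtain ⟨u, hu, hsum⟩ := bf_core (p := 2) χ
    have va := card_val_eq (p := 2) B χ hχ
    rw [hval χ hχ] at hu hsum
    have e1 : (Nat.card G).factorization 2 - s = 1 := by omega
    rw [e1, pow_one] at hsum
    have hodd : ∀ ξ ∈ B, ¬ (2 : ℤ) ∣ u ξ := by
      intro ξ hξ hdvd
      apply rN_not_dvd hM B hB χ hχ (hht χ hχ) ξ hξ
      rw [hval ξ hξ, hu ξ, pow_succ]
      exact mul_dvd_mul_left _ hdvd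
    have hzero : ∀ ξ, ξ ∉ B → u ξ = 0 := by
      intro ξ hξ
      have h1 := rN_eq_zero hM χ ξ (fun h => hξ (by rw [IsPBlock.eq_blockOf hM hB hχ]; exact h))
      rw [hu ξ] at h1
      rcases mul_eq_zero.mp h1 with h2 | h2
      · exact absurd h2 (pow_ne_zero _ (by norm_num))
      · exact h2
    have hsplit : u χ ^ 2 + ∑ ξ ∈ Finset.univ.erase χ, u ξ ^ 2 = 2 * u χ := by
      rw [Finset.add_sum_erase Finset.univ (fun ξ => u ξ ^ 2) (Finset.mem_univ χ)]
      exact_mod_cast hsum
    have hnn : 0 ≤ ∑ ξ ∈ Finset.univ.erase χ, u ξ ^ 2 := Finset.sum_nonneg (fun ξ _ => sq_nonneg _)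
    have hu1 : u χ = 1 := by
      have h1 := hodd χ hχ
      have h2 : u χ ^ 2 ≤ 2 * u χ := by omega
      have h3 : 0 ≤ u χ := by nlinarith [sq_nonneg (u χ)]
      have h4 : u χ ≤ 2 := by nlinarith
      interval_cases h5 : u χ
      · exact absurd (dvd_zero _) h1
      · rfl
      · exact absurd (dvd_refl _) h1
    refine ⟨u, by exact_mod_cast hu, hu1, ?_, ?_, hzero⟩
    · rw [hu1] at hsplit; omega
    · intro ξ hξ h0
      apply hodd ξ hξ
      rw [h0]; exact dvd_zero _
  obtain ⟨χ0, hχ0⟩ : B.Nonempty := by obtain ⟨ξ0, h⟩ := hB; rw [h]; exact ⟨ξ0, SameBlock.refl hM _⟩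
  constructor
  · obtain ⟨u, hu, hu1, hsum, hne, hzero⟩ := base χ0 hχ0
    have hcard : Nat.card B = (Set.toFinite B).toFinset.card := by
      rw [Nat.card_coe_set_eq, Set.ncard_eq_toFinset_card B (Set.toFinite B)]
    set S := (Set.toFinite B).toFinset with hS
    have hSm : ∀ ξ, ξ ∈ S ↔ ξ ∈ B := fun ξ => Set.Finite.mem_toFinset _
    have h1 : ∑ ξ ∈ Finset.univ.erase χ0, u ξ ^ 2 = ∑ ξ ∈ S.erase χ0, u ξ ^ 2 := by
      symm
      apply Finset.sum_subset (Finset.erase_subset_erase _ (Finset.subset_univ _))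
      intro ξ hξ hξ2
      have : ξ ∉ B := by
        intro hB'
        apply hξ2
        rw [Finset.mem_erase] at hξ ⊢
        exact ⟨hξ.1, (hSm ξ).mpr hB'⟩
      rw [hzero ξ this]; simp
    have h2 : ((S.erase χ0).card : ℤ) ≤ ∑ ξ ∈ S.erase χ0, u ξ ^ 2 := by
      have : ∀ ξ ∈ S.erase χ0, (1 : ℤ) ≤ u ξ ^ 2 := by
        intro ξ hξ
        have h3 := hne ξ ((hSm ξ).mp (Finset.mem_of_mem_erase hξ))
        have := sq_nonneg (u ξ)
        have h4 : u ξ ^ 2 ≠ 0 := pow_ne_zero 2 h3
        omega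
      have := Finset.sum_le_sum this
      simpa using this
    have h3 : (S.erase χ0).card ≠ 0 := by
      intro h0
      rw [Finset.card_eq_zero] at h0
      rw [h1, h0] at hsum
      simp at hsum
    have h4 := Finset.card_erase_of_mem ((hSm χ0).mpr hχ0)
    have h5 : 1 ≤ S.card := Finset.card_pos.mpr ⟨χ0, (hSm χ0).mpr hχ0⟩
    rw [h1] at hsum
    rw [hcard]
    omega
  · intro χ hχ ψ hψ g hg
    by_cases hne : χ = ψ
    · rw [hne]
    obtain ⟨u, hu, hu1, hsum, hne0, hzero⟩ := base χ hχ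
    obtain ⟨u', hu', hu1', _, _, _⟩ := base ψ hψ
    have hψsq : u ψ ^ 2 = 1 := by
      have h1 : u ψ ^ 2 ≤ ∑ ξ ∈ Finset.univ.erase χ, u ξ ^ 2 :=
        Finset.single_le_sum (f := fun ξ => u ξ ^ 2) (fun ξ _ => sq_nonneg _)
          (Finset.mem_erase.mpr ⟨Ne.symm hne, Finset.mem_univ _⟩)
      have h3 := hne0 ψ hψ
      have := sq_nonneg (u ψ)
      have h4 : u ψ ^ 2 ≠ 0 := pow_ne_zero 2 h3
      omega
    have hχc := IsIrrCharacter.isCharacter χ.2
    have hψc := IsIrrCharacter.isCharacter ψ.2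
    have hzero2 : regPair 2 (fun g => (χ : G → ℂ) g - (u ψ : ℂ) * (ψ : G → ℂ) g)
        (fun g => (χ : G → ℂ) g - (u ψ : ℂ) * (ψ : G → ℂ) g) = 0 := by
      rw [regPair_sub_smul, regPair_comm (ψ : G → ℂ) (χ : G → ℂ), regPair_eq_rN, regPair_eq_rN, regPair_eq_rN,
        hu χ, hu ψ, hu' ψ, hu1, hu1']
      have : ((u ψ : ℤ) : ℂ) ^ 2 = 1 := by exact_mod_cast hψsq
      push_cast
      linear_combination (-((Nat.card G / 2 ^ (Nat.card G).factorization 2 : ℕ) : ℂ) * (2 : ℂ) ^ s) * this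
    have hvan := regPair_self_eq_zero (p := 2) _ (by
      intro g
      simp only [map_sub, map_mul, map_intCast]
      rw [IsCharacter.inv_eq_conj hχc, IsCharacter.inv_eq_conj hψc]) hzero2
    have h1 := hvan 1 (by simp)
    obtain ⟨d, hd0, hd1, _⟩ := IrrCharacter.exists_degree χ
    obtain ⟨e, he0, he1, _⟩ := IrrCharacter.exists_degree ψ
    have hu2 : u ψ = 1 := by
      have h2 : u ψ = 1 ∨ u ψ = -1 := by
        have : (u ψ - 1) * (u ψ + 1) = 0 := by ring_nf; omega
        rcases mul_eq_zero.mp this with h | h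
        · left; omega
        · right; omega
      rcases h2 with h2 | h2
      · exact h2
      · exfalso
        rw [h2, hd1, he1] at h1
        have : ((d + e : ℕ) : ℂ) = 0 := by push_cast; push_cast at h1; linear_combination h1
        have : d + e = 0 := by exact_mod_cast this
        omega
    have h3 := hvan g hg
    rw [hu2] at h3
    push_cast at h3
    linear_combination h3

theorem sum_indicator_pair {α : Type*} [Fintype α] {a b : α} (hab : a ≠ b) (F : α → ℂ) :
    ∑ z : α, ({a, b} : Set α).indicator 1 z * F z = F a + F b := by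
  rw [← finsum_mem_eq_sum_indicator, finsum_mem_pair hab]

theorem fmt_B_unique' [Finite G] [Fact p.Prime] (hM : IsPModular p M) (D : Subgroup G) (hD : IsPGroup p D)
    (B : Set (IrrCharacter G)) (H : Subgroup G) (hH : H = Subgroup.normalizer (D : Set G))
    (b₁ b₂ : Set (IrrCharacter H)) (hD1 : IsDefectGroup p M b₁ (D.subgroupOf H))
    (hi1 : IsInducedBlock M H b₁ B) (hi2 : IsInducedBlock M H b₂ B) : b₁ = b₂ := by
  subst hH
  exact fmt_B_unique hM D hD B b₁ b₂ hD1 hi1 hi2

theorem normalizer_zpowers_of_order_two (x : G) (hx : orderOf x = 2) :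
    Subgroup.centralizer ({x} : Set G) = Subgroup.normalizer ((Subgroup.zpowers x : Subgroup G) : Set G) := by
  have hx2 : x ^ 2 = 1 := by rw [← hx]; exact pow_orderOf_eq_one x
  have hx1 : x ≠ 1 := by
    intro h; rw [h, orderOf_one] at hx; omega
  ext g
  rw [mem_centralizer_singleton_iff, Subgroup.mem_normalizer_iff]
  constructor
  · intro hg h
    have hcomm : ∀ h ∈ Subgroup.zpowers x, g * h * g⁻¹ = h := by
      rintro _ ⟨n, rfl⟩
      have : Commute x g := hg
      have h2 : Commute (x ^ n) g := this.zpow_left n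
      simp only
      rw [← h2.eq, mul_assoc, mul_inv_cancel, mul_one]
    constructor
    · intro hh
      show g * h * g⁻¹ ∈ Subgroup.zpowers x
      rw [hcomm h hh]; exact hh
    · intro hh
      have hh' : g * h * g⁻¹ ∈ Subgroup.zpowers x := hh
      have h3 : g⁻¹ * (g * h * g⁻¹) * g = h := by group
      obtain ⟨n, hn⟩ := hh'
      have : Commute x g := hg
      have h2 : Commute (x ^ n) g := this.zpow_left n
      show h ∈ Subgroup.zpowers x
      rw [← h3, ← hn]
      simp only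
      rw [mul_assoc, h2.eq, ← mul_assoc, inv_mul_cancel, one_mul]
      exact ⟨n, rfl⟩
  · intro hg
    have h1 : g * x * g⁻¹ ∈ Subgroup.zpowers x := (hg x).mp (Subgroup.mem_zpowers x)
    obtain ⟨n, hn⟩ := h1
    simp only at hn
    rcases Int.even_or_odd' n with ⟨k, hk | hk⟩
    · exfalso
      rw [hk, zpow_mul, zpow_ofNat, hx2, one_zpow] at hn
      apply hx1
      have : x = g⁻¹ * (g * x * g⁻¹) * g := by group
      rw [this, ← hn]; group
    · rw [hk, zpow_add, zpow_mul, zpow_ofNat, hx2, one_zpow, one_mul, zpow_one] at hn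
      calc x * g = g * x * g⁻¹ * g := by rw [← hn]
        _ = g * x := by group

end BF5
end Cfsg.Agent.H4
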