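import Cfsg.Agent.Lib_helper4_BlkAC

set_option autoImplicit false
set_option linter.style.haveILetI false
set_option linter.unusedSectionVars false
namespace Cfsg.Agent.H4
open Module
open scoped ComplexConjugate
universe u v w

section BF6
variable {p : ℕ} {M : Ideal AlgInt} {G : Type u} [Group G]

theorem two_block_defect_group_order_two [Finite G] (hM : IsPModular 2 M) (x : G) (hx : orderOf x = 2)
    (B : Set (IrrCharacter G)) (hB : IsPBlock M B) (hBD : IsDefectGroup 2 M B (Subgroup.zpowers x))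
    (b : Set (IrrCharacter (Subgroup.centralizer ({x} : Set G))))
    (hb : IsInducedBlock M (Subgroup.centralizer ({x} : Set G)) b B)
    (θ : IrrCharacter (Subgroup.centralizer ({x} : Set G))) (hθ : θ ∈ b) :
    Nat.card B = 2 ∧ (∀ χ ∈ B, ∀ ψ ∈ B, ∀ g : G, ¬ 2 ∣ orderOf g → (χ : G → ℂ) g = (ψ : G → ℂ) g) ∧
      ∃ χ₁ ∈ B, ∃ χ₂ ∈ B, χ₁ ≠ χ₂ ∧ ∃ ε₁ ε₂ : ℤ, (ε₁ = 1 ∨ ε₁ = -1) ∧ (ε₂ = 1 ∨ ε₂ = -1) ∧ ε₁ * ε₂ = -1 ∧
        ∀ y : Subgroup.centralizer ({x} : Set G), ¬ 2 ∣ orderOf y →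
          (χ₁ : G → ℂ) (x * y) = (ε₁ : ℂ) * (θ : Subgroup.centralizer ({x} : Set G) → ℂ) y ∧
          (χ₂ : G → ℂ) (x * y) = (ε₂ : ℂ) * (θ : Subgroup.centralizer ({x} : Set G) → ℂ) y := by
  classical
  haveI : Fact (Nat.Prime 2) := ⟨Nat.prime_two⟩
  haveI := Fintype.ofFinite G
  haveI := Fintype.ofFinite (IrrCharacter G)
  haveI := Fintype.ofFinite (Subgroup.centralizer ({x} : Set G))
  haveI := Fintype.ofFinite (IrrCharacter (Subgroup.centralizer ({x} : Set G)))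
  have hdB : blockDefect 2 B = 1 := by
    have h1 := defect_group_card hM B hB _ hBD
    rw [Nat.card_zpowers, hx] at h1
    have : (2 : ℕ) ^ 1 = 2 ^ blockDefect 2 B := by rw [pow_one]; exact h1
    exact (Nat.pow_right_injective (le_refl 2) this).symm
  obtain ⟨hcB, hagB⟩ := two_block_defect_one hM B hB hdB
  have hxC : x ∈ Subgroup.centralizer ({x} : Set G) := by rw [mem_centralizer_singleton_iff]
  -- the defect group of b
  obtain ⟨Db, hDb⟩ := exists_defectGroup hM _ hb.1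
  haveI : (Subgroup.zpowers (⟨x, hxC⟩ : Subgroup.centralizer ({x} : Set G))).Normal := by
    constructor
    rintro _ ⟨n, rfl⟩ c
    have hcx : Commute (⟨x, hxC⟩ : Subgroup.centralizer ({x} : Set G)) c :=
      Subtype.ext ((mem_centralizer_singleton_iff x c).mp c.2)
    have : c * (⟨x, hxC⟩ : Subgroup.centralizer ({x} : Set G)) ^ n * c⁻¹ = ⟨x, hxC⟩ ^ n := by
      rw [← (hcx.zpow_left n).eq]; group
    simp only
    rw [this]
    exact ⟨n, rfl⟩
  have hcz : Nat.card (Subgroup.zpowers (⟨x, hxC⟩ : Subgroup.centralizer ({x} : Set G))) = 2 := by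
    rw [Nat.card_zpowers, ← hx, ← Subgroup.orderOf_coe]
  have hP : IsPGroup 2 (Subgroup.zpowers (⟨x, hxC⟩ : Subgroup.centralizer ({x} : Set G))) := by
    apply IsPGroup.of_card (n := 1)
    rw [hcz, pow_one]
  have hle := normal_pSubgroup_le_defect hM _ hb.1 Db hDb _ hP
  have hcDb := defect_group_card hM _ hb.1 Db hDb
  have hdb1 := induced_blockDefect_le hM _ b B hb
  have hdb : blockDefect 2 b = 1 := by
    have h1 := Nat.le_of_dvd Nat.card_pos (Subgroup.card_dvd_of_le hle)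
    rw [hcz, hcDb] at h1
    by_contra hne
    have h0 : blockDefect 2 b = 0 := by omega
    rw [h0] at h1
    omega
  have hDbeq : Db = Subgroup.zpowers (⟨x, hxC⟩ : Subgroup.centralizer ({x} : Set G)) := by
    symm
    apply Subgroup.eq_of_le_of_card_ge hle
    rw [hcz, hcDb, hdb, pow_one]
  have hsub : (Subgroup.zpowers x).subgroupOf (Subgroup.centralizer ({x} : Set G))
      = Subgroup.zpowers (⟨x, hxC⟩ : Subgroup.centralizer ({x} : Set G)) := by
    ext c
    rw [Subgroup.mem_subgroupOf, Subgroup.mem_zpowers_iff, Subgroup.mem_zpowers_iff]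
    constructor
    · rintro ⟨n, hn⟩; exact ⟨n, Subtype.ext (by simpa using hn)⟩
    · rintro ⟨n, hn⟩; exact ⟨n, by rw [← hn]; simp⟩
  obtain ⟨hcb, hagb⟩ := two_block_defect_one hM b hb.1 hdb
  have hPx : IsPGroup 2 (Subgroup.zpowers x) := by
    apply IsPGroup.of_card (n := 1)
    rw [Nat.card_zpowers, hx, pow_one]
  have h𝔟 : ∀ η, η ∈ b ↔ IsInducedBlock M (Subgroup.centralizer ({x} : Set G))
      (blockOf M (η : Subgroup.centralizer ({x} : Set G) → ℂ)) B := by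
    intro η
    constructor
    · intro h; rw [← IsPBlock.eq_blockOf hM hb.1 h]; exact hb
    · intro h
      rw [fmt_B_unique' hM (Subgroup.zpowers x) hPx B _ (normalizer_zpowers_of_order_two x hx) b _
        (by rw [hsub, ← hDbeq]; exact hDb) hb h]
      exact SameBlock.refl hM _
  have hxo : ∃ k : ℕ, orderOf x = 2 ^ k := ⟨1, by rw [hx, pow_one]⟩
  -- the multiplier
  set dd : IrrCharacter G → ℂ := fun ζ => ∑ η : IrrCharacter (Subgroup.centralizer ({x} : Set G)), b.indicator 1 η *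
      classInner (fun c : Subgroup.centralizer ({x} : Set G) => (ζ : G → ℂ) (x * (c : G))) η.1 with hdd
  have hval : ∀ ζ ∈ B, ∀ y : Subgroup.centralizer ({x} : Set G), ¬ 2 ∣ orderOf y →
      (ζ : G → ℂ) (x * y) = dd ζ * θ.1 y := by
    intro ζ hζ y hy
    have h1 := section_part hM x hxo B hB b h𝔟 y hy ζ
    rw [Set.indicator_of_mem hζ, Pi.one_apply, one_mul] at h1
    rw [← h1, hdd, Finset.sum_mul]
    apply Finset.sum_congr rfl; intro η _
    by_cases hη : η ∈ b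
    · rw [hagb η hη θ hθ y hy]; ring
    · rw [Set.indicator_of_notMem hη]; ring
  rw [Nat.card_coe_set_eq, Set.ncard_eq_two] at hcB hcb
  obtain ⟨χ₁, χ₂, hne, hBeq⟩ := hcB
  obtain ⟨η₁, η₂, hneη, hbeq⟩ := hcb
  have hχ₁ : χ₁ ∈ B := by rw [hBeq]; simp
  have hχ₂ : χ₂ ∈ B := by rw [hBeq]; simp
  have hη₁ : η₁ ∈ b := by rw [hbeq]; simp
  have hη₂ : η₂ ∈ b := by rw [hbeq]; simp
  have h1C : ¬ 2 ∣ orderOf (1 : Subgroup.centralizer ({x} : Set G)) := by simp
  have hθ1 := IsIrrCharacter.apply_one_ne_zero θ.2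
  obtain ⟨t, ht0, ht1, _⟩ := IrrCharacter.exists_degree θ
  have hv1 := hval χ₁ hχ₁ 1 h1C
  have hv2 := hval χ₂ hχ₂ 1 h1C
  simp only [Subgroup.coe_one, mul_one] at hv1 hv2
  -- norm relation
  have E1 := section_norm_sum hM x hxo B hB b h𝔟 1 h1C
  simp only [Subgroup.coe_one, mul_one] at E1
  rw [hBeq, hbeq, sum_indicator_pair hne, sum_indicator_pair hneη, hv1, hv2,
    hagb η₁ hη₁ θ hθ 1 h1C, hagb η₂ hη₂ θ hθ 1 h1C] at E1
  -- orthogonality
  have E2 := block_orthogonality hM x 1 x 1 ⟨1, mul_one x, Commute.one_right x, hxo, by simp⟩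
    ⟨1, mul_one 1, Commute.one_right 1, ⟨0, by simp⟩, by simp⟩ (by
      intro h
      have := isConj_one_left.mp h
      rw [this, orderOf_one] at hx; omega) B hB
  rw [hBeq, finsum_mem_pair hne, inv_one, hv1, hv2, hagB χ₂ hχ₂ χ₁ hχ₁ 1 (by simp)] at E2
  have hχ11 := IsIrrCharacter.apply_one_ne_zero χ₁.2
  have hsum0 : dd χ₁ + dd χ₂ = 0 := by
    have : (dd χ₁ + dd χ₂) * (θ.1 1 * (χ₁ : G → ℂ) 1) = 0 := by linear_combination E2
    rcases mul_eq_zero.mp this with h | h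
    · exact h
    · exact absurd h (mul_ne_zero hθ1 hχ11)
  -- reality
  have hxinv : x⁻¹ = x := by
    have hx2 : x ^ 2 = 1 := by rw [← hx]; exact pow_orderOf_eq_one x
    rw [inv_eq_iff_mul_eq_one, ← sq]; exact hx2
  have hreal : conj (dd χ₁) = dd χ₁ := by
    have h1 := IsCharacter.inv_eq_conj (IsIrrCharacter.isCharacter χ₁.2) x
    rw [hxinv, hv1, map_mul, ht1, map_natCast] at h1
    have ht : (t : ℂ) ≠ 0 := Nat.cast_ne_zero.mpr ht0.ne'
    exact (mul_right_cancel₀ ht h1).symm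
  have hd2 : dd χ₂ = - dd χ₁ := by linear_combination hsum0
  have hsq : dd χ₁ ^ 2 = 1 := by
    rw [hd2] at E1
    simp only [map_mul, map_neg, hreal] at E1
    rw [ht1, map_natCast] at E1
    have ht : (t : ℂ) ^ 2 ≠ 0 := pow_ne_zero 2 (Nat.cast_ne_zero.mpr ht0.ne')
    have : (2 * (t : ℂ) ^ 2) * (dd χ₁ ^ 2 - 1) = 0 := by linear_combination E1
    rcases mul_eq_zero.mp this with h | h
    · exact absurd h (mul_ne_zero two_ne_zero ht)
    · linear_combination h
  have hpm : dd χ₁ = 1 ∨ dd χ₁ = -1 := by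
    have : (dd χ₁ - 1) * (dd χ₁ + 1) = 0 := by linear_combination hsq
    rcases mul_eq_zero.mp this with h | h
    · left; linear_combination h
    · right; linear_combination h
  refine ⟨by rw [Nat.card_coe_set_eq, Set.ncard_eq_two]; exact ⟨χ₁, χ₂, hne, hBeq⟩, hagB, χ₁, hχ₁, χ₂, hχ₂, hne, ?_⟩
  rcases hpm with h | h
  · refine ⟨1, -1, Or.inl rfl, Or.inr rfl, by norm_num, ?_⟩
    intro y hy
    rw [hval χ₁ hχ₁ y hy, hval χ₂ hχ₂ y hy, hd2, h]
    push_cast
    exact ⟨rfl, rfl⟩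
  · refine ⟨-1, 1, Or.inr rfl, Or.inl rfl, by norm_num, ?_⟩
    intro y hy
    rw [hval χ₁ hχ₁ y hy, hval χ₂ hχ₂ y hy, hd2, h]
    push_cast
    exact ⟨rfl, by rw [neg_neg]⟩

end BF6
end Cfsg.Agent.H4
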