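import Cfsg.Agent.Lib_helper4_BlkAD

set_option autoImplicit false
set_option linter.style.haveILetI false
set_option linter.unusedSectionVars false
namespace Cfsg.Agent.H4
open Module
open scoped ComplexConjugate
universe u v w

section Rank
variable {p : ℕ} {M : Ideal AlgInt} {G : Type u} [Group G]

/-- the linear functional `θ ↦ [θ, χ]` -/
noncomputable def innerL [Fintype G] (χ : G → ℂ) : (G → ℂ) →ₗ[ℂ] ℂ where
  toFun θ := classInner θ χ
  map_add' a b := classInner_add_left a b χ
  map_smul' r a := classInner_smul_left r a χ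

theorem innerL_apply [Fintype G] (χ θ : G → ℂ) : innerL χ θ = classInner θ χ := rfl

/-- the projection onto the span of the `χ°`, `χ ∈ B` -/
noncomputable def projB (p : ℕ) [Fintype G] [Fintype (IrrCharacter G)] (B : Set (IrrCharacter G)) :
    (G → ℂ) →ₗ[ℂ] (G → ℂ) :=
  ∑ χ : IrrCharacter G, (B.indicator 1 χ : ℂ) • (innerL (χ : G → ℂ)).smulRight (pRegularPart p (χ : G → ℂ))

theorem projB_apply [Fintype G] [Fintype (IrrCharacter G)] (B : Set (IrrCharacter G)) (θ : G → ℂ) :
    projB p B θ = ∑ χ : IrrCharacter G, (B.indicator 1 χ * classInner θ (χ : G → ℂ)) • pRegularPart p (χ : G → ℂ) := by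
  unfold projB
  rw [LinearMap.sum_apply]
  apply Finset.sum_congr rfl; intro χ _
  rw [LinearMap.smul_apply, LinearMap.smulRight_apply, innerL_apply, smul_smul]

theorem pRegularPart_isClassFunction {χ : G → ℂ} (hχ : IsClassFunction G χ) :
    IsClassFunction G (pRegularPart p χ) := by
  intro g h
  rw [pRegularPart_eq, pRegularPart_eq, regInd_isClassFunction, hχ]

theorem classInner_pRegularPart [Fintype G] (χ ψ : IrrCharacter G) :
    classInner (pRegularPart p (χ : G → ℂ)) (ψ : G → ℂ) = (Nat.card G : ℂ)⁻¹ * regPair p (ψ : G → ℂ) (χ : G → ℂ) := by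
  unfold classInner regPair
  congr 1
  apply Finset.sum_congr rfl; intro g _
  rw [pRegularPart_eq, IsCharacter.inv_eq_conj (IsIrrCharacter.isCharacter ψ.2)]
  ring

theorem pRegularPart_expansion [Fintype G] [Fintype (IrrCharacter G)] (hM : IsPModular p M)
    (B : Set (IrrCharacter G)) (hB : IsPBlock M B) (ψ : IrrCharacter G) (hψ : ψ ∈ B) :
    pRegularPart p (ψ : G → ℂ) = ∑ χ : IrrCharacter G,
      (B.indicator 1 χ * classInner (pRegularPart p (ψ : G → ℂ)) (χ : G → ℂ)) • (χ : G → ℂ) := by
  conv_lhs => rw [classFunction_expansion' _ (pRegularPart_isClassFunction (p := p) (IrrCharacter.isClassFunction ψ))]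
  apply Finset.sum_congr rfl; intro χ _
  by_cases hχ : χ ∈ B
  · rw [Set.indicator_of_mem hχ, Pi.one_apply, one_mul]
  · rw [Set.indicator_of_notMem hχ, zero_mul, classInner_pRegularPart, regPair_eq_zero hM χ ψ (fun h => hχ (by
      rw [IsPBlock.eq_blockOf hM hB hψ]; exact SameBlock.symm h)), mul_zero]

theorem pRegularPart_idem (f : G → ℂ) : pRegularPart p (pRegularPart p f) = pRegularPart p f := by
  funext g
  rw [pRegularPart_eq, pRegularPart_eq, ← mul_assoc]
  congr 1
  unfold regInd; split_ifs <;> simp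

theorem pRegularPart_sum {ι : Type*} (s : Finset ι) (c : ι → ℂ) (f : ι → G → ℂ) :
    pRegularPart p (∑ i ∈ s, c i • f i) = ∑ i ∈ s, c i • pRegularPart p (f i) := by
  funext g
  rw [pRegularPart_eq]
  simp only [Finset.sum_apply, Pi.smul_apply, smul_eq_mul, Finset.mul_sum, pRegularPart_eq]
  apply Finset.sum_congr rfl; intro i _
  ring

theorem projB_isProj [Fintype G] [Fintype (IrrCharacter G)] (hM : IsPModular p M)
    (B : Set (IrrCharacter G)) (hB : IsPBlock M B) :
    LinearMap.IsProj (Submodule.span ℂ ((fun χ : IrrCharacter G => pRegularPart p (χ : G → ℂ)) '' B)) (projB p B) := by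
  constructor
  · intro θ
    rw [projB_apply]
    apply Submodule.sum_mem
    intro χ _
    by_cases hχ : χ ∈ B
    · exact Submodule.smul_mem _ _ (Submodule.subset_span ⟨χ, hχ, rfl⟩)
    · rw [Set.indicator_of_notMem hχ, zero_mul, zero_smul]; exact Submodule.zero_mem _
  · intro w hw
    induction hw using Submodule.span_induction with
    | mem x hx =>
      obtain ⟨ψ, hψ, rfl⟩ := hx
      simp only
      rw [projB_apply]
      conv_rhs => rw [← pRegularPart_idem, pRegularPart_expansion hM B hB ψ hψ, pRegularPart_sum]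
    | zero => exact map_zero _
    | add x y _ _ hx hy => rw [map_add, hx, hy]
    | smul a x _ hx => rw [map_smul, hx]

/-- the trace formula for the `p`-regular rank -/
theorem blockRank_eq_sum [Fintype G] [Fintype (IrrCharacter G)] (hM : IsPModular p M)
    (B : Set (IrrCharacter G)) (hB : IsPBlock M B) :
    (blockRank p B : ℂ) = ∑ χ : IrrCharacter G, B.indicator 1 χ *
      classInner (pRegularPart p (χ : G → ℂ)) (χ : G → ℂ) := by
  have h := (projB_isProj hM B hB).trace
  unfold blockRank
  rw [← h]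
  unfold projB
  rw [map_sum]
  apply Finset.sum_congr rfl; intro χ _
  rw [map_smul, LinearMap.trace_smulRight, innerL_apply, smul_eq_mul]

theorem card_mul_blockRank [Fintype G] (hM : IsPModular p M) (B : Set (IrrCharacter G)) (hB : IsPBlock M B) :
    (Nat.card G : ℂ) * (blockRank p B : ℂ)
      = ∑ x : G, ∑ᶠ χ ∈ B, pRegularPart p (χ : G → ℂ) x * (χ : G → ℂ) x⁻¹ := by
  haveI := Fintype.ofFinite (IrrCharacter G)
  have hG : (Nat.card G : ℂ) ≠ 0 := card_ne_zero_C
  rw [blockRank_eq_sum hM B hB, Finset.mul_sum]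
  simp_rw [finsum_mem_eq_sum_indicator]
  rw [Finset.sum_comm]
  apply Finset.sum_congr rfl; intro χ _
  unfold classInner
  rw [← Finset.mul_sum]
  have : ∑ g : G, pRegularPart p (χ : G → ℂ) g * conj ((χ : G → ℂ) g)
      = ∑ g : G, pRegularPart p (χ : G → ℂ) g * (χ : G → ℂ) g⁻¹ := by
    apply Finset.sum_congr rfl; intro g _
    rw [IsCharacter.inv_eq_conj (IsIrrCharacter.isCharacter χ.2)]
  rw [this]
  field_simp

end Rank
end Cfsg.Agent.H4
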