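import Cfsg.Agent.Lib_helper4_BlkAE

set_option autoImplicit false
set_option linter.style.haveILetI false
set_option linter.unusedSectionVars false
namespace Cfsg.Agent.H4
open Module
open scoped ComplexConjugate
universe u v w

section Rank2
variable {p : ℕ} {M : Ideal AlgInt} {G : Type u} [Group G]

theorem classInner_pRegularPart_eq_rN [Fact p.Prime] [Fintype G] (χ ψ : IrrCharacter G) :
    ((p ^ (Nat.card G).factorization p : ℕ) : ℂ) * classInner (pRegularPart p (χ : G → ℂ)) (ψ : G → ℂ)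
      = (rN p χ ψ : ℂ) := by
  rw [← rN_spec, ← classInner_smul_left]
  congr 1
  funext g
  rw [tildeFun_eq, Pi.smul_apply, pRegularPart_eq, smul_eq_mul]

theorem pow_mul_blockRank [Fact p.Prime] [Fintype G] [Fintype (IrrCharacter G)] (hM : IsPModular p M)
    (B : Set (IrrCharacter G)) (hB : IsPBlock M B) (S : Finset (IrrCharacter G)) (hS : ∀ ξ, ξ ∈ S ↔ ξ ∈ B) :
    ((p : ℤ) ^ (Nat.card G).factorization p) * (blockRank p B : ℤ) = ∑ χ ∈ S, rN p χ χ := by
  classical
  have h := blockRank_eq_sum hM B hB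
  have h2 : (((p : ℤ) ^ (Nat.card G).factorization p * (blockRank p B : ℤ) : ℤ) : ℂ) = ((∑ χ ∈ S, rN p χ χ : ℤ) : ℂ) := by
    push_cast
    rw [h, Finset.mul_sum, ← Finset.sum_subset (Finset.subset_univ S)]
    · apply Finset.sum_congr rfl; intro χ hχ
      rw [Set.indicator_of_mem ((hS χ).mp hχ), Pi.one_apply, one_mul, ← classInner_pRegularPart_eq_rN]
      push_cast; rfl
    · intro χ _ hχ
      rw [Set.indicator_of_notMem (fun h => hχ ((hS χ).mpr h)), zero_mul, mul_zero]
  exact_mod_cast h2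

theorem rN_self_le [Fact p.Prime] [Fintype G] [Fintype (IrrCharacter G)] (χ : IrrCharacter G) :
    rN p χ χ ≤ (p : ℤ) ^ (Nat.card G).factorization p := by
  classical
  have h := sum_rN_sq (p := p) χ
  have h1 : rN p χ χ ^ 2 ≤ ∑ ψ : IrrCharacter G, rN p χ ψ ^ 2 :=
    Finset.single_le_sum (f := fun ψ => rN p χ ψ ^ 2) (fun ξ _ => sq_nonneg _) (Finset.mem_univ χ)
  rw [h] at h1
  by_contra hc
  push Not at hc
  have hp : p.Prime := Fact.out
  have hpos : (0 : ℤ) < (p : ℤ) ^ (Nat.card G).factorization p := pow_pos (by exact_mod_cast hp.pos) _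
  nlinarith

theorem full_val_iff [Finite G] (hp : p.Prime) (χ : IrrCharacter G) :
    ¬ p ∣ Nat.card G / charDegree (χ : G → ℂ) ↔
      (Nat.card G).factorization p ≤ (charDegree (χ : G → ℂ)).factorization p := by
  haveI := Fintype.ofFinite G
  obtain ⟨n, hn0, hn1, hn2⟩ := IsIrrCharacter.exists_degree χ.2
  rw [charDegree_eq hn2]
  obtain ⟨c, hc⟩ := hn1
  have hc0 : c ≠ 0 := by rintro rfl; simp at hc
  rw [hc, Nat.mul_div_cancel_left _ hn0, Nat.factorization_mul hn0.ne' hc0]
  have h3 := hp.dvd_iff_one_le_factorization hc0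
  rw [h3]
  simp only [Finsupp.coe_add, Pi.add_apply]
  omega

theorem defect_zero_iff_card_one [Fact p.Prime] [Finite G] (hM : IsPModular p M) (B : Set (IrrCharacter G))
    (hB : IsPBlock M B) : blockDefect p B = 0 ↔ ∃ χ, B = {χ} := by
  have hp : p.Prime := Fact.out
  constructor
  · intro hd
    obtain ⟨χ, hχ, h0⟩ := exists_height_zero hM B hB
    refine ⟨χ, ?_⟩
    rw [IsPBlock.eq_blockOf hM hB hχ]
    apply (defect_zero_iff_singleton hM χ).mp
    rw [full_val_iff hp]
    have v1 := val_eq_add_height (p := p) B χ hχ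
    have v2 := card_val_eq (p := p) B χ hχ
    omega
  · rintro ⟨χ, rfl⟩
    have hχ : χ ∈ ({χ} : Set (IrrCharacter G)) := rfl
    have h1 : blockOf M (χ : G → ℂ) = {χ} := (IsPBlock.eq_blockOf hM hB hχ).symm
    have h2 := (full_val_iff hp χ).mp ((defect_zero_iff_singleton hM χ).mpr h1)
    unfold blockDefect
    rw [Set.image_singleton, csInf_singleton]
    omega

theorem pRegularPart_ne_zero [Finite G] (hp : p.Prime) (χ : IrrCharacter G) : pRegularPart p (χ : G → ℂ) ≠ 0 := by
  intro h
  have h1 := congrFun h 1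
  rw [pRegularPart_eq] at h1
  unfold regInd at h1
  simp only [orderOf_one, Nat.dvd_one, hp.one_lt.ne', if_false, one_mul, Pi.zero_apply] at h1
  exact IsIrrCharacter.apply_one_ne_zero χ.2 h1

theorem blockRank_le_card_and_defect_zero [Fact p.Prime] [Finite G] (hM : IsPModular p M)
    (B : Set (IrrCharacter G)) (hB : IsPBlock M B) :
    blockRank p B ≤ Nat.card B ∧ (blockDefect p B = 0 ↔ (Nat.card B = 1 ∧ blockRank p B = 1)) ∧
      (blockDefect p B = 0 ↔ Nat.card B = blockRank p B) := by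
  classical
  haveI := Fintype.ofFinite G
  haveI := Fintype.ofFinite (IrrCharacter G)
  have hp : p.Prime := Fact.out
  have h1 : blockRank p B ≤ Nat.card B := by
    unfold blockRank
    haveI := Fintype.ofFinite ((fun χ : IrrCharacter G => pRegularPart p (χ : G → ℂ)) '' B)
    refine (finrank_span_le_card _).trans ?_
    rw [← Set.ncard_eq_toFinset_card', Nat.card_coe_set_eq]
    exact Set.ncard_image_le (Set.toFinite B)
  have h2 : blockDefect p B = 0 → (Nat.card B = 1 ∧ blockRank p B = 1) := by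
    intro hd
    obtain ⟨χ, rfl⟩ := (defect_zero_iff_card_one hM B hB).mp hd
    refine ⟨by simp, ?_⟩
    unfold blockRank
    rw [Set.image_singleton]
    exact finrank_span_singleton (pRegularPart_ne_zero hp χ)
  refine ⟨h1, ⟨h2, ?_⟩, ⟨fun hd => by rw [(h2 hd).1, (h2 hd).2], ?_⟩⟩
  · rintro ⟨hc, _⟩
    rw [Nat.card_coe_set_eq, Set.ncard_eq_one] at hc
    exact (defect_zero_iff_card_one hM B hB).mpr hc
  · intro hkl
    set S := (Set.toFinite B).toFinset with hS
    have hSm : ∀ ξ, ξ ∈ S ↔ ξ ∈ B := fun ξ => Set.Finite.mem_toFinset _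
    have hcard : Nat.card B = S.card := by
      rw [Nat.card_coe_set_eq, Set.ncard_eq_toFinset_card B (Set.toFinite B)]
    have h3 := pow_mul_blockRank hM B hB S hSm
    rw [← hkl, hcard] at h3
    obtain ⟨χ, hχ, h0⟩ := exists_height_zero hM B hB
    -- all rN χ χ equal p^a
    have h4 : rN p χ χ = (p : ℤ) ^ (Nat.card G).factorization p := by
      by_contra hne
      have hlt : rN p χ χ < (p : ℤ) ^ (Nat.card G).factorization p := lt_of_le_of_ne (rN_self_le χ) hne
      have : ∑ ξ ∈ S, rN p ξ ξ < ∑ ξ ∈ S, (p : ℤ) ^ (Nat.card G).factorization p :=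
        Finset.sum_lt_sum (fun ξ _ => rN_self_le ξ) ⟨χ, (hSm χ).mpr hχ, hlt⟩
      rw [Finset.sum_const, nsmul_eq_mul, ← h3] at this
      linarith
    have h5 := rN_not_dvd hM B hB χ hχ h0 χ hχ
    rw [h4] at h5
    have h6 : ¬ ((charDegree (χ : G → ℂ)).factorization p + 1 ≤ (Nat.card G).factorization p) :=
      fun h => h5 (pow_dvd_pow _ h)
    have v1 := val_eq_add_height (p := p) B χ hχ
    have v2 := card_val_eq (p := p) B χ hχ
    omega

theorem regPair_self_nonneg [Fintype G] (f : G → ℂ) (hf : ∀ g, f g⁻¹ = conj (f g)) :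
    ∃ r : ℝ, 0 ≤ r ∧ regPair p f f = (r : ℂ) := by
  classical
  unfold regPair
  have e : ∀ g : G, regInd p G g * f g⁻¹ * f g
      = (((if p ∣ orderOf g then 0 else 1) * Complex.normSq (f g) : ℝ) : ℂ) := by
    intro g
    rw [hf g, mul_assoc, mul_comm (conj (f g)), Complex.mul_conj]
    unfold regInd
    split_ifs <;> simp
  simp only [e]
  rw [← Complex.ofReal_sum]
  refine ⟨_, ?_, rfl⟩
  apply Finset.sum_nonneg
  intro g _
  split_ifs
  · simp
  · rw [one_mul]; exact Complex.normSq_nonneg _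

theorem irr_central_norm [Finite G] (χ : IrrCharacter G) (z : G) (hz : ∀ x : G, x * z = z * x) (g : G) :
    (χ : G → ℂ) (z * g) * conj ((χ : G → ℂ) (z * g)) = (χ : G → ℂ) g * conj ((χ : G → ℂ) g) := by
  haveI := Fintype.ofFinite G
  have hχ1 := IsIrrCharacter.apply_one_ne_zero χ.2
  have hχc := IsIrrCharacter.isCharacter χ.2
  have h1 := irr_central_mul χ.2 z hz z⁻¹
  rw [mul_inv_cancel, IsCharacter.inv_eq_conj hχc] at h1
  rw [irr_central_mul χ.2 z hz g]
  simp only [map_div₀, map_mul]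
  rw [IsCharacter.conj_apply_one hχc]
  have h2 : (χ : G → ℂ) z * conj ((χ : G → ℂ) z) = (χ : G → ℂ) 1 * (χ : G → ℂ) 1 := by
    field_simp at h1
    linear_combination -h1
  field_simp
  linear_combination ((χ : G → ℂ) g * conj ((χ : G → ℂ) g)) * h2

/-- central defect group: `∑_{y reg} |χ(y)|² = |G| / |P|` -/
theorem regPair_self_of_central_defect [Fact p.Prime] [Fintype G] (hM : IsPModular p M)
    (B : Set (IrrCharacter G)) (hB : IsPBlock M B) (P : Subgroup G) (hD : IsDefectGroup p M B P)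
    (hPZ : P ≤ Subgroup.center G) (χ : IrrCharacter G) (hχ : χ ∈ B) :
    (Nat.card P : ℂ) * regPair p (χ : G → ℂ) (χ : G → ℂ) = (Nat.card G : ℂ) := by
  classical
  haveI := Fintype.ofFinite P
  haveI := Fintype.ofFinite (IrrCharacter G)
  have hp : p.Prime := Fact.out
  have hχc := IsIrrCharacter.isCharacter χ.2
  have hPp : IsPGroup p P := IsPGroup.of_card (defect_group_card hM B hB P hD)
  have hcen : ∀ z : P, ∀ x : G, x * (z : G) = (z : G) * x := fun z x => Subgroup.mem_center_iff.mp (hPZ z.2) x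
  have h1 : ∑ z : P, ∑ y : G, regInd p G y * ((χ : G → ℂ) ((z : G) * y) * conj ((χ : G → ℂ) ((z : G) * y)))
      = (Nat.card P : ℂ) * regPair p (χ : G → ℂ) (χ : G → ℂ) := by
    have : ∀ z : P, ∑ y : G, regInd p G y * ((χ : G → ℂ) ((z : G) * y) * conj ((χ : G → ℂ) ((z : G) * y)))
        = regPair p (χ : G → ℂ) (χ : G → ℂ) := by
      intro z
      unfold regPair
      apply Finset.sum_congr rfl; intro y _
      rw [irr_central_norm χ z (hcen z), IsCharacter.inv_eq_conj hχc]; ring
    rw [Finset.sum_congr rfl (fun z _ => this z), Finset.sum_const, Finset.card_univ, nsmul_eq_mul,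
      Nat.card_eq_fintype_card]
  have h2 : ∑ z : P, ∑ y : G, regInd p G y * ((χ : G → ℂ) ((z : G) * y) * conj ((χ : G → ℂ) ((z : G) * y)))
      = ∑ g : G, (χ : G → ℂ) g * conj ((χ : G → ℂ) g) := by
    have : ∀ z : P, ∑ y : G, regInd p G y * ((χ : G → ℂ) ((z : G) * y) * conj ((χ : G → ℂ) ((z : G) * y)))
        = ∑ g : G, regInd p G ((z : G)⁻¹ * g) * ((χ : G → ℂ) g * conj ((χ : G → ℂ) g)) := by
      intro z
      rw [← Equiv.sum_comp (Equiv.mulLeft (z : G))
        (fun g => regInd p G ((z : G)⁻¹ * g) * ((χ : G → ℂ) g * conj ((χ : G → ℂ) g)))]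
      apply Finset.sum_congr rfl; intro y _
      simp only [Equiv.coe_mulLeft, inv_mul_cancel_left]
    rw [Finset.sum_congr rfl (fun z _ => this z), Finset.sum_comm]
    apply Finset.sum_congr rfl; intro g _
    rw [← Finset.sum_mul]
    by_cases hg : (χ : G → ℂ) g = 0
    · rw [hg]; simp
    · obtain ⟨x, hx⟩ := exists_isPPart hp g
      have hxP : x ∈ P := by
        by_contra hxP
        apply hg
        apply vanish_off_defect hM χ g x hx
        intro D' hD'
        rw [← IsPBlock.eq_blockOf hM hB hχ] at hD'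
        obtain ⟨t, ht⟩ := defectGroup_conj hM B hB P D' hD hD'
        rw [ht]
        rintro ⟨w, hw, hwx⟩
        apply hxP
        have hw2 : t * w * t⁻¹ = w := by
          rw [Subgroup.mem_center_iff.mp (hPZ hw) t, mul_assoc, mul_inv_cancel, mul_one]
        have : x = w := by rw [← hwx]; exact hw2
        rw [this]; exact hw
      obtain ⟨y', hxy, hc, _, hy'⟩ := hx
      have : ∑ z : P, regInd p G ((z : G)⁻¹ * g) = 1 := by
        rw [Finset.sum_eq_single (⟨x, hxP⟩ : P)]
        · simp only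
          rw [← hxy, inv_mul_cancel_left]
          unfold regInd; rw [if_neg hy']
        · intro z _ hz
          have e : (z : G)⁻¹ * g = ((z : G)⁻¹ * x) * y' := by rw [← hxy, mul_assoc]
          rw [e]
          unfold regInd
          rw [if_pos]
          apply dvd_orderOf_mul_of_pGroup hp hPp (P.mul_mem (P.inv_mem z.2) hxP) _ hy'
          · exact (Subgroup.mem_center_iff.mp (hPZ (P.mul_mem (P.inv_mem z.2) hxP)) y').symm
          · intro h
            apply hz
            apply Subtype.ext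
            exact (inv_mul_eq_one.mp h)
        · intro h; exact absurd (Finset.mem_univ _) h
      rw [this, one_mul]
  have h3 : ∑ g : G, (χ : G → ℂ) g * conj ((χ : G → ℂ) g) = (Nat.card G : ℂ) := by
    have := irr_orthonormal χ χ
    rw [if_pos rfl] at this
    unfold classInner at this
    have hG : (Nat.card G : ℂ) ≠ 0 := card_ne_zero_C
    field_simp at this
    exact this
  rw [← h1, h2, h3]

theorem blockRank_one_of_central_defect [Fact p.Prime] [Fintype G] (hM : IsPModular p M)
    (B : Set (IrrCharacter G)) (hB : IsPBlock M B) (P : Subgroup G) (hD : IsDefectGroup p M B P)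
    (hPZ : P ≤ Subgroup.center G) : blockRank p B = 1 := by
  classical
  haveI := Fintype.ofFinite (IrrCharacter G)
  have hp : p.Prime := Fact.out
  have hpZ : (p : ℤ) ≠ 0 := by exact_mod_cast hp.pos.ne'
  obtain ⟨χ0, hχ0, hχ00⟩ := exists_height_zero hM B hB
  have va := card_val_eq (p := p) B χ0 hχ0
  set s := sInf ((fun χ : IrrCharacter G => (charDegree (χ : G → ℂ)).factorization p) '' B) with hs
  set m := Nat.card G / p ^ (Nat.card G).factorization p with hm
  have hm1 : p ^ (Nat.card G).factorization p * m = Nat.card G := Nat.ordProj_mul_ordCompl_eq_self _ p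
  have hm0 : (m : ℂ) ≠ 0 := ordCompl_ne_zero_C hp
  have hmpos : 0 < m := by
    rcases Nat.eq_zero_or_pos m with h | h
    · exfalso; apply hm0; rw [h]; simp
    · exact h
  have hself : ∀ χ ∈ B, rN p χ χ = (p : ℤ) ^ s := by
    intro χ hχ
    have h1 := regPair_self_of_central_defect hM B hB P hD hPZ χ hχ
    have hcardC : (Nat.card G : ℂ) = (p : ℂ) ^ (s + blockDefect p B) * (m : ℂ) := by
      rw [← va]; exact_mod_cast hm1.symm
    have e := regPair_eq_rN (p := p) χ χ
    rw [← hm] at e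
    rw [defect_group_card hM B hB P hD, e, hcardC] at h1
    have h2 : ((p : ℂ) ^ blockDefect p B * (m : ℂ)) * (rN p χ χ : ℂ)
        = ((p : ℂ) ^ blockDefect p B * (m : ℂ)) * ((p : ℂ) ^ s) := by
      push_cast at h1
      rw [pow_add] at h1
      linear_combination h1
    have hpC : (p : ℂ) ≠ 0 := by exact_mod_cast hp.pos.ne'
    have h3 := mul_left_cancel₀ (mul_ne_zero (pow_ne_zero _ hpC) hm0) h2
    exact_mod_cast h3
  have hht : ∀ χ ∈ B, blockHeight p B (χ : G → ℂ) = 0 := by
    intro χ hχ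
    by_contra hh
    have h1 := rN_self_dvd_of_pos_height hM B hB χ hχ hh χ hχ
    rw [hself χ hχ, val_eq_add_height (p := p) B χ hχ] at h1
    have h2 : p ^ (s + blockHeight p B (χ : G → ℂ) + 1) ∣ p ^ s := by exact_mod_cast h1
    have h3 := (Nat.pow_dvd_pow_iff_le_right hp.one_lt).mp h2
    omega
  have hprop : ∀ ψ ∈ B, ∃ t : ℂ, pRegularPart p (ψ : G → ℂ) = t • pRegularPart p (χ0 : G → ℂ) := by
    intro ψ hψ
    have hv : (charDegree (ψ : G → ℂ)).factorization p = s := by
      have := val_eq_add_height (p := p) B ψ hψ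
      rw [hht ψ hψ, add_zero] at this; exact this
    obtain ⟨t, ht⟩ := rN_dvd (p := p) χ0 ψ
    rw [hv] at ht
    have ht0 : t ≠ 0 := by
      rintro rfl
      apply rN_not_dvd hM B hB χ0 hχ0 hχ00 ψ hψ
      rw [ht, mul_zero]; exact dvd_zero _
    have hψc := IsIrrCharacter.isCharacter ψ.2
    have hχc := IsIrrCharacter.isCharacter χ0.2
    have hconj : ∀ g, (fun g => (ψ : G → ℂ) g - (t : ℂ) * (χ0 : G → ℂ) g) g⁻¹
        = conj ((fun g => (ψ : G → ℂ) g - (t : ℂ) * (χ0 : G → ℂ) g) g) := by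
      intro g
      simp only [map_sub, map_mul, map_intCast]
      rw [IsCharacter.inv_eq_conj hχc, IsCharacter.inv_eq_conj hψc]
    have hval : regPair p (fun g => (ψ : G → ℂ) g - (t : ℂ) * (χ0 : G → ℂ) g)
        (fun g => (ψ : G → ℂ) g - (t : ℂ) * (χ0 : G → ℂ) g) = (((m : ℤ) * (p : ℤ) ^ s * (1 - t ^ 2) : ℤ) : ℂ) := by
      rw [regPair_sub_smul, regPair_comm (ψ : G → ℂ) (χ0 : G → ℂ), regPair_eq_rN, regPair_eq_rN, regPair_eq_rN,
        hself ψ hψ, hself χ0 hχ0, ht]
      push_cast
      ring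
    obtain ⟨r, hr0, hr⟩ := regPair_self_nonneg (p := p) (fun g => (ψ : G → ℂ) g - (t : ℂ) * (χ0 : G → ℂ) g) hconj
    rw [hval] at hr
    have hr' : (((m : ℤ) * (p : ℤ) ^ s * (1 - t ^ 2) : ℤ) : ℝ) = r := by
      apply Complex.ofReal_injective
      rw [← hr]; push_cast; rfl
    have hnn : (0 : ℤ) ≤ (m : ℤ) * (p : ℤ) ^ s * (1 - t ^ 2) := by
      have : (0 : ℝ) ≤ (((m : ℤ) * (p : ℤ) ^ s * (1 - t ^ 2) : ℤ) : ℝ) := by rw [hr']; exact hr0
      exact_mod_cast this
    have hpos : (0 : ℤ) < (m : ℤ) * (p : ℤ) ^ s :=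
      mul_pos (by exact_mod_cast hmpos) (pow_pos (by exact_mod_cast hp.pos) _)
    have ht2 : t ^ 2 = 1 := by
      have h1 : 0 ≤ 1 - t ^ 2 := by
        by_contra hneg
        push Not at hneg
        nlinarith
      have h2 : 0 < t ^ 2 := by positivity
      omega
    rw [ht2] at hval
    simp only [sub_self, mul_zero, Int.cast_zero] at hval
    have hvan := regPair_self_eq_zero (p := p) (fun g => (ψ : G → ℂ) g - (t : ℂ) * (χ0 : G → ℂ) g) hconj hval
    refine ⟨(t : ℂ), ?_⟩
    funext g
    rw [Pi.smul_apply, pRegularPart_eq, pRegularPart_eq, smul_eq_mul]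
    by_cases hg : p ∣ orderOf g
    · unfold regInd; rw [if_pos hg]; ring
    · have := hvan g hg
      have e : (ψ : G → ℂ) g = (t : ℂ) * (χ0 : G → ℂ) g := by linear_combination this
      rw [e]; ring
  unfold blockRank
  have hspan : Submodule.span ℂ ((fun χ : IrrCharacter G => pRegularPart p (χ : G → ℂ)) '' B)
      = Submodule.span ℂ {pRegularPart p (χ0 : G → ℂ)} := by
    apply le_antisymm
    · rw [Submodule.span_le]
      rintro _ ⟨ψ, hψ, rfl⟩
      obtain ⟨t, ht⟩ := hprop ψ hψ
      simp only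
      rw [ht]
      exact Submodule.smul_mem _ _ (Submodule.mem_span_singleton_self _)
    · rw [Submodule.span_le]
      rintro _ rfl
      exact Submodule.subset_span ⟨χ0, hχ0, rfl⟩
  rw [hspan]
  exact finrank_span_singleton (pRegularPart_ne_zero hp χ0)

end Rank2
end Cfsg.Agent.H4
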