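import Cfsg.Agent.Lib_helper4_BlkAF

set_option autoImplicit false
set_option linter.style.haveILetI false
set_option linter.unusedSectionVars false
namespace Cfsg.Agent.H4
open Module
open scoped ComplexConjugate
universe u v w

section Sect
variable {p : ℕ} {M : Ideal AlgInt} {G : Type u} [Group G]

theorem card_conj_eq' (x w : G) (h : IsConj w x) :
    Nat.card {t : G // t * x * t⁻¹ = w} = Nat.card (Subgroup.centralizer ({x} : Set G)) := by
  obtain ⟨t0, ht0⟩ := isConj_iff.mp h.symm
  apply Nat.card_congr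
  refine ⟨fun t => ⟨t0⁻¹ * t.1, ?_⟩, fun y => ⟨t0 * y.1, ?_⟩, ?_, ?_⟩
  · rw [Subgroup.mem_centralizer_singleton_iff]
    have h1 := t.2
    have h2 : t.1 * x = t0 * x * t0⁻¹ * t.1 := by
      rw [ht0]
      calc t.1 * x = (t.1 * x * t.1⁻¹) * t.1 := by group
        _ = w * t.1 := by rw [h1]
    calc t0⁻¹ * t.1 * x = t0⁻¹ * (t.1 * x) := by group
      _ = t0⁻¹ * (t0 * x * t0⁻¹ * t.1) := by rw [h2]
      _ = x * (t0⁻¹ * t.1) := by group
  · have := Subgroup.mem_centralizer_singleton_iff.mp y.2
    calc t0 * y.1 * x * (t0 * y.1)⁻¹ = t0 * (y.1 * x) * y.1⁻¹ * t0⁻¹ := by group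
      _ = t0 * (x * y.1) * y.1⁻¹ * t0⁻¹ := by rw [this]
      _ = t0 * x * t0⁻¹ := by group
      _ = w := ht0
  · intro x; simp
  · intro y; simp

open Classical in
theorem section_sum [Fintype G] (hp : p.Prime) (X : Finset G)
    (hX : ∀ x ∈ X, ∃ k : ℕ, orderOf x = p ^ k)
    (hXrep : ∀ g : G, (∃ k : ℕ, orderOf g = p ^ k) → ∃! x, x ∈ X ∧ IsConj g x)
    (F : G → ℂ) (hF : IsClassFunction G F) :
    ∑ g, F g = ∑ x ∈ X, (Nat.card G : ℂ) * (Nat.card (Subgroup.centralizer ({x} : Set G)) : ℂ)⁻¹ *
      ∑ y : Subgroup.centralizer ({x} : Set G), regInd p _ y * F (x * (y : G)) := by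
  set a : G → G → ℂ := fun x g => if IsPPart p g x then 1 else 0 with ha
  have hA : ∀ g : G, ∑ x ∈ X, (Nat.card (Subgroup.centralizer ({x} : Set G)) : ℂ)⁻¹ * ∑ t : G, a (t * x * t⁻¹) g = 1 := by
    intro g
    obtain ⟨w, hw⟩ := exists_isPPart hp g
    have hwp : ∃ k : ℕ, orderOf w = p ^ k := by
      obtain ⟨y, -, -, h, -⟩ := hw; exact h
    obtain ⟨x0, ⟨hx0, hc0⟩, huniq⟩ := hXrep w hwp
    have h1 : ∀ x : G, ∑ t : G, a (t * x * t⁻¹) g = (Nat.card {t : G // t * x * t⁻¹ = w} : ℂ) := by
      intro x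
      have : ∀ t : G, a (t * x * t⁻¹) g = if t * x * t⁻¹ = w then 1 else 0 := by
        intro t
        simp only [ha]
        by_cases h : t * x * t⁻¹ = w
        · rw [if_pos h, if_pos (h ▸ hw)]
        · rw [if_neg h, if_neg (fun h' => h (isPPart_unique hp h' hw))]
      simp only [this]
      rw [Finset.sum_boole, Nat.card_eq_fintype_card, Fintype.card_subtype]
    rw [Finset.sum_eq_single x0]
    · rw [h1, card_conj_eq' x0 w hc0]
      have : (Nat.card (Subgroup.centralizer ({x0} : Set G)) : ℂ) ≠ 0 := by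
        exact_mod_cast Nat.card_pos.ne'
      field_simp
    · intro x hx hne
      rw [h1, card_conj_eq_zero w x (fun h => hne (huniq x ⟨hx, h⟩))]
      simp
    · intro h; exact absurd hx0 h
  have hBB : ∀ x t : G, ∑ g, a (t * x * t⁻¹) g * F g = ∑ g, a x g * F g := by
    intro x t
    rw [← Equiv.sum_comp (MulAut.conj t).toEquiv]
    apply Finset.sum_congr rfl
    intro g _
    have e1 : (MulAut.conj t).toEquiv g = t * g * t⁻¹ := rfl
    rw [e1, hF]
    congr 1
    simp only [ha]
    by_cases h : IsPPart p g x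
    · rw [if_pos h, if_pos (isPPart_conj h t)]
    · rw [if_neg h, if_neg]
      intro h'
      apply h
      have := isPPart_conj h' t⁻¹
      have e2 : t⁻¹ * (t * g * t⁻¹) * t⁻¹⁻¹ = g := by group
      have e3 : t⁻¹ * (t * x * t⁻¹) * t⁻¹⁻¹ = x := by group
      rwa [e2, e3] at this
  have hC : ∀ x ∈ X, ∑ g, a x g * F g = ∑ y : Subgroup.centralizer ({x} : Set G), regInd p _ y * F (x * (y : G)) := by
    intro x hx
    rw [← Equiv.sum_comp (Equiv.mulLeft x)]
    rw [← sum_extendByZero_mul (Subgroup.centralizer ({x} : Set G)) (regInd p _) (fun g => F (x * g))]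
    apply Finset.sum_congr rfl
    intro g _
    rw [Equiv.coe_mulLeft]
    congr 1
    simp only [ha]
    by_cases hg : g ∈ Subgroup.centralizer ({x} : Set G)
    · have : extendByZero (Subgroup.centralizer ({x} : Set G)) (regInd p _) g = regInd p _ (⟨g, hg⟩ : Subgroup.centralizer ({x} : Set G)) := by
        unfold extendByZero
        exact Subtype.val_injective.extend_apply _ _ (⟨g, hg⟩ : Subgroup.centralizer ({x} : Set G))
      rw [this]
      unfold regInd
      have ho : orderOf (⟨g, hg⟩ : Subgroup.centralizer ({x} : Set G)) = orderOf g := Subgroup.orderOf_mk g hg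
      rw [ho]
      by_cases hd : p ∣ orderOf g
      · rw [if_pos hd, if_neg]
        rintro ⟨y, hy, -, -, hy2⟩
        have : y = g := mul_left_cancel hy
        exact hy2 (this ▸ hd)
      · rw [if_neg hd, if_pos]
        exact ⟨g, rfl, (Subgroup.mem_centralizer_singleton_iff.mp hg).symm, hX x hx, hd⟩
    · have : extendByZero (Subgroup.centralizer ({x} : Set G)) (regInd p _) g = 0 := by
        unfold extendByZero
        apply Function.extend_apply'
        rintro ⟨y, rfl⟩
        exact hg y.2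
      rw [this, if_neg]
      rintro ⟨y, hy, hc, -, -⟩
      have : y = g := mul_left_cancel hy
      apply hg
      rw [Subgroup.mem_centralizer_singleton_iff, ← this]
      exact hc.symm
  calc ∑ g, F g = ∑ g, (∑ x ∈ X, (Nat.card (Subgroup.centralizer ({x} : Set G)) : ℂ)⁻¹ * ∑ t : G, a (t * x * t⁻¹) g) * F g := by
        apply Finset.sum_congr rfl; intro g _; rw [hA, one_mul]
    _ = ∑ x ∈ X, (Nat.card (Subgroup.centralizer ({x} : Set G)) : ℂ)⁻¹ * ∑ t : G, ∑ g, a (t * x * t⁻¹) g * F g := by
        simp only [Finset.sum_mul]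
        rw [Finset.sum_comm]
        apply Finset.sum_congr rfl; intro x _
        simp only [mul_assoc, Finset.sum_mul]
        rw [← Finset.mul_sum, Finset.sum_comm]
    _ = _ := by
        apply Finset.sum_congr rfl; intro x hx
        simp only [hBB, hC x hx]
        rw [Finset.sum_const, Finset.card_univ, nsmul_eq_mul, Nat.card_eq_fintype_card (α := G)]
        ring


theorem sum_blocks_indicator [Finite G] [Fintype (IrrCharacter G)] (hM : IsPModular p M)
    (S : Set (Set (IrrCharacter G))) (hS : ∀ b ∈ S, IsPBlock M b) (f : IrrCharacter G → ℂ) :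
    ∑ᶠ b ∈ S, ∑ η, b.indicator 1 η * f η
      = ∑ η, {η : IrrCharacter G | blockOf M (η : G → ℂ) ∈ S}.indicator 1 η * f η := by
  classical
  haveI := Fintype.ofFinite G
  rw [finsum_mem_eq_finite_toFinset_sum _ (Set.toFinite S), Finset.sum_comm]
  apply Finset.sum_congr rfl
  intro η _
  rw [← Finset.sum_mul]
  congr 1
  by_cases h : blockOf M (η : G → ℂ) ∈ S
  · rw [Set.indicator_of_mem (show η ∈ {η : IrrCharacter G | blockOf M (η : G → ℂ) ∈ S} from h)]
    rw [Finset.sum_eq_single (blockOf M (η : G → ℂ))]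
    · rw [Set.indicator_of_mem (show η ∈ blockOf M (η : G → ℂ) from SameBlock.refl hM _)]
    · intro b hb hne
      rw [Set.indicator_of_notMem]
      intro hη
      exact hne (IsPBlock.eq_blockOf hM (hS b ((Set.Finite.mem_toFinset _).mp hb)) hη)
    · intro h'
      exact absurd ((Set.Finite.mem_toFinset _).mpr h) h'
  · rw [Set.indicator_of_notMem (show η ∉ {η : IrrCharacter G | blockOf M (η : G → ℂ) ∈ S} from h)]
    apply Finset.sum_eq_zero
    intro b hb
    rw [Set.indicator_of_notMem]
    intro hη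
    have hb' := (Set.Finite.mem_toFinset _).mp hb
    exact h ((IsPBlock.eq_blockOf hM (hS b hb') hη) ▸ hb')


theorem card_block_eq_sum_blockRank [Finite G] (hM : IsPModular p M)
    (B : Set (IrrCharacter G)) (hB : IsPBlock M B) (X : Finset G)
    (hX : ∀ x ∈ X, ∃ k : ℕ, orderOf x = p ^ k)
    (hXrep : ∀ g : G, (∃ k : ℕ, orderOf g = p ^ k) → ∃! x, x ∈ X ∧ IsConj g x) :
    Nat.card B = ∑ x ∈ X, ∑ᶠ b ∈ {b : Set (IrrCharacter ↥(Subgroup.centralizer ({x} : Set G))) |
      IsInducedBlock M (Subgroup.centralizer ({x} : Set G)) b B}, blockRank p b := by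
  classical
  haveI := Fintype.ofFinite G
  haveI := Fintype.ofFinite (IrrCharacter G)
  have hp : p.Prime := hM.1
  set F : G → ℂ := fun g => ∑ ζ : IrrCharacter G, B.indicator 1 ζ * ((ζ : G → ℂ) g * conj ((ζ : G → ℂ) g)) with hFdef
  have hF : IsClassFunction G F := by
    intro g h
    simp only [hFdef]
    apply Finset.sum_congr rfl; intro ζ _
    rw [IrrCharacter.isClassFunction ζ g h]
  have hG0 : (Nat.card G : ℂ) ≠ 0 := by exact_mod_cast Nat.card_pos.ne'
  have h1 : (Nat.card B : ℂ) = (Nat.card G : ℂ)⁻¹ * ∑ g, F g := by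
    simp only [hFdef]
    rw [Finset.sum_comm, Finset.mul_sum]
    have : ∀ ζ : IrrCharacter G, (Nat.card G : ℂ)⁻¹ * ∑ g, B.indicator 1 ζ * ((ζ : G → ℂ) g * conj ((ζ : G → ℂ) g)) = B.indicator 1 ζ := by
      intro ζ
      have := irr_orthonormal ζ ζ
      rw [if_pos rfl] at this
      unfold classInner at this
      rw [← Finset.mul_sum, mul_left_comm, this, mul_one]
    simp only [this]
    rw [Nat.card_eq_fintype_card, Fintype.card_subtype]
    simp only [Set.indicator_apply, Pi.one_apply]
    rw [Finset.sum_boole]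
  have h2 := section_sum hp X hX hXrep F hF
  have h3 : ∀ x ∈ X, (Nat.card (Subgroup.centralizer ({x} : Set G)) : ℂ)⁻¹ *
      ∑ y : Subgroup.centralizer ({x} : Set G), regInd p _ y * F (x * (y : G))
      = ((∑ᶠ b ∈ {b : Set (IrrCharacter ↥(Subgroup.centralizer ({x} : Set G))) |
      IsInducedBlock M (Subgroup.centralizer ({x} : Set G)) b B}, blockRank p b : ℕ) : ℂ) := by
    intro x hx
    haveI := Fintype.ofFinite (IrrCharacter (Subgroup.centralizer ({x} : Set G)))
    set S := {b : Set (IrrCharacter ↥(Subgroup.centralizer ({x} : Set G))) |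
      IsInducedBlock M (Subgroup.centralizer ({x} : Set G)) b B} with hS
    have e1 : ((∑ᶠ b ∈ S, blockRank p b : ℕ) : ℂ) = ∑ᶠ b ∈ S, (blockRank p b : ℂ) := by
      rw [finsum_mem_eq_finite_toFinset_sum _ (Set.toFinite S), finsum_mem_eq_finite_toFinset_sum _ (Set.toFinite S)]
      push_cast; rfl
    rw [e1]
    have e2 : ∑ᶠ b ∈ S, (blockRank p b : ℂ) = ∑ᶠ b ∈ S, ∑ η : IrrCharacter (Subgroup.centralizer ({x} : Set G)),
        b.indicator 1 η * classInner (pRegularPart p (η : Subgroup.centralizer ({x} : Set G) → ℂ)) (η : Subgroup.centralizer ({x} : Set G) → ℂ) := by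
      apply finsum_mem_congr rfl
      intro b hb
      exact blockRank_eq_sum hM b hb.1
    rw [e2, sum_blocks_indicator hM S (fun b hb => hb.1)]
    have e3 : ∀ y : Subgroup.centralizer ({x} : Set G), regInd p _ y * F (x * (y : G)) =
        regInd p _ y * ∑ η : IrrCharacter (Subgroup.centralizer ({x} : Set G)),
          {η : IrrCharacter (Subgroup.centralizer ({x} : Set G)) | blockOf M (η : Subgroup.centralizer ({x} : Set G) → ℂ) ∈ S}.indicator 1 η *
        ((η : Subgroup.centralizer ({x} : Set G) → ℂ) y * conj ((η : Subgroup.centralizer ({x} : Set G) → ℂ) y)) := by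
      intro y
      by_cases hy : p ∣ orderOf y
      · have : regInd p (Subgroup.centralizer ({x} : Set G)) y = 0 := by
          unfold regInd; rw [if_pos hy]
        rw [this, zero_mul, zero_mul]
      · congr 1
        exact section_norm_sum hM x (hX x hx) B hB _ (fun η => Iff.rfl) y hy
    simp only [e3]
    simp only [Finset.mul_sum]
    rw [Finset.sum_comm]
    apply Finset.sum_congr rfl
    intro η _
    unfold classInner
    simp only [pRegularPart_eq]
    rw [Finset.mul_sum, Finset.mul_sum]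
    apply Finset.sum_congr rfl
    intro y _
    ring
  have h4 : (Nat.card B : ℂ) = ((∑ x ∈ X, ∑ᶠ b ∈ {b : Set (IrrCharacter ↥(Subgroup.centralizer ({x} : Set G))) |
      IsInducedBlock M (Subgroup.centralizer ({x} : Set G)) b B}, blockRank p b : ℕ) : ℂ) := by
    rw [h1, h2, Finset.mul_sum, Nat.cast_sum]
    apply Finset.sum_congr rfl
    intro x hx
    rw [← h3 x hx]
    field_simp
  exact_mod_cast h4

end Sect
end Cfsg.Agent.H4
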