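import Cfsg.Agent.Lib_helper4_BlkAG

set_option autoImplicit false
set_option linter.style.haveILetI false
set_option linter.unusedSectionVars false
namespace Cfsg.Agent.H4
open Module
open scoped ComplexConjugate
universe u v w

section Sect2
variable {p : ℕ} {M : Ideal AlgInt} {G : Type u} [Group G]

theorem section_count [Fintype G] (hp : p.Prime) (z : G) (hz : ∃ k : ℕ, orderOf z = p ^ k)
    [Fintype (Subgroup.centralizer ({z} : Set G))]
    (T : Subgroup.centralizer ({z} : Set G) → ℂ) (hTc : IsClassFunction _ T)
    (hT0 : ∀ c, p ∣ orderOf c → T c = 0)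
    (y : Subgroup.centralizer ({z} : Set G)) (hy : ¬ p ∣ orderOf y) :
    ∑ c : Subgroup.centralizer ({z} : Set G), (Nat.card {x : G // x * (z * (y : G)) * x⁻¹ = z * (c : G)} : ℂ) * T c
      = (Nat.card (Subgroup.centralizer ({z} : Set G)) : ℂ) * T y := by
  classical
  have hTconj : ∀ x : (Subgroup.centralizer ({z} : Set G)), T (x * y * x⁻¹) = T y := fun x => hTc y x
  have hzH : ∀ x : G, x ∈ (Subgroup.centralizer ({z} : Set G)) ↔ z * x = x * z := fun x => mem_centralizer_singleton_iff z x
  have hyo : ¬ p ∣ orderOf (y : G) := by rw [Subgroup.orderOf_coe]; exact hy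
  have hycomm : Commute z (y : G) := (hzH y).mp y.2
  have hpp : IsPPart p (z * (y : G)) z := ⟨y, rfl, hycomm, hz, hyo⟩
  have s2 : ∑ c : (Subgroup.centralizer ({z} : Set G)), (Nat.card {x : G // x * (z * (y : G)) * x⁻¹ = z * (c : G)} : ℂ) * T c
      = ∑ x : G, ∑ c : (Subgroup.centralizer ({z} : Set G)), if x * (z * (y : G)) * x⁻¹ = z * (c : G) then T c else 0 := by
    rw [Finset.sum_comm]
    apply Finset.sum_congr rfl; intro c _
    rw [Nat.card_eq_fintype_card, Fintype.card_subtype, Finset.card_eq_sum_ones, Finset.sum_filter]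
    push_cast
    rw [Finset.sum_mul]
    apply Finset.sum_congr rfl; intro x _
    split_ifs <;> simp
  have s3 : ∀ x : G, (∑ c : (Subgroup.centralizer ({z} : Set G)), if x * (z * (y : G)) * x⁻¹ = z * (c : G) then T c else 0) = if x ∈ (Subgroup.centralizer ({z} : Set G)) then T y else 0 := by
    intro x
    by_cases hx : x ∈ (Subgroup.centralizer ({z} : Set G))
    · rw [if_pos hx, Finset.sum_eq_single ((⟨x, hx⟩ : (Subgroup.centralizer ({z} : Set G))) * y * (⟨x, hx⟩ : (Subgroup.centralizer ({z} : Set G)))⁻¹)]
      · rw [if_pos, hTconj]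
        have := (hzH x).mp hx
        show x * (z * (y : G)) * x⁻¹ = z * (x * (y : G) * x⁻¹)
        rw [← mul_assoc, ← this]; group
      · intro c _ hc
        rw [if_neg]
        intro h
        apply hc
        apply Subtype.ext
        have := (hzH x).mp hx
        show (c : G) = x * (y : G) * x⁻¹
        have h2 : z * (c : G) = z * (x * (y : G) * x⁻¹) := by
          rw [← h, ← mul_assoc, ← this]; group
        exact mul_left_cancel h2
      · intro h; exact absurd (Finset.mem_univ _) h
    · rw [if_neg hx]
      apply Finset.sum_eq_zero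
      intro c _
      split_ifs with h
      · apply hT0
        by_contra hc
        apply hx
        have hco : ¬ p ∣ orderOf (c : G) := by rw [Subgroup.orderOf_coe]; exact hc
        have hp1 : IsPPart p (z * (c : G)) z := ⟨c, rfl, (hzH c).mp c.2, hz, hco⟩
        have hp2 : IsPPart p (z * (c : G)) (x * z * x⁻¹) := by
          rw [← h]; exact isPPart_conj hpp x
        have := isPPart_unique hp hp1 hp2
        rw [hzH]
        calc z * x = (x * z * x⁻¹) * x := by rw [← this]
          _ = x * z := by group
      · rfl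
  rw [s2, Finset.sum_congr rfl (fun x _ => s3 x), ← Finset.sum_filter, Finset.sum_const]
  have hcard : (Finset.univ.filter (fun x : G => x ∈ (Subgroup.centralizer ({z} : Set G)))).card = Nat.card (Subgroup.centralizer ({z} : Set G)) := by
    rw [Nat.card_eq_fintype_card, Fintype.card_subtype]
  rw [hcard, nsmul_eq_mul]

theorem subsection_norm [Fintype G] [Fintype (IrrCharacter G)] (hM : IsPModular p M) (z : G)
    (hz : ∃ k : ℕ, orderOf z = p ^ k) [Fintype (Subgroup.centralizer ({z} : Set G))]
    [Fintype (IrrCharacter (Subgroup.centralizer ({z} : Set G)))]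
    (e : Set (IrrCharacter (Subgroup.centralizer ({z} : Set G)))) (he : IsPBlock M e)
    (y : Subgroup.centralizer ({z} : Set G)) (hy : ¬ p ∣ orderOf y) :
    ∑ ζ : IrrCharacter G, blockPart e (fun c : Subgroup.centralizer ({z} : Set G) => (ζ : G → ℂ) (z * (c : G))) y *
        conj (blockPart e (fun c : Subgroup.centralizer ({z} : Set G) => (ζ : G → ℂ) (z * (c : G))) y)
      = ∑ η : IrrCharacter (Subgroup.centralizer ({z} : Set G)), e.indicator 1 η *
        ((η : Subgroup.centralizer ({z} : Set G) → ℂ) y * conj ((η : Subgroup.centralizer ({z} : Set G) → ℂ) y)) := by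
  classical
  have hcl : ∀ η ∈ e, blockOf M (η : (Subgroup.centralizer ({z} : Set G)) → ℂ) ⊆ e := by
    intro η hη
    rw [← IsPBlock.eq_blockOf hM he hη]
  have hvZ : InZ M (e.indicator 1) := inZ_indicator_of_closed hM e hcl
  set T : (Subgroup.centralizer ({z} : Set G)) → ℂ := fun c => ∑ η : IrrCharacter (Subgroup.centralizer ({z} : Set G)), e.indicator 1 η * (η : (Subgroup.centralizer ({z} : Set G)) → ℂ) y * conj ((η : (Subgroup.centralizer ({z} : Set G)) → ℂ) c) with hT
  have hT0 : ∀ c : (Subgroup.centralizer ({z} : Set G)), p ∣ orderOf c → T c = 0 := fun c hc =>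
    wbo hM _ hvZ (indicator_mul_self _) y c hy hc
  have hTc : IsClassFunction _ T := by
    intro c x
    rw [hT]
    simp only
    apply Finset.sum_congr rfl; intro η _
    rw [IrrCharacter.isClassFunction η c x]
  have hHc : (Nat.card (Subgroup.centralizer ({z} : Set G)) : ℂ) ≠ 0 := card_ne_zero_C
  have b1 : ∀ ζ : IrrCharacter G, blockPart e (fun c : Subgroup.centralizer ({z} : Set G) => (ζ : G → ℂ) (z * (c : G))) y
      = (Nat.card (Subgroup.centralizer ({z} : Set G)) : ℂ)⁻¹ * ∑ c : Subgroup.centralizer ({z} : Set G), (ζ : G → ℂ) (z * (c : G)) * T c := by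
    intro ζ
    rw [blockPart_eq_sum, hT]
    simp only [classInner, Finset.mul_sum, Finset.sum_mul]
    rw [Finset.sum_comm]
    apply Finset.sum_congr rfl; intro c _
    apply Finset.sum_congr rfl; intro η _
    ring
  have b2 : ∑ ζ : IrrCharacter G, blockPart e (fun c : Subgroup.centralizer ({z} : Set G) => (ζ : G → ℂ) (z * (c : G))) y *
        conj (blockPart e (fun c : Subgroup.centralizer ({z} : Set G) => (ζ : G → ℂ) (z * (c : G))) y)
      = (Nat.card (Subgroup.centralizer ({z} : Set G)) : ℂ)⁻¹ * (Nat.card (Subgroup.centralizer ({z} : Set G)) : ℂ)⁻¹ *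
        ∑ c' : Subgroup.centralizer ({z} : Set G), conj (T c') * ∑ c : Subgroup.centralizer ({z} : Set G),
          (Nat.card {x : G // x * (z * (c' : G)) * x⁻¹ = z * (c : G)} : ℂ) * T c := by
    simp only [b1, map_mul, map_inv₀, Complex.conj_natCast, map_sum]
    simp only [← column_orthogonality']
    simp only [Finset.mul_sum, Finset.sum_mul]
    rw [Finset.sum_comm]
    apply Finset.sum_congr rfl; intro c' _
    rw [Finset.sum_comm]
    apply Finset.sum_congr rfl; intro c _
    apply Finset.sum_congr rfl; intro ζ _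
    ring
  have b3 : ∀ c' : Subgroup.centralizer ({z} : Set G), conj (T c') * ∑ c : Subgroup.centralizer ({z} : Set G),
          (Nat.card {x : G // x * (z * (c' : G)) * x⁻¹ = z * (c : G)} : ℂ) * T c
        = (Nat.card (Subgroup.centralizer ({z} : Set G)) : ℂ) * (T c' * conj (T c')) := by
    intro c'
    by_cases hc' : p ∣ orderOf c'
    · rw [hT0 c' hc']; simp
    · rw [section_count hM.1 z hz T hTc hT0 c' hc']; ring
  rw [b2, Finset.sum_congr rfl (fun c' _ => b3 c'), ← Finset.mul_sum, ← mul_assoc, mul_assoc _ _ (Nat.card _ : ℂ),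
    inv_mul_cancel₀ hHc, mul_one]
  -- orthonormality
  have b4 : ∀ c' : Subgroup.centralizer ({z} : Set G), T c' * conj (T c') =
      ∑ η : IrrCharacter (Subgroup.centralizer ({z} : Set G)), ∑ η' : IrrCharacter (Subgroup.centralizer ({z} : Set G)),
        (e.indicator 1 η * e.indicator 1 η' * ((η : (Subgroup.centralizer ({z} : Set G)) → ℂ) y * conj ((η' : (Subgroup.centralizer ({z} : Set G)) → ℂ) y))) *
          ((η' : (Subgroup.centralizer ({z} : Set G)) → ℂ) c' * conj ((η : (Subgroup.centralizer ({z} : Set G)) → ℂ) c')) := by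
    intro c'
    rw [hT]
    simp only [map_sum, map_mul, Complex.conj_conj]
    rw [Finset.sum_mul_sum]
    apply Finset.sum_congr rfl; intro η _
    apply Finset.sum_congr rfl; intro η' _
    have : conj (e.indicator (1 : IrrCharacter (Subgroup.centralizer ({z} : Set G)) → ℂ) η') = e.indicator 1 η' := by
      by_cases h : η' ∈ e
      · rw [Set.indicator_of_mem h]; simp
      · rw [Set.indicator_of_notMem h]; simp
    rw [this]
    ring
  simp only [b4]
  rw [Finset.sum_comm, Finset.mul_sum]
  apply Finset.sum_congr rfl; intro η _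
  rw [Finset.sum_comm, Finset.mul_sum, Finset.sum_eq_single η]
  · rw [← Finset.mul_sum]
    have := irr_orthonormal η η
    rw [if_pos rfl] at this
    unfold classInner at this
    rw [mul_left_comm, this, mul_one]
    have h2 := congrFun (indicator_mul_self e) η
    rw [Pi.mul_apply] at h2
    rw [h2]
  · intro η' _ hne
    rw [← Finset.mul_sum]
    have := irr_orthonormal η' η
    rw [if_neg hne] at this
    unfold classInner at this
    rw [mul_left_comm, this, mul_zero]
  · intro h; exact absurd (Finset.mem_univ _) h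


theorem subsection_rank [Fintype G] (hM : IsPModular p M) (B : Set (IrrCharacter G)) (u : G)
    (hu : ∃ k : ℕ, orderOf u = p ^ k) (H : Subgroup G) (hH : H = Subgroup.centralizer ({u} : Set G))
    (e : Set (IrrCharacter H)) (hBe : IsInducedBlock M H e B) :
    ∑ᶠ χ ∈ B, ∑ᶠ s : H, pRegularPart p (blockPart e (fun c : H => (χ : G → ℂ) (u * c))) s *
      blockPart e (fun c : H => (χ : G → ℂ) (u⁻¹ * c)) s⁻¹ = (Nat.card H : ℂ) * (blockRank p e : ℂ) := by
  classical
  subst hH
  haveI := Fintype.ofFinite (IrrCharacter G)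
  haveI := Fintype.ofFinite (IrrCharacter (Subgroup.centralizer ({u} : Set G)))
  have hHc : (Nat.card (Subgroup.centralizer ({u} : Set G)) : ℂ) ≠ 0 := card_ne_zero_C
  have c1 : ∀ (χ : IrrCharacter G) (s : Subgroup.centralizer ({u} : Set G)),
      blockPart e (fun c : Subgroup.centralizer ({u} : Set G) => (χ : G → ℂ) (u⁻¹ * c)) s⁻¹
        = conj (blockPart e (fun c : Subgroup.centralizer ({u} : Set G) => (χ : G → ℂ) (u * c)) s) := by
    intro χ s
    rw [blockPart_eq_sum, blockPart_eq_sum, map_sum]
    apply Finset.sum_congr rfl; intro η _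
    have h1 : conj (e.indicator (1 : IrrCharacter (Subgroup.centralizer ({u} : Set G)) → ℂ) η) = e.indicator 1 η := by
      by_cases h : η ∈ e
      · rw [Set.indicator_of_mem h]; simp
      · rw [Set.indicator_of_notMem h]; simp
    rw [map_mul, map_mul, h1, IsCharacter.inv_eq_conj (IsIrrCharacter.isCharacter η.2)]
    congr 2
    unfold classInner
    rw [map_mul, map_inv₀, Complex.conj_natCast, map_sum]
    congr 1
    rw [← Equiv.sum_comp (Equiv.inv _)]
    apply Finset.sum_congr rfl; intro c _
    rw [Equiv.inv_apply, map_mul, Complex.conj_conj, IsCharacter.inv_eq_conj (IsIrrCharacter.isCharacter η.2), Complex.conj_conj]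
    congr 1
    rw [← IsCharacter.inv_eq_conj (IsIrrCharacter.isCharacter χ.2)]
    congr 1
    have := (mem_centralizer_singleton_iff u c).mp c.2
    rw [this, mul_inv_rev]
    rfl
  have c3 : ∀ (χ : IrrCharacter G) (s : Subgroup.centralizer ({u} : Set G)),
      B.indicator 1 χ * (pRegularPart p (blockPart e (fun c : Subgroup.centralizer ({u} : Set G) => (χ : G → ℂ) (u * c))) s *
        blockPart e (fun c : Subgroup.centralizer ({u} : Set G) => (χ : G → ℂ) (u⁻¹ * c)) s⁻¹)
      = regInd p _ s * (blockPart e (fun c : Subgroup.centralizer ({u} : Set G) => (χ : G → ℂ) (u * c)) s *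
        conj (blockPart e (fun c : Subgroup.centralizer ({u} : Set G) => (χ : G → ℂ) (u * c)) s)) := by
    intro χ s
    rw [c1, pRegularPart_eq]
    by_cases hχ : χ ∈ B
    · rw [Set.indicator_of_mem hχ]; simp only [Pi.one_apply]; ring
    · rw [Set.indicator_of_notMem hχ, zero_mul]
      by_cases hs : p ∣ orderOf s
      · have : regInd p (Subgroup.centralizer ({u} : Set G)) s = 0 := by
          unfold regInd; rw [if_pos hs]
        rw [this, zero_mul]
      · rw [second_main hM u hu _ ⟨χ, rfl⟩ χ (SameBlock.refl hM _) e hBe.1 (fun h => by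
          have := sameBlock_of_induced hM _ _ _ _ h hBe
          apply hχ
          rw [← this]
          exact SameBlock.refl hM _) s hs]
        simp
  rw [finsum_mem_eq_sum_indicator]
  simp only [finsum_eq_sum_of_fintype, Finset.mul_sum, c3]
  rw [Finset.sum_comm]
  simp only [← Finset.mul_sum]
  have c4 : ∀ s : Subgroup.centralizer ({u} : Set G), regInd p _ s * ∑ χ : IrrCharacter G,
      (blockPart e (fun c : Subgroup.centralizer ({u} : Set G) => (χ : G → ℂ) (u * c)) s *
        conj (blockPart e (fun c : Subgroup.centralizer ({u} : Set G) => (χ : G → ℂ) (u * c)) s))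
      = regInd p _ s * ∑ η : IrrCharacter (Subgroup.centralizer ({u} : Set G)), e.indicator 1 η *
        ((η : Subgroup.centralizer ({u} : Set G) → ℂ) s * conj ((η : Subgroup.centralizer ({u} : Set G) → ℂ) s)) := by
    intro s
    by_cases hs : p ∣ orderOf s
    · have : regInd p (Subgroup.centralizer ({u} : Set G)) s = 0 := by
        unfold regInd; rw [if_pos hs]
      rw [this, zero_mul, zero_mul]
    · rw [subsection_norm hM u hu e hBe.1 s hs]
  simp only [c4]
  rw [blockRank_eq_sum hM e hBe.1]
  simp only [Finset.mul_sum]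
  rw [Finset.sum_comm]
  apply Finset.sum_congr rfl; intro η _
  unfold classInner
  simp only [pRegularPart_eq]
  rw [Finset.mul_sum, Finset.mul_sum, Finset.mul_sum]
  apply Finset.sum_congr rfl; intro y _
  field_simp

theorem centralizer_zpowers_eq (u : G) :
    Subgroup.centralizer (Subgroup.zpowers u : Set G) = Subgroup.centralizer ({u} : Set G) := by
  ext x
  rw [Subgroup.mem_centralizer_iff, Subgroup.mem_centralizer_singleton_iff]
  constructor
  · intro h
    exact (h u (Subgroup.mem_zpowers u)).symm
  · rintro h _ ⟨k, rfl⟩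
    have : Commute x u := h
    exact (this.zpow_right k).symm

end Sect2
end Cfsg.Agent.H4
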