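import Cfsg.Agent.Lib_helper4_BlkAH

set_option autoImplicit false
set_option linter.style.haveILetI false
set_option linter.unusedSectionVars false
namespace Cfsg.Agent.H4
open Module
open scoped ComplexConjugate
universe u v w

section Col
variable {p : ℕ} {M : Ideal AlgInt} {G : Type u} [Group G]

theorem isPPart_self {u : G} (hu : ∃ k : ℕ, orderOf u = p ^ k) (hp : p.Prime) : IsPPart p u u :=
  ⟨1, mul_one u, Commute.one_right u, hu, by rw [orderOf_one]; exact hp.one_lt.ne' ∘ Nat.dvd_one.mp⟩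

theorem charDegree_cast [Finite G] (χ : IrrCharacter G) : (charDegree (χ : G → ℂ) : ℂ) = (χ : G → ℂ) 1 := by
  obtain ⟨d, -, h1, h2⟩ := IrrCharacter.exists_degree χ
  rw [h1, h2]

theorem block_col_zero [Fintype G] [Fintype (IrrCharacter G)] (hM : IsPModular p M)
    (B : Set (IrrCharacter G)) (hB : IsPBlock M B) (g h x y : G) (hgx : IsPPart p g x)
    (hhy : IsPPart p h y) (hxy : ¬ IsConj x y) :
    ∑ χ : IrrCharacter G, B.indicator 1 χ * ((χ : G → ℂ) g * conj ((χ : G → ℂ) h)) = 0 := by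
  have := block_orthogonality hM g h x y hgx hhy hxy B hB
  rw [finsum_mem_eq_sum_indicator] at this
  rw [← this]
  apply Finset.sum_congr rfl; intro χ _
  rw [IsCharacter.inv_eq_conj (IsIrrCharacter.isCharacter χ.2)]

theorem principal_col_self [Fintype G] [Fintype (IrrCharacter G)] [Fact p.Prime] (hM : IsPModular p M) (u : G)
    (hu : ∃ k : ℕ, orderOf u = p ^ k) :
    ∑ χ : IrrCharacter G, (principalBlock M G).indicator 1 χ * ((χ : G → ℂ) u * conj ((χ : G → ℂ) u))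
      = ((∑ᶠ ψ ∈ principalBlock M ↥(Subgroup.centralizer ({u} : Set G)),
        charDegree (ψ : ↥(Subgroup.centralizer ({u} : Set G)) → ℂ) ^ 2 : ℕ) : ℂ) := by
  classical
  haveI := Fintype.ofFinite (IrrCharacter (Subgroup.centralizer ({u} : Set G)))
  have h := (principal_section_norm hM u hu 1 (by rw [orderOf_one]; exact hM.1.one_lt.ne' ∘ Nat.dvd_one.mp)).1
  have h2 := congrArg (fun r : ℝ => (r : ℂ)) h

  rw [ofReal_finsum_mem_norm_sq, ofReal_finsum_mem_norm_sq] at h2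
  simp only [Subgroup.coe_one, mul_one] at h2
  rw [h2, finsum_mem_eq_finite_toFinset_sum _ (Set.toFinite _)]
  push_cast
  rw [← Finset.sum_subset (Finset.subset_univ (Set.toFinite (principalBlock M ↥(Subgroup.centralizer ({u} : Set G)))).toFinset)]
  · apply Finset.sum_congr rfl; intro ψ hψ
    rw [Set.indicator_of_mem ((Set.Finite.mem_toFinset _).mp hψ), charDegree_cast,
      IsCharacter.conj_apply_one (IsIrrCharacter.isCharacter ψ.2)]
    simp only [Pi.one_apply]; ring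
  · intro ψ _ hψ
    rw [Set.indicator_of_notMem (fun h => hψ ((Set.Finite.mem_toFinset _).mpr h)), zero_mul]


theorem card_conj_in_subgroup (N : Subgroup G) (u v : G) (n : G) (hn : n ∈ N) (hnv : n * u * n⁻¹ = v) :
    Nat.card {x : N // (x : G) * u * (x : G)⁻¹ = v} = Nat.card ↥(N ⊓ Subgroup.centralizer ({u} : Set G)) := by
  apply Nat.card_congr
  refine ⟨fun t => ⟨n⁻¹ * t.1.1, ?_⟩, fun y => ⟨⟨n * y.1, N.mul_mem hn (Subgroup.mem_inf.mp y.2).1⟩, ?_⟩, ?_, ?_⟩
  · refine Subgroup.mem_inf.mpr ⟨N.mul_mem (N.inv_mem hn) t.1.2, ?_⟩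
    rw [Subgroup.mem_centralizer_singleton_iff]
    have h1 := t.2
    have h2 : t.1.1 * u = n * u * n⁻¹ * t.1.1 := by
      rw [hnv]
      calc t.1.1 * u = (t.1.1 * u * t.1.1⁻¹) * t.1.1 := by group
        _ = v * t.1.1 := by rw [h1]
    calc n⁻¹ * t.1.1 * u = n⁻¹ * (t.1.1 * u) := by group
      _ = n⁻¹ * (n * u * n⁻¹ * t.1.1) := by rw [h2]
      _ = u * (n⁻¹ * t.1.1) := by group
  · have := Subgroup.mem_centralizer_singleton_iff.mp (Subgroup.mem_inf.mp y.2).2
    show n * y.1 * u * (n * y.1)⁻¹ = v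
    calc n * y.1 * u * (n * y.1)⁻¹ = n * (y.1 * u) * y.1⁻¹ * n⁻¹ := by group
      _ = n * (u * y.1) * y.1⁻¹ * n⁻¹ := by rw [this]
      _ = n * u * n⁻¹ := by group
      _ = v := hnv
  · intro x; apply Subtype.ext; apply Subtype.ext; simp
  · intro y; apply Subtype.ext; simp

theorem principal_column_identity [Finite G] [Fact p.Prime] (hM : IsPModular p M) (P : Subgroup G)
    (hP : IsPGroup p P) (N : Subgroup G) (hPN : P ≤ N) (hNN : N ≤ Subgroup.normalizer (P : Set G)) (U : Set G)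
    (hUP : U ⊆ (P : Set G))
    (hfus : ∀ u ∈ U, ∀ g : G, g * u * g⁻¹ ∈ (P : Set G) → ∃ n ∈ N, n * u * n⁻¹ = g * u * g⁻¹) (w : ℂ)
    (hw : ∀ y ∈ U, ((∑ᶠ ψ ∈ principalBlock M ↥(Subgroup.centralizer ({y} : Set G)),
      charDegree (ψ : ↥(Subgroup.centralizer ({y} : Set G)) → ℂ) ^ 2 : ℕ) : ℂ)
        = w * Nat.card ↥(N ⊓ Subgroup.centralizer ({y} : Set G)))
    (θ η : ↥P → ℂ) (hθU : ∀ y : ↥P, (y : G) ∉ U → θ y = 0) :
    ∑ᶠ χ ∈ principalBlock M G, ((Nat.card ↥P : ℂ)⁻¹ * ∑ᶠ y : ↥P, (χ : G → ℂ) (y : G) * θ y⁻¹) *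
      (starRingEnd ℂ) ((Nat.card ↥P : ℂ)⁻¹ * ∑ᶠ y : ↥P, (χ : G → ℂ) (y : G) * η y⁻¹)
    = (w / ((Nat.card ↥P : ℂ) ^ 2)) * ∑ᶠ y : ↥P, θ y *
      (starRingEnd ℂ) (∑ᶠ x : ↥N, extendByZero P η ((x : G) * (y : G) * (x : G)⁻¹)) := by
  classical
  haveI := Fintype.ofFinite G
  haveI := Fintype.ofFinite (IrrCharacter G)
  have hpel : ∀ y : P, ∃ k : ℕ, orderOf (y : G) = p ^ k := by
    intro y
    obtain ⟨k, hk⟩ := hP y
    have : (y : G) ^ p ^ k = 1 := by
      have := congrArg (Subtype.val) hk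
      simpa using this
    obtain ⟨j, -, hj⟩ := (Nat.dvd_prime_pow hM.1).mp (orderOf_dvd_of_pow_eq_one this)
    exact ⟨j, hj⟩
  have hA : ∀ (χ : IrrCharacter G) (τ : P → ℂ), ∑ᶠ y : ↥P, (χ : G → ℂ) (y : G) * τ y⁻¹
      = ∑ u : P, conj ((χ : G → ℂ) (u : G)) * τ u := by
    intro χ τ
    rw [finsum_eq_sum_of_fintype, ← Equiv.sum_comp (Equiv.inv P)]
    apply Finset.sum_congr rfl; intro u _
    rw [Equiv.inv_apply, inv_inv, Subgroup.coe_inv, IsCharacter.inv_eq_conj (IsIrrCharacter.isCharacter χ.2)]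
  -- inner sum
  have hS : ∀ u : P, (u : G) ∈ U → ∀ v : P,
      ∑ χ : IrrCharacter G, (principalBlock M G).indicator 1 χ * ((χ : G → ℂ) (v : G) * conj ((χ : G → ℂ) (u : G)))
        = w * (Nat.card {x : N // (x : G) * (u : G) * (x : G)⁻¹ = (v : G)} : ℂ) := by
    intro u hu v
    by_cases hc : IsConj (u : G) (v : G)
    · obtain ⟨g, hg⟩ := isConj_iff.mp hc
      obtain ⟨n, hn, hnv⟩ := hfus u hu g (by rw [hg]; exact v.2)
      rw [hg] at hnv
      rw [card_conj_in_subgroup N u v n hn hnv, ← hw u hu, ← principal_col_self hM (u : G) (hpel u)]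
      apply Finset.sum_congr rfl; intro χ _
      rw [← hg, IrrCharacter.isClassFunction χ]
    · rw [block_col_zero hM _ ⟨trivIrr G, principalBlock_eq⟩ v u v u (isPPart_self (hpel v) hM.1)
        (isPPart_self (hpel u) hM.1) (fun h => hc h.symm)]
      haveI : IsEmpty {x : N // (x : G) * (u : G) * (x : G)⁻¹ = (v : G)} :=
        ⟨fun x => hc (isConj_iff.mpr ⟨x.1, x.2⟩)⟩
      rw [Nat.card_of_isEmpty]; simp
  have hE : ∀ u : P, ∑ᶠ x : ↥N, extendByZero P η ((x : G) * (u : G) * (x : G)⁻¹)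
      = ∑ v : P, (Nat.card {x : N // (x : G) * (u : G) * (x : G)⁻¹ = (v : G)} : ℂ) * η v := by
    intro u
    rw [finsum_eq_sum_of_fintype]
    have e1 : ∀ x : N, extendByZero P η ((x : G) * (u : G) * (x : G)⁻¹)
        = ∑ v : P, if (x : G) * (u : G) * (x : G)⁻¹ = (v : G) then η v else 0 := by
      intro x
      have hmem : (x : G) * (u : G) * (x : G)⁻¹ ∈ P :=
        (Subgroup.mem_normalizer_iff.mp (hNN x.2) u).mp u.2
      rw [Finset.sum_eq_single (⟨_, hmem⟩ : P)]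
      · rw [if_pos rfl]
        unfold extendByZero
        exact Subtype.val_injective.extend_apply _ _ (⟨_, hmem⟩ : P)
      · intro v _ hv
        rw [if_neg]
        intro h
        exact hv (Subtype.ext h.symm)
      · intro h; exact absurd (Finset.mem_univ _) h
    simp only [e1]
    rw [Finset.sum_comm]
    apply Finset.sum_congr rfl; intro v _
    rw [Nat.card_eq_fintype_card, Fintype.card_subtype, Finset.card_eq_sum_ones, Finset.sum_filter]
    push_cast
    rw [Finset.sum_mul]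
    apply Finset.sum_congr rfl; intro x _
    split_ifs <;> simp
  rw [finsum_mem_eq_sum_indicator, finsum_eq_sum_of_fintype]
  simp only [hA, hE, map_mul, map_inv₀, Complex.conj_natCast, map_sum, Complex.conj_conj]
  have hL : ∀ χ : IrrCharacter G, (principalBlock M G).indicator 1 χ *
        (((Nat.card ↥P : ℂ)⁻¹ * ∑ u : P, conj ((χ : G → ℂ) (u : G)) * θ u) *
          ((Nat.card ↥P : ℂ)⁻¹ * ∑ v : P, (χ : G → ℂ) (v : G) * conj (η v)))
      = ∑ u : P, ∑ v : P, ((Nat.card ↥P : ℂ)⁻¹ * (Nat.card ↥P : ℂ)⁻¹ * θ u * conj (η v)) *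
        ((principalBlock M G).indicator 1 χ * ((χ : G → ℂ) (v : G) * conj ((χ : G → ℂ) (u : G)))) := by
    intro χ
    rw [mul_mul_mul_comm, Finset.sum_mul_sum, Finset.mul_sum, Finset.mul_sum]
    apply Finset.sum_congr rfl; intro u _
    rw [Finset.mul_sum, Finset.mul_sum]
    apply Finset.sum_congr rfl; intro v _
    ring
  simp only [hL]
  rw [Finset.sum_comm, Finset.mul_sum]
  apply Finset.sum_congr rfl; intro u _
  rw [Finset.sum_comm]
  by_cases hu : (u : G) ∈ U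
  · rw [Finset.mul_sum, Finset.mul_sum]
    apply Finset.sum_congr rfl; intro v _
    rw [← Finset.mul_sum, hS u hu v]
    have hP0 : (Nat.card P : ℂ) ≠ 0 := card_ne_zero_C
    field_simp
  · rw [hθU u hu]
    simp

end Col
end Cfsg.Agent.H4
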