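import Cfsg.Agent.Lib_helper4_BlkAI

set_option autoImplicit false
set_option linter.style.haveILetI false
set_option linter.unusedSectionVars false
namespace Cfsg.Agent.H4
open Module
open scoped ComplexConjugate
universe u v w

section Col2
variable {p : ℕ} {M : Ideal AlgInt} {G : Type u} [Group G]

theorem quad_moment {ι : Type*} [Fintype ι] (a d x : ι → ℝ) (hd : ∀ i, 0 < d i)
    (h0 : ∑ i, a i * d i = 0) (h1 : ∑ i, a i * d i * x i = 0) (h2 : ∑ i, a i * d i * x i ^ 2 = 0)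
    (hpos : ∀ i j, 0 < a i → 0 < a j → i = j) (i j : ι) (hi : a i ≠ 0) (hj : a j ≠ 0) : x i = x j := by
  classical
  by_cases hex : ∃ i0, 0 < a i0
  · obtain ⟨i0, hi0⟩ := hex
    have hq : ∑ i, a i * d i * (x i - x i0) ^ 2 = 0 := by
      have : ∀ i, a i * d i * (x i - x i0) ^ 2 = a i * d i * x i ^ 2 - 2 * x i0 * (a i * d i * x i) + x i0 ^ 2 * (a i * d i) := by
        intro i; ring
      simp only [this]
      rw [Finset.sum_add_distrib, Finset.sum_sub_distrib, ← Finset.mul_sum, ← Finset.mul_sum, h0, h1, h2]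
      ring
    have hle : ∀ i ∈ Finset.univ, a i * d i * (x i - x i0) ^ 2 ≤ 0 := by
      intro i _
      by_cases hii : i = i0
      · rw [hii]; simp
      · have : a i ≤ 0 := by
          by_contra h
          exact hii (hpos i i0 (not_le.mp h) hi0)
        exact mul_nonpos_of_nonpos_of_nonneg (mul_nonpos_of_nonpos_of_nonneg this (hd i).le) (sq_nonneg _)
    have hz := (Finset.sum_eq_zero_iff_of_nonpos hle).mp hq
    have key : ∀ i, a i ≠ 0 → x i = x i0 := by
      intro i hi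
      have := hz i (Finset.mem_univ _)
      have h3 : (x i - x i0) ^ 2 = 0 := by
        rcases mul_eq_zero.mp this with h | h
        · rcases mul_eq_zero.mp h with h | h
          · exact absurd h hi
          · exact absurd h (hd i).ne'
        · exact h
      have := pow_eq_zero_iff (two_ne_zero) |>.mp h3
      linarith
    rw [key i hi, key j hj]
  · push Not at hex
    have hle : ∀ i ∈ Finset.univ, a i * d i ≤ 0 := fun i _ =>
      mul_nonpos_of_nonpos_of_nonneg (hex i) (hd i).le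
    have hz := (Finset.sum_eq_zero_iff_of_nonpos hle).mp h0
    have := hz i (Finset.mem_univ _)
    rcases mul_eq_zero.mp this with h | h
    · exact absurd h hi
    · exact absurd h (hd i).ne'


theorem isPPart_inv {g x : G} (h : IsPPart p g x) : IsPPart p g⁻¹ x⁻¹ := by
  obtain ⟨y, h1, h2, h3, h4⟩ := h
  refine ⟨y⁻¹, ?_, h2.inv_inv, by rwa [orderOf_inv], by rwa [orderOf_inv]⟩
  rw [← h1, h2.eq, mul_inv_rev]

theorem pel_of_mem {P : Subgroup G} (hp : p.Prime) (hP : IsPGroup p P) (y : P) : ∃ k : ℕ, orderOf (y : G) = p ^ k := by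
  obtain ⟨k, hk⟩ := hP y
  have : (y : G) ^ p ^ k = 1 := by
    have := congrArg (Subtype.val) hk
    simpa using this
  obtain ⟨j, -, hj⟩ := (Nat.dvd_prime_pow hp).mp (orderOf_dvd_of_pow_eq_one this)
  exact ⟨j, hj⟩

theorem finsum_inv_reindex [Finite G] (P : Subgroup G) [Fintype P] (χ : IrrCharacter G) (τ : P → ℂ) :
    ∑ᶠ y : ↥P, (χ : G → ℂ) (y : G) * τ y⁻¹ = ∑ u : P, conj ((χ : G → ℂ) (u : G)) * τ u := by
  haveI := Fintype.ofFinite G
  rw [finsum_eq_sum_of_fintype, ← Equiv.sum_comp (Equiv.inv P)]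
  apply Finset.sum_congr rfl; intro u _
  rw [Equiv.inv_apply, inv_inv, Subgroup.coe_inv, IsCharacter.inv_eq_conj (IsIrrCharacter.isCharacter χ.2)]

theorem col_vanish [Fintype G] [Fintype (IrrCharacter G)] (hM : IsPModular p M) (B : Set (IrrCharacter G))
    (hB : IsPBlock M B) (P : Subgroup G) (hP : IsPGroup p P) [Fintype P]
    (U : Set G) (θ : P → ℂ) (hθU : ∀ y : P, (y : G) ∉ U → θ y = 0) (z x : G) (hzx : IsPPart p z x)
    (hz : ∀ u ∈ U, ¬ IsConj x u) :
    ∑ χ : IrrCharacter G, B.indicator 1 χ * ((∑ u : P, conj ((χ : G → ℂ) (u : G)) * θ u) * (χ : G → ℂ) z) = 0 := by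
  have h1 : ∀ χ : IrrCharacter G, B.indicator 1 χ * ((∑ u : P, conj ((χ : G → ℂ) (u : G)) * θ u) * (χ : G → ℂ) z)
      = ∑ u : P, θ u * (B.indicator 1 χ * ((χ : G → ℂ) z * conj ((χ : G → ℂ) (u : G)))) := by
    intro χ
    rw [Finset.sum_mul, Finset.mul_sum]
    apply Finset.sum_congr rfl; intro u _
    ring
  simp only [h1]
  rw [Finset.sum_comm]
  apply Finset.sum_eq_zero; intro u _
  rw [← Finset.mul_sum]
  by_cases hu : (u : G) ∈ U
  · rw [block_col_zero hM B hB z u x u hzx (isPPart_self (pel_of_mem hM.1 hP u) hM.1) (hz u hu), mul_zero]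
  · rw [hθU u hu, zero_mul]

theorem invol_col_vanish [Finite G] (hM : IsPModular 2 M) (P : Subgroup G) (hP : IsPGroup 2 P) (U : Set G)
    (t : G) (ht : orderOf t = 2)
    (hinv : ∀ u ∈ U, ∀ g : G, (g * t * g⁻¹) * u * (g * t * g⁻¹)⁻¹ ≠ u⁻¹) (θ : ↥P → ℂ)
    (hθU : ∀ y : ↥P, (y : G) ∉ U → θ y = 0) :
    (∑ᶠ χ ∈ principalBlock M G, ((Nat.card ↥P : ℂ)⁻¹ * ∑ᶠ y : ↥P, (χ : G → ℂ) (y : G) * θ y⁻¹) * (χ : G → ℂ) t ^ 2 / (χ : G → ℂ) 1 = 0) ∧
    (∑ᶠ χ ∈ principalBlock M G, ((Nat.card ↥P : ℂ)⁻¹ * ∑ᶠ y : ↥P, (χ : G → ℂ) (y : G) * θ y⁻¹) * (χ : G → ℂ) 1 = 0) ∧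
    (∑ᶠ χ ∈ principalBlock M G, ((Nat.card ↥P : ℂ)⁻¹ * ∑ᶠ y : ↥P, (χ : G → ℂ) (y : G) * θ y⁻¹) * (χ : G → ℂ) t = 0) := by
  classical
  haveI := Fintype.ofFinite G
  haveI := Fintype.ofFinite (IrrCharacter G)
  have hB : IsPBlock M (principalBlock M G) := ⟨trivIrr G, principalBlock_eq⟩
  have htt : t * t = 1 := by rw [← pow_two, ← ht]; exact pow_orderOf_eq_one t
  have htinv : t⁻¹ = t := inv_eq_of_mul_eq_one_left htt
  have key : ∀ z x : G, IsPPart 2 z x → (∀ u ∈ U, ¬ IsConj x u) →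
      ∑ χ : IrrCharacter G, (principalBlock M G).indicator 1 χ *
        (((Nat.card ↥P : ℂ)⁻¹ * ∑ᶠ y : ↥P, (χ : G → ℂ) (y : G) * θ y⁻¹) * (χ : G → ℂ) z) = 0 := by
    intro z x hzx hz
    have := col_vanish hM _ hB P hP U θ hθU z x hzx hz
    simp only [finsum_inv_reindex]
    have e : ∀ χ : IrrCharacter G, (principalBlock M G).indicator 1 χ *
        (((Nat.card ↥P : ℂ)⁻¹ * ∑ u : P, conj ((χ : G → ℂ) (u : G)) * θ u) * (χ : G → ℂ) z)
        = (Nat.card ↥P : ℂ)⁻¹ * ((principalBlock M G).indicator 1 χ * ((∑ u : P, conj ((χ : G → ℂ) (u : G)) * θ u) * (χ : G → ℂ) z)) := by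
      intro χ; ring
    simp only [e]
    rw [← Finset.mul_sum, this, mul_zero]
  refine ⟨?_, ?_, ?_⟩
  · rw [finsum_mem_eq_sum_indicator]
    have hG : (Nat.card G : ℂ) ≠ 0 := card_ne_zero_C
    have e : ∀ χ : IrrCharacter G, (principalBlock M G).indicator 1 χ *
        (((Nat.card ↥P : ℂ)⁻¹ * ∑ᶠ y : ↥P, (χ : G → ℂ) (y : G) * θ y⁻¹) * (χ : G → ℂ) t ^ 2 / (χ : G → ℂ) 1)
        = (Nat.card G : ℂ)⁻¹ * ∑ g : G, (principalBlock M G).indicator 1 χ *
        (((Nat.card ↥P : ℂ)⁻¹ * ∑ᶠ y : ↥P, (χ : G → ℂ) (y : G) * θ y⁻¹) * (χ : G → ℂ) (g * t * g⁻¹ * t)) := by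
      intro χ
      rw [← Finset.mul_sum, ← Finset.mul_sum, sum_conj_mul χ.2 t t]
      field_simp
    simp only [e]
    rw [← Finset.mul_sum, Finset.sum_comm]
    rw [Finset.sum_eq_zero, mul_zero]
    intro g _
    obtain ⟨x, hx⟩ := exists_isPPart hM.1 (g * t * g⁻¹ * t)
    apply key _ x hx
    intro u hu hc
    obtain ⟨h, hh⟩ := isConj_iff.mp hc
    have h1 : t * (g * t * g⁻¹ * t) * t⁻¹ = (g * t * g⁻¹ * t)⁻¹ := by
      rw [mul_inv_rev, mul_inv_rev, mul_inv_rev, inv_inv, htinv]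
      calc t * (g * t * g⁻¹ * t) * t = t * (g * t * g⁻¹) * (t * t) := by group
        _ = t * (g * (t * g⁻¹)) := by rw [htt]; group
    have h2 := isPPart_conj hx t
    rw [h1] at h2
    have h3 := isPPart_unique hM.1 h2 (isPPart_inv hx)
    apply hinv u hu h
    rw [← hh]
    calc h * t * h⁻¹ * (h * x * h⁻¹) * (h * t * h⁻¹)⁻¹ = h * (t * x * t⁻¹) * h⁻¹ := by group
      _ = (h * x * h⁻¹)⁻¹ := by rw [h3]; group
  · rw [finsum_mem_eq_sum_indicator]
    apply key 1 1 (isPPart_self ⟨0, by simp⟩ hM.1)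
    intro u hu hc
    have : u = 1 := by
      rwa [isConj_one_right] at hc
    apply hinv u hu 1
    rw [this]; simp
  · rw [finsum_mem_eq_sum_indicator]
    apply key t t (isPPart_self ⟨1, by simp [ht]⟩ hM.1)
    intro u hu hc
    obtain ⟨g, hg⟩ := isConj_iff.mp hc
    apply hinv u hu g
    rw [hg]
    have : u * u = 1 := by
      rw [← hg]
      calc g * t * g⁻¹ * (g * t * g⁻¹) = g * (t * t) * g⁻¹ := by group
        _ = 1 := by rw [htt]; group
    rw [inv_eq_of_mul_eq_one_left this, mul_assoc, this, mul_one]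


theorem invol_col_signs [Finite G] (hM : IsPModular 2 M) (P : Subgroup G) (hP : IsPGroup 2 P) (U : Set G)
    (t : G) (ht : orderOf t = 2)
    (hinv : ∀ u ∈ U, ∀ g : G, (g * t * g⁻¹) * u * (g * t * g⁻¹)⁻¹ ≠ u⁻¹) (θ : ↥P → ℂ)
    (hθ : IsGeneralizedCharacter ↥P θ)
    (hθU : ∀ y : ↥P, (y : G) ∉ U → θ y = 0) (hne : (Nat.card ↥P : ℂ)⁻¹ * ∑ᶠ y : ↥P, θ y ≠ 0) :
    (2 ≤ Nat.card {χ : IrrCharacter G // χ ∈ principalBlock M G ∧ 0 < (((Nat.card ↥P : ℂ)⁻¹ * ∑ᶠ y : ↥P, (χ : G → ℂ) (y : G) * θ y⁻¹)).re} ∧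
     2 ≤ Nat.card {χ : IrrCharacter G // χ ∈ principalBlock M G ∧ (((Nat.card ↥P : ℂ)⁻¹ * ∑ᶠ y : ↥P, (χ : G → ℂ) (y : G) * θ y⁻¹)).re < 0}) ∨
    ∃ K : Subgroup G, K.Normal ∧ K ≠ ⊤ ∧ pPrimeCore 2 G ≤ K ∧ t ∈ K := by
  classical
  haveI := Fintype.ofFinite G
  haveI := Fintype.ofFinite (IrrCharacter G)
  haveI := Fintype.ofFinite (IrrCharacter P)
  obtain ⟨v1, v2, v3⟩ := invol_col_vanish hM P hP U t ht hinv θ hθU
  rw [finsum_mem_eq_sum_indicator] at v1 v2 v3
  have htt : t * t = 1 := by rw [← pow_two, ← ht]; exact pow_orderOf_eq_one t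
  have htinv : t⁻¹ = t := inv_eq_of_mul_eq_one_left htt
  set a : IrrCharacter G → ℂ := fun χ => (Nat.card ↥P : ℂ)⁻¹ * ∑ᶠ y : ↥P, (χ : G → ℂ) (y : G) * θ y⁻¹ with ha
  have haZ : ∀ χ : IrrCharacter G, ∃ n : ℤ, a χ = n := by
    intro χ
    obtain ⟨α, β, hα, hβ, rfl⟩ := hθ
    obtain ⟨n, hn⟩ := IsCharacter.classInner_nat (IsCharacter.restrict P (IsIrrCharacter.isCharacter χ.2)) hα
    obtain ⟨m, hm⟩ := IsCharacter.classInner_nat (IsCharacter.restrict P (IsIrrCharacter.isCharacter χ.2)) hβ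
    refine ⟨(n : ℤ) - m, ?_⟩
    push_cast
    rw [← hn, ← hm, ha]
    simp only
    unfold classInner
    rw [← mul_sub, ← Finset.sum_sub_distrib, finsum_eq_sum_of_fintype]
    congr 1
    apply Finset.sum_congr rfl; intro y _
    rw [Pi.sub_apply, IsCharacter.inv_eq_conj hα, IsCharacter.inv_eq_conj hβ]
    ring
  choose aZ haZ'' using haZ
  have haZ' : ∀ χ : IrrCharacter G, (Nat.card ↥P : ℂ)⁻¹ * ∑ᶠ y : ↥P, (χ : G → ℂ) (y : G) * θ y⁻¹ = aZ χ := haZ''
  choose d hd0 hd1 _ using fun χ : IrrCharacter G => IrrCharacter.exists_degree χ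
  have hr : ∀ χ : IrrCharacter G, ∃ r : ℝ, (χ : G → ℂ) t = r := by
    intro χ
    have h1 := IsCharacter.inv_eq_conj (IsIrrCharacter.isCharacter χ.2) t
    rw [htinv] at h1
    exact Complex.conj_eq_iff_real.mp h1.symm
  choose r hr' using hr
  set iR : IrrCharacter G → ℝ := (principalBlock M G).indicator 1 with hiR
  have hiC : ∀ χ, ((principalBlock M G).indicator (1 : IrrCharacter G → ℂ) χ) = (iR χ : ℂ) := by
    intro χ
    by_cases h : χ ∈ principalBlock M G
    · rw [hiR, Set.indicator_of_mem h, Set.indicator_of_mem h]; simp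
    · rw [hiR, Set.indicator_of_notMem h, Set.indicator_of_notMem h]; simp
  set A : IrrCharacter G → ℝ := fun χ => iR χ * aZ χ with hA
  set D : IrrCharacter G → ℝ := fun χ => d χ with hD
  set X : IrrCharacter G → ℝ := fun χ => r χ / d χ with hX
  have hDpos : ∀ χ, 0 < D χ := fun χ => by simp only [hD]; exact_mod_cast hd0 χ
  have m0 : ∑ χ, A χ * D χ = 0 := by
    have : ((∑ χ, A χ * D χ : ℝ) : ℂ) = 0 := by
      rw [← v2]; push_cast
      apply Finset.sum_congr rfl; intro χ _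
      rw [hiC, haZ', hd1]
      simp only [hA, hD]; push_cast; ring
    exact_mod_cast this
  have m1 : ∑ χ, A χ * D χ * X χ = 0 := by
    have : ((∑ χ, A χ * D χ * X χ : ℝ) : ℂ) = 0 := by
      rw [← v3]; push_cast
      apply Finset.sum_congr rfl; intro χ _
      rw [hiC, haZ', hr']
      have : (d χ : ℂ) ≠ 0 := by exact_mod_cast (hd0 χ).ne'
      simp only [hA, hD, hX]; push_cast; field_simp
    exact_mod_cast this
  have m2 : ∑ χ, A χ * D χ * X χ ^ 2 = 0 := by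
    have : ((∑ χ, A χ * D χ * X χ ^ 2 : ℝ) : ℂ) = 0 := by
      rw [← v1]; push_cast
      apply Finset.sum_congr rfl; intro χ _
      rw [hiC, haZ', hr', hd1]
      have : (d χ : ℂ) ≠ 0 := by exact_mod_cast (hd0 χ).ne'
      simp only [hA, hD, hX]; push_cast; field_simp
    exact_mod_cast this
  have hmemA : ∀ χ, A χ ≠ 0 → χ ∈ principalBlock M G := by
    intro χ h
    by_contra hc
    apply h
    simp only [hA, hiR]
    rw [Set.indicator_of_notMem hc, zero_mul]
  have hAeq : ∀ χ, χ ∈ principalBlock M G → A χ = aZ χ := by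
    intro χ h
    simp only [hA, hiR]
    rw [Set.indicator_of_mem h]; simp
  have hre : ∀ χ : IrrCharacter G, (((Nat.card ↥P : ℂ)⁻¹ * ∑ᶠ y : ↥P, (χ : G → ℂ) (y : G) * θ y⁻¹)).re = aZ χ := by
    intro χ; rw [haZ']; simp
  have htriv : A (trivIrr G) ≠ 0 := by
    rw [hAeq _ (by rw [principalBlock_eq]; exact SameBlock.refl hM _)]
    intro h0
    apply hne
    have h1 := haZ' (trivIrr G)
    have h2 : (aZ (trivIrr G) : ℂ) = 0 := by exact_mod_cast h0
    rw [h2] at h1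
    rw [← h1]
    congr 1
    rw [finsum_eq_sum_of_fintype, finsum_eq_sum_of_fintype, ← Equiv.sum_comp (Equiv.inv P)]
    apply Finset.sum_congr rfl; intro y _
    show θ y⁻¹ = 1 * θ y⁻¹
    rw [one_mul]
  -- the conclusion from equality of the ratios
  have concl : (∀ i j : IrrCharacter G, A i ≠ 0 → A j ≠ 0 → X i = X j) →
      ∃ K : Subgroup G, K.Normal ∧ K ≠ ⊤ ∧ pPrimeCore 2 G ≤ K ∧ t ∈ K := by
    intro hX'
    have hex : ∃ χ : IrrCharacter G, χ ≠ trivIrr G ∧ A χ ≠ 0 := by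
      by_contra hc
      push Not at hc
      rw [Finset.sum_eq_single (trivIrr G)] at m0
      · exact (mul_ne_zero htriv (hDpos _).ne') m0
      · intro χ _ hχ
        rw [hc χ hχ, zero_mul]
      · intro h; exact absurd (Finset.mem_univ _) h
    obtain ⟨χ, hχ1, hχ2⟩ := hex
    obtain ⟨K, hK1, hK2⟩ := exists_kerSub (IsIrrCharacter.isCharacter χ.2)
    refine ⟨K, hK1, ?_, ?_, ?_⟩
    · intro htop
      have hconst : ∀ g, (χ : G → ℂ) g = (χ : G → ℂ) 1 := fun g => (hK2 g).mp (by rw [htop]; trivial)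
      have h1 := irr_orthonormal χ (trivIrr G)
      rw [if_neg hχ1] at h1
      unfold classInner at h1
      have h2 : ∑ g : G, (χ : G → ℂ) g * conj ((trivIrr G : G → ℂ) g) = (Nat.card G : ℂ) * (χ : G → ℂ) 1 := by
        have : ∀ g : G, (χ : G → ℂ) g * conj ((trivIrr G : G → ℂ) g) = (χ : G → ℂ) 1 := by
          intro g
          rw [hconst g]
          show (χ : G → ℂ) 1 * conj (1 : ℂ) = _
          simp
        simp only [this]
        rw [Finset.sum_const, Finset.card_univ, nsmul_eq_mul, Nat.card_eq_fintype_card]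
      rw [h2, ← mul_assoc, inv_mul_cancel₀ card_ne_zero_C, one_mul] at h1
      exact IsIrrCharacter.apply_one_ne_zero χ.2 h1
    · intro n hn
      rw [hK2]
      exact principal_ker hM χ (hmemA χ hχ2) n hn
    · rw [hK2]
      have h1 := hX' χ (trivIrr G) hχ2 htriv
      simp only [hX] at h1
      have h2 : r (trivIrr G) = 1 := by
        have := hr' (trivIrr G)
        have h3 : ((trivIrr G : IrrCharacter G) : G → ℂ) t = 1 := rfl
        rw [h3] at this
        exact_mod_cast this.symm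
      have h3 : d (trivIrr G) = 1 := by
        have := hd1 (trivIrr G)
        have h3 : ((trivIrr G : IrrCharacter G) : G → ℂ) 1 = 1 := rfl
        rw [h3] at this
        exact_mod_cast this.symm
      rw [h2, h3] at h1
      have h4 : (d χ : ℝ) ≠ 0 := by exact_mod_cast (hd0 χ).ne'
      have h5 : r χ = d χ := by
        field_simp at h1
        simpa using h1
      rw [hr', hd1, h5]
      simp
  by_cases hc : (2 ≤ Nat.card {χ : IrrCharacter G // χ ∈ principalBlock M G ∧ 0 < (((Nat.card ↥P : ℂ)⁻¹ * ∑ᶠ y : ↥P, (χ : G → ℂ) (y : G) * θ y⁻¹)).re} ∧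
     2 ≤ Nat.card {χ : IrrCharacter G // χ ∈ principalBlock M G ∧ (((Nat.card ↥P : ℂ)⁻¹ * ∑ᶠ y : ↥P, (χ : G → ℂ) (y : G) * θ y⁻¹)).re < 0})
  · exact Or.inl hc
  · right
    apply concl
    rcases not_and_or.mp hc with h | h
    · have hs : Subsingleton {χ : IrrCharacter G // χ ∈ principalBlock M G ∧ 0 < (((Nat.card ↥P : ℂ)⁻¹ * ∑ᶠ y : ↥P, (χ : G → ℂ) (y : G) * θ y⁻¹)).re} :=
        Finite.card_le_one_iff_subsingleton.mp (by omega)
      intro i j hi hj
      apply quad_moment A D X hDpos m0 m1 m2 _ i j hi hj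
      intro i j hi hj
      have hi' := hmemA i hi.ne'
      have hj' := hmemA j hj.ne'
      rw [hAeq i hi'] at hi
      rw [hAeq j hj'] at hj
      have := @Subsingleton.elim _ hs ⟨i, hi', by rw [hre]; exact hi⟩ ⟨j, hj', by rw [hre]; exact hj⟩
      exact congrArg Subtype.val this
    · have hs : Subsingleton {χ : IrrCharacter G // χ ∈ principalBlock M G ∧ (((Nat.card ↥P : ℂ)⁻¹ * ∑ᶠ y : ↥P, (χ : G → ℂ) (y : G) * θ y⁻¹)).re < 0} :=
        Finite.card_le_one_iff_subsingleton.mp (by omega)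
      intro i j hi hj
      apply quad_moment (fun χ => - A χ) D X hDpos _ _ _ _ i j (neg_ne_zero.mpr hi) (neg_ne_zero.mpr hj)
      · simp only [neg_mul, Finset.sum_neg_distrib, m0, neg_zero]
      · simp only [neg_mul, Finset.sum_neg_distrib, m1, neg_zero]
      · simp only [neg_mul, Finset.sum_neg_distrib, m2, neg_zero]
      intro i j hi hj
      have hi2 : A i < 0 := by linarith
      have hj2 : A j < 0 := by linarith
      have hi' := hmemA i hi2.ne
      have hj' := hmemA j hj2.ne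
      rw [hAeq i hi'] at hi2
      rw [hAeq j hj'] at hj2
      have := @Subsingleton.elim _ hs ⟨i, hi', by rw [hre]; exact hi2⟩ ⟨j, hj', by rw [hre]; exact hj2⟩
      exact congrArg Subtype.val this

end Col2
end Cfsg.Agent.H4
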