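import Cfsg.Agent.Lib_helper4_BlkAJ
import Cfsg.Agent.Lib_helper1_FrobNPC

set_option autoImplicit false
set_option linter.style.haveILetI false
set_option linter.unusedSectionVars false
namespace Cfsg.Agent.H4
open Module
open scoped ComplexConjugate
universe u v w

section Nilp
variable {p : ℕ} {M : Ideal AlgInt} {G : Type u} [Group G]

theorem centralChar_comp_equiv {H : Type v} [Group H] (α : H ≃* G) (χ : G → ℂ) (h : H) :
    centralChar (fun x => χ (α x)) h = centralChar χ (α h) := by
  unfold centralChar
  have : Subgroup.centralizer ({h} : Set H) = (Subgroup.centralizer ({α h} : Set G)).comap α.toMonoidHom := by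
    ext x
    rw [Subgroup.mem_comap, Subgroup.mem_centralizer_singleton_iff, Subgroup.mem_centralizer_singleton_iff]
    show _ ↔ α x * α h = α h * α x
    rw [← map_mul, ← map_mul]
    exact α.injective.eq_iff.symm
  rw [this, Subgroup.index_comap_of_surjective _ α.surjective]
  simp only [map_one]

theorem sameBlock_comp_equiv {H : Type v} [Group H] (α : H ≃* G) {χ ψ : G → ℂ} (h : SameBlock M χ ψ) :
    SameBlock M (fun x => χ (α x)) (fun x => ψ (α x)) := by
  intro x
  rw [centralChar_comp_equiv, centralChar_comp_equiv]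
  exact h _

/-- conjugation by the inverse of a normalizing element, as an automorphism of the subgroup -/
def conjInvEquiv (K : Subgroup G) (g : G) (hg : g ∈ Subgroup.normalizer (K : Set G)) : K ≃* K where
  toFun k := ⟨g⁻¹ * k * g, by
    have := (Subgroup.mem_normalizer_iff.mp (inv_mem hg) k).mp k.2
    rwa [inv_inv] at this⟩
  invFun k := ⟨g * k * g⁻¹, (Subgroup.mem_normalizer_iff.mp hg k).mp k.2⟩
  left_inv k := by apply Subtype.ext; simp [mul_assoc]
  right_inv k := by apply Subtype.ext; simp [mul_assoc]
  map_mul' a b := by apply Subtype.ext; simp [mul_assoc]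

theorem stabilizes_principal [Finite G] (K : Subgroup G) (g : G) (hg : g ∈ Subgroup.normalizer (K : Set G)) :
    StabilizesBlock K (principalBlock M K) g := by
  refine ⟨hg, ?_⟩
  intro χ hχ
  refine ⟨⟨fun x => (χ : K → ℂ) (conjInvEquiv K g hg x),
    IsIrrCharacter.comp_surj (conjInvEquiv K g hg).toMonoidHom (conjInvEquiv K g hg).surjective χ.2⟩, ?_, ?_⟩
  · exact sameBlock_comp_equiv (conjInvEquiv K g hg) hχ
  · intro k k' hk
    show (χ : K → ℂ) (conjInvEquiv K g hg k') = (χ : K → ℂ) k
    have : conjInvEquiv K g hg k' = k := by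
      apply Subtype.ext
      show g⁻¹ * (k' : G) * g = k
      rw [hk]; group
    rw [this]

theorem normalizer_le_normalizer_centralizer (X : Subgroup G) :
    Subgroup.normalizer (X : Set G) ≤ Subgroup.normalizer (Subgroup.centralizer (X : Set G) : Set G) := by
  intro g hg
  rw [Subgroup.mem_normalizer_iff]
  intro h
  exact (mem_centralizer_conj_iff X hg h).symm

theorem principal_isBrauerPairOf [Finite G] (hM : IsPModular p M) (X : Subgroup G) (hX : IsPGroup p X) :
    IsBrauerPairOf p M (principalBlock M G) X (principalBlock M (Subgroup.centralizer (X : Set G))) := by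
  have he : IsPBlock M (principalBlock M (Subgroup.centralizer (X : Set G))) := ⟨trivIrr _, principalBlock_eq⟩
  rw [isBrauerPairOf_iff_induced hM X hX _ he,
    third_main hM _ _ (induced_defined_centralizer_subgroup hM X hX _ he)]

theorem npc_iff_principal_nilpotent [Finite G] [Fact p.Prime] (hM : IsPModular p M) :
    HasNormalPComplement p G ↔ IsNilpotentBlock p M (principalBlock M G) := by
  constructor
  · intro h
    have hF := Cfsg.Agent.H1.frobCond_of_hasNormalPComplement h
    refine ⟨⟨trivIrr _, principalBlock_eq⟩, ?_⟩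
    intro Q e hQe x hx _ hreg
    exact hF Q hQe.1.1 x hx ((Nat.Prime.coprime_iff_not_dvd hM.1).mpr hreg).symm
  · intro h
    apply Cfsg.Agent.H1.hasNormalPComplement_of_frobCond
    intro X hX g hg hgo
    exact h.2 X _ (principal_isBrauerPairOf hM X hX) g hg
      (stabilizes_principal _ g (normalizer_le_normalizer_centralizer X hg))
      ((Nat.Prime.coprime_iff_not_dvd hM.1).mp hgo.symm)

theorem npc_iff_principal_rank_one [Finite G] [Fact p.Prime] (hM : IsPModular p M) :
    HasNormalPComplement p G ↔ blockRank p (principalBlock M G) = 1 := by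
  classical
  haveI := Fintype.ofFinite G
  haveI := Fintype.ofFinite (IrrCharacter G)
  have hB : IsPBlock M (principalBlock M G) := ⟨trivIrr _, principalBlock_eq⟩
  have htriv : trivIrr G ∈ principalBlock M G := by rw [principalBlock_eq]; exact SameBlock.refl hM _
  obtain ⟨K, hK1, hK2, hK3, hK4, hK5⟩ := block_kernel hM _ hB (trivIrr G) htriv
  have hmem : ∀ g, g ∈ K ↔ ∀ χ ∈ principalBlock M G, (χ : G → ℂ) g = (χ : G → ℂ) 1 := by
    intro g
    rw [← SetLike.mem_coe, hK2]; rfl
  set v : G → ℂ := pRegularPart p ((trivIrr G : IrrCharacter G) : G → ℂ) with hv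
  have hv1 : v 1 = 1 := by
    rw [hv, pRegularPart_eq]
    unfold regInd
    rw [if_neg (by rw [orderOf_one]; exact hM.1.one_lt.ne' ∘ Nat.dvd_one.mp)]
    show (1 : ℂ) * 1 = 1
    simp
  have hv0 : v ≠ 0 := by
    intro h
    rw [h] at hv1
    simp at hv1
  rw [Cfsg.Agent.H1.hasNormalPComplement_iff]
  constructor
  · intro h
    haveI := Cfsg.Agent.H1.pResidual_normal (G := G) p
    have hle : pResidual p G ≤ K := by
      apply hK5 _ inferInstance
      · exact (Nat.Prime.coprime_iff_not_dvd hM.1).mp h.symm
      · intro g _; rfl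
    have hspan : Submodule.span ℂ ((fun χ : IrrCharacter G => pRegularPart p (χ : G → ℂ)) '' (principalBlock M G))
        = Submodule.span ℂ {v} := by
      apply le_antisymm
      · rw [Submodule.span_le]
        rintro _ ⟨χ, hχ, rfl⟩
        rw [SetLike.mem_coe, Submodule.mem_span_singleton]
        refine ⟨(χ : G → ℂ) 1, ?_⟩
        funext g
        show _ = pRegularPart p (χ : G → ℂ) g
        rw [Pi.smul_apply, hv, pRegularPart_eq, pRegularPart_eq, smul_eq_mul]
        by_cases hg : p ∣ orderOf g
        · unfold regInd; rw [if_pos hg]; simp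
        · have : g ∈ K := hle (Cfsg.Agent.H1.mem_pResidual_of_coprime p
            ((Nat.Prime.coprime_iff_not_dvd hM.1).mpr hg).symm)
          rw [(hmem g).mp this χ hχ]
          show _ * (_ * (1 : ℂ)) = _
          ring
      · rw [Submodule.span_le, Set.singleton_subset_iff]
        exact Submodule.subset_span ⟨trivIrr G, htriv, rfl⟩
    unfold blockRank
    rw [hspan]
    exact finrank_span_singleton hv0
  · intro h
    unfold blockRank at h
    set W := Submodule.span ℂ ((fun χ : IrrCharacter G => pRegularPart p (χ : G → ℂ)) '' (principalBlock M G)) with hW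
    have hvW : v ∈ W := Submodule.subset_span ⟨trivIrr G, htriv, rfl⟩
    have h1 := (finrank_eq_one_iff_of_nonzero' (⟨v, hvW⟩ : W) (by
      intro h0; exact hv0 (congrArg Subtype.val h0))).mp h
    have hle : pResidual p G ≤ K := by
      unfold pResidual
      rw [Subgroup.closure_le]
      intro g hg
      rw [SetLike.mem_coe, hmem]
      intro χ hχ
      have hgo : ¬ p ∣ orderOf g := (Nat.Prime.coprime_iff_not_dvd hM.1).mp (Nat.Coprime.symm hg)
      obtain ⟨c, hc⟩ := h1 ⟨_, Submodule.subset_span ⟨χ, hχ, rfl⟩⟩
      have hc' : c • v = pRegularPart p (χ : G → ℂ) := congrArg Subtype.val hc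
      have e1 := congrFun hc' 1
      have e2 := congrFun hc' g
      rw [Pi.smul_apply, hv1, pRegularPart_eq, smul_eq_mul] at e1
      rw [Pi.smul_apply, hv, pRegularPart_eq, pRegularPart_eq, smul_eq_mul] at e2
      unfold regInd at e1 e2
      rw [if_neg (by rw [orderOf_one]; exact hM.1.one_lt.ne' ∘ Nat.dvd_one.mp)] at e1
      rw [if_neg hgo] at e2
      have e3 : ((trivIrr G : IrrCharacter G) : G → ℂ) g = 1 := rfl
      rw [e3] at e2
      simp only [one_mul, mul_one] at e1 e2
      rw [← e2, e1]
    exact (Nat.Coprime.coprime_dvd_left (Subgroup.card_dvd_of_le hle)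
      ((Nat.Prime.coprime_iff_not_dvd hM.1).mpr hK3).symm)

end Nilp
end Cfsg.Agent.H4
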