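import Cfsg.Agent.Lib_helper4_BlkAK

set_option autoImplicit false
set_option linter.style.haveILetI false
set_option linter.unusedSectionVars false
namespace Cfsg.Agent.H4
open Module
open scoped ComplexConjugate
universe u v w

section TwoPrimes
variable {G : Type u} [Group G]

theorem conj_indicator_one {α : Type*} (A : Set α) (a : α) : conj (A.indicator (1 : α → ℂ) a) = A.indicator 1 a := by
  by_cases h : a ∈ A
  · rw [Set.indicator_of_mem h]; simp
  · rw [Set.indicator_of_notMem h]; simp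

theorem two_prime_vanish [Fintype G] [Fintype (IrrCharacter G)] (p q : ℕ) (hpq : p ≠ q) (Mp Mq : Ideal AlgInt)
    (hMp : IsPModular p Mp) (hMq : IsPModular q Mq) (hno : ∀ g : G, orderOf g ≠ p * q)
    (Bp : Set (IrrCharacter G)) (hBp : IsPBlock Mp Bp) (Bq : Set (IrrCharacter G)) (hBq : IsPBlock Mq Bq)
    (y : G) (hy : p ∣ orderOf y) (g : G) (hg : q ∣ orderOf g) :
    ∑ χ : IrrCharacter G, Bq.indicator 1 χ * (Bp.indicator 1 χ * (χ : G → ℂ) y) * conj ((χ : G → ℂ) g) = 0 := by
  classical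
  obtain ⟨χp, rfl⟩ := hBp
  obtain ⟨χq, rfl⟩ := hBq
  set Bp := blockOf Mp (χp : G → ℂ)
  set Bq := blockOf Mq (χq : G → ℂ)
  set θ : G → ℂ := fun x => ∑ χ : IrrCharacter G, Bp.indicator 1 χ * (χ : G → ℂ) y * conj ((χ : G → ℂ) x) with hθ
  have hθ0 : ∀ x : G, ¬ p ∣ orderOf x → θ x = 0 := by
    intro x hx
    have := wbo hMp _ (inZ_indicator_block hMp χp) (indicator_mul_self _) x y hx hy
    have h2 := congrArg conj this
    rw [map_sum, map_zero] at h2
    rw [hθ]
    simp only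
    rw [← h2]
    apply Finset.sum_congr rfl; intro χ _
    rw [map_mul, map_mul, Complex.conj_conj, conj_indicator_one]
    ring
  have hG : (Nat.card G : ℂ) ≠ 0 := card_ne_zero_C
  have hexp : ∀ χ : IrrCharacter G, Bp.indicator 1 χ * (χ : G → ℂ) y = (Nat.card G : ℂ)⁻¹ * ∑ x : G, θ x * (χ : G → ℂ) x := by
    intro χ
    rw [hθ]
    simp only [Finset.sum_mul]
    rw [Finset.sum_comm, Finset.sum_eq_single χ]
    · have := irr_orthonormal χ χ
      rw [if_pos rfl] at this
      unfold classInner at this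
      have e : ∑ x : G, Bp.indicator 1 χ * (χ : G → ℂ) y * conj ((χ : G → ℂ) x) * (χ : G → ℂ) x
          = Bp.indicator 1 χ * (χ : G → ℂ) y * ∑ x : G, (χ : G → ℂ) x * conj ((χ : G → ℂ) x) := by
        rw [Finset.mul_sum]
        apply Finset.sum_congr rfl; intro x _; ring
      rw [e, mul_left_comm, this, mul_one]
    · intro χ' _ hne
      have := irr_orthonormal χ χ'
      rw [if_neg (Ne.symm hne)] at this
      unfold classInner at this
      have h0 : ∑ x : G, (χ : G → ℂ) x * conj ((χ' : G → ℂ) x) = 0 := by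
        rcases mul_eq_zero.mp this with h | h
        · exact absurd h (inv_ne_zero hG)
        · exact h
      have e : ∑ x : G, Bp.indicator 1 χ' * (χ' : G → ℂ) y * conj ((χ' : G → ℂ) x) * (χ : G → ℂ) x
          = Bp.indicator 1 χ' * (χ' : G → ℂ) y * ∑ x : G, (χ : G → ℂ) x * conj ((χ' : G → ℂ) x) := by
        rw [Finset.mul_sum]
        apply Finset.sum_congr rfl; intro x _; ring
      rw [e, h0, mul_zero]
    · intro h; exact absurd (Finset.mem_univ _) h
  simp only [hexp, Finset.mul_sum, Finset.sum_mul]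
  rw [Finset.sum_comm]
  apply Finset.sum_eq_zero; intro x _
  by_cases hx : q ∣ orderOf x
  · have hxp : ¬ p ∣ orderOf x := by
      intro hp
      have hd : p * q ∣ orderOf x :=
        Nat.Coprime.mul_dvd_of_dvd_of_dvd ((Nat.coprime_primes hMp.1 hMq.1).mpr hpq) hp hx
      obtain ⟨k, hk⟩ := hd
      have hx0 : orderOf x ≠ 0 := (orderOf_pos x).ne'
      apply hno (x ^ k)
      have hk0 : k ≠ 0 := by rintro rfl; rw [mul_zero] at hk; exact hx0 hk
      rw [orderOf_pow_of_dvd hk0 ⟨p * q, by rw [hk]; ring⟩, hk]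
      exact Nat.mul_div_cancel _ (Nat.pos_of_ne_zero hk0)
    rw [hθ0 x hxp]
    simp
  · have := wbo hMq _ (inZ_indicator_block hMq χq) (indicator_mul_self _) x g hx hg
    have e : ∑ χ : IrrCharacter G, Bq.indicator 1 χ * ((Nat.card G : ℂ)⁻¹ * (θ x * (χ : G → ℂ) x)) * conj ((χ : G → ℂ) g)
        = (Nat.card G : ℂ)⁻¹ * θ x * ∑ χ : IrrCharacter G, Bq.indicator 1 χ * (χ : G → ℂ) x * conj ((χ : G → ℂ) g) := by
      rw [Finset.mul_sum]
      apply Finset.sum_congr rfl; intro χ _; ring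
    rw [e, this, mul_zero]

theorem two_prime_div [Finite G] (p q : ℕ) [Fact q.Prime] (hpq : p ≠ q) (Mp Mq : Ideal AlgInt)
    (hMp : IsPModular p Mp) (hMq : IsPModular q Mq) (hno : ∀ g : G, orderOf g ≠ p * q)
    (Bp : Set (IrrCharacter G)) (hBp : IsPBlock Mp Bp) (Bq : Set (IrrCharacter G)) (hBq : IsPBlock Mq Bq)
    (y : G) (hy : p ∣ orderOf y) :
    ∃ ω : AlgInt, ∑ᶠ χ ∈ Bp ∩ Bq, (charDegree (χ : G → ℂ) : ℂ) * (χ : G → ℂ) y
      = (q : ℂ) ^ (Nat.card G).factorization q * (ω : ℂ) := by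
  classical
  haveI := Fintype.ofFinite G
  haveI := Fintype.ofFinite (IrrCharacter G)
  obtain ⟨Q⟩ : Nonempty (Sylow q G) := inferInstance
  haveI := Fintype.ofFinite (IrrCharacter (Q : Subgroup G))
  have hk : ∀ χ : IrrCharacter G, ∃ k : ℕ, ∑ g : (Q : Subgroup G), conj ((χ : G → ℂ) g) = (Nat.card (Q : Subgroup G) : ℂ) * k := by
    intro χ
    obtain ⟨k, hk⟩ := IsCharacter.classInner_nat (IsCharacter.one (G := (Q : Subgroup G)))
      (IsCharacter.restrict (Q : Subgroup G) (IsIrrCharacter.isCharacter χ.2))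
    refine ⟨k, ?_⟩
    rw [← hk]
    unfold classInner
    rw [← mul_assoc, mul_inv_cancel₀ card_ne_zero_C, one_mul]
    apply Finset.sum_congr rfl; intro g _; rw [one_mul]
  choose k hk using hk
  have hint : IsIntegral ℤ (∑ χ : IrrCharacter G, Bq.indicator 1 χ * (Bp.indicator 1 χ * (χ : G → ℂ) y) * (k χ : ℂ)) := by
    apply IsIntegral.sum
    intro χ _
    have h1 : ∀ A : Set (IrrCharacter G), IsIntegral ℤ (A.indicator (1 : IrrCharacter G → ℂ) χ) := by
      intro A
      by_cases h : χ ∈ A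
      · rw [Set.indicator_of_mem h]; exact isIntegral_one
      · rw [Set.indicator_of_notMem h]; exact isIntegral_zero
    exact ((h1 Bq).mul ((h1 Bp).mul (IsCharacter.isIntegral (IsIrrCharacter.isCharacter χ.2) y))).mul
      (by exact_mod_cast (isIntegral_algebraMap (R := ℤ) (A := ℂ) (x := (k χ : ℤ))))
  refine ⟨⟨_, hint⟩, ?_⟩
  have hcard : (Nat.card (Q : Subgroup G) : ℂ) = (q : ℂ) ^ (Nat.card G).factorization q := by
    rw [Sylow.card_eq_multiplicity]; push_cast; rfl
  rw [← hcard, finsum_mem_eq_sum_indicator, Finset.mul_sum]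
  have hsum : ∑ g : (Q : Subgroup G), ∑ χ : IrrCharacter G,
      Bq.indicator 1 χ * (Bp.indicator 1 χ * (χ : G → ℂ) y) * conj ((χ : G → ℂ) (g : G))
      = ∑ χ : IrrCharacter G, Bq.indicator 1 χ * (Bp.indicator 1 χ * (χ : G → ℂ) y) * conj ((χ : G → ℂ) 1) := by
    rw [Finset.sum_eq_single (1 : (Q : Subgroup G))]
    · rfl
    · intro g _ hg
      apply two_prime_vanish p q hpq Mp Mq hMp hMq hno Bp hBp Bq hBq y hy
      obtain ⟨j, hj⟩ := pel_of_mem hMq.1 Q.2 g
      rw [hj]
      have : j ≠ 0 := by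
        rintro rfl
        rw [pow_zero, orderOf_eq_one_iff] at hj
        exact hg (Subtype.ext hj)
      exact dvd_pow_self q this
    · intro h; exact absurd (Finset.mem_univ _) h
  rw [Finset.sum_comm] at hsum
  have e1 : ∑ χ : IrrCharacter G, (Bp ∩ Bq).indicator 1 χ * ((charDegree (χ : G → ℂ) : ℂ) * (χ : G → ℂ) y)
      = ∑ χ : IrrCharacter G, Bq.indicator 1 χ * (Bp.indicator 1 χ * (χ : G → ℂ) y) * conj ((χ : G → ℂ) 1) := by
    apply Finset.sum_congr rfl; intro χ _
    rw [charDegree_cast, IsCharacter.conj_apply_one (IsIrrCharacter.isCharacter χ.2)]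
    have : (Bp ∩ Bq).indicator (1 : IrrCharacter G → ℂ) χ = Bq.indicator 1 χ * Bp.indicator 1 χ := by
      by_cases h1 : χ ∈ Bp <;> by_cases h2 : χ ∈ Bq <;> simp [Set.indicator, h1, h2]
    rw [this]; ring
  rw [e1, ← hsum]
  apply Finset.sum_congr rfl; intro χ _
  rw [← Finset.mul_sum, hk]
  ring


theorem two_prime_principal [Finite G] (p q : ℕ) [Fact p.Prime] [Fact q.Prime] (hpq : p ≠ q)
    (hp : p ∣ Nat.card G) (hq : q ∣ Nat.card G) (hno : ∀ g : G, orderOf g ≠ p * q) (Mp Mq : Ideal AlgInt)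
    (hMp : IsPModular p Mp) (hMq : IsPModular q Mq) :
    ∃ χ : IrrCharacter G, (χ : G → ℂ) ≠ (fun _ => 1) ∧ χ ∈ principalBlock Mp G ∧ χ ∈ principalBlock Mq G := by
  classical
  haveI := Fintype.ofFinite G
  haveI := Fintype.ofFinite (IrrCharacter G)
  by_contra hcon
  push Not at hcon
  obtain ⟨y, hy⟩ := exists_prime_orderOf_dvd_card' p hp
  obtain ⟨ω, hω⟩ := two_prime_div p q hpq Mp Mq hMp hMq hno (principalBlock Mp G) ⟨trivIrr G, principalBlock_eq⟩
    (principalBlock Mq G) ⟨trivIrr G, principalBlock_eq⟩ y (by rw [hy])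
  have hset : principalBlock Mp G ∩ principalBlock Mq G = {trivIrr G} := by
    ext χ
    constructor
    · rintro ⟨h1, h2⟩
      by_contra hne
      apply hcon χ _ h1 h2
      intro h
      exact hne (Subtype.ext h)
    · rintro rfl
      exact ⟨by rw [principalBlock_eq]; exact SameBlock.refl hMp _, by rw [principalBlock_eq]; exact SameBlock.refl hMq _⟩
  rw [hset, finsum_mem_singleton, charDegree_cast] at hω
  have h1 : ((trivIrr G : IrrCharacter G) : G → ℂ) 1 * ((trivIrr G : IrrCharacter G) : G → ℂ) y = 1 := by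
    show (1 : ℂ) * 1 = 1
    simp
  rw [h1] at hω
  have hb : (Nat.card G).factorization q ≠ 0 := by
    have := (Nat.Prime.dvd_iff_one_le_factorization hMq.1 Nat.card_pos.ne').mp hq
    omega
  obtain ⟨b, hb'⟩ := Nat.exists_eq_succ_of_ne_zero hb
  rw [hb', pow_succ'] at hω
  have h2 : (1 : AlgInt) = (q : AlgInt) * ((q : AlgInt) ^ b * ω) := by
    apply Subtype.ext
    push_cast
    rw [hω]; ring
  have h3 : (1 : AlgInt) ∈ Mq := by
    rw [h2]; exact Ideal.mul_mem_right _ _ hMq.2.2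
  exact hMq.2.1.ne_top ((Ideal.eq_top_iff_one _).mpr h3)

end TwoPrimes
end Cfsg.Agent.H4
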