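import Cfsg.Agent.Lib_helper4_BlkAL

set_option autoImplicit false
set_option linter.style.haveILetI false
set_option linter.unusedSectionVars false
namespace Cfsg.Agent.H4
open Module
open scoped ComplexConjugate
universe u v w

section Count
variable {p : ℕ} {M : Ideal AlgInt}

theorem prod_sub_one_mem (hM : IsPModular p M) {ι : Type*} (s : Finset ι) (f : ι → ℂ)
    (h : ∀ i ∈ s, MemLocalIdeal M (f i - 1)) : MemLocalIdeal M (∏ i ∈ s, f i - 1) := by
  classical
  induction s using Finset.induction_on with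
  | empty => simp; exact MemLocalIdeal.zero hM
  | insert a s ha ih =>
    rw [Finset.prod_insert ha]
    have h1 := h a (Finset.mem_insert_self _ _)
    have h2 := ih (fun i hi => h i (Finset.mem_insert_of_mem hi))
    have e : f a * ∏ i ∈ s, f i - 1 = (f a - 1) * (∏ i ∈ s, f i) + (∏ i ∈ s, f i - 1) := by ring
    rw [e]
    have h3 : MemLocalRing M (∏ i ∈ s, f i) := by
      have := MemLocalRing.add hM (MemLocalIdeal.memLocalRing h2) (MemLocalRing.one hM)
      rwa [sub_add_cancel] at this
    exact MemLocalIdeal.add hM (MemLocalIdeal.mul_right hM h1 h3) h2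

theorem det_sub_one_mem (hM : IsPModular p M) {ι : Type*} [Fintype ι] [DecidableEq ι] (X : Matrix ι ι ℂ)
    (h : ∀ i j, MemLocalIdeal M (X i j - if i = j then 1 else 0)) : MemLocalIdeal M (X.det - 1) := by
  have hR : ∀ i j, MemLocalRing M (X i j) := by
    intro i j
    have := MemLocalRing.add hM (MemLocalIdeal.memLocalRing (h i j))
      (show MemLocalRing M (if i = j then (1 : ℂ) else 0) by
        split_ifs
        · exact MemLocalRing.one hM
        · exact MemLocalRing.zero hM)
    rwa [sub_add_cancel] at this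
  rw [Matrix.det_apply, ← Finset.add_sum_erase _ _ (Finset.mem_univ (1 : Equiv.Perm ι))]
  have e1 : MemLocalIdeal M (Equiv.Perm.sign (1 : Equiv.Perm ι) • ∏ i, X ((1 : Equiv.Perm ι) i) i - 1) := by
    rw [Equiv.Perm.sign_one, one_smul]
    apply prod_sub_one_mem hM
    intro i _
    have := h i i
    rwa [if_pos rfl] at this
  have e2 : MemLocalIdeal M (∑ σ ∈ Finset.univ.erase (1 : Equiv.Perm ι), Equiv.Perm.sign σ • ∏ i, X (σ i) i) := by
    apply MemLocalIdeal.sum hM
    intro σ hσ
    have hne : σ ≠ 1 := (Finset.mem_erase.mp hσ).1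
    obtain ⟨i, hi⟩ : ∃ i, σ i ≠ i := by
      by_contra hc
      push Not at hc
      exact hne (Equiv.ext hc)
    have h1 : MemLocalIdeal M (X (σ i) i) := by
      have := h (σ i) i
      rwa [if_neg hi, sub_zero] at this
    have h2 : MemLocalIdeal M (∏ i, X (σ i) i) := by
      rw [← Finset.mul_prod_erase _ _ (Finset.mem_univ i)]
      exact MemLocalIdeal.mul_right hM h1 (MemLocalRing.prod hM _ _ (fun j _ => hR _ _))
    rcases Int.units_eq_one_or (Equiv.Perm.sign σ) with hs | hs
    · rw [hs, one_smul]; exact h2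
    · rw [hs, Units.neg_smul, one_smul]; exact MemLocalIdeal.neg h2
  have e3 : Equiv.Perm.sign (1 : Equiv.Perm ι) • ∏ i, X ((1 : Equiv.Perm ι) i) i +
      ∑ σ ∈ Finset.univ.erase (1 : Equiv.Perm ι), Equiv.Perm.sign σ • ∏ i, X (σ i) i - 1
      = (Equiv.Perm.sign (1 : Equiv.Perm ι) • ∏ i, X ((1 : Equiv.Perm ι) i) i - 1) +
      ∑ σ ∈ Finset.univ.erase (1 : Equiv.Perm ι), Equiv.Perm.sign σ • ∏ i, X (σ i) i := by ring
  rw [e3]
  exact MemLocalIdeal.add hM e1 e2

theorem card_le_of_congr_one (hM : IsPModular p M) {ι κ : Type*} [Fintype ι] [Fintype κ] [DecidableEq ι]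
    (A : Matrix ι κ ℂ) (C : Matrix κ ι ℂ)
    (h : ∀ i j, MemLocalIdeal M ((A * C) i j - if i = j then 1 else 0)) :
    Fintype.card ι ≤ Fintype.card κ := by
  have h1 := det_sub_one_mem hM (A * C) h
  have hdet : (A * C).det ≠ 0 := by
    intro h0
    rw [h0, zero_sub] at h1
    have := MemLocalIdeal.neg h1
    rw [neg_neg] at this
    exact not_memLocalIdeal_one hM this
  have hu : IsUnit (A * C) := (Matrix.isUnit_iff_isUnit_det _).mpr (isUnit_iff_ne_zero.mpr hdet)
  have h2 := Matrix.rank_of_isUnit (A * C) hu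
  have h3 := Matrix.rank_mul_le_left A C
  have h4 := Matrix.rank_le_card_width A
  omega


theorem card_blocks_le {G : Type u} [Group G] [Finite G] (hM : IsPModular p M)
    (PB : Set (IrrCharacter G) → Prop) (PC : ConjClasses G → Prop)
    (h : ∀ [Fintype G] [Fintype (IrrCharacter G)] (χ χ' : IrrCharacter G), PB (blockOf M (χ : G → ℂ)) → PB (blockOf M (χ' : G → ℂ)) →
      ∀ C : ConjClasses G, ¬ PC C →
      MemLocalIdeal M (coef (Set.indicator (blockOf M (χ' : G → ℂ)) (1 : IrrCharacter G → ℂ)) (Quotient.out C) *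
        centralChar (χ : G → ℂ) (Quotient.out C))) :
    Nat.card {B : Set (IrrCharacter G) // IsPBlock M B ∧ PB B} ≤ Nat.card {C : ConjClasses G // PC C} := by
  classical
  haveI := Fintype.ofFinite G
  haveI := Fintype.ofFinite (IrrCharacter G)
  haveI := Fintype.ofFinite (ConjClasses G)
  haveI := Fintype.ofFinite {B : Set (IrrCharacter G) // IsPBlock M B ∧ PB B}
  rw [Nat.card_eq_fintype_card, Nat.card_eq_fintype_card]
  choose rep hrep using fun B : {B : Set (IrrCharacter G) // IsPBlock M B ∧ PB B} => B.2.1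
  apply card_le_of_congr_one hM
    (Matrix.of fun (B : {B : Set (IrrCharacter G) // IsPBlock M B ∧ PB B}) (C : {C : ConjClasses G // PC C}) =>
      centralChar (rep B : G → ℂ) (Quotient.out C.1))
    (Matrix.of fun (C : {C : ConjClasses G // PC C}) (B : {B : Set (IrrCharacter G) // IsPBlock M B ∧ PB B}) =>
      coef (Set.indicator B.1 (1 : IrrCharacter G → ℂ)) (Quotient.out C.1))
  intro B B'
  rw [Matrix.mul_apply]
  simp only [Matrix.of_apply]
  have h1 : (if B = B' then (1 : ℂ) else 0) = Set.indicator B'.1 (1 : IrrCharacter G → ℂ) (rep B) := by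
    by_cases hBB : B = B'
    · rw [if_pos hBB, Set.indicator_of_mem]
      · rfl
      · rw [← hBB, hrep B]; exact SameBlock.refl hM _
    · rw [if_neg hBB, Set.indicator_of_notMem]
      intro hmem
      apply hBB
      apply Subtype.ext
      rw [hrep B]
      exact (IsPBlock.eq_blockOf hM B'.2.1 hmem).symm
  rw [h1, eval_eq_sum_classes (Set.indicator B'.1 (1 : IrrCharacter G → ℂ)) (rep B)]
  rw [← Finset.sum_subtype (Finset.univ.filter PC) (by simp)
    (fun C => centralChar (rep B : G → ℂ) (Quotient.out C) * coef (Set.indicator B'.1 (1 : IrrCharacter G → ℂ)) (Quotient.out C))]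
  rw [← Finset.sum_filter_add_sum_filter_not Finset.univ PC
    (fun C => coef (Set.indicator B'.1 (1 : IrrCharacter G → ℂ)) (Quotient.out C) * centralChar (rep B : G → ℂ) (Quotient.out C))]
  have e : ∑ C ∈ Finset.univ.filter PC, centralChar (rep B : G → ℂ) (Quotient.out C) * coef (Set.indicator B'.1 (1 : IrrCharacter G → ℂ)) (Quotient.out C)
      = ∑ C ∈ Finset.univ.filter PC, coef (Set.indicator B'.1 (1 : IrrCharacter G → ℂ)) (Quotient.out C) * centralChar (rep B : G → ℂ) (Quotient.out C) :=
    Finset.sum_congr rfl (fun C _ => mul_comm _ _)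
  rw [e, sub_add_cancel_left]
  apply MemLocalIdeal.neg
  apply MemLocalIdeal.sum hM
  intro C hC
  have hC' : ¬ PC C := (Finset.mem_filter.mp hC).2
  have := h (rep B) (rep B') (by rw [← hrep B]; exact B.2.2) (by rw [← hrep B']; exact B'.2.2) C hC'
  rw [← hrep B'] at this
  convert this

theorem card_blocks_defect_eq_le {G : Type u} [Group G] [Finite G] (hM : IsPModular p M) (σ : ℕ) :
    Nat.card {B : Set (IrrCharacter G) // IsPBlock M B ∧ blockDefect p B = σ} ≤
      Nat.card {C : ConjClasses G // ∃ g : G, ConjClasses.mk g = C ∧ ¬ p ∣ orderOf g ∧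
        (Nat.card (Subgroup.centralizer ({g} : Set G))).factorization p = σ} := by
  apply card_blocks_le hM (fun B => blockDefect p B = σ)
  intro _ _ χ χ' hχ hχ' C hC
  set g := Quotient.out C with hg
  have hgC : ConjClasses.mk g = C := Quotient.out_eq C
  have hR : MemLocalRing M (centralChar (χ : G → ℂ) g) := memLocalRing_of_isIntegral hM (isIntegral_centralChar χ g)
  by_cases hs : p ∣ orderOf g
  · rw [coef_vanish_of_idem hM _ (inZ_indicator_block hM χ') (indicator_mul_self _) g hs, zero_mul]
    exact MemLocalIdeal.zero hM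
  rcases lt_trichotomy ((Nat.card (Subgroup.centralizer ({g} : Set G))).factorization p) σ with h1 | h1 | h1
  · exact MemLocalIdeal.mul_left hM (inZ_indicator_block hM χ' g)
      (centralChar_mem_of_small_defect hM χ g (by rw [hχ]; exact h1))
  · exact absurd ⟨g, hgC, hs, h1⟩ hC
  · exact MemLocalIdeal.mul_right hM (coef_mem_of_large_defect hM χ' g (by rw [hχ']; exact h1)) hR

theorem card_blocks_defect_ge_le {G : Type u} [Group G] [Finite G] (hM : IsPModular p M) (d : ℕ) :
    Nat.card {B : Set (IrrCharacter G) // IsPBlock M B ∧ d ≤ blockDefect p B} ≤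
      Nat.card {C : ConjClasses G // ∃ g : G, ConjClasses.mk g = C ∧ IsPRegular p g ∧
        d ≤ (Nat.card (Subgroup.centralizer ({g} : Set G))).factorization p} := by
  apply card_blocks_le hM (fun B => d ≤ blockDefect p B)
  intro _ _ χ χ' hχ hχ' C hC
  set g := Quotient.out C with hg
  have hgC : ConjClasses.mk g = C := Quotient.out_eq C
  by_cases hs : p ∣ orderOf g
  · rw [coef_vanish_of_idem hM _ (inZ_indicator_block hM χ') (indicator_mul_self _) g hs, zero_mul]
    exact MemLocalIdeal.zero hM
  by_cases h1 : d ≤ (Nat.card (Subgroup.centralizer ({g} : Set G))).factorization p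
  · exact absurd ⟨g, hgC, hs, h1⟩ hC
  · exact MemLocalIdeal.mul_left hM (inZ_indicator_block hM χ' g)
      (centralChar_mem_of_small_defect hM χ g (by omega))

end Count
end Cfsg.Agent.H4
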