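import Cfsg.Agent.Lib_helper4_BlkAM

set_option autoImplicit false
set_option linter.style.haveILetI false
set_option linter.unusedSectionVars false
namespace Cfsg.Agent.H4
open Module
open scoped ComplexConjugate
universe u v w

section SumSq
variable {p : ℕ} {M : Ideal AlgInt} {G : Type u} [Group G]

theorem sum_sq_val [Finite G] [Fact p.Prime] (hM : IsPModular p M) (B : Set (IrrCharacter G)) (hB : IsPBlock M B) :
    (∑ᶠ χ ∈ B, charDegree (χ : G → ℂ) ^ 2).factorization p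
      = 2 * (Nat.card G).factorization p - blockDefect p B := by
  classical
  haveI := Fintype.ofFinite G
  haveI := Fintype.ofFinite (IrrCharacter G)
  have hp : p.Prime := hM.1
  obtain ⟨χ0, hχ0, h0⟩ := exists_height_zero hM B hB
  choose d hd0 hd1 hd2 using fun χ : IrrCharacter G => IrrCharacter.exists_degree χ
  set a := (Nat.card G).factorization p with ha
  set s := (d χ0).factorization p with hs
  have hs' : s = sInf ((fun χ : IrrCharacter G => (charDegree (χ : G → ℂ)).factorization p) '' B) := by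
    rw [← height_zero_val B χ0 hχ0 h0, hd2]
  have hadef : a = s + blockDefect p B := by rw [hs']; exact card_val_eq B χ0 hχ0
  have hsle : ∀ ψ ∈ B, s ≤ (d ψ).factorization p := by
    intro ψ hψ
    have := val_eq_add_height (p := p) B ψ hψ
    rw [hd2, ← hs'] at this
    omega
  set W : IrrCharacter G → ℤ := fun ψ => rN p χ0 ψ * d χ0 - (if ψ ∈ B then rN p χ0 χ0 * d ψ else 0) with hW
  have hWdvd : ∀ ψ, (p : ℤ) ^ (2 * s + 1) ∣ W ψ := by
    intro ψ
    by_cases hψ : ψ ∈ B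
    · have hsb : SameBlock M (ψ : G → ℂ) (χ0 : G → ℂ) := by
        have := IsPBlock.eq_blockOf hM hB hψ
        rw [this] at hχ0; exact hχ0
      have h1 := InZ.congr hM (inZ_spec_wfun (p := p) hM (IsIrrCharacter.isCharacter χ0.2)) hsb
      rw [spec_wfun, spec_wfun, rN_ratio χ0 ψ (d ψ) (hd1 ψ), rN_ratio χ0 χ0 (d χ0) (hd1 χ0), ← mul_sub] at h1
      have hg' : ¬ p ∣ Nat.card G / p ^ (Nat.card G).factorization p := Nat.not_dvd_ordCompl hp Nat.card_pos.ne'
      have h2 := MemLocalIdeal.mul_left hM (memLocalRing_inv_natCast hM hg') h1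
      have hg0 : ((Nat.card G / p ^ (Nat.card G).factorization p : ℕ) : ℂ) ≠ 0 := by
        intro h
        apply hg'
        have : Nat.card G / p ^ (Nat.card G).factorization p = 0 := by exact_mod_cast h
        rw [this]; exact dvd_zero _
      rw [← mul_assoc, inv_mul_cancel₀ hg0, one_mul] at h2
      have hdψ : (d ψ : ℂ) ≠ 0 := by exact_mod_cast (hd0 ψ).ne'
      have hdχ : (d χ0 : ℂ) ≠ 0 := by exact_mod_cast (hd0 χ0).ne'
      have e : (rN p χ0 ψ : ℂ) / (d ψ : ℂ) - (rN p χ0 χ0 : ℂ) / (d χ0 : ℂ) = ((W ψ : ℤ) : ℂ) / ((d ψ * d χ0 : ℕ) : ℂ) := by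
        simp only [hW, if_pos hψ]
        push_cast
        field_simp
      rw [e, int_ratio_mem_iff hM _ _ (Nat.mul_ne_zero (hd0 ψ).ne' (hd0 χ0).ne')] at h2
      refine dvd_trans (pow_dvd_pow _ ?_) h2
      rw [Nat.factorization_mul (hd0 ψ).ne' (hd0 χ0).ne', Finsupp.add_apply]
      have := hsle ψ hψ
      omega
    · have : rN p χ0 ψ = 0 := by
        apply rN_eq_zero hM
        intro h
        apply hψ
        rw [IsPBlock.eq_blockOf hM hB hχ0]; exact h
      simp only [hW, if_neg hψ, this]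
      simp
  choose w hw using hWdvd
  obtain ⟨P⟩ : Nonempty (Sylow p G) := inferInstance
  haveI := Fintype.ofFinite (IrrCharacter (P : Subgroup G))
  have hk : ∀ χ : IrrCharacter G, ∃ k : ℕ, ∑ g : (P : Subgroup G), (χ : G → ℂ) g = (Nat.card (P : Subgroup G) : ℂ) * k := by
    intro χ
    obtain ⟨k, hk⟩ := IsCharacter.classInner_nat
      (IsCharacter.restrict (P : Subgroup G) (IsIrrCharacter.isCharacter χ.2)) (IsCharacter.one (G := (P : Subgroup G)))
    refine ⟨k, ?_⟩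
    rw [← hk]
    unfold classInner
    rw [← mul_assoc, mul_inv_cancel₀ card_ne_zero_C, one_mul]
    apply Finset.sum_congr rfl; intro g _; simp
  choose k hk using hk
  have hcard : (Nat.card (P : Subgroup G) : ℂ) = ((p ^ a : ℕ) : ℂ) := by
    rw [Sylow.card_eq_multiplicity]
  -- the function θ'
  have hθ : ∀ g : G, ∑ ψ : IrrCharacter G, (W ψ : ℂ) * (ψ : G → ℂ) g
      = (d χ0 : ℂ) * tildeFun p (χ0 : G → ℂ) g - (rN p χ0 χ0 : ℂ) * ∑ ψ : IrrCharacter G, B.indicator 1 ψ * ((d ψ : ℂ) * (ψ : G → ℂ) g) := by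
    intro g
    rw [tildeFun_expansion, Finset.sum_apply, Finset.mul_sum, Finset.mul_sum, ← Finset.sum_sub_distrib]
    apply Finset.sum_congr rfl; intro ψ _
    simp only [hW, Pi.smul_apply, smul_eq_mul]
    by_cases hψ : ψ ∈ B
    · rw [if_pos hψ, Set.indicator_of_mem hψ]; push_cast; simp only [Pi.one_apply]; ring
    · rw [if_neg hψ, Set.indicator_of_notMem hψ]; push_cast; ring
  have hvan : ∀ g : G, p ∣ orderOf g → ∑ ψ : IrrCharacter G, (W ψ : ℂ) * (ψ : G → ℂ) g = 0 := by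
    intro g hg
    rw [hθ, tildeFun_eq]
    have h1 : regInd p G g = 0 := by unfold regInd; rw [if_pos hg]
    obtain ⟨χ1, rfl⟩ := hB
    have h2 := wbo hM _ (inZ_indicator_block hM χ1) (indicator_mul_self _) 1 g⁻¹
      (by rw [orderOf_one]; exact hp.one_lt.ne' ∘ Nat.dvd_one.mp) (by rwa [orderOf_inv])
    have h3 : ∑ ψ : IrrCharacter G, (blockOf M (χ1 : G → ℂ)).indicator 1 ψ * ((d ψ : ℂ) * (ψ : G → ℂ) g) = 0 := by
      rw [← h2]
      apply Finset.sum_congr rfl; intro ψ _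
      rw [IsCharacter.inv_eq_conj (IsIrrCharacter.isCharacter ψ.2), Complex.conj_conj, hd1]
      ring
    rw [h1, h3]; ring
  have hsum : ∑ g : (P : Subgroup G), ∑ ψ : IrrCharacter G, (W ψ : ℂ) * (ψ : G → ℂ) (g : G)
      = ∑ ψ : IrrCharacter G, (W ψ : ℂ) * (ψ : G → ℂ) 1 := by
    rw [Finset.sum_eq_single (1 : (P : Subgroup G))]
    · rfl
    · intro g _ hg
      apply hvan
      obtain ⟨j, hj⟩ := pel_of_mem hp P.2 g
      rw [hj]
      have : j ≠ 0 := by
        rintro rfl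
        rw [pow_zero, orderOf_eq_one_iff] at hj
        exact hg (Subtype.ext hj)
      exact dvd_pow_self p this
    · intro h; exact absurd (Finset.mem_univ _) h
  rw [Finset.sum_comm] at hsum
  set S : ℕ := ∑ᶠ χ ∈ B, charDegree (χ : G → ℂ) ^ 2 with hS
  have hSC : (S : ℂ) = ∑ ψ : IrrCharacter G, B.indicator 1 ψ * ((d ψ : ℂ) * (ψ : G → ℂ) 1) := by
    rw [hS, finsum_mem_eq_finite_toFinset_sum _ (Set.toFinite B)]
    push_cast
    rw [← Finset.sum_subset (Finset.subset_univ (Set.toFinite B).toFinset)]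
    · apply Finset.sum_congr rfl; intro ψ hψ
      rw [Set.indicator_of_mem ((Set.Finite.mem_toFinset _).mp hψ), hd2, hd1]
      simp only [Pi.one_apply]; ring
    · intro ψ _ hψ
      rw [Set.indicator_of_notMem (fun h => hψ ((Set.Finite.mem_toFinset _).mpr h)), zero_mul]
  have hint : (d χ0 : ℤ) * ((p : ℤ) ^ a * d χ0) - rN p χ0 χ0 * (S : ℤ)
      = (p : ℤ) ^ a * ((p : ℤ) ^ (2 * s + 1) * ∑ ψ : IrrCharacter G, w ψ * k ψ) := by
    have : (((d χ0 : ℤ) * ((p : ℤ) ^ a * d χ0) - rN p χ0 χ0 * (S : ℤ) : ℤ) : ℂ)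
      = (((p : ℤ) ^ a * ((p : ℤ) ^ (2 * s + 1) * ∑ ψ : IrrCharacter G, w ψ * k ψ) : ℤ) : ℂ) := by
      have e1 := hθ 1
      rw [tildeFun_eq, ← hSC, ← hsum] at e1
      have h1 : regInd p G 1 = 1 := by
        unfold regInd; rw [if_neg (by rw [orderOf_one]; exact hp.one_lt.ne' ∘ Nat.dvd_one.mp)]
      rw [h1, hd1] at e1
      push_cast
      push_cast at e1
      rw [one_mul] at e1
      rw [← e1, Finset.mul_sum, Finset.mul_sum]
      apply Finset.sum_congr rfl; intro ψ _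
      rw [← Finset.mul_sum, hk, hcard, hw]
      push_cast; ring
    exact_mod_cast this
  obtain ⟨u, hu⟩ : (p : ℤ) ^ s ∣ rN p χ0 χ0 := by
    have := rN_dvd (p := p) χ0 χ0
    rwa [hd2] at this
  have hpu : ¬ (p : ℤ) ∣ u := by
    intro h
    obtain ⟨u', rfl⟩ := h
    apply rN_not_dvd hM B hB χ0 hχ0 h0 χ0 hχ0
    rw [hd2, hu]
    exact ⟨u', by rw [pow_succ]; ring⟩
  set t0 := d χ0 / p ^ s with ht0
  have hd0eq : d χ0 = p ^ s * t0 := (Nat.ordProj_mul_ordCompl_eq_self (d χ0) p).symm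
  have hpt0 : ¬ p ∣ t0 := Nat.not_dvd_ordCompl hp (hd0 χ0).ne'
  set Wk := ∑ ψ : IrrCharacter G, w ψ * k ψ with hWk
  have hpZ : Prime (p : ℤ) := Nat.prime_iff_prime_int.mp hp
  have hp0 : (p : ℤ) ≠ 0 := hpZ.ne_zero
  have key : u * (S : ℤ) = (p : ℤ) ^ (a + s) * ((t0 : ℤ) ^ 2 - p * Wk) := by
    have h1 : (p : ℤ) ^ s * (u * (S : ℤ)) = (p : ℤ) ^ s * ((p : ℤ) ^ (a + s) * ((t0 : ℤ) ^ 2 - p * Wk)) := by
      have h2 : (d χ0 : ℤ) = (p : ℤ) ^ s * t0 := by exact_mod_cast hd0eq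
      rw [hu, h2] at hint
      have e1 : (p : ℤ) ^ (2 * s + 1) = (p : ℤ) ^ s * (p : ℤ) ^ s * p := by
        rw [two_mul, pow_succ, pow_add]
      rw [e1] at hint
      rw [pow_add]
      linear_combination -hint
    exact mul_left_cancel₀ (pow_ne_zero _ hp0) h1
  have hv : ¬ (p : ℤ) ∣ ((t0 : ℤ) ^ 2 - p * Wk) := by
    intro h
    have h2 : (p : ℤ) ∣ (t0 : ℤ) ^ 2 := by
      have := dvd_add h (Dvd.intro Wk rfl : (p : ℤ) ∣ p * Wk)
      rwa [sub_add_cancel] at this
    have h3 := hpZ.dvd_of_dvd_pow h2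
    exact hpt0 (by exact_mod_cast h3)
  have hS0 : S ≠ 0 := by
    intro h
    rw [h] at key
    simp only [Nat.cast_zero, mul_zero] at key
    rcases mul_eq_zero.mp key.symm with h1 | h1
    · exact pow_ne_zero _ hp0 h1
    · exact hv (by rw [h1]; exact dvd_zero _)
  have hcop : IsCoprime ((p : ℤ) ^ (a + s)) u := IsCoprime.pow_left ((hpZ.coprime_iff_not_dvd).mpr hpu)
  have hle : a + s ≤ S.factorization p := by
    rw [← Nat.Prime.pow_dvd_iff_le_factorization hp hS0]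
    have : (p : ℤ) ^ (a + s) ∣ (S : ℤ) := hcop.dvd_of_dvd_mul_left ⟨_, key⟩
    exact_mod_cast this
  have hnle : ¬ a + s + 1 ≤ S.factorization p := by
    rw [← Nat.Prime.pow_dvd_iff_le_factorization hp hS0]
    intro h
    have h1 : (p : ℤ) ^ (a + s + 1) ∣ (S : ℤ) := by exact_mod_cast h
    have h2 : (p : ℤ) ^ (a + s + 1) ∣ (p : ℤ) ^ (a + s) * ((t0 : ℤ) ^ 2 - p * Wk) := by
      rw [← key]; exact Dvd.dvd.mul_left h1 u
    rw [pow_succ] at h2
    exact hv ((mul_dvd_mul_iff_left (pow_ne_zero _ hp0)).mp h2)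
  omega

end SumSq
end Cfsg.Agent.H4
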