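import Cfsg.Agent.Lib_helper4_BlkAN

set_option autoImplicit false
set_option linter.style.haveILetI false
set_option linter.unusedSectionVars false
namespace Cfsg.Agent.H4
open Module
open scoped ComplexConjugate
universe u v w

section RankOne
variable {p : ℕ} {M : Ideal AlgInt} {G : Type u} [Group G]

theorem rank_one_prop [Finite G] (hp : p.Prime) (B : Set (IrrCharacter G)) (hl : blockRank p B = 1)
    (χ0 : IrrCharacter G) (hχ0 : χ0 ∈ B) (χ : IrrCharacter G) (hχ : χ ∈ B) (x : G) (hx : ¬ p ∣ orderOf x) :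
    (χ : G → ℂ) x = (χ : G → ℂ) 1 / (χ0 : G → ℂ) 1 * (χ0 : G → ℂ) x := by
  classical
  unfold blockRank at hl
  set W := Submodule.span ℂ ((fun χ : IrrCharacter G => pRegularPart p (χ : G → ℂ)) '' B) with hW
  have hvW : pRegularPart p (χ0 : G → ℂ) ∈ W := Submodule.subset_span ⟨χ0, hχ0, rfl⟩
  have h1reg : regInd p G 1 = 1 := by
    unfold regInd; rw [if_neg (by rw [orderOf_one]; exact hp.one_lt.ne' ∘ Nat.dvd_one.mp)]
  have hne := IsIrrCharacter.apply_one_ne_zero χ0.2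
  have hv0 : pRegularPart p (χ0 : G → ℂ) ≠ 0 := by
    intro h
    have := congrFun h 1
    rw [pRegularPart_eq, h1reg, one_mul] at this
    exact hne this
  have h1 := (finrank_eq_one_iff_of_nonzero' (⟨_, hvW⟩ : W) (by
      intro h0; exact hv0 (congrArg Subtype.val h0))).mp hl
  obtain ⟨c, hc⟩ := h1 ⟨_, Submodule.subset_span ⟨χ, hχ, rfl⟩⟩
  have hc' : c • pRegularPart p (χ0 : G → ℂ) = pRegularPart p (χ : G → ℂ) := congrArg Subtype.val hc
  have e1 := congrFun hc' 1
  have e2 := congrFun hc' x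
  rw [Pi.smul_apply, pRegularPart_eq, pRegularPart_eq, smul_eq_mul, h1reg, one_mul, one_mul] at e1
  have hxreg : regInd p G x = 1 := by unfold regInd; rw [if_neg hx]
  rw [Pi.smul_apply, pRegularPart_eq, pRegularPart_eq, smul_eq_mul, hxreg, one_mul, one_mul] at e2
  rw [← e2, ← e1]
  field_simp


theorem rank_one_structure [Fintype G] [Fact p.Prime] (hM : IsPModular p M) (B : Set (IrrCharacter G))
    (hB : IsPBlock M B) (hl : blockRank p B = 1) :
    ∃ φ : G → ℂ, ∃ d : IrrCharacter G → ℕ,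
      (∃ n : IrrCharacter G → ℤ, ∀ x : G, IsPRegular p x → φ x = ∑ᶠ ψ ∈ B, (n ψ : ℂ) * (ψ : G → ℂ) x) ∧
      (∀ χ ∈ B, ∀ x : G, IsPRegular p x → (χ : G → ℂ) x = (d χ : ℂ) * φ x) ∧
      ∑ᶠ χ ∈ B, d χ ^ 2 = p ^ blockDefect p B := by
  classical
  haveI := Fintype.ofFinite (IrrCharacter G)
  have hp : p.Prime := hM.1
  obtain ⟨χ0, hχ0, h0⟩ := exists_height_zero hM B hB
  choose d hd0 hd1 hd2 using fun χ : IrrCharacter G => IrrCharacter.exists_degree χ
  set a := (Nat.card G).factorization p with ha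
  set s := (d χ0).factorization p with hs
  have hs' : s = sInf ((fun χ : IrrCharacter G => (charDegree (χ : G → ℂ)).factorization p) '' B) := by
    rw [← height_zero_val B χ0 hχ0 h0, hd2]
  have hadef : a = s + blockDefect p B := by rw [hs']; exact card_val_eq B χ0 hχ0
  have hsle : ∀ ψ ∈ B, s ≤ (d ψ).factorization p := by
    intro ψ hψ
    have := val_eq_add_height (p := p) B ψ hψ
    rw [hd2, ← hs'] at this
    omega
  -- the gcd
  set v : IrrCharacter G → ℤ := fun ψ => if ψ ∈ B then (d ψ : ℤ) else 0 with hv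
  obtain ⟨g0, hg0⟩ : ∃ g0 : ℤ, Ideal.span (Set.range v) = Ideal.span {g0} :=
    ⟨_, (IsPrincipalIdealRing.principal (Ideal.span (Set.range v))).span_singleton_generator.symm⟩
  obtain ⟨g, n, hgpos, hgn, hgdvd⟩ : ∃ (g : ℕ) (n : IrrCharacter G → ℤ), 0 < g ∧ ∑ ψ, n ψ * v ψ = (g : ℤ) ∧
      ∀ ψ, (g : ℤ) ∣ v ψ := by
    have h1 : g0 ∈ Ideal.span (Set.range v) := by rw [hg0]; exact Ideal.mem_span_singleton_self g0
    obtain ⟨n, hn⟩ := Ideal.mem_span_range_iff_exists_fun.mp h1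
    have h2 : ∀ ψ, g0 ∣ v ψ := by
      intro ψ
      rw [← Ideal.mem_span_singleton, ← hg0]
      exact Ideal.subset_span ⟨ψ, rfl⟩
    have h3 : g0 ≠ 0 := by
      rintro rfl
      have := h2 χ0
      simp only [hv, if_pos hχ0, zero_dvd_iff] at this
      exact (hd0 χ0).ne' (by exact_mod_cast this)
    rcases Int.natAbs_eq g0 with h | h
    · exact ⟨g0.natAbs, n, Int.natAbs_pos.mpr h3, by rw [hn]; exact h, fun ψ => by rw [← h]; exact h2 ψ⟩
    · refine ⟨g0.natAbs, fun ψ => - n ψ, Int.natAbs_pos.mpr h3, ?_, fun ψ => ?_⟩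
      · simp only [neg_mul, Finset.sum_neg_distrib, hn]
        omega
      · have : (g0.natAbs : ℤ) = - g0 := by omega
        rw [this, neg_dvd]; exact h2 ψ
  have hgd : ∀ ψ ∈ B, g ∣ d ψ := by
    intro ψ hψ
    have := hgdvd ψ
    simp only [hv, if_pos hψ] at this
    exact_mod_cast this
  set dd : IrrCharacter G → ℕ := fun ψ => d ψ / g with hdd
  have hdeq : ∀ ψ ∈ B, d ψ = g * dd ψ := fun ψ hψ => (Nat.mul_div_cancel' (hgd ψ hψ)).symm
  have hgC : (g : ℂ) ≠ 0 := by exact_mod_cast hgpos.ne'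
  have hd0C : (d χ0 : ℂ) ≠ 0 := by exact_mod_cast (hd0 χ0).ne'
  have hprop : ∀ χ ∈ B, ∀ x : G, ¬ p ∣ orderOf x → (χ : G → ℂ) x = (d χ : ℂ) / (d χ0 : ℂ) * (χ0 : G → ℂ) x := by
    intro χ hχ x hx
    rw [rank_one_prop hp B hl χ0 hχ0 χ hχ x hx, hd1, hd1]
  have hgnC : ∑ ψ : IrrCharacter G, B.indicator 1 ψ * ((n ψ : ℂ) * (d ψ : ℂ)) = (g : ℂ) := by
    have : ((∑ ψ, n ψ * v ψ : ℤ) : ℂ) = ((g : ℤ) : ℂ) := by rw [hgn]
    push_cast at this
    rw [← this]
    apply Finset.sum_congr rfl; intro ψ _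
    simp only [hv]
    by_cases hψ : ψ ∈ B
    · rw [if_pos hψ, Set.indicator_of_mem hψ]; push_cast; simp
    · rw [if_neg hψ, Set.indicator_of_notMem hψ]; simp
  refine ⟨fun x => (g : ℂ) / (d χ0 : ℂ) * (χ0 : G → ℂ) x, dd, ⟨n, ?_⟩, ?_, ?_⟩
  · intro x hx
    show (g : ℂ) / (d χ0 : ℂ) * (χ0 : G → ℂ) x = _
    rw [finsum_mem_eq_sum_indicator, ← hgnC, Finset.sum_div, Finset.sum_mul]
    apply Finset.sum_congr rfl; intro ψ _
    by_cases hψ : ψ ∈ B
    · rw [hprop ψ hψ x hx]; ring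
    · rw [Set.indicator_of_notMem hψ]; ring
  · intro χ hχ x hx
    rw [hprop χ hχ x hx, hdeq χ hχ]
    push_cast
    field_simp
  · set c : ℕ := ∑ᶠ χ ∈ B, dd χ ^ 2 with hc
    have hcC : (c : ℂ) = ∑ ψ : IrrCharacter G, B.indicator 1 ψ * (dd ψ : ℂ) ^ 2 := by
      rw [hc, finsum_mem_eq_finite_toFinset_sum _ (Set.toFinite B)]
      push_cast
      rw [← Finset.sum_subset (Finset.subset_univ (Set.toFinite B).toFinset)]
      · apply Finset.sum_congr rfl; intro ψ hψ
        rw [Set.indicator_of_mem ((Set.Finite.mem_toFinset _).mp hψ)]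
        simp
      · intro ψ _ hψ
        rw [Set.indicator_of_notMem (fun h => hψ ((Set.Finite.mem_toFinset _).mpr h)), zero_mul]
    set Q := classInner (pRegularPart p (χ0 : G → ℂ)) (χ0 : G → ℂ) with hQ
    have hinner : ∀ χ ∈ B, ∀ ψ ∈ B, classInner (pRegularPart p (χ : G → ℂ)) (ψ : G → ℂ)
        = (d χ : ℂ) * (d ψ : ℂ) / ((d χ0 : ℂ) * (d χ0 : ℂ)) * Q := by
      intro χ hχ ψ hψ
      rw [hQ]
      unfold classInner
      rw [mul_left_comm]
      congr 1
      rw [Finset.mul_sum]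
      apply Finset.sum_congr rfl; intro x _
      rw [pRegularPart_eq, pRegularPart_eq]
      by_cases hx : p ∣ orderOf x
      · have : regInd p G x = 0 := by unfold regInd; rw [if_pos hx]
        rw [this]; ring
      · rw [hprop χ hχ x hx, hprop ψ hψ x hx]
        simp only [map_mul, map_div₀, Complex.conj_natCast]
        ring
    have h1 := blockRank_eq_sum hM B hB
    rw [hl] at h1
    have hQc : (g : ℂ) ^ 2 * (c : ℂ) * Q = (d χ0 : ℂ) ^ 2 := by
      have e : ∑ χ : IrrCharacter G, B.indicator 1 χ * classInner (pRegularPart p (χ : G → ℂ)) (χ : G → ℂ)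
          = (g : ℂ) ^ 2 * (c : ℂ) * Q / (d χ0 : ℂ) ^ 2 := by
        rw [hcC, Finset.mul_sum, Finset.sum_mul, Finset.sum_div]
        apply Finset.sum_congr rfl; intro χ _
        by_cases hχ : χ ∈ B
        · rw [hinner χ hχ χ hχ, hdeq χ hχ]; push_cast; ring
        · rw [Set.indicator_of_notMem hχ]; ring
      rw [e] at h1
      field_simp at h1
      push_cast at h1
      rw [← h1, one_mul]
    have hrN : ∀ χ ∈ B, ∀ ψ ∈ B, (c : ℤ) * rN p χ ψ = (p : ℤ) ^ a * (dd χ * dd ψ) := by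
      intro χ hχ ψ hψ
      have : (((c : ℤ) * rN p χ ψ : ℤ) : ℂ) = (((p : ℤ) ^ a * (dd χ * dd ψ) : ℤ) : ℂ) := by
        push_cast
        rw [← classInner_pRegularPart_eq_rN, hinner χ hχ ψ hψ, hdeq χ hχ, hdeq ψ hψ]
        push_cast
        have e2 : (c : ℂ) * Q = (d χ0 : ℂ) ^ 2 / (g : ℂ) ^ 2 := by
          rw [← hQc]; field_simp
        calc (c : ℂ) * ((p : ℂ) ^ a * ((g : ℂ) * (dd χ : ℂ) * ((g : ℂ) * (dd ψ : ℂ)) / ((d χ0 : ℂ) * (d χ0 : ℂ)) * Q))
            = (p : ℂ) ^ a * ((g : ℂ) * (dd χ : ℂ) * ((g : ℂ) * (dd ψ : ℂ)) / ((d χ0 : ℂ) * (d χ0 : ℂ))) * ((c : ℂ) * Q) := by ring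
          _ = _ := by rw [e2]; field_simp
      exact_mod_cast this
    -- c divides p ^ a
    have hbez : ∑ ψ : IrrCharacter G, n ψ * (if ψ ∈ B then (dd ψ : ℤ) else 0) = 1 := by
      have h2 : (g : ℤ) * ∑ ψ : IrrCharacter G, n ψ * (if ψ ∈ B then (dd ψ : ℤ) else 0) = ∑ ψ, n ψ * v ψ := by
        rw [Finset.mul_sum]
        apply Finset.sum_congr rfl; intro ψ _
        simp only [hv]
        by_cases hψ : ψ ∈ B
        · rw [if_pos hψ, if_pos hψ, hdeq ψ hψ]; push_cast; ring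
        · rw [if_neg hψ, if_neg hψ]; ring
      rw [hgn] at h2
      exact mul_left_cancel₀ (by exact_mod_cast hgpos.ne' : (g : ℤ) ≠ 0) (by rw [h2, mul_one])
    have hcdvd : (c : ℤ) ∣ (p : ℤ) ^ a := by
      refine ⟨∑ χ : IrrCharacter G, ∑ ψ : IrrCharacter G, (if χ ∈ B then (if ψ ∈ B then n χ * n ψ * rN p χ ψ else 0) else 0), ?_⟩
      have e : (p : ℤ) ^ a = (p : ℤ) ^ a * ((∑ χ : IrrCharacter G, n χ * (if χ ∈ B then (dd χ : ℤ) else 0)) *
          (∑ ψ : IrrCharacter G, n ψ * (if ψ ∈ B then (dd ψ : ℤ) else 0))) := by rw [hbez]; ring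
      rw [e, Finset.sum_mul_sum, Finset.mul_sum, Finset.mul_sum]
      apply Finset.sum_congr rfl; intro χ _
      rw [Finset.mul_sum, Finset.mul_sum]
      apply Finset.sum_congr rfl; intro ψ _
      by_cases hχ : χ ∈ B
      · by_cases hψ : ψ ∈ B
        · rw [if_pos hχ, if_pos hψ, if_pos hχ, if_pos hψ]
          have := hrN χ hχ ψ hψ
          linear_combination (- n χ * n ψ) * this
        · simp [hχ, hψ]
      · simp [hχ]
    obtain ⟨j, hj1, hj2⟩ := (Nat.dvd_prime_pow hp).mp (by exact_mod_cast hcdvd : c ∣ p ^ a)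
    rw [hj2]
    congr 1
    -- valuation
    have hpg : g.factorization p = s := by
      apply le_antisymm
      · exact (Nat.factorization_le_iff_dvd hgpos.ne' (hd0 χ0).ne').mpr (hgd χ0 hχ0) p
      · rw [← Nat.Prime.pow_dvd_iff_le_factorization hp hgpos.ne']
        have : (p : ℤ) ^ s ∣ (g : ℤ) := by
          rw [← hgn]
          apply Finset.dvd_sum; intro ψ _
          apply Dvd.dvd.mul_left
          simp only [hv]
          by_cases hψ : ψ ∈ B
          · rw [if_pos hψ]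
            have := (Nat.Prime.pow_dvd_iff_le_factorization hp (hd0 ψ).ne').mpr (hsle ψ hψ)
            exact_mod_cast this
          · rw [if_neg hψ]; exact dvd_zero _
        exact_mod_cast this
    have hdd0 : ¬ p ∣ dd χ0 := by
      intro h
      have h1 := hdeq χ0 hχ0
      have hdd0ne : dd χ0 ≠ 0 := by
        intro h0'
        rw [h0', mul_zero] at h1
        exact (hd0 χ0).ne' h1
      have h2 : (d χ0).factorization p = (g * dd χ0).factorization p := by rw [← h1]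
      rw [Nat.factorization_mul hgpos.ne' hdd0ne, Finsupp.add_apply, hpg] at h2
      have h3 := (Nat.Prime.dvd_iff_one_le_factorization hp hdd0ne).mp h
      omega
    have hR := hrN χ0 hχ0 χ0 hχ0
    rw [hj2] at hR
    obtain ⟨u, hu⟩ : (p : ℤ) ^ s ∣ rN p χ0 χ0 := by
      have := rN_dvd (p := p) χ0 χ0
      rwa [hd2] at this
    have hpu : ¬ (p : ℤ) ∣ u := by
      intro h
      obtain ⟨u', rfl⟩ := h
      apply rN_not_dvd hM B hB χ0 hχ0 h0 χ0 hχ0
      rw [hd2, hu]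
      exact ⟨u', by rw [pow_succ]; ring⟩
    have hpZ : Prime (p : ℤ) := Nat.prime_iff_prime_int.mp hp
    have hp0 : (p : ℤ) ≠ 0 := hpZ.ne_zero
    rw [hu] at hR
    push_cast at hR
    have hR' : (p : ℤ) ^ (j + s) * u = (p : ℤ) ^ a * ((dd χ0 : ℤ) * dd χ0) := by
      rw [pow_add]; linear_combination hR
    have hnd : ¬ (p : ℤ) ∣ (dd χ0 : ℤ) * dd χ0 := by
      intro h
      rcases hpZ.dvd_or_dvd h with h | h <;> exact hdd0 (by exact_mod_cast h)
    have hjs : j + s = a := by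
      rcases lt_trichotomy (j + s) a with h | h | h
      · exfalso
        obtain ⟨e, he⟩ := Nat.exists_eq_add_of_lt h
        apply hpu
        have : (p : ℤ) ^ (j + s) * u = (p : ℤ) ^ (j + s) * ((p : ℤ) ^ (e + 1) * ((dd χ0 : ℤ) * dd χ0)) := by
          rw [hR', he, add_assoc (j + s) e 1, pow_add (p : ℤ) (j + s) (e + 1)]; ring
        have h2 := mul_left_cancel₀ (pow_ne_zero _ hp0) this
        rw [h2, pow_succ', mul_assoc]
        exact Dvd.intro _ rfl
      · exact h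
      · exfalso
        obtain ⟨e, he⟩ := Nat.exists_eq_add_of_lt h
        apply hnd
        have : (p : ℤ) ^ a * ((dd χ0 : ℤ) * dd χ0) = (p : ℤ) ^ a * ((p : ℤ) ^ (e + 1) * u) := by
          rw [← hR', he, add_assoc a e 1, pow_add (p : ℤ) a (e + 1)]; ring
        have h2 := mul_left_cancel₀ (pow_ne_zero _ hp0) this
        rw [h2, pow_succ', mul_assoc]
        exact Dvd.intro _ rfl
    omega

end RankOne
end Cfsg.Agent.H4
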