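import Cfsg.Agent.Lib_helper4_BlkAO

set_option autoImplicit false
set_option linter.style.haveILetI false
set_option linter.unusedSectionVars false
namespace Cfsg.Agent.H4
open Module
open scoped ComplexConjugate
universe u v w

section PDeg
variable {p : ℕ} {M : Ideal AlgInt} {G : Type u} [Group G]

theorem vanish_of_coprime_faithful [Finite G] (hZ : Subgroup.center G = ⊥) (χ : IrrCharacter G)
    (hfaith : ∀ g : G, (χ : G → ℂ) g = (χ : G → ℂ) 1 → g = 1) (z : G) (hz : z ≠ 1)
    (hcop : Nat.Coprime (charDegree (χ : G → ℂ)) (Subgroup.centralizer ({z} : Set G)).index) :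
    (χ : G → ℂ) z = 0 := by
  obtain ⟨n, ρ, hρ, hρχ⟩ := χ.2
  haveI := hρ
  have h1 : (χ : G → ℂ) 1 = (finrank ℂ (Fin n → ℂ) : ℂ) := by rw [← hρχ]; simp
  have h2 : charDegree (χ : G → ℂ) = finrank ℂ (Fin n → ℂ) := charDegree_eq h1
  rw [h2] at hcop
  rcases burnside_coprime ρ z hcop with h | h
  · rw [← hρχ]; exact h
  · exfalso
    obtain ⟨ω, hω⟩ := (norm_char_eq_iff ρ z).mp h
    have hinj : Function.Injective ρ := by
      rw [← MonoidHom.ker_eq_bot_iff, Subgroup.eq_bot_iff_forall]
      intro g hg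
      apply hfaith
      rw [h1, ← hρχ]
      exact (char_eq_finrank_iff ρ g).mpr hg
    have hc : z ∈ Subgroup.center G := by
      rw [Subgroup.mem_center_iff]
      intro y
      apply hinj
      rw [map_mul, map_mul, hω]
      ext v
      simp
    rw [hZ, Subgroup.mem_bot] at hc
    exact hz hc

theorem pdegree_faithful_defect [Finite G] [Fact p.Prime] (hM : IsPModular p M) (hZ : Subgroup.center G = ⊥)
    (P : Sylow p G) (a b : ℕ) (ha : Nat.card P = p ^ a) (hb : Nat.card (Subgroup.center ↥(P : Subgroup G)) = p ^ b)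
    (χ : IrrCharacter G) (hfaith : ∀ g : G, (χ : G → ℂ) g = (χ : G → ℂ) 1 → g = 1) (n : ℕ)
    (hdeg : charDegree (χ : G → ℂ) = p ^ n) :
    blockDefect p (blockOf M (χ : G → ℂ)) ≤ a - b := by
  classical
  haveI := Fintype.ofFinite G
  haveI := Fintype.ofFinite (IrrCharacter G)
  have hp : p.Prime := hM.1
  have hvan : ∀ z : Subgroup.center ↥(P : Subgroup G), z ≠ 1 → ∀ ψ ∈ blockOf M (χ : G → ℂ),
      MemLocalIdeal M ((ψ : G → ℂ) ((z : (P : Subgroup G)) : G) / (ψ : G → ℂ) 1) := by
    intro z hz ψ hψ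
    set z' : G := ((z : (P : Subgroup G)) : G) with hz'
    have hz1 : z' ≠ 1 := by
      intro h
      apply hz
      apply Subtype.ext; apply Subtype.ext
      exact h
    have hle : (P : Subgroup G) ≤ Subgroup.centralizer ({z'} : Set G) := by
      intro y hy
      rw [Subgroup.mem_centralizer_singleton_iff]
      have := Subgroup.mem_center_iff.mp z.2 ⟨y, hy⟩
      exact congrArg Subtype.val this
    have hidx : ¬ p ∣ (Subgroup.centralizer ({z'} : Set G)).index := fun h =>
      P.not_dvd_index (dvd_trans h (Subgroup.index_dvd_of_le hle))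
    have h0 := vanish_of_coprime_faithful hZ χ hfaith z' hz1 (by
      rw [hdeg]; exact Nat.Coprime.pow_left _ ((Nat.Prime.coprime_iff_not_dvd hp).mpr hidx))
    have h1 := hψ z'
    have h2 : centralChar (χ : G → ℂ) z' = 0 := by unfold centralChar; rw [h0]; simp
    rw [h2, zero_sub] at h1
    have h3 := MemLocalIdeal.neg h1
    rw [neg_neg] at h3
    have h4 := MemLocalIdeal.mul_left hM (memLocalRing_inv_natCast hM hidx) h3
    unfold centralChar at h4
    have hi0 : ((Subgroup.centralizer ({z'} : Set G)).index : ℂ) ≠ 0 := by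
      intro h
      apply hidx
      have : (Subgroup.centralizer ({z'} : Set G)).index = 0 := by exact_mod_cast h
      rw [this]; exact dvd_zero _
    rw [mul_div_assoc, ← mul_assoc, inv_mul_cancel₀ hi0, one_mul] at h4
    exact h4
  have hdvd : ∀ ψ ∈ blockOf M (χ : G → ℂ), b ≤ (charDegree (ψ : G → ℂ)).factorization p := by
    intro ψ hψ
    obtain ⟨d, hd0, hd1, hd2⟩ := IrrCharacter.exists_degree ψ
    haveI := Fintype.ofFinite (IrrCharacter (Subgroup.center ↥(P : Subgroup G)))
    obtain ⟨m, hm⟩ := IsCharacter.classInner_nat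
      (IsCharacter.comp ((P : Subgroup G).subtype.comp (Subgroup.center ↥(P : Subgroup G)).subtype)
        (IsIrrCharacter.isCharacter ψ.2)) (IsCharacter.one (G := Subgroup.center ↥(P : Subgroup G)))
    unfold classInner at hm
    have hdC : (d : ℂ) ≠ 0 := by exact_mod_cast hd0.ne'
    set U : ℂ := ∑ z : Subgroup.center ↥(P : Subgroup G), (ψ : G → ℂ) ((z : (P : Subgroup G)) : G) / (ψ : G → ℂ) 1 with hU
    have hU1 : MemLocalIdeal M (U - 1) := by
      rw [hU, ← Finset.add_sum_erase _ _ (Finset.mem_univ (1 : Subgroup.center ↥(P : Subgroup G)))]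
      have : (ψ : G → ℂ) (((1 : Subgroup.center ↥(P : Subgroup G)) : (P : Subgroup G)) : G) / (ψ : G → ℂ) 1 = 1 := by
        simp only [Subgroup.coe_one]
        exact div_self (IsIrrCharacter.apply_one_ne_zero ψ.2)
      rw [this, add_sub_cancel_left]
      apply MemLocalIdeal.sum hM
      intro z hz
      exact hvan z (Finset.ne_of_mem_erase hz) ψ hψ
    have hUR : MemLocalRing M U := by
      have := MemLocalRing.add hM (MemLocalIdeal.memLocalRing hU1) (MemLocalRing.one hM)
      rwa [sub_add_cancel] at this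
    have hUn : ¬ MemLocalIdeal M U := by
      intro h
      have := MemLocalIdeal.sub hM h hU1
      rw [sub_sub_cancel] at this
      exact not_memLocalIdeal_one hM this
    have hU0 : U ≠ 0 := by
      intro h; rw [h] at hUn; exact hUn (MemLocalIdeal.zero hM)
    have hrel : ((d : ℤ) : ℂ) / ((p ^ b : ℕ) : ℂ) = (m : ℂ) * U⁻¹ := by
      have e1 : (m : ℂ) = ((p ^ b : ℕ) : ℂ)⁻¹ * ((d : ℂ) * U) := by
        rw [← hm, hb, hU]
        congr 1
        rw [Finset.mul_sum]
        apply Finset.sum_congr rfl; intro z _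
        rw [hd1]
        simp only [map_one, mul_one]
        have : (d : ℂ) * ((ψ : G → ℂ) ((z : (P : Subgroup G)) : G) / (d : ℂ)) = (ψ : G → ℂ) ((z : (P : Subgroup G)) : G) := by
          field_simp
        rw [this]
        rfl
      rw [e1]
      push_cast
      field_simp
    have hmem : MemLocalRing M (((d : ℤ) : ℂ) / ((p ^ b : ℕ) : ℂ)) := by
      rw [hrel]
      exact MemLocalRing.mul hM (MemLocalRing.natCast hM m) (MemLocalRing.inv hUR hUn)
    have h5 := int_ratio_dvd hM (d : ℤ) (p ^ b) (pow_ne_zero _ hp.ne_zero) hmem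
    rw [Nat.factorization_pow, Finsupp.smul_apply, hp.factorization_self, smul_eq_mul, mul_one] at h5
    rw [hd2, ← Nat.Prime.pow_dvd_iff_le_factorization hp hd0.ne']
    exact_mod_cast h5
  have haG : (Nat.card G).factorization p = a := by
    have := P.card_eq_multiplicity
    rw [ha] at this
    exact (Nat.pow_right_injective hp.two_le this).symm
  unfold blockDefect
  rw [haG]
  apply Nat.sub_le_sub_left
  apply le_csInf
  · exact ⟨_, χ, SameBlock.refl hM _, rfl⟩
  · rintro _ ⟨ψ, hψ, rfl⟩
    exact hdvd ψ hψ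

end PDeg
end Cfsg.Agent.H4
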