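import Cfsg.Agent.Lib_helper4_BlkAP

set_option autoImplicit false
set_option linter.style.haveILetI false
set_option linter.unusedSectionVars false
namespace Cfsg.Agent.H4
open Module
open scoped ComplexConjugate
universe u v w

section FR
variable {p : ℕ} {M : Ideal AlgInt} {G : Type u} [Group G]

/-- restriction to `N` of a function on `T ≥ N` -/
def resN {N T : Subgroup G} (hNT : N ≤ T) (ψ : T → ℂ) : N → ℂ := fun n => ψ ⟨(n : G), hNT n.2⟩

theorem fr_transport [Fintype G] (hM : IsPModular p M) (N : Subgroup G) [hN : N.Normal] [Fintype N]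
    (T : Subgroup G) [Fintype T] (hNT : N ≤ T) (b : Set (IrrCharacter N)) (hb : IsPBlock M b)
    (ψ ψ' : IrrCharacter T)
    (hψ : ∃ θ ∈ b, classInner (resN hNT (ψ : T → ℂ)) (θ : N → ℂ) ≠ 0)
    (h : SameBlock M (ψ : T → ℂ) (ψ' : T → ℂ)) :
    (∃ θ ∈ b, classInner (resN hNT (ψ' : T → ℂ)) (θ : N → ℂ) ≠ 0) ∧
    ∀ φ : IrrCharacter N, classInner (resN hNT (ψ' : T → ℂ)) (φ : N → ℂ) ≠ 0 →
      ∃ t : T, ∃ θ' ∈ b, (φ : N → ℂ) = conjFun hN (θ' : N → ℂ) (t : G) := by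
  classical
  let N' : Subgroup T := N.subgroupOf T
  haveI hN' : N'.Normal := Subgroup.normal_subgroupOf
  haveI : Fintype N' := Fintype.ofFinite _
  let e : N' ≃* N := Subgroup.subgroupOfEquivOfLe hNT
  have hirr : ∀ θ : IrrCharacter N, IsIrrCharacter N' (fun x => (θ : N → ℂ) (e x)) := fun θ =>
    IsIrrCharacter.comp_surj e.toMonoidHom e.surjective θ.2
  have hirr' : ∀ θ : IrrCharacter N', IsIrrCharacter N (fun x => (θ : N' → ℂ) (e.symm x)) := fun θ =>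
    IsIrrCharacter.comp_surj e.symm.toMonoidHom e.symm.surjective θ.2
  let b' : Set (IrrCharacter N') := {φ | ∃ θ ∈ b, (φ : N' → ℂ) = fun x => (θ : N → ℂ) (e x)}
  have hb' : IsPBlock M b' := by
    obtain ⟨θ0, rfl⟩ := hb
    refine ⟨⟨_, hirr θ0⟩, ?_⟩
    ext φ
    constructor
    · rintro ⟨θ, hθ, hφ⟩
      show SameBlock M _ _
      rw [hφ]
      exact sameBlock_comp_equiv e hθ
    · intro hφ
      refine ⟨⟨_, hirr' φ⟩, ?_, ?_⟩
      · have := sameBlock_comp_equiv e.symm hφ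
        simp only [MulEquiv.apply_symm_apply] at this
        exact this
      · funext x; simp
  have hin : ∀ (ξ : T → ℂ) (θ : N → ℂ), classInner (fun n : N' => ξ (n : T)) (fun x => θ (e x))
      = classInner (resN hNT ξ) θ := by
    intro ξ θ
    rw [← classInner_equiv e (resN hNT ξ) θ]
    rfl
  have hψ' : ∃ θ ∈ b', classInner (fun n : N' => (ψ : T → ℂ) n) (θ : N' → ℂ) ≠ 0 := by
    obtain ⟨θ, hθ, hne⟩ := hψ
    refine ⟨⟨_, hirr θ⟩, ⟨θ, hθ, rfl⟩, ?_⟩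
    rw [hin]; exact hne
  constructor
  · obtain ⟨θ, ⟨θ1, hθ1, hθ⟩, hne⟩ := block_over hM N' b' hb' ψ ψ' hψ' h
    refine ⟨θ1, hθ1, ?_⟩
    rw [hθ, hin] at hne
    exact hne
  · intro φ hφ
    obtain ⟨t, θ, ⟨θ1, hθ1, hθ⟩, hc⟩ := block_constituents_conj hM N' b' hb' ψ ψ' hψ' h ⟨_, hirr φ⟩
      (by rw [hin]; exact hφ)
    refine ⟨t, θ1, hθ1, ?_⟩
    funext n
    have := congrFun hc (e.symm n)
    simp only [MulEquiv.apply_symm_apply] at this
    rw [this, hθ]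
    rfl

theorem classInner_conjFun_both [Fintype G] {N : Subgroup G} [Fintype N] (hN : N.Normal) (φ θ : N → ℂ) (g : G) :
    classInner (conjFun hN φ g) (conjFun hN θ g) = classInner φ θ := by
  haveI := hN
  rw [← classInner_equiv (MulAut.conjNormal g : N ≃* N) φ θ]
  rfl

theorem fr_mem_T [Finite G] (hM : IsPModular p M) {N : Subgroup G} (hN : N.Normal)
    (b : Set (IrrCharacter N)) (hb : IsPBlock M b) (θ : IrrCharacter N) (hθ : θ ∈ b) (g : G)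
    (hg : (⟨conjFun hN (θ : N → ℂ) g, conjFun_irr hN θ.2 g⟩ : IrrCharacter N) ∈ b) :
    ∀ θ1 ∈ b, (⟨conjFun hN (θ1 : N → ℂ) g, conjFun_irr hN θ1.2 g⟩ : IrrCharacter N) ∈ b := by
  intro θ1 hθ1
  have h1 : SameBlock M (θ : N → ℂ) (θ1 : N → ℂ) := by
    rw [IsPBlock.eq_blockOf hM hb hθ] at hθ1
    exact hθ1
  rw [IsPBlock.eq_blockOf hM hb hg]
  exact SameBlock.conjFun hN h1 g

theorem resN_conj {N T : Subgroup G} (hN : N.Normal) (hNT : N ≤ T) (ψ : T → ℂ) (hψ : IsClassFunction T ψ)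
    (t : G) (ht : t ∈ T) : conjFun hN (resN hNT ψ) t = resN hNT ψ := by
  funext n
  exact hψ ⟨n, hNT n.2⟩ ⟨t, ht⟩

theorem fr_inner_N [Fintype G] {N : Subgroup G} (hN : N.Normal) [Fintype N]
    (T : Subgroup G) [Fintype T] (hNT : N ≤ T) (b : Set (IrrCharacter N))
    (hT : ∀ θ ∈ b, ∀ g : G, (⟨conjFun hN (θ : N → ℂ) g, conjFun_irr hN θ.2 g⟩ : IrrCharacter N) ∈ b → g ∈ T)
    (ψ : T → ℂ) (hψ : IsClassFunction T ψ)
    (hall : ∀ φ : IrrCharacter N, classInner (resN hNT ψ) (φ : N → ℂ) ≠ 0 → φ ∈ b)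
    (θ : IrrCharacter N) (hθ : θ ∈ b) :
    classInner (fun n : N => indFun T ψ n) (θ : N → ℂ) = classInner (resN hNT ψ) (θ : N → ℂ) := by
  classical
  have hTC : (Nat.card T : ℂ) ≠ 0 := card_ne_zero_C
  have h1 : (fun n : N => indFun T ψ n) = (Nat.card T : ℂ)⁻¹ • ∑ x : G, conjFun hN (resN hNT ψ) x⁻¹ := by
    funext n
    simp only [Pi.smul_apply, Finset.sum_apply, smul_eq_mul]
    unfold indFun
    congr 1
    apply Finset.sum_congr rfl; intro x _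
    have hx : x⁻¹ * (n : G) * x ∈ N := by
      have := hN.conj_mem n n.2 x⁻¹
      simpa using this
    rw [extendByZero_mem T _ (hNT hx)]
    unfold conjFun resN
    congr 1
    apply Subtype.ext
    simp
  rw [h1, classInner_smul_left, classInner_sum_left]
  have h2 : ∀ x : G, classInner (conjFun hN (resN hNT ψ) x⁻¹) (θ : N → ℂ)
      = if x ∈ T then classInner (resN hNT ψ) (θ : N → ℂ) else 0 := by
    intro x
    have h3 : classInner (conjFun hN (resN hNT ψ) x⁻¹) (θ : N → ℂ)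
        = classInner (resN hNT ψ) (conjFun hN (θ : N → ℂ) x) := by
      rw [← classInner_conjFun_both hN (conjFun hN (resN hNT ψ) x⁻¹) (θ : N → ℂ) x, conjFun_mul,
        inv_mul_cancel, conjFun_one]
    by_cases hx : x ∈ T
    · rw [if_pos hx, resN_conj hN hNT ψ hψ x⁻¹ (T.inv_mem hx)]
    · rw [if_neg hx, h3]
      by_contra hne
      exact hx (hT θ hθ x (hall ⟨_, conjFun_irr hN θ.2 x⟩ hne))
  simp_rw [h2]
  rw [Finset.sum_ite, Finset.sum_const_zero, add_zero, Finset.sum_const, nsmul_eq_mul]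
  have h4 : ((Finset.univ.filter (fun x : G => x ∈ T)).card : ℂ) = (Nat.card T : ℂ) := by
    rw [Nat.card_eq_fintype_card, Fintype.card_subtype]
  rw [h4, ← mul_assoc, inv_mul_cancel₀ hTC, one_mul]

theorem IsCharacter.resN {N T : Subgroup G} (hNT : N ≤ T) {ψ : T → ℂ} (h : IsCharacter T ψ) :
    IsCharacter N (resN hNT ψ) := IsCharacter.comp (Subgroup.inclusion hNT) h

theorem fr_orth [Fintype G] {N : Subgroup G} (hN : N.Normal) [Fintype N]
    (T : Subgroup G) [Fintype T] (hNT : N ≤ T) (b : Set (IrrCharacter N))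
    (hT : ∀ θ ∈ b, ∀ g : G, (⟨conjFun hN (θ : N → ℂ) g, conjFun_irr hN θ.2 g⟩ : IrrCharacter N) ∈ b → g ∈ T)
    (ψ1 ψ2 : IrrCharacter T)
    (hall : ∀ φ : IrrCharacter N, classInner (resN hNT (ψ1 : T → ℂ)) (φ : N → ℂ) ≠ 0 → φ ∈ b)
    (h2 : ∃ θ ∈ b, classInner (resN hNT (ψ2 : T → ℂ)) (θ : N → ℂ) ≠ 0) :
    classInner (indFun T (ψ1 : T → ℂ)) (indFun T (ψ2 : T → ℂ)) = classInner (ψ1 : T → ℂ) (ψ2 : T → ℂ) := by
  classical
  haveI := Fintype.ofFinite (IrrCharacter N)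
  set Φ : T → ℂ := fun t : T => indFun T (ψ1 : T → ℂ) t with hΦ
  have hΦc : IsCharacter T Φ := IsCharacter.restrict T (IsCharacter.ind T (IsIrrCharacter.isCharacter ψ1.2))
  have hcl : IsClassFunction G (indFun T (ψ1 : T → ℂ)) := indFun_isClassFunction T _
  have e1 : ∀ ξ : T → ℂ, classInner (indFun T (ψ1 : T → ℂ)) (indFun T ξ) = classInner Φ ξ := by
    intro ξ
    rw [← classInner_conj_symm, frobenius_reciprocity T _ _ hcl, classInner_conj_symm]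
  have h1 : classInner Φ (ψ1 : T → ℂ) ≠ 0 := by
    rw [← e1]
    obtain ⟨n, hn, hn'⟩ := IsCharacter.norm_pos (IsCharacter.ind T (IsIrrCharacter.isCharacter ψ1.2))
      (IsCharacter.ind_ne_zero T (IsIrrCharacter.apply_one_ne_zero ψ1.2))
    rw [hn']
    exact_mod_cast hn.ne'
  have hΔ : IsCharacter T (Φ - (ψ1 : T → ℂ)) := IsCharacter.sub_constituent hΦc ψ1.2 h1
  have hΔN : ∀ θ ∈ b, classInner (resN hNT (Φ - (ψ1 : T → ℂ))) (θ : N → ℂ) = 0 := by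
    intro θ hθ
    have h3 : resN hNT (Φ - (ψ1 : T → ℂ)) = (fun n : N => indFun T (ψ1 : T → ℂ) n) - resN hNT (ψ1 : T → ℂ) := rfl
    rw [h3, classInner_sub_left, fr_inner_N hN T hNT b hT _ (IrrCharacter.isClassFunction ψ1) hall θ hθ, sub_self]
  have h0 : classInner (Φ - (ψ1 : T → ℂ)) (ψ2 : T → ℂ) = 0 := by
    by_contra hne
    have hΔ' := IsCharacter.sub_constituent hΔ ψ2.2 hne
    obtain ⟨θ2, hθ2, hne2⟩ := h2
    have h3 : resN hNT (Φ - (ψ1 : T → ℂ)) = resN hNT (Φ - (ψ1 : T → ℂ) - (ψ2 : T → ℂ)) + resN hNT (ψ2 : T → ℂ) := by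
      funext n
      simp [resN]
    have h4 := hΔN θ2 hθ2
    rw [h3, classInner_add_left] at h4
    obtain ⟨n, hn⟩ := IsCharacter.classInner_irr_nat (IsCharacter.resN hNT hΔ') θ2
    obtain ⟨m, hm⟩ := IsCharacter.classInner_irr_nat (IsCharacter.resN hNT (IsIrrCharacter.isCharacter ψ2.2)) θ2
    rw [hn, hm] at h4
    rw [hm] at hne2
    have h5 : n + m = 0 := by exact_mod_cast h4
    apply hne2
    have : m = 0 := by omega
    simp [this]
  rw [e1]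
  rw [classInner_sub_left, sub_eq_zero] at h0
  exact h0

theorem fr_irr [Fintype G] {N : Subgroup G} (hN : N.Normal) [Fintype N]
    (T : Subgroup G) [Fintype T] (hNT : N ≤ T) (b : Set (IrrCharacter N))
    (hT : ∀ θ ∈ b, ∀ g : G, (⟨conjFun hN (θ : N → ℂ) g, conjFun_irr hN θ.2 g⟩ : IrrCharacter N) ∈ b → g ∈ T)
    (ψ1 : IrrCharacter T)
    (hall : ∀ φ : IrrCharacter N, classInner (resN hNT (ψ1 : T → ℂ)) (φ : N → ℂ) ≠ 0 → φ ∈ b)
    (h2 : ∃ θ ∈ b, classInner (resN hNT (ψ1 : T → ℂ)) (θ : N → ℂ) ≠ 0) :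
    IsIrrCharacter G (indFun T (ψ1 : T → ℂ)) := by
  haveI := Fintype.ofFinite (IrrCharacter G)
  rw [isIrrCharacter_iff]
  refine ⟨IsCharacter.ind T (IsIrrCharacter.isCharacter ψ1.2), ?_⟩
  rw [fr_orth hN T hNT b hT ψ1 ψ1 hall h2]
  exact IsIrrCharacter.norm_one ψ1.2

theorem indFun_memLocalRing [Fintype G] (hM : IsPModular p M) (T : Subgroup G) (f : T → ℂ)
    (hf : IsClassFunction T f) (hloc : ∀ t, MemLocalRing M (f t)) (g : G) : MemLocalRing M (indFun T f g) := by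
  classical
  haveI := Fintype.ofFinite (G ⧸ T)
  have hTC : (Nat.card T : ℂ) ≠ 0 := card_ne_zero_C
  let F : G ⧸ T → ℂ := fun q => extendByZero T f ((Quotient.out q)⁻¹ * g * Quotient.out q)
  have h1 : ∀ x : G, extendByZero T f (x⁻¹ * g * x) = F (x : G ⧸ T) := by
    intro x
    obtain ⟨h, hh⟩ := QuotientGroup.mk_out_eq_mul T x
    show _ = extendByZero T f ((Quotient.out (x : G ⧸ T))⁻¹ * g * Quotient.out (x : G ⧸ T))
    rw [hh, ← extendByZero_conj_inv T f hf ((h : G)⁻¹) (T.inv_mem h.2) (x⁻¹ * g * x)]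
    congr 1
    group
  unfold indFun
  simp_rw [h1]
  rw [sum_comp_mk, ← mul_assoc, inv_mul_cancel₀ hTC, one_mul]
  apply MemLocalRing.sum hM
  intro q _
  show MemLocalRing M (extendByZero T f _)
  by_cases hq : (Quotient.out q)⁻¹ * g * Quotient.out q ∈ T
  · rw [extendByZero_mem T _ hq]; exact hloc _
  · rw [extendByZero_not_mem T _ hq]; exact MemLocalRing.zero hM

theorem spec_indFun_coef [Fintype G] (T : Subgroup G) [Fintype T] [Fintype (IrrCharacter T)]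
    (v : IrrCharacter T → ℂ) (χ : IrrCharacter G) :
    spec (indFun T (coef v)) χ = (T.index : ℂ) *
      (∑ ψ : IrrCharacter T, (ψ : T → ℂ) 1 * v ψ * classInner (fun t : T => (χ : G → ℂ) t) (ψ : T → ℂ)) / (χ : G → ℂ) 1 := by
  classical
  have hTC : (Nat.card T : ℂ) ≠ 0 := card_ne_zero_C
  have hGC : (Nat.card G : ℂ) ≠ 0 := card_ne_zero_C
  unfold spec
  congr 1
  have hcl : IsClassFunction G (fun g => conj ((χ : G → ℂ) g)) := by
    intro g h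
    show conj _ = conj _
    rw [IrrCharacter.isClassFunction χ g h]
  have h1 := frobenius_reciprocity T (coef v) _ hcl
  unfold classInner at h1
  simp only [Complex.conj_conj] at h1
  have h2 : ∑ g : G, indFun T (coef v) g * (χ : G → ℂ) g
      = (Nat.card G : ℂ) * ((Nat.card T : ℂ)⁻¹ * ∑ t : T, coef v t * (χ : G → ℂ) t) := by
    rw [← h1, ← mul_assoc, mul_inv_cancel₀ hGC, one_mul]
  rw [h2]
  have h3 : (Nat.card G : ℂ) = (Nat.card T : ℂ) * (T.index : ℂ) := by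
    rw [← Subgroup.card_mul_index T]; push_cast; ring
  have h4 : ∑ t : T, coef v t * (χ : G → ℂ) t
      = ∑ ψ : IrrCharacter T, (ψ : T → ℂ) 1 * v ψ * classInner (fun t : T => (χ : G → ℂ) t) (ψ : T → ℂ) := by
    unfold coef classInner
    simp_rw [Finset.mul_sum, Finset.sum_mul]
    rw [Finset.sum_comm]
    apply Finset.sum_congr rfl; intro ψ _
    apply Finset.sum_congr rfl; intro t _
    ring
  rw [h4, h3]
  field_simp

theorem fr_inZ [Fintype G] [Fintype (IrrCharacter G)] (hM : IsPModular p M) (T : Subgroup G) [Fintype T]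
    [Fintype (IrrCharacter T)] (B' : Set (IrrCharacter T))
    (hirr : ∀ ψ ∈ B', IsIrrCharacter G (indFun T (ψ : T → ℂ)))
    (horth : ∀ ψ1 ∈ B', ∀ ψ2 ∈ B', classInner (indFun T (ψ1 : T → ℂ)) (indFun T (ψ2 : T → ℂ))
      = classInner (ψ1 : T → ℂ) (ψ2 : T → ℂ))
    (hZ : InZ M (Set.indicator B' (1 : IrrCharacter T → ℂ))) :
    InZ M (Set.indicator {χ : IrrCharacter G | ∃ ψ ∈ B', (χ : G → ℂ) = indFun T (ψ : T → ℂ)}
      (1 : IrrCharacter G → ℂ)) := by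
  classical
  set v := Set.indicator B' (1 : IrrCharacter T → ℂ) with hv
  have hkey : Set.indicator {χ : IrrCharacter G | ∃ ψ ∈ B', (χ : G → ℂ) = indFun T (ψ : T → ℂ)}
      (1 : IrrCharacter G → ℂ) = spec (indFun T (coef v)) := by
    funext χ
    rw [spec_indFun_coef]
    have hin : ∀ ψ : IrrCharacter T, classInner (fun t : T => (χ : G → ℂ) t) (ψ : T → ℂ)
        = conj (classInner (indFun T (ψ : T → ℂ)) (χ : G → ℂ)) := by
      intro ψ
      rw [frobenius_reciprocity T _ _ (IrrCharacter.isClassFunction χ), classInner_conj_symm]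
    by_cases hχ : χ ∈ {χ : IrrCharacter G | ∃ ψ ∈ B', (χ : G → ℂ) = indFun T (ψ : T → ℂ)}
    · rw [Set.indicator_of_mem hχ]
      obtain ⟨ξ, hξ, hχξ⟩ := hχ
      rw [Finset.sum_eq_single ξ]
      · rw [hin, hχξ, horth ξ hξ ξ hξ, IsIrrCharacter.norm_one ξ.2, hv, Set.indicator_of_mem hξ, indFun_apply_one]
        have h1 := IsIrrCharacter.apply_one_ne_zero ξ.2
        have h2 : (T.index : ℂ) ≠ 0 := by exact_mod_cast Subgroup.index_ne_zero_of_finite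
        simp only [Pi.one_apply, map_one, mul_one]
        field_simp
      · intro ψ _ hne
        by_cases hψ : ψ ∈ B'
        · rw [hin, hχξ, horth ψ hψ ξ hξ, irr_orthonormal, if_neg hne]; simp
        · rw [hv, Set.indicator_of_notMem hψ]; simp
      · intro h; exact absurd (Finset.mem_univ _) h
    · rw [Set.indicator_of_notMem hχ, Finset.sum_eq_zero]
      · simp
      · intro ψ _
        by_cases hψ : ψ ∈ B'
        · have : classInner (indFun T (ψ : T → ℂ)) (χ : G → ℂ) = 0 := by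
            by_contra hne
            exact hχ ⟨ψ, hψ, (irr_eq_of_classInner_ne_zero (hirr ψ hψ) χ.2 hne).symm⟩
          rw [hin, this]; simp
        · rw [hv, Set.indicator_of_notMem hψ]; simp
  rw [hkey]
  intro g
  rw [coef_spec _ (indFun_isClassFunction T _)]
  exact indFun_memLocalRing hM T _ (coef_isClassFunction v) hZ g

/-- all members of a block of `T` covering `b` lie over `b`, and only over `b` -/
theorem fr_members [Fintype G] (hM : IsPModular p M) (N : Subgroup G) [hN : N.Normal] [Fintype N]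
    (b : Set (IrrCharacter N)) (hb : IsPBlock M b) (T : Subgroup G) [Fintype T]
    (hT : ∀ g : G, g ∈ T → ∀ θ ∈ b, (⟨conjFun hN (θ : N → ℂ) g, conjFun_irr hN θ.2 g⟩ : IrrCharacter N) ∈ b)
    (hNT : N ≤ T) (B' : Set (IrrCharacter T)) (hB' : IsPBlock M B')
    (hcov : ∃ ψ ∈ B', ∃ θ ∈ b, classInner (resN hNT (ψ : T → ℂ)) (θ : N → ℂ) ≠ 0) :
    ∀ ψ ∈ B', (∃ θ ∈ b, classInner (resN hNT (ψ : T → ℂ)) (θ : N → ℂ) ≠ 0) ∧
      ∀ φ : IrrCharacter N, classInner (resN hNT (ψ : T → ℂ)) (φ : N → ℂ) ≠ 0 → φ ∈ b := by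
  obtain ⟨ψ0, hψ0, hθ0⟩ := hcov
  intro ψ hψ
  have hs : SameBlock M (ψ0 : T → ℂ) (ψ : T → ℂ) := by
    rw [IsPBlock.eq_blockOf hM hB' hψ0] at hψ
    exact hψ
  obtain ⟨h1, h2⟩ := fr_transport hM N T hNT b hb ψ0 ψ hθ0 hs
  refine ⟨h1, ?_⟩
  intro φ hφ
  obtain ⟨t, θ', hθ', hc⟩ := h2 φ hφ
  have := hT t t.2 θ' hθ'
  have e : φ = ⟨conjFun hN (θ' : N → ℂ) t, conjFun_irr hN θ'.2 t⟩ := Subtype.ext hc
  rw [e]; exact this

theorem fr_block [Fintype G] (hM : IsPModular p M) (N : Subgroup G) [hN : N.Normal] [Fintype N]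
    (b : Set (IrrCharacter N)) (hb : IsPBlock M b) (T : Subgroup G) [Fintype T]
    (hT : ∀ g : G, g ∈ T ↔ ∀ θ ∈ b, (⟨conjFun hN (θ : N → ℂ) g, conjFun_irr hN θ.2 g⟩ : IrrCharacter N) ∈ b)
    (hNT : N ≤ T) (B' : Set (IrrCharacter T)) (hB' : IsPBlock M B')
    (hcov : ∃ ψ ∈ B', ∃ θ ∈ b, classInner (resN hNT (ψ : T → ℂ)) (θ : N → ℂ) ≠ 0) :
    IsInducedBlock M T B' {χ : IrrCharacter G | ∃ ψ ∈ B', (χ : G → ℂ) = indFun T (ψ : T → ℂ)} ∧
    (∀ ψ ∈ B', IsIrrCharacter G (indFun T (ψ : T → ℂ))) ∧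
    (∀ ψ1 ∈ B', ∀ ψ2 : IrrCharacter T, (∃ θ ∈ b, classInner (resN hNT (ψ2 : T → ℂ)) (θ : N → ℂ) ≠ 0) →
      classInner (indFun T (ψ1 : T → ℂ)) (indFun T (ψ2 : T → ℂ)) = classInner (ψ1 : T → ℂ) (ψ2 : T → ℂ)) ∧
    (∀ ψ ∈ B', ∃ θ ∈ b, classInner (fun n : N => indFun T (ψ : T → ℂ) n) (θ : N → ℂ) ≠ 0) := by
  classical
  haveI := Fintype.ofFinite (IrrCharacter G)
  haveI := Fintype.ofFinite (IrrCharacter T)
  have hmem := fr_members hM N b hb T (fun g hg => (hT g).mp hg) hNT B' hB' hcov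
  have hT' : ∀ θ ∈ b, ∀ g : G, (⟨conjFun hN (θ : N → ℂ) g, conjFun_irr hN θ.2 g⟩ : IrrCharacter N) ∈ b → g ∈ T :=
    fun θ hθ g hg => (hT g).mpr (fr_mem_T hM hN b hb θ hθ g hg)
  have hirr : ∀ ψ ∈ B', IsIrrCharacter G (indFun T (ψ : T → ℂ)) := fun ψ hψ =>
    fr_irr hN T hNT b hT' ψ (hmem ψ hψ).2 (hmem ψ hψ).1
  have horth : ∀ ψ1 ∈ B', ∀ ψ2 : IrrCharacter T, (∃ θ ∈ b, classInner (resN hNT (ψ2 : T → ℂ)) (θ : N → ℂ) ≠ 0) →
      classInner (indFun T (ψ1 : T → ℂ)) (indFun T (ψ2 : T → ℂ)) = classInner (ψ1 : T → ℂ) (ψ2 : T → ℂ) :=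
    fun ψ1 h1 ψ2 h2 => fr_orth hN T hNT b hT' ψ1 ψ2 (hmem ψ1 h1).2 h2
  refine ⟨?_, hirr, horth, ?_⟩
  · obtain ⟨ψ0, hψ0, -⟩ := hcov
    have hZ : InZ M (Set.indicator B' (1 : IrrCharacter T → ℂ)) := by
      rw [IsPBlock.eq_blockOf hM hB' hψ0]
      exact inZ_indicator_block hM ψ0
    have hZ' := fr_inZ hM T B' hirr (fun ψ1 h1 ψ2 h2 => horth ψ1 h1 ψ2 (hmem ψ2 h2).1) hZ
    have heq : {χ : IrrCharacter G | ∃ ψ ∈ B', (χ : G → ℂ) = indFun T (ψ : T → ℂ)}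
        = blockOf M (indFun T (ψ0 : T → ℂ)) := by
      apply Set.Subset.antisymm
      · rintro χ ⟨ψ, hψ, hχ⟩
        show SameBlock M _ _
        rw [hχ]
        intro g
        rw [← inducedCentralChar_eq, ← inducedCentralChar_eq]
        apply icc_congr hM T
        rw [IsPBlock.eq_blockOf hM hB' hψ0] at hψ
        exact hψ
      · exact block_subset_of_inZ hM _ hZ' ⟨_, hirr ψ0 hψ0⟩ ⟨ψ0, hψ0, rfl⟩
    rw [heq]
    have := irreducible_induction_induces_block hM T ψ0 (hirr ψ0 hψ0)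
    rwa [← IsPBlock.eq_blockOf hM hB' hψ0] at this
  · intro ψ hψ
    obtain ⟨θ, hθ, hne⟩ := (hmem ψ hψ).1
    refine ⟨θ, hθ, ?_⟩
    rw [fr_inner_N hN T hNT b hT' _ (IrrCharacter.isClassFunction ψ) (hmem ψ hψ).2 θ hθ]
    exact hne

/-- a constituent of `χ_T` over a given constituent of `χ_N` -/
theorem exists_middle [Fintype G] (N T : Subgroup G) [Fintype N] [Fintype T] (hNT : N ≤ T)
    (χ : IrrCharacter G) (θ : IrrCharacter N)
    (h : classInner (fun n : N => (χ : G → ℂ) n) (θ : N → ℂ) ≠ 0) :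
    ∃ ψ : IrrCharacter T, classInner (fun t : T => (χ : G → ℂ) t) (ψ : T → ℂ) ≠ 0 ∧
      classInner (resN hNT (ψ : T → ℂ)) (θ : N → ℂ) ≠ 0 := by
  classical
  haveI := Fintype.ofFinite (IrrCharacter T)
  obtain ⟨m, hm⟩ := IsCharacter.exists_mult (IsCharacter.restrict T (IsIrrCharacter.isCharacter χ.2))
  have h1 : (fun n : N => (χ : G → ℂ) n) = ∑ ψ : IrrCharacter T, (m ψ : ℂ) • resN hNT (ψ : T → ℂ) := by
    funext n
    have := congrFun hm ⟨n, hNT n.2⟩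
    simp only [Finset.sum_apply, Pi.smul_apply, smul_eq_mul] at this ⊢
    exact this
  rw [h1, classInner_sum_left] at h
  obtain ⟨ψ, -, hψ⟩ := Finset.exists_ne_zero_of_sum_ne_zero h
  rw [classInner_smul_left] at hψ
  refine ⟨ψ, ?_, right_ne_zero_of_mul hψ⟩
  rw [hm, classInner_sum_mult]
  exact left_ne_zero_of_mul hψ

theorem fr_hT {N : Subgroup G} (hN : N.Normal) (b : Set (IrrCharacter N)) (T : Subgroup G)
    (hT : ∀ g : G, g ∈ T ↔ ∀ θ ∈ b, ∀ θ' : IrrCharacter N,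
      (∀ n : N, (θ' : N → ℂ) n = (θ : N → ℂ) ⟨g * n * g⁻¹, hN.conj_mem n n.2 g⟩) → θ' ∈ b) :
    ∀ g : G, g ∈ T ↔ ∀ θ ∈ b, (⟨conjFun hN (θ : N → ℂ) g, conjFun_irr hN θ.2 g⟩ : IrrCharacter N) ∈ b := by
  intro g
  rw [hT g]
  constructor
  · intro h θ hθ
    exact h θ hθ _ (fun n => rfl)
  · intro h θ hθ θ' hθ'
    have : θ' = ⟨conjFun hN (θ : N → ℂ) g, conjFun_irr hN θ.2 g⟩ := Subtype.ext (funext hθ')
    rw [this]; exact h θ hθ

theorem fong_reynolds [Fintype G] (hM : IsPModular p M) (N : Subgroup G) [hN : N.Normal] [Fintype N]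
    (b : Set (IrrCharacter N)) (hb : IsPBlock M b) (T : Subgroup G) [Fintype T]
    (hT : ∀ g : G, g ∈ T ↔ ∀ θ ∈ b, (⟨conjFun hN (θ : N → ℂ) g, conjFun_irr hN θ.2 g⟩ : IrrCharacter N) ∈ b)
    (hNT : N ≤ T) :
    (∀ B' : Set (IrrCharacter T), IsPBlock M B' →
      (∃ ψ ∈ B', ∃ θ ∈ b, classInner (resN hNT (ψ : T → ℂ)) (θ : N → ℂ) ≠ 0) →
      ∃ B : Set (IrrCharacter G), IsInducedBlock M T B' B ∧
        (∃ χ ∈ B, ∃ θ ∈ b, classInner (fun n : N => (χ : G → ℂ) n) (θ : N → ℂ) ≠ 0) ∧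
        (∀ ψ ∈ B', IsIrrCharacter G (indFun T (ψ : T → ℂ))) ∧
        ∀ χ : IrrCharacter G, χ ∈ B ↔ ∃ ψ ∈ B', (χ : G → ℂ) = indFun T (ψ : T → ℂ)) ∧
    (∀ B'₁ B'₂ : Set (IrrCharacter T), IsPBlock M B'₁ → IsPBlock M B'₂ →
      (∃ ψ ∈ B'₁, ∃ θ ∈ b, classInner (resN hNT (ψ : T → ℂ)) (θ : N → ℂ) ≠ 0) →
      (∃ ψ ∈ B'₂, ∃ θ ∈ b, classInner (resN hNT (ψ : T → ℂ)) (θ : N → ℂ) ≠ 0) →
      ∀ B : Set (IrrCharacter G), IsInducedBlock M T B'₁ B → IsInducedBlock M T B'₂ B → B'₁ = B'₂) ∧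
    (∀ B : Set (IrrCharacter G), IsPBlock M B →
      (∃ χ ∈ B, ∃ θ ∈ b, classInner (fun n : N => (χ : G → ℂ) n) (θ : N → ℂ) ≠ 0) →
      ∃ B' : Set (IrrCharacter T), IsPBlock M B' ∧
        (∃ ψ ∈ B', ∃ θ ∈ b, classInner (resN hNT (ψ : T → ℂ)) (θ : N → ℂ) ≠ 0) ∧
        IsInducedBlock M T B' B) := by
  classical
  haveI := Fintype.ofFinite (IrrCharacter T)
  refine ⟨?_, ?_, ?_⟩
  · intro B' hB' hcov
    obtain ⟨h1, h2, h3, h4⟩ := fr_block hM N b hb T hT hNT B' hB' hcov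
    refine ⟨_, h1, ?_, h2, fun χ => Iff.rfl⟩
    obtain ⟨ψ0, hψ0, -⟩ := hcov
    exact ⟨⟨_, h2 ψ0 hψ0⟩, ⟨ψ0, hψ0, rfl⟩, h4 ψ0 hψ0⟩
  · intro B1 B2 hB1 hB2 hc1 hc2 B hi1 hi2
    obtain ⟨h1, h2, h3, h4⟩ := fr_block hM N b hb T hT hNT B1 hB1 hc1
    obtain ⟨k1, k2, k3, k4⟩ := fr_block hM N b hb T hT hNT B2 hB2 hc2
    have e1 := sameBlock_of_induced hM T B1 _ _ hi1 h1
    have e2 := sameBlock_of_induced hM T B2 _ _ hi2 k1
    have hmem2 := fr_members hM N b hb T (fun g hg => (hT g).mp hg) hNT B2 hB2 hc2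
    obtain ⟨ψ1, hψ1, -⟩ := hc1
    have hχ : (⟨_, h2 ψ1 hψ1⟩ : IrrCharacter G) ∈ B := by
      rw [e1]; exact ⟨ψ1, hψ1, rfl⟩
    rw [e2] at hχ
    obtain ⟨ψ2, hψ2, heq⟩ := hχ
    have heq' : indFun T (ψ1 : T → ℂ) = indFun T (ψ2 : T → ℂ) := heq
    have h5 := h3 ψ1 hψ1 ψ2 (hmem2 ψ2 hψ2).1
    rw [← heq', IsIrrCharacter.norm_one (h2 ψ1 hψ1)] at h5
    have h6 : (ψ1 : T → ℂ) = ψ2 := irr_eq_of_classInner_ne_zero ψ1.2 ψ2.2 (by rw [← h5]; exact one_ne_zero)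
    have h7 : ψ1 = ψ2 := Subtype.ext h6
    rw [IsPBlock.eq_blockOf hM hB1 hψ1, IsPBlock.eq_blockOf hM hB2 hψ2, h7]
  · intro B hB ⟨χ, hχ, θ, hθ, hne⟩
    obtain ⟨ψ, hψ1, hψ2⟩ := exists_middle N T hNT χ θ hne
    have hB' : IsPBlock M (blockOf M (ψ : T → ℂ)) := ⟨ψ, rfl⟩
    have hψ : ψ ∈ blockOf M (ψ : T → ℂ) := SameBlock.refl hM _
    have hcov : ∃ ψ' ∈ blockOf M (ψ : T → ℂ), ∃ θ ∈ b, classInner (resN hNT (ψ' : T → ℂ)) (θ : N → ℂ) ≠ 0 :=
      ⟨ψ, hψ, θ, hθ, hψ2⟩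
    obtain ⟨h1, h2, h3, h4⟩ := fr_block hM N b hb T hT hNT _ hB' hcov
    refine ⟨_, hB', hcov, ?_⟩
    have h5 : (χ : G → ℂ) = indFun T (ψ : T → ℂ) := by
      apply irr_eq_of_classInner_ne_zero χ.2 (h2 ψ hψ)
      rw [← classInner_conj_symm, frobenius_reciprocity T _ _ (IrrCharacter.isClassFunction χ), classInner_conj_symm]
      exact hψ1
    have h6 : B = {χ : IrrCharacter G | ∃ ψ' ∈ blockOf M (ψ : T → ℂ), (χ : G → ℂ) = indFun T (ψ' : T → ℂ)} := by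
      rw [IsPBlock.eq_blockOf hM hB hχ, IsPBlock.eq_blockOf hM h1.2.1 (show χ ∈ _ from ⟨ψ, hψ, h5⟩)]
    rw [h6]; exact h1

theorem fong_reynolds_defect [Fintype G] [Fact p.Prime] (hM : IsPModular p M) (N : Subgroup G) [hN : N.Normal]
    [Fintype N] (b : Set (IrrCharacter N)) (hb : IsPBlock M b) (T : Subgroup G) [Fintype T]
    (hT : ∀ g : G, g ∈ T ↔ ∀ θ ∈ b, (⟨conjFun hN (θ : N → ℂ) g, conjFun_irr hN θ.2 g⟩ : IrrCharacter N) ∈ b)
    (hNT : N ≤ T) (B' : Set (IrrCharacter T)) (hB' : IsPBlock M B')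
    (hcov : ∃ ψ ∈ B', ∃ θ ∈ b, classInner (resN hNT (ψ : T → ℂ)) (θ : N → ℂ) ≠ 0)
    (B : Set (IrrCharacter G)) (hind : IsInducedBlock M T B' B) :
    (∀ D : Subgroup T, IsDefectGroup p M B' D → IsDefectGroup p M B (D.map T.subtype)) ∧
    ∀ ψ ∈ B', ∃ χ ∈ B, (χ : G → ℂ) = indFun T (ψ : T → ℂ) ∧
      blockHeight p B (χ : G → ℂ) = blockHeight p B' (ψ : T → ℂ) := by
  classical
  obtain ⟨h1, h2, h3, h4⟩ := fr_block hM N b hb T hT hNT B' hB' hcov
  have hBeq := sameBlock_of_induced hM T B' _ _ hind h1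
  set a := (T.index).factorization p with ha
  have hidx : T.index ≠ 0 := Subgroup.index_ne_zero_of_finite
  have hdeg : ∀ (χ : IrrCharacter G) (ψ : IrrCharacter T), (χ : G → ℂ) = indFun T (ψ : T → ℂ) →
      (charDegree (χ : G → ℂ)).factorization p = a + (charDegree (ψ : T → ℂ)).factorization p := by
    intro χ ψ h
    have e1 : charDegree (χ : G → ℂ) = T.index * charDegree (ψ : T → ℂ) := by
      have : (charDegree (χ : G → ℂ) : ℂ) = ((T.index * charDegree (ψ : T → ℂ) : ℕ) : ℂ) := by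
        push_cast
        rw [charDegree_cast χ, charDegree_cast ψ, h, indFun_apply_one]
      exact_mod_cast this
    have e2 : charDegree (ψ : T → ℂ) ≠ 0 := by
      intro h0
      have := charDegree_cast ψ
      rw [h0] at this
      exact IsIrrCharacter.apply_one_ne_zero ψ.2 (by rw [← this]; simp)
    rw [e1, Nat.factorization_mul hidx e2]
    rfl
  set S' := (fun ψ : IrrCharacter T => (charDegree (ψ : T → ℂ)).factorization p) '' B' with hS'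
  set S := (fun χ : IrrCharacter G => (charDegree (χ : G → ℂ)).factorization p) '' B with hS
  have hne' : S'.Nonempty := by
    obtain ⟨ψ0, hψ0, -⟩ := hcov
    exact ⟨_, ψ0, hψ0, rfl⟩
  have hSS : ∀ k, k ∈ S ↔ ∃ k' ∈ S', k = a + k' := by
    intro k
    constructor
    · rintro ⟨χ, hχ, rfl⟩
      rw [hBeq] at hχ
      obtain ⟨ψ, hψ, hχψ⟩ := hχ
      exact ⟨_, ⟨ψ, hψ, rfl⟩, hdeg χ ψ hχψ⟩
    · rintro ⟨k', ⟨ψ, hψ, rfl⟩, rfl⟩
      refine ⟨⟨_, h2 ψ hψ⟩, ?_, hdeg ⟨_, h2 ψ hψ⟩ ψ rfl⟩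
      rw [hBeq]; exact ⟨ψ, hψ, rfl⟩
  have hinf : sInf S = a + sInf S' := by
    have hm' := Nat.sInf_mem hne'
    have hne : S.Nonempty := ⟨_, (hSS _).mpr ⟨_, hm', rfl⟩⟩
    have hm := Nat.sInf_mem hne
    apply le_antisymm
    · exact Nat.sInf_le ((hSS _).mpr ⟨_, hm', rfl⟩)
    · obtain ⟨k', hk', hk⟩ := (hSS _).mp hm
      rw [hk]
      have := Nat.sInf_le hk'
      omega
  constructor
  · intro D hD
    obtain ⟨E, hE, hDE⟩ := induced_defect_le hM T B' B hind D hD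
    have hd : blockDefect p B = blockDefect p B' := by
      unfold blockDefect
      rw [← hS, ← hS', hinf, ← Subgroup.card_mul_index T, Nat.factorization_mul Nat.card_pos.ne' hidx]
      simp only [Finsupp.coe_add, Pi.add_apply]
      omega
    have c1 := defect_group_card hM B hind.2.1 E hE
    have c2 := defect_group_card hM B' hB' D hD
    have c3 : Nat.card (D.map T.subtype) = Nat.card D :=
      Subgroup.card_map_of_injective T.subtype_injective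
    have : D.map T.subtype = E := by
      apply Subgroup.eq_of_le_of_card_ge hDE
      rw [c1, c3, c2, hd]
    rw [this]; exact hE
  · intro ψ hψ
    refine ⟨⟨_, h2 ψ hψ⟩, ?_, rfl, ?_⟩
    · rw [hBeq]; exact ⟨ψ, hψ, rfl⟩
    · unfold blockHeight
      rw [← hS, ← hS', hinf, hdeg ⟨_, h2 ψ hψ⟩ ψ rfl]
      omega

end FR
end Cfsg.Agent.H4
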