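import Cfsg.Agent.Lib_helper4_BlkAQ

set_option autoImplicit false
set_option linter.style.haveILetI false
set_option linter.unusedSectionVars false
namespace Cfsg.Agent.H4
open Module
open scoped ComplexConjugate
universe u v w

section Fong
variable {p : ℕ} {M : Ideal AlgInt} {G : Type u} [Group G]

theorem closed_of_block [Finite G] (hM : IsPModular p M) {b : Set (IrrCharacter G)} (hb : IsPBlock M b) :
    ∀ θ ∈ b, blockOf M (θ : G → ℂ) ⊆ b := by
  intro θ hθ
  rw [← IsPBlock.eq_blockOf hM hb hθ]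

theorem fong_class [Fintype G] [Fintype (IrrCharacter G)] (hM : IsPModular p M) (N : Subgroup G) [hN : N.Normal]
    [Fintype N] [Fintype (IrrCharacter N)]
    (b : Set (IrrCharacter N)) (hb : IsPBlock M b)
    (hinv : ∀ θ ∈ b, ∀ g : G, (⟨conjFun hN (θ : N → ℂ) g, conjFun_irr hN θ.2 g⟩ : IrrCharacter N) ∈ b) :
    ∃ x : N, IsDefectClass M b x ∧ (∀ χ ∈ Cov N b, ¬ MemLocalIdeal M (centralChar (χ : G → ℂ) (x : G))) ∧
      ¬ MemLocalIdeal M (coef (Set.indicator (Cov N b) (1 : IrrCharacter G → ℂ)) (x : G)) := by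
  classical
  haveI := Fintype.ofFinite (ConjClasses G)
  haveI := Fintype.ofFinite (ConjClasses N)
  obtain ⟨θ0, hb0⟩ := hb
  have hb : IsPBlock M b := ⟨θ0, hb0⟩
  have hθ0 : θ0 ∈ b := by rw [hb0]; exact SameBlock.refl hM _
  obtain ⟨χ0, hχ0⟩ := exists_over N θ0
  have hχ0c : χ0 ∈ Cov N b := ⟨θ0, hθ0, hχ0⟩
  set v := Set.indicator (Cov N b) (1 : IrrCharacter G → ℂ) with hv
  have hZ : InZ M v := inZ_cov hM N b hinv (closed_of_block hM hb)
  have hcoef : coef v = extendByZero N (coef (Set.indicator b (1 : IrrCharacter N → ℂ))) := coef_cov N b hinv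
  have h1 : v χ0 = 1 := by rw [hv, Set.indicator_of_mem hχ0c]; rfl
  have h2 := eval_eq_sum_classes v χ0
  rw [h1] at h2
  obtain ⟨C, hC⟩ : ∃ C : ConjClasses G, ¬ MemLocalIdeal M (coef v (Quotient.out C) * centralChar (χ0 : G → ℂ) (Quotient.out C)) := by
    by_contra hcon
    push Not at hcon
    apply not_memLocalIdeal_one hM
    rw [h2]
    exact MemLocalIdeal.sum hM _ _ (fun C _ => hcon C)
  set g := Quotient.out C with hg
  have hω : MemLocalRing M (centralChar (χ0 : G → ℂ) g) := memLocalRing_of_isIntegral hM (isIntegral_centralChar χ0 g)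
  have hc1 : ¬ MemLocalIdeal M (coef v g) := fun h => hC (MemLocalIdeal.mul_right hM h hω)
  have hc2 : ¬ MemLocalIdeal M (centralChar (χ0 : G → ℂ) g) := fun h => hC (MemLocalIdeal.mul_left hM (hZ g) h)
  have hgN : g ∈ N := by
    by_contra hgN
    apply hc1
    rw [hcoef, extendByZero_not_mem N _ hgN]
    exact MemLocalIdeal.zero hM
  have h3 := centralChar_eq_icc_of_over N χ0 θ0 hχ0 ⟨g, hgN⟩
  simp only at h3
  rw [h3, icc_eq_sum_classes N _ (IrrCharacter.isClassFunction θ0)] at hc2
  obtain ⟨C', hC'⟩ : ∃ C' : ConjClasses N, ¬ MemLocalIdeal M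
      (if IsConj g ((Quotient.out C' : N) : G) then centralChar (θ0 : N → ℂ) (Quotient.out C') else 0) := by
    by_contra hcon
    push Not at hcon
    exact hc2 (MemLocalIdeal.sum hM _ _ (fun C _ => hcon C))
  set x := Quotient.out C' with hx
  have hgx : IsConj g (x : G) := by
    by_contra h
    rw [if_neg h] at hC'
    exact hC' (MemLocalIdeal.zero hM)
  rw [if_pos hgx] at hC'
  have hcx : coef v (x : G) = coef v g := ((isClassFunction_iff _).mp (coef_isClassFunction v) _ _ hgx).symm
  have hcx' : coef v (x : G) = coef (Set.indicator b (1 : IrrCharacter N → ℂ)) x := by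
    rw [hcoef, extendByZero_coe]
  refine ⟨x, ⟨?_, ?_, ?_⟩, ?_, ?_⟩
  · rw [blockCoeff_eq_coef, ← hcx']; exact hZ _
  · rw [blockCoeff_eq_coef, ← hcx', hcx]; exact hc1
  · intro θ hθ hmem
    apply hC'
    have hs : SameBlock M (θ0 : N → ℂ) (θ : N → ℂ) := by rw [hb0] at hθ; exact hθ
    have := MemLocalIdeal.add hM (hs x) hmem
    rwa [sub_add_cancel] at this
  · rintro χ ⟨θ, hθ, hne⟩ hmem
    have hs : SameBlock M (θ0 : N → ℂ) (θ : N → ℂ) := by rw [hb0] at hθ; exact hθ
    have e1 := centralChar_eq_icc_of_over N χ θ hne x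
    have e2 := centralChar_eq_icc_of_over N χ0 θ0 hχ0 x
    have e3 := icc_congr hM N hs (x : G)
    rw [← e1, ← e2] at e3
    have e4 := MemLocalIdeal.add hM e3 hmem
    rw [sub_add_cancel] at e4
    have e5 : centralChar (χ0 : G → ℂ) (x : G) = centralChar (χ0 : G → ℂ) g := by
      obtain ⟨c, hc⟩ := isConj_iff.mp hgx
      rw [← hc, centralChar_conj _ (IrrCharacter.isClassFunction χ0)]
    rw [e5, h3, icc_eq_sum_classes N _ (IrrCharacter.isClassFunction θ0)] at e4
    exact hc2 e4
  · rw [hcx]; exact hc1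

theorem fong_count [Fintype G] (hM : IsPModular p M) (N : Subgroup G) [hN : N.Normal]
    [Fintype N] (b : Set (IrrCharacter N)) (hb : IsPBlock M b)
    (hinv : ∀ θ ∈ b, ∀ g : G, (⟨conjFun hN (θ : N → ℂ) g, conjFun_irr hN θ.2 g⟩ : IrrCharacter N) ∈ b)
    (x : N) (θ : IrrCharacter N) (hθ : θ ∈ b)
    (h : ¬ MemLocalIdeal M (inducedCentralChar N (θ : N → ℂ) (x : G))) :
    ∃ t : ℕ, ¬ p ∣ t ∧ (Subgroup.centralizer ({(x : G)} : Set G)).index
      = t * (Subgroup.centralizer ({x} : Set N)).index := by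
  classical
  haveI := Fintype.ofFinite (ConjClasses N)
  haveI := Fintype.ofFinite (IrrCharacter N)
  set t := (Finset.univ.filter (fun C : ConjClasses N => IsConj (x : G) ((Quotient.out C : N) : G))).card with ht
  refine ⟨t, ?_, ?_⟩
  · intro hpt
    apply h
    have h1 : MemLocalIdeal M (inducedCentralChar N (θ : N → ℂ) (x : G) - (t : ℂ) * centralChar (θ : N → ℂ) x) := by
      have e : (t : ℂ) * centralChar (θ : N → ℂ) x = ∑ C : ConjClasses N,
          (if IsConj (x : G) ((Quotient.out C : N) : G) then centralChar (θ : N → ℂ) x else 0) := by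
        rw [← Finset.sum_filter, Finset.sum_const, nsmul_eq_mul]
      rw [e, icc_eq_sum_classes N _ (IrrCharacter.isClassFunction θ), ← Finset.sum_sub_distrib]
      apply MemLocalIdeal.sum hM
      intro C _
      split_ifs with hC
      · obtain ⟨c, hc⟩ := isConj_iff.mp hC
        have e1 : (Quotient.out C : N) = ⟨c * x * c⁻¹, hN.conj_mem x x.2 c⟩ := Subtype.ext hc.symm
        rw [e1, ← centralChar_conjFun hN]
        have hs : SameBlock M (conjFun hN (θ : N → ℂ) c) (θ : N → ℂ) := by
          have := hinv θ hθ c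
          rw [IsPBlock.eq_blockOf hM hb hθ] at this
          exact SameBlock.symm this
        exact hs x
      · rw [sub_self]; exact MemLocalIdeal.zero hM
    have h2 : MemLocalIdeal M ((t : ℂ) * centralChar (θ : N → ℂ) x) :=
      MemLocalIdeal.mul_right hM ((memLocalIdeal_natCast_iff hM t).mpr hpt)
        (memLocalRing_of_isIntegral hM (isIntegral_centralChar θ x))
    have := MemLocalIdeal.add hM h1 h2
    rwa [sub_add_cancel] at this
  · have hone : IsClassFunction N (fun _ : N => (1 : ℂ)) := fun _ _ => rfl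
    have e1 := icc_eq_sum_classes N (fun _ : N => (1 : ℂ)) hone (x : G)
    have e2 : ∀ C : ConjClasses N, (if IsConj (x : G) ((Quotient.out C : N) : G) then
        centralChar (fun _ : N => (1 : ℂ)) (Quotient.out C) else 0)
        = if IsConj (x : G) ((Quotient.out C : N) : G) then ((Subgroup.centralizer ({x} : Set N)).index : ℂ) else 0 := by
      intro C
      split_ifs with hC
      · obtain ⟨c, hc⟩ := isConj_iff.mp hC
        have e1 : (Quotient.out C : N) = ⟨c * x * c⁻¹, hN.conj_mem x x.2 c⟩ := Subtype.ext hc.symm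
        unfold centralChar
        rw [e1, index_centralizer_conj hN]
        simp
      · rfl
    simp_rw [e2] at e1
    rw [← Finset.sum_filter, Finset.sum_const, nsmul_eq_mul, ← ht, inducedCentralChar_eq] at e1
    have e3 : ∀ n : N, indFun N (fun _ : N => (1 : ℂ)) (n : G) = (N.index : ℂ) := by
      intro n
      unfold indFun
      have : ∀ y : G, extendByZero N (fun _ : N => (1 : ℂ)) (y⁻¹ * (n : G) * y) = 1 := by
        intro y
        have hy : y⁻¹ * (n : G) * y ∈ N := by
          have := hN.conj_mem n n.2 y⁻¹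
          simpa using this
        rw [extendByZero_mem N _ hy]
      simp_rw [this]
      rw [Finset.sum_const, Finset.card_univ, nsmul_eq_mul, mul_one, ← Nat.card_eq_fintype_card,
        ← Subgroup.card_mul_index N]
      push_cast
      rw [← mul_assoc, inv_mul_cancel₀ card_ne_zero_C, one_mul]
    unfold centralChar at e1
    have e4 := e3 1
    simp only [OneMemClass.coe_one] at e4
    rw [e3 x, e4] at e1
    have hidx : (N.index : ℂ) ≠ 0 := by exact_mod_cast Subgroup.index_ne_zero_of_finite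
    rw [mul_div_assoc, div_self hidx, mul_one] at e1
    exact_mod_cast e1

theorem exists_block_coef [Fintype G] [Fintype (IrrCharacter G)] (hM : IsPModular p M) (A : Set (IrrCharacter G))
    (hA : ∀ χ ∈ A, blockOf M (χ : G → ℂ) ⊆ A) (g : G)
    (h : ¬ MemLocalIdeal M (coef (Set.indicator A (1 : IrrCharacter G → ℂ)) g)) :
    ∃ χ ∈ A, ¬ MemLocalIdeal M (coef (Set.indicator (blockOf M (χ : G → ℂ)) (1 : IrrCharacter G → ℂ)) g) := by
  classical
  by_contra hcon
  push Not at hcon
  apply h
  set S : Set (Set (IrrCharacter G)) := {B | ∃ χ ∈ A, B = blockOf M (χ : G → ℂ)} with hS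
  have hSb : ∀ B ∈ S, IsPBlock M B := by
    rintro B ⟨χ, -, rfl⟩; exact ⟨χ, rfl⟩
  have h1 := sum_blocks_indicator hM S hSb (fun η => (η : G → ℂ) 1 * conj ((η : G → ℂ) g))
  have h2 : {η : IrrCharacter G | blockOf M (η : G → ℂ) ∈ S} = A := by
    ext η
    constructor
    · rintro ⟨χ, hχ, he⟩
      apply hA χ hχ
      rw [← he]; exact SameBlock.refl hM _
    · intro hη; exact ⟨η, hη, rfl⟩
  rw [h2] at h1
  have h3 : ∀ B : Set (IrrCharacter G), coef (Set.indicator B (1 : IrrCharacter G → ℂ)) g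
      = (Nat.card G : ℂ)⁻¹ * ∑ η, B.indicator 1 η * ((η : G → ℂ) 1 * conj ((η : G → ℂ) g)) := by
    intro B
    unfold coef
    congr 1
    apply Finset.sum_congr rfl; intro η _; ring
  rw [h3, ← h1, finsum_mem_eq_finite_toFinset_sum _ (Set.toFinite S), Finset.mul_sum]
  apply MemLocalIdeal.sum hM
  intro B hB
  obtain ⟨χ, hχ, rfl⟩ := (Set.Finite.mem_toFinset _).mp hB
  rw [← h3]
  exact hcon χ hχ

theorem isDefectClass_conj_normal [Fintype G] (N : Subgroup G) [hN : N.Normal]
    [Fintype N] (b : Set (IrrCharacter N))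
    (hinv : ∀ θ ∈ b, ∀ g : G, (⟨conjFun hN (θ : N → ℂ) g, conjFun_irr hN θ.2 g⟩ : IrrCharacter N) ∈ b)
    (x : N) (hx : IsDefectClass M b x) (g : G) :
    IsDefectClass M b ⟨g * x * g⁻¹, hN.conj_mem x x.2 g⟩ := by
  classical
  haveI := Fintype.ofFinite (IrrCharacter G)
  haveI := Fintype.ofFinite (IrrCharacter N)
  have hcoef := coef_cov N b hinv
  have h1 : blockCoeff b ⟨g * x * g⁻¹, hN.conj_mem x x.2 g⟩ = blockCoeff b x := by
    rw [blockCoeff_eq_coef, blockCoeff_eq_coef]
    have e1 := congrFun hcoef (g * x * g⁻¹)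
    have e2 := congrFun hcoef x
    rw [extendByZero_mem N _ (hN.conj_mem x x.2 g)] at e1
    rw [extendByZero_coe] at e2
    rw [← e1, ← e2]
    exact coef_isClassFunction _ _ _
  obtain ⟨h2, h3, h4⟩ := hx
  refine ⟨by rw [h1]; exact h2, by rw [h1]; exact h3, ?_⟩
  intro θ hθ
  rw [← centralChar_conjFun hN]
  exact h4 _ (hinv θ hθ g)

theorem defect_of_class [Finite G] [Fact p.Prime] (hM : IsPModular p M) (B : Set (IrrCharacter G)) (hB : IsPBlock M B)
    (g : G) (hg : IsDefectClass M B g) :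
    blockDefect p B = (Nat.card (Subgroup.centralizer ({g} : Set G))).factorization p := by
  obtain ⟨Q⟩ : Nonempty (Sylow p (Subgroup.centralizer ({g} : Set G))) := inferInstance
  have h1 := defect_group_card hM B hB _ ⟨g, hg, Q, rfl⟩
  rw [Subgroup.card_map_of_injective (Subgroup.subtype_injective _), Sylow.card_eq_multiplicity] at h1
  exact (Nat.pow_right_injective (Fact.out : p.Prime).two_le h1).symm

theorem fong_theorem [Fintype G] [Fact p.Prime] (hM : IsPModular p M) (N : Subgroup G) [hN : N.Normal]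
    [Fintype N] (b : Set (IrrCharacter N)) (hb : IsPBlock M b)
    (hinv : ∀ θ ∈ b, ∀ g : G, (⟨conjFun hN (θ : N → ℂ) g, conjFun_irr hN θ.2 g⟩ : IrrCharacter N) ∈ b)
    (B : Set (IrrCharacter G)) (hB : IsPBlock M B)
    (hcov : ∃ χ ∈ B, ∃ θ ∈ b, classInner (fun n : N => (χ : G → ℂ) n) (θ : N → ℂ) ≠ 0)
    (hmax : ∀ B' : Set (IrrCharacter G), IsPBlock M B' →
      (∃ χ ∈ B', ∃ θ ∈ b, classInner (fun n : N => (χ : G → ℂ) n) (θ : N → ℂ) ≠ 0) →
      blockDefect p B' ≤ blockDefect p B)
    (P : Subgroup G) (hP : IsDefectGroup p M B P) :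
    ¬ p ∣ (P ⊔ N).index ∧ IsDefectGroup p M b ((P ⊓ N).subgroupOf N) ∧
      blockDefect p B = blockDefect p b + N.index.factorization p := by
  classical
  haveI := Fintype.ofFinite (IrrCharacter G)
  haveI := Fintype.ofFinite (IrrCharacter N)
  have hp : p.Prime := Fact.out
  obtain ⟨x, hxd, hxω, hxc⟩ := fong_class hM N b hb hinv
  have hA : ∀ χ ∈ Cov N b, blockOf M (χ : G → ℂ) ⊆ Cov N b := fun χ hχ χ' hχ' =>
    block_over hM N b hb χ χ' hχ hχ'
  obtain ⟨χ1, hχ1, hc1⟩ := exists_block_coef hM (Cov N b) hA x hxc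
  have d1 : (Nat.card (Subgroup.centralizer ({(x : G)} : Set G))).factorization p
      ≤ blockDefect p (blockOf M (χ1 : G → ℂ)) := by
    by_contra hlt
    exact hc1 (coef_mem_of_large_defect hM χ1 x (not_le.mp hlt))
  have d2 : blockDefect p (blockOf M (χ1 : G → ℂ)) ≤ blockDefect p B :=
    hmax _ ⟨χ1, rfl⟩ ⟨χ1, SameBlock.refl hM _, hχ1⟩
  obtain ⟨χ, hχ, hχcov⟩ := hcov
  have d3 : blockDefect p B ≤ (Nat.card (Subgroup.centralizer ({(x : G)} : Set G))).factorization p := by
    by_contra hlt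
    rw [IsPBlock.eq_blockOf hM hB hχ] at hlt
    exact hxω χ hχcov (centralChar_mem_of_small_defect hM χ x (not_le.mp hlt))
  have dB : blockDefect p B = (Nat.card (Subgroup.centralizer ({(x : G)} : Set G))).factorization p := by omega
  obtain ⟨θ, hθ, hne⟩ := hχcov
  obtain ⟨t, ht, hidx⟩ := fong_count hM N b hb hinv x θ hθ (by
    rw [← centralChar_eq_icc_of_over N χ θ hne x]; exact hxω χ ⟨θ, hθ, hne⟩)
  have db := defect_of_class hM b hb x hxd
  have hiii : blockDefect p B = blockDefect p b + N.index.factorization p := by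
    have e1 := Subgroup.card_mul_index (Subgroup.centralizer ({(x : G)} : Set G))
    have e2 := Subgroup.card_mul_index (Subgroup.centralizer ({x} : Set N))
    have e3 := Subgroup.card_mul_index N
    have f1 := congrArg (fun n => n.factorization p) e1
    have f2 := congrArg (fun n => n.factorization p) e2
    have f3 := congrArg (fun n => n.factorization p) e3
    have f4 := congrArg (fun n => n.factorization p) hidx
    have ht0 : t ≠ 0 := by rintro rfl; exact ht (dvd_zero _)
    rw [Nat.factorization_mul Nat.card_pos.ne' Subgroup.index_ne_zero_of_finite, Finsupp.add_apply] at f1 f2 f3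
    rw [Nat.factorization_mul ht0 Subgroup.index_ne_zero_of_finite, Finsupp.add_apply,
      Nat.factorization_eq_zero_of_not_dvd ht] at f4
    omega
  -- move `x` so that `P` centralizes it
  obtain ⟨g, hg, P', rfl⟩ := hP
  obtain ⟨y, Q, hle⟩ := (min_max hM B hB g hg P' (x : G)).2 ⟨χ, hχ, hxω χ ⟨θ, hθ, hne⟩⟩
  set P := (P' : Subgroup (Subgroup.centralizer ({g} : Set G))).map (Subgroup.centralizer ({g} : Set G)).subtype with hPdef
  have hPcard : Nat.card P = p ^ blockDefect p B := defect_group_card hM B hB P ⟨g, hg, P', rfl⟩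
  set x2 : N := ⟨y⁻¹ * x * y⁻¹⁻¹, hN.conj_mem x x.2 y⁻¹⟩ with hx2
  have hx2d : IsDefectClass M b x2 := isDefectClass_conj_normal N b hinv x hxd y⁻¹
  have hPx2 : ∀ u ∈ P, u * (x2 : G) = (x2 : G) * u := by
    intro u hu
    have h1 : y * u * y⁻¹ ∈ P.map (MulAut.conj y).toMonoidHom := ⟨u, hu, by simp⟩
    obtain ⟨q, -, hq⟩ := hle h1
    have h2 : y * u * y⁻¹ ∈ Subgroup.centralizer ({(x : G)} : Set G) := by
      rw [← hq]; exact q.2
    rw [Subgroup.mem_centralizer_singleton_iff] at h2
    show u * (y⁻¹ * x * y⁻¹⁻¹) = (y⁻¹ * x * y⁻¹⁻¹) * u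
    have h3 : u * (y⁻¹ * x * y⁻¹⁻¹) = y⁻¹ * (y * u * y⁻¹ * x) * y := by group
    rw [h3, h2]; group
  have db2 := defect_of_class hM b hb x2 hx2d
  -- cardinalities
  have c1 : Nat.card (P ⊓ N : Subgroup G) * N.relIndex P = Nat.card P := by
    have := Subgroup.card_mul_index (N.subgroupOf P)
    rw [← Subgroup.inf_subgroupOf_left, Nat.card_congr (Subgroup.subgroupOfEquivOfLe (inf_le_left : P ⊓ N ≤ P)).toEquiv,
      Subgroup.inf_subgroupOf_left] at this
    exact this
  obtain ⟨j, hj1, hj⟩ := (Nat.dvd_prime_pow hp).mp (hPcard ▸ Subgroup.relIndex_dvd_card N P)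
  have hjle : j ≤ N.index.factorization p := by
    have h1 : p ^ j ∣ N.index := hj ▸ Subgroup.relIndex_dvd_index_of_normal N P
    exact (hp.pow_dvd_iff_le_factorization Subgroup.index_ne_zero_of_finite).mp h1
  have c2 : Nat.card (P ⊓ N : Subgroup G) = p ^ (blockDefect p B - j) := by
    rw [hj, hPcard] at c1
    have h1 : p ^ blockDefect p B = p ^ (blockDefect p B - j) * p ^ j := by
      rw [← pow_add]; congr 1; omega
    rw [h1] at c1
    exact Nat.eq_of_mul_eq_mul_right (pow_pos hp.pos j) c1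
  set R : Subgroup N := (P ⊓ N).subgroupOf N with hR
  have hRcard : Nat.card R = p ^ (blockDefect p B - j) := by
    rw [hR, Nat.card_congr (Subgroup.subgroupOfEquivOfLe (inf_le_right : P ⊓ N ≤ N)).toEquiv, c2]
  have hRle : R ≤ Subgroup.centralizer ({x2} : Set N) := by
    intro n hn
    rw [Subgroup.mem_centralizer_singleton_iff]
    apply Subtype.ext
    have : (n : G) ∈ P ⊓ N := hn
    exact hPx2 n this.1
  have hle2 : blockDefect p B - j ≤ blockDefect p b := by
    have h1 : p ^ (blockDefect p B - j) ∣ Nat.card (Subgroup.centralizer ({x2} : Set N)) :=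
      hRcard ▸ Subgroup.card_dvd_of_le hRle
    rw [db2]
    exact (hp.pow_dvd_iff_le_factorization Nat.card_pos.ne').mp h1
  have hjeq : j = N.index.factorization p := by omega
  have hexp : blockDefect p B - j = blockDefect p b := by omega
  refine ⟨?_, ?_, hiii⟩
  · have h1 := Subgroup.relIndex_mul_index (le_sup_right : N ≤ P ⊔ N)
    rw [Subgroup.relIndex_sup_right, hj] at h1
    have f1 := congrArg (fun n => n.factorization p) h1
    rw [Nat.factorization_mul (pow_pos hp.pos j).ne' Subgroup.index_ne_zero_of_finite, Finsupp.add_apply,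
      hp.factorization_pow, Finsupp.single_eq_same] at f1
    intro hdvd
    have := (hp.dvd_iff_one_le_factorization Subgroup.index_ne_zero_of_finite).mp hdvd
    omega
  · have hcard' : Nat.card (R.subgroupOf (Subgroup.centralizer ({x2} : Set N)))
        = p ^ (Nat.card (Subgroup.centralizer ({x2} : Set N))).factorization p := by
      rw [Nat.card_congr (Subgroup.subgroupOfEquivOfLe hRle).toEquiv, hRcard, hexp, db2]
    refine ⟨x2, hx2d, Sylow.ofCard _ hcard', ?_⟩
    show R = (R.subgroupOf (Subgroup.centralizer ({x2} : Set N))).map _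
    rw [Subgroup.map_subgroupOf_eq_of_le hRle]

end Fong
end Cfsg.Agent.H4
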