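import Cfsg.Agent.Lib_helper4_BlkAR

set_option autoImplicit false
set_option linter.style.haveILetI false
set_option linter.unusedSectionVars false
namespace Cfsg.Agent.H4
open Module
open scoped ComplexConjugate
universe u v w

section PQuot
variable {p : ℕ} {M : Ideal AlgInt} {G : Type u} [Group G]

theorem stab_conjFun {N : Subgroup G} (hN : N.Normal) (c : Set (IrrCharacter N)) (x : G)
    (h : StabilizesBlock N c x) :
    ∀ θ ∈ c, (⟨conjFun hN (θ : N → ℂ) x⁻¹, conjFun_irr hN θ.2 x⁻¹⟩ : IrrCharacter N) ∈ c := by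
  intro θ hθ
  obtain ⟨χ', hχ', hc⟩ := h.2 θ hθ
  have : χ' = ⟨conjFun hN (θ : N → ℂ) x⁻¹, conjFun_irr hN θ.2 x⁻¹⟩ := by
    apply Subtype.ext
    funext n
    exact hc ⟨x⁻¹ * n * x⁻¹⁻¹, hN.conj_mem n n.2 x⁻¹⟩ n (by simp; group)
  rw [← this]; exact hχ'

theorem subgroupBlockCoeff_eq [Fintype G] (N : Subgroup G) [Fintype N] [Fintype (IrrCharacter N)]
    (c : Set (IrrCharacter N)) :
    subgroupBlockCoeff N c = extendByZero N (coef (Set.indicator c (1 : IrrCharacter N → ℂ))) := by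
  funext g
  unfold subgroupBlockCoeff
  by_cases hg : g ∈ N
  · rw [dif_pos hg, extendByZero_mem N _ hg, blockCoeff_eq_coef]
  · rw [dif_neg hg, extendByZero_not_mem N _ hg]

theorem indicator_eq_of_coef_eq [Fintype G] [Fintype (IrrCharacter G)] (A B : Set (IrrCharacter G))
    (h : ∀ g, coef (Set.indicator A (1 : IrrCharacter G → ℂ)) g = coef (Set.indicator B (1 : IrrCharacter G → ℂ)) g) :
    A = B := by
  classical
  haveI := Fintype.ofFinite (ConjClasses G)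
  have h1 : Set.indicator A (1 : IrrCharacter G → ℂ) = Set.indicator B (1 : IrrCharacter G → ℂ) := by
    funext χ
    rw [eval_eq_sum_classes (Set.indicator A 1) χ, eval_eq_sum_classes (Set.indicator B 1) χ]
    simp_rw [h]
  ext χ
  have h2 := congrFun h1 χ
  by_cases hA : χ ∈ A <;> by_cases hB : χ ∈ B <;> simp_all

theorem pquot_block [Fintype G] [Fact p.Prime] (hM : IsPModular p M) (N : Subgroup G) [hN : N.Normal]
    (hidx : ∃ k : ℕ, N.index = p ^ k) (c : Set (IrrCharacter N)) (hc : IsPBlock M c)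
    (hst : ∀ x : G, StabilizesBlock N c x) :
    (∃ B : Set (IrrCharacter G), IsPBlock M B ∧ ∀ g : G, blockCoeff B g = subgroupBlockCoeff N c g) ∧
    ∀ B : Set (IrrCharacter G), IsPBlock M B → (∀ g : G, blockCoeff B g = subgroupBlockCoeff N c g) →
      ∀ P : Subgroup G, IsDefectGroup p M B P → N ⊔ P = ⊤ ∧ IsDefectGroup p M c ((P ⊓ N).subgroupOf N) := by
  classical
  haveI := Fintype.ofFinite N
  haveI := Fintype.ofFinite (IrrCharacter G)
  haveI := Fintype.ofFinite (IrrCharacter N)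
  have hp : p.Prime := Fact.out
  have hinv : ∀ θ ∈ c, ∀ g : G, (⟨conjFun hN (θ : N → ℂ) g, conjFun_irr hN θ.2 g⟩ : IrrCharacter N) ∈ c := by
    intro θ hθ g
    have := stab_conjFun hN c g⁻¹ (hst g⁻¹) θ hθ
    simpa using this
  obtain ⟨θ0, hc0⟩ := hc
  have hc : IsPBlock M c := ⟨θ0, hc0⟩
  have hθ0 : θ0 ∈ c := by rw [hc0]; exact SameBlock.refl hM _
  obtain ⟨χ0, hχ0⟩ := exists_over N θ0
  have hcovEq : Cov N c = blockOf M (χ0 : G → ℂ) := by
    apply Set.Subset.antisymm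
    · intro χ hχ
      exact unique_cover_of_pquot hM N hidx c hc χ0 χ ⟨θ0, hθ0, hχ0⟩ hχ
    · intro χ hχ
      exact block_over hM N c hc χ0 χ ⟨θ0, hθ0, hχ0⟩ hχ
  have hcoef : ∀ g, blockCoeff (Cov N c) g = subgroupBlockCoeff N c g := by
    intro g
    rw [blockCoeff_eq_coef, coef_cov N c hinv, subgroupBlockCoeff_eq]
  refine ⟨⟨Cov N c, hcovEq ▸ ⟨χ0, rfl⟩, hcoef⟩, ?_⟩
  intro B hB hBc P hP
  have hBeq : B = Cov N c := by
    apply indicator_eq_of_coef_eq
    intro g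
    rw [← blockCoeff_eq_coef, ← blockCoeff_eq_coef, hBc, hcoef]
  have hχ0B : χ0 ∈ B := by rw [hBeq]; exact ⟨θ0, hθ0, hχ0⟩
  obtain ⟨h1, h2, -⟩ := fong_theorem hM N c hc hinv B hB ⟨χ0, hχ0B, θ0, hθ0, hχ0⟩ (by
    intro B' hB' ⟨χ, hχ, hcov⟩
    have : B' = B := by
      rw [IsPBlock.eq_blockOf hM hB' hχ, IsPBlock.eq_blockOf hM hB (show χ ∈ B by rw [hBeq]; exact hcov)]
    rw [this]) P hP
  refine ⟨?_, h2⟩
  obtain ⟨k, hk⟩ := hidx
  have h3 : (P ⊔ N).index ∣ p ^ k := hk ▸ Subgroup.index_dvd_of_le (le_sup_right : N ≤ P ⊔ N)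
  obtain ⟨j, -, hj⟩ := (Nat.dvd_prime_pow hp).mp h3
  have hj0 : j = 0 := by
    by_contra hne
    exact h1 (hj ▸ dvd_pow_self p hne)
  rw [hj0, pow_zero, Subgroup.index_eq_one] at hj
  rw [sup_comm]; exact hj

end PQuot
end Cfsg.Agent.H4
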