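import Cfsg.Agent.Lib_helper4_BlkAS

set_option autoImplicit false
set_option linter.style.haveILetI false
set_option linter.unusedSectionVars false
namespace Cfsg.Agent.H4
open Module
open scoped ComplexConjugate
universe u v w

section Transport
variable {p : ℕ} {M : Ideal AlgInt}

/-- transport of an irreducible character along an isomorphism -/
def trIrr {A : Type v} {A₂ : Type w} [Group A] [Group A₂] (α : A ≃* A₂) (θ : IrrCharacter A₂) : IrrCharacter A :=
  ⟨fun x => (θ : A₂ → ℂ) (α x), IsIrrCharacter.comp_surj α.toMonoidHom α.surjective θ.2⟩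

/-- transport of a set of irreducible characters along an isomorphism -/
def trSet {A : Type v} {A₂ : Type w} [Group A] [Group A₂] (α : A ≃* A₂) (b : Set (IrrCharacter A₂)) :
    Set (IrrCharacter A) := {φ | ∃ θ ∈ b, φ = trIrr α θ}

variable {A : Type v} {A₂ : Type w} [Group A] [Group A₂]

theorem trIrr_apply (α : A ≃* A₂) (θ : IrrCharacter A₂) (x : A) : (trIrr α θ : A → ℂ) x = (θ : A₂ → ℂ) (α x) := rfl

theorem trIrr_symm (α : A ≃* A₂) (θ : IrrCharacter A₂) : trIrr α.symm (trIrr α θ) = θ := by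
  apply Subtype.ext; funext x; simp [trIrr_apply]

theorem trIrr_symm' (α : A ≃* A₂) (θ : IrrCharacter A) : trIrr α (trIrr α.symm θ) = θ := by
  apply Subtype.ext; funext x; simp [trIrr_apply]

theorem trIrr_mem (α : A ≃* A₂) {b : Set (IrrCharacter A₂)} {θ : IrrCharacter A₂} (h : θ ∈ b) :
    trIrr α θ ∈ trSet α b := ⟨θ, h, rfl⟩

theorem trSet_symm (α : A ≃* A₂) (b : Set (IrrCharacter A₂)) : trSet α.symm (trSet α b) = b := by
  ext θ
  constructor
  · rintro ⟨φ, ⟨θ', hθ', rfl⟩, rfl⟩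
    rw [trIrr_symm]; exact hθ'
  · intro h
    exact ⟨trIrr α θ, trIrr_mem α h, (trIrr_symm α θ).symm⟩

theorem trSet_symm' (α : A ≃* A₂) (b : Set (IrrCharacter A)) : trSet α (trSet α.symm b) = b := by
  ext θ
  constructor
  · rintro ⟨φ, ⟨θ', hθ', rfl⟩, rfl⟩
    rw [trIrr_symm']; exact hθ'
  · intro h
    exact ⟨trIrr α.symm θ, trIrr_mem α.symm h, (trIrr_symm' α θ).symm⟩

theorem trSet_blockOf (α : A ≃* A₂) (θ : IrrCharacter A₂) :
    trSet α (blockOf M (θ : A₂ → ℂ)) = blockOf M (trIrr α θ : A → ℂ) := by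
  ext φ
  constructor
  · rintro ⟨θ', hθ', rfl⟩
    exact sameBlock_comp_equiv α hθ'
  · intro hφ
    refine ⟨trIrr α.symm φ, ?_, (trIrr_symm' α φ).symm⟩
    have := sameBlock_comp_equiv α.symm hφ
    have e : (fun x => (trIrr α θ : A → ℂ) (α.symm x)) = (θ : A₂ → ℂ) := by
      funext x; simp [trIrr_apply]
    rw [e] at this
    exact this

theorem isPBlock_trSet (α : A ≃* A₂) {b : Set (IrrCharacter A₂)} (hb : IsPBlock M b) : IsPBlock M (trSet α b) := by
  obtain ⟨θ, rfl⟩ := hb
  exact ⟨trIrr α θ, trSet_blockOf α θ⟩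

end Transport

section Trans
variable {p : ℕ} {M : Ideal AlgInt} {G : Type u} [Group G]

theorem icc_trans [Finite G] (H K : Subgroup G) (hHK : H ≤ K) (ξ : H → ℂ) (g : G)
    [Fintype (ConjClasses K)] [DecidablePred (fun k : K => IsConj g (k : G))] :
    inducedCentralChar H ξ g = ∑ C : ConjClasses K,
      (if IsConj g ((Quotient.out C : K) : G) then
        inducedCentralChar (H.subgroupOf K) (fun x => ξ (Subgroup.subgroupOfEquivOfLe hHK x)) (Quotient.out C) else 0) := by
  classical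
  haveI := Fintype.ofFinite H
  haveI := Fintype.ofFinite (H.subgroupOf K)
  set e := Subgroup.subgroupOfEquivOfLe hHK with he
  rw [inducedCentralChar_eq_sum]
  simp_rw [inducedCentralChar_eq_sum]
  have h1 : ∀ C : ConjClasses K, (if IsConj g ((Quotient.out C : K) : G) then
      ∑ h : H.subgroupOf K, (if IsConj (Quotient.out C : K) (h : K) then ξ (e h) / ξ (e 1) else 0) else 0)
      = ∑ h : H.subgroupOf K, (if ConjClasses.mk (h : K) = C then (if IsConj g ((h : K) : G) then ξ (e h) / ξ 1 else 0) else 0) := by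
    intro C
    have h3 : ConjClasses.mk (Quotient.out C) = C := Quotient.out_eq C
    rw [map_one]
    by_cases hC : IsConj g ((Quotient.out C : K) : G)
    · rw [if_pos hC]
      apply Finset.sum_congr rfl; intro h _
      by_cases hh : ConjClasses.mk (h : K) = C
      · have h4 : IsConj (Quotient.out C) (h : K) := ConjClasses.mk_eq_mk_iff_isConj.mp (h3.trans hh.symm)
        have h5 : IsConj g ((h : K) : G) := hC.trans (MonoidHom.map_isConj K.subtype h4)
        rw [if_pos hh, if_pos h4, if_pos h5]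
      · have h4 : ¬ IsConj (Quotient.out C) (h : K) := fun h5 =>
          hh ((ConjClasses.mk_eq_mk_iff_isConj.mpr h5).symm.trans h3)
        rw [if_neg hh, if_neg h4]
    · rw [if_neg hC]
      symm
      apply Finset.sum_eq_zero; intro h _
      by_cases hh : ConjClasses.mk (h : K) = C
      · have h4 : IsConj (Quotient.out C) (h : K) := ConjClasses.mk_eq_mk_iff_isConj.mp (h3.trans hh.symm)
        have h5 : ¬ IsConj g ((h : K) : G) := fun h6 => hC (h6.trans (MonoidHom.map_isConj K.subtype h4).symm)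
        rw [if_pos hh, if_neg h5]
      · rw [if_neg hh]
  simp_rw [h1]
  rw [Finset.sum_comm]
  simp only [Finset.sum_ite_eq, Finset.mem_univ, if_true]
  rw [← Equiv.sum_comp e.toEquiv]
  apply Finset.sum_congr rfl; intro h _
  have e1 : ((e.toEquiv h : H) : G) = ((h : K) : G) := rfl
  have e2 : e.toEquiv h = e h := rfl
  rw [e2]
  by_cases hh : IsConj g ((h : K) : G)
  · rw [if_pos hh, if_pos (by rw [← e2, e1]; exact hh)]
  · rw [if_neg hh, if_neg (by rw [← e2, e1]; exact hh)]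

theorem induced_trans [Finite G] (hM : IsPModular p M) (H K : Subgroup G) (hHK : H ≤ K)
    (b : Set (IrrCharacter H)) (hb : IsPBlock M b) (bt : Set (IrrCharacter K))
    (hK : IsInducedBlock M (H.subgroupOf K) (trSet (Subgroup.subgroupOfEquivOfLe hHK) b) bt)
    (B : Set (IrrCharacter G)) :
    IsInducedBlock M K bt B ↔ IsInducedBlock M H b B := by
  classical
  haveI := Fintype.ofFinite (ConjClasses K)
  haveI := Fintype.ofFinite H
  haveI := Fintype.ofFinite K
  haveI := Fintype.ofFinite (IrrCharacter H)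
  haveI := Fintype.ofFinite (IrrCharacter K)
  have key : ∀ ξ ∈ b, ∀ ζ ∈ bt, ∀ g : G, MemLocalIdeal M
      (inducedCentralChar H (ξ : H → ℂ) g - inducedCentralChar K (ζ : K → ℂ) g) := by
    intro ξ hξ ζ hζ g
    rw [icc_trans H K hHK, icc_eq_sum_classes K _ (IrrCharacter.isClassFunction ζ), ← Finset.sum_sub_distrib]
    apply MemLocalIdeal.sum hM
    intro C _
    split_ifs
    · exact hK.2.2 (trIrr _ ξ) (trIrr_mem _ hξ) ζ hζ _
    · rw [sub_self]; exact MemLocalIdeal.zero hM
  obtain ⟨ξ0, hb0⟩ := hb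
  have hξ0 : ξ0 ∈ b := by rw [hb0]; exact SameBlock.refl hM _
  obtain ⟨ζ0, hbt0⟩ := hK.2.1
  have hζ0 : ζ0 ∈ bt := by rw [hbt0]; exact SameBlock.refl hM _
  constructor
  · rintro ⟨-, hB, h⟩
    refine ⟨⟨ξ0, hb0⟩, hB, ?_⟩
    intro ξ hξ χ hχ g
    have := MemLocalIdeal.add hM (key ξ hξ ζ0 hζ0 g) (h ζ0 hζ0 χ hχ g)
    rwa [sub_add_sub_cancel] at this
  · rintro ⟨-, hB, h⟩
    refine ⟨hK.2.1, hB, ?_⟩
    intro ζ hζ χ hχ g
    have := MemLocalIdeal.sub hM (h ξ0 hξ0 χ hχ g) (key ξ0 hξ0 ζ hζ g)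
    rwa [sub_sub_sub_cancel_left] at this

theorem classInner_resN_tr [Fintype G] (H K : Subgroup G) [Fintype H] [Fintype K] [Fintype (H.subgroupOf K)]
    (hHK : H ≤ K) (ζ : K → ℂ) (θ : IrrCharacter H) :
    classInner (fun n : H.subgroupOf K => ζ (n : K)) (trIrr (Subgroup.subgroupOfEquivOfLe hHK) θ : H.subgroupOf K → ℂ)
      = classInner (resN hHK ζ) (θ : H → ℂ) := by
  rw [← classInner_equiv (Subgroup.subgroupOfEquivOfLe hHK) (resN hHK ζ) (θ : H → ℂ)]
  rfl

theorem isPGroup_of_defectGroup [Finite G] [Fact p.Prime] (hM : IsPModular p M) (B : Set (IrrCharacter G))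
    (hB : IsPBlock M B) (P : Subgroup G) (hP : IsDefectGroup p M B P) : IsPGroup p P :=
  IsPGroup.of_card (defect_group_card hM B hB P hP)

theorem defect_eq_of_normal_of_induced [Finite G] [Fact p.Prime] (hM : IsPModular p M) (H : Subgroup G)
    (b : Set (IrrCharacter H)) (B : Set (IrrCharacter G)) (hind : IsInducedBlock M H b B) (P : Subgroup G)
    (hPB : IsDefectGroup p M B P) (hPH : P ≤ H) (hPn : (P.subgroupOf H).Normal) :
    IsDefectGroup p M b (P.subgroupOf H) := by
  obtain ⟨D, hD⟩ := exists_defectGroup hM b hind.1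
  have hPp : IsPGroup p P := isPGroup_of_defectGroup hM B hind.2.1 P hPB
  have hPp' : IsPGroup p (P.subgroupOf H) :=
    hPp.of_equiv (Subgroup.subgroupOfEquivOfLe hPH).symm
  have h1 : P.subgroupOf H ≤ D := normal_pSubgroup_le_defect hM b hind.1 D hD (P.subgroupOf H) hPp'
  obtain ⟨E, hE, hDE⟩ := induced_defect_le hM H b B hind D hD
  have c1 : Nat.card E = Nat.card P := by
    rw [defect_group_card hM B hind.2.1 E hE, defect_group_card hM B hind.2.1 P hPB]
  have c2 : Nat.card (D.map H.subtype) = Nat.card D := Subgroup.card_map_of_injective H.subtype_injective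
  have c3 : Nat.card (P.subgroupOf H) = Nat.card P := Nat.card_congr (Subgroup.subgroupOfEquivOfLe hPH).toEquiv
  have c4 : Nat.card (D.map H.subtype) ≤ Nat.card E := Subgroup.card_le_of_le hDE
  have : P.subgroupOf H = D := Subgroup.eq_of_le_of_card_ge h1 (by omega)
  rw [this]; exact hD

/-- `H ⊴ K`, `P ⊴ K` a `p`-subgroup with `C_K(P) ≤ H`: a block of `K` covering a block of `H` is induced by it -/
theorem rel_induced [Fintype G] (hM : IsPModular p M) (P H K : Subgroup G) [Fintype H] [Fintype K]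
    (hP : IsPGroup p P) (hPK : P ≤ K) (hHK : H ≤ K)
    (hPn : (P.subgroupOf K).Normal) (hHn : (H.subgroupOf K).Normal)
    (hC : Subgroup.centralizer (P : Set G) ⊓ K ≤ H)
    (b : Set (IrrCharacter H)) (hb : IsPBlock M b) (bt : Set (IrrCharacter K)) (hbt : IsPBlock M bt)
    (hcov : ∃ ζ ∈ bt, ∃ θ ∈ b, classInner (resN hHK (ζ : K → ℂ)) (θ : H → ℂ) ≠ 0) :
    IsInducedBlock M (H.subgroupOf K) (trSet (Subgroup.subgroupOfEquivOfLe hHK) b) bt := by
  classical
  haveI := Fintype.ofFinite (H.subgroupOf K)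
  haveI := hPn
  haveI := hHn
  apply induced_of_cover_centralizer hM (P.subgroupOf K) (hP.of_equiv (Subgroup.subgroupOfEquivOfLe hPK).symm)
    (H.subgroupOf K) _ _ (isPBlock_trSet _ hb) bt hbt
  · obtain ⟨ζ, hζ, θ, hθ, hne⟩ := hcov
    refine ⟨ζ, hζ, trIrr _ θ, trIrr_mem _ hθ, ?_⟩
    rw [classInner_resN_tr]; exact hne
  · intro k hk
    show (k : G) ∈ H
    apply hC
    refine ⟨?_, k.2⟩
    show (k : G) ∈ Subgroup.centralizer (P : Set G)
    rw [Subgroup.mem_centralizer_iff]
    intro x hx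
    have := (Subgroup.mem_centralizer_iff.mp hk) ⟨x, hPK hx⟩ (by exact hx)
    exact congrArg Subtype.val this

theorem pc_le_normalizer (P : Subgroup G) :
    P ⊔ Subgroup.centralizer (P : Set G) ≤ Subgroup.normalizer (P : Set G) :=
  sup_le Subgroup.le_normalizer (Subgroup.centralizer_le_normalizer _)

theorem pc_normal (P : Subgroup G) :
    ((P ⊔ Subgroup.centralizer (P : Set G)).subgroupOf (Subgroup.normalizer (P : Set G))).Normal := by
  rw [Subgroup.subgroupOf_sup Subgroup.le_normalizer (Subgroup.centralizer_le_normalizer _)]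
  haveI : (P.subgroupOf (Subgroup.normalizer (P : Set G))).Normal := Subgroup.normal_in_normalizer
  haveI : ((Subgroup.centralizer (P : Set G)).subgroupOf (Subgroup.normalizer (P : Set G))).Normal :=
    (Subgroup.normal_subgroupOf_iff_le_normalizer (Subgroup.centralizer_le_normalizer _)).mpr
      (normalizer_le_normalizer_centralizer P)
  exact Subgroup.sup_normal _ _

theorem extended_fmt [Finite G] [Fact p.Prime] (hM : IsPModular p M) (B : Set (IrrCharacter G)) (hB : IsPBlock M B)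
    (P : Subgroup G) (hP : IsDefectGroup p M B P) :
    (∃ b : Set (IrrCharacter ↥(P ⊔ Subgroup.centralizer (P : Set G))),
      IsDefectGroup p M b (P.subgroupOf (P ⊔ Subgroup.centralizer (P : Set G))) ∧
      IsInducedBlock M (P ⊔ Subgroup.centralizer (P : Set G)) b B) ∧
    ∀ b b' : Set (IrrCharacter ↥(P ⊔ Subgroup.centralizer (P : Set G))),
      IsInducedBlock M (P ⊔ Subgroup.centralizer (P : Set G)) b B →
      IsInducedBlock M (P ⊔ Subgroup.centralizer (P : Set G)) b' B →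
      ∃ n ∈ Subgroup.normalizer (P : Set G), ∀ θ ∈ b, ∃ θ' ∈ b',
        ∀ x : ↥(P ⊔ Subgroup.centralizer (P : Set G)),
        ∀ hx : n * (x : G) * n⁻¹ ∈ P ⊔ Subgroup.centralizer (P : Set G),
        (θ' : ↥(P ⊔ Subgroup.centralizer (P : Set G)) → ℂ) x
          = (θ : ↥(P ⊔ Subgroup.centralizer (P : Set G)) → ℂ) ⟨n * (x : G) * n⁻¹, hx⟩ := by
  classical
  haveI := Fintype.ofFinite G
  set H := P ⊔ Subgroup.centralizer (P : Set G) with hH
  set K := Subgroup.normalizer (P : Set G) with hK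
  haveI := Fintype.ofFinite H
  haveI := Fintype.ofFinite K
  haveI := Fintype.ofFinite (H.subgroupOf K)
  haveI := Fintype.ofFinite (IrrCharacter K)
  haveI := Fintype.ofFinite (IrrCharacter H)
  have hHK : H ≤ K := pc_le_normalizer P
  have hPK : P ≤ K := Subgroup.le_normalizer
  have hPH : P ≤ H := le_sup_left
  have hHn : (H.subgroupOf K).Normal := pc_normal P
  have hPn : (P.subgroupOf K).Normal := Subgroup.normal_in_normalizer
  have hPnH : (P.subgroupOf H).Normal := (Subgroup.normal_subgroupOf_iff_le_normalizer hPH).mpr hHK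
  have hPp : IsPGroup p P := isPGroup_of_defectGroup hM B hB P hP
  have hC : Subgroup.centralizer (P : Set G) ⊓ K ≤ H := inf_le_left.trans le_sup_right
  set e := Subgroup.subgroupOfEquivOfLe hHK with he
  constructor
  · obtain ⟨bt, hbt, hDbt, hindt⟩ := fmt_B_exists hM P hPp B hB hP
    obtain ⟨ζ, hbt0⟩ := hbt
    have hbt : IsPBlock M bt := ⟨ζ, hbt0⟩
    have hζ : ζ ∈ bt := by rw [hbt0]; exact SameBlock.refl hM _
    obtain ⟨θ', hθ'⟩ := exists_under (H.subgroupOf K) ζ
    set θ := trIrr e.symm θ' with hθ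
    have hθθ' : trIrr e θ = θ' := trIrr_symm' e θ'
    have hne : classInner (resN hHK (ζ : K → ℂ)) (θ : H → ℂ) ≠ 0 := by
      rw [← classInner_resN_tr, hθθ']; exact hθ'
    have hb : IsPBlock M (blockOf M (θ : H → ℂ)) := ⟨θ, rfl⟩
    have h1 := rel_induced hM P H K hPp hPK hHK hPn hHn hC _ hb bt hbt ⟨ζ, hζ, θ, SameBlock.refl hM _, hne⟩
    have h2 := (induced_trans hM H K hHK _ hb bt h1 B).mp hindt
    exact ⟨_, defect_eq_of_normal_of_induced hM H _ B h2 P hP hPH hPnH, h2⟩
  · intro b1 b2 hi1 hi2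
    have main : ∀ b : Set (IrrCharacter H), IsInducedBlock M H b B → ∀ θ ∈ b, ∃ ζ : IrrCharacter K,
        classInner (resN hHK (ζ : K → ℂ)) (θ : H → ℂ) ≠ 0 ∧ IsInducedBlock M K (blockOf M (ζ : K → ℂ)) B := by
      intro b hi θ hθ
      obtain ⟨χ, hχ⟩ := exists_over H θ
      obtain ⟨ζ, -, hζ⟩ := exists_middle H K hHK χ θ hχ
      refine ⟨ζ, hζ, ?_⟩
      have h1 := rel_induced hM P H K hPp hPK hHK hPn hHn hC b hi.1 _ ⟨ζ, rfl⟩ ⟨ζ, SameBlock.refl hM _, θ, hθ, hζ⟩
      exact (induced_trans hM H K hHK b hi.1 _ h1 B).mpr hi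
    obtain ⟨θ1, hb1⟩ := hi1.1
    have hθ1 : θ1 ∈ b1 := by rw [hb1]; exact SameBlock.refl hM _
    obtain ⟨θ2, hb2⟩ := hi2.1
    have hθ2 : θ2 ∈ b2 := by rw [hb2]; exact SameBlock.refl hM _
    obtain ⟨ζ1, hζ1, hI1⟩ := main b1 hi1 θ1 hθ1
    obtain ⟨ζ2, hζ2, hI2⟩ := main b2 hi2 θ2 hθ2
    have hD1 := defect_eq_of_normal_of_induced hM K _ B hI1 P hP hPK hPn
    have heq := fmt_B_unique hM P hPp B _ _ hD1 hI1 hI2
    have hsame : SameBlock M (ζ1 : K → ℂ) (ζ2 : K → ℂ) := by
      have : ζ2 ∈ blockOf M (ζ2 : K → ℂ) := SameBlock.refl hM _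
      rw [← heq] at this
      exact this
    haveI := hHn
    obtain ⟨k, θ'', hθ'', hc⟩ := block_constituents_conj hM (H.subgroupOf K) (trSet e b1) (isPBlock_trSet e hi1.1)
      ζ1 ζ2 ⟨trIrr e θ1, trIrr_mem e hθ1, by rw [classInner_resN_tr]; exact hζ1⟩ hsame (trIrr e θ2)
      (by rw [classInner_resN_tr]; exact hζ2)
    refine ⟨k, k.2, ?_⟩
    intro θ hθ
    have hs1 : SameBlock M (θ'' : H.subgroupOf K → ℂ) (trIrr e θ : H.subgroupOf K → ℂ) := by
      have h1 := trIrr_mem e hθ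
      rw [IsPBlock.eq_blockOf hM (isPBlock_trSet e hi1.1) hθ''] at h1
      exact h1
    have hs2 := SameBlock.conjFun hHn hs1 k
    rw [← hc] at hs2
    have h3 : (⟨_, conjFun_irr hHn (trIrr e θ).2 k⟩ : IrrCharacter (H.subgroupOf K)) ∈ trSet e b2 := by
      rw [IsPBlock.eq_blockOf hM (isPBlock_trSet e hi2.1) (trIrr_mem e hθ2)]
      exact hs2
    obtain ⟨θ', hθ', he'⟩ := h3
    refine ⟨θ', hθ', ?_⟩
    intro x hx
    have h4 := congrFun (congrArg Subtype.val he') (e.symm x)
    simp only [trIrr_apply, MulEquiv.apply_symm_apply] at h4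
    rw [← h4]
    rfl

end Trans
end Cfsg.Agent.H4
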