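import Cfsg.Agent.Lib_helper4_BlkAT

set_option autoImplicit false
set_option linter.style.haveILetI false
set_option linter.unusedSectionVars false
namespace Cfsg.Agent.H4
open Module
open scoped ComplexConjugate
universe u v w

section FongGen
variable {p : ℕ} {M : Ideal AlgInt}

theorem charDegree_trIrr {A : Type v} {A₂ : Type w} [Group A] [Group A₂] (α : A ≃* A₂) (θ : IrrCharacter A₂) :
    charDegree (trIrr α θ : A → ℂ) = charDegree (θ : A₂ → ℂ) := by
  unfold charDegree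
  rw [trIrr_apply, map_one]

theorem image_trSet {A : Type v} {A₂ : Type w} [Group A] [Group A₂] (α : A ≃* A₂) (b : Set (IrrCharacter A₂)) :
    (fun χ : IrrCharacter A => (charDegree (χ : A → ℂ)).factorization p) '' (trSet α b)
      = (fun χ : IrrCharacter A₂ => (charDegree (χ : A₂ → ℂ)).factorization p) '' b := by
  ext k
  constructor
  · rintro ⟨φ, ⟨θ, hθ, rfl⟩, rfl⟩
    exact ⟨θ, hθ, by simp only [charDegree_trIrr]⟩
  · rintro ⟨θ, hθ, rfl⟩
    exact ⟨trIrr α θ, trIrr_mem α hθ, by simp only [charDegree_trIrr]⟩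

theorem blockDefect_trSet {A : Type v} {A₂ : Type w} [Group A] [Group A₂] (α : A ≃* A₂) (b : Set (IrrCharacter A₂)) :
    blockDefect p (trSet α b) = blockDefect p b := by
  unfold blockDefect
  rw [image_trSet, Nat.card_congr α.toEquiv]

theorem blockHeight_trSet {A : Type v} {A₂ : Type w} [Group A] [Group A₂] (α : A ≃* A₂) (b : Set (IrrCharacter A₂))
    (θ : IrrCharacter A₂) :
    blockHeight p (trSet α b) (trIrr α θ : A → ℂ) = blockHeight p b (θ : A₂ → ℂ) := by
  unfold blockHeight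
  rw [image_trSet, charDegree_trIrr]

variable {G : Type u} [Group G]

theorem conjFun_tr {N T : Subgroup G} (hN : N.Normal) (hNT : N ≤ T) (hN' : (N.subgroupOf T).Normal)
    (θ : IrrCharacter N) (t : T) :
    conjFun hN' (trIrr (Subgroup.subgroupOfEquivOfLe hNT) θ : N.subgroupOf T → ℂ) t
      = (trIrr (Subgroup.subgroupOfEquivOfLe hNT) ⟨conjFun hN (θ : N → ℂ) (t : G), conjFun_irr hN θ.2 t⟩ :
          N.subgroupOf T → ℂ) := rfl

theorem defect_eq_of_fr [Fintype G] [Fact p.Prime] (hM : IsPModular p M) (N : Subgroup G) [hN : N.Normal]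
    [Fintype N] (b : Set (IrrCharacter N)) (hb : IsPBlock M b) (T : Subgroup G) [Fintype T]
    (hT : ∀ g : G, g ∈ T ↔ ∀ θ ∈ b, (⟨conjFun hN (θ : N → ℂ) g, conjFun_irr hN θ.2 g⟩ : IrrCharacter N) ∈ b)
    (hNT : N ≤ T) (B' : Set (IrrCharacter T)) (hB' : IsPBlock M B')
    (hcov : ∃ ψ ∈ B', ∃ θ ∈ b, classInner (resN hNT (ψ : T → ℂ)) (θ : N → ℂ) ≠ 0)
    (B : Set (IrrCharacter G)) (hind : IsInducedBlock M T B' B) : blockDefect p B = blockDefect p B' := by
  obtain ⟨D, hD⟩ := exists_defectGroup hM B' hB'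
  have h1 := (fong_reynolds_defect hM N b hb T hT hNT B' hB' hcov B hind).1 D hD
  have c1 := defect_group_card hM B hind.2.1 _ h1
  have c2 := defect_group_card hM B' hB' D hD
  rw [Subgroup.card_map_of_injective T.subtype_injective, c2] at c1
  exact (Nat.pow_right_injective (Fact.out : p.Prime).two_le c1).symm

theorem fong_general [Fintype G] [Fact p.Prime] (hM : IsPModular p M) (N : Subgroup G) [hN : N.Normal]
    [Fintype N] (b : Set (IrrCharacter N)) (hb : IsPBlock M b) (T : Subgroup G) [Fintype T]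
    (hT : ∀ g : G, g ∈ T ↔ ∀ θ ∈ b, (⟨conjFun hN (θ : N → ℂ) g, conjFun_irr hN θ.2 g⟩ : IrrCharacter N) ∈ b)
    (hNT : N ≤ T) (B : Set (IrrCharacter G)) (hB : IsPBlock M B)
    (hcov : ∃ χ ∈ B, ∃ θ ∈ b, classInner (fun n : N => (χ : G → ℂ) n) (θ : N → ℂ) ≠ 0)
    (hmax : ∀ B' : Set (IrrCharacter G), IsPBlock M B' →
      (∃ χ ∈ B', ∃ θ ∈ b, classInner (fun n : N => (χ : G → ℂ) n) (θ : N → ℂ) ≠ 0) →
      blockDefect p B' ≤ blockDefect p B) :
    blockDefect p B = blockDefect p b + (N.relIndex T).factorization p := by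
  classical
  haveI := Fintype.ofFinite (N.subgroupOf T)
  obtain ⟨fr1, -, fr3⟩ := fong_reynolds hM N b hb T hT hNT
  obtain ⟨B', hB', hcov', hind⟩ := fr3 B hB hcov
  have hd := defect_eq_of_fr hM N b hb T hT hNT B' hB' hcov' B hind
  haveI hN' : (N.subgroupOf T).Normal := Subgroup.normal_subgroupOf
  set e := Subgroup.subgroupOfEquivOfLe hNT with he
  have hinv : ∀ θ ∈ trSet e b, ∀ t : T, (⟨conjFun hN' (θ : N.subgroupOf T → ℂ) t, conjFun_irr hN' θ.2 t⟩ :
      IrrCharacter (N.subgroupOf T)) ∈ trSet e b := by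
    rintro θ' ⟨θ, hθ, rfl⟩ t
    exact ⟨_, (hT t).mp t.2 θ hθ, Subtype.ext (conjFun_tr hN hNT hN' θ t)⟩
  have hconv : ∀ B'' : Set (IrrCharacter T),
      (∃ ψ ∈ B'', ∃ θ ∈ trSet e b, classInner (fun n : N.subgroupOf T => (ψ : T → ℂ) n) (θ : N.subgroupOf T → ℂ) ≠ 0) ↔
      (∃ ψ ∈ B'', ∃ θ ∈ b, classInner (resN hNT (ψ : T → ℂ)) (θ : N → ℂ) ≠ 0) := by
    intro B''
    constructor
    · rintro ⟨ψ, hψ, θ', ⟨θ, hθ, rfl⟩, hne⟩
      rw [classInner_resN_tr] at hne
      exact ⟨ψ, hψ, θ, hθ, hne⟩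
    · rintro ⟨ψ, hψ, θ, hθ, hne⟩
      exact ⟨ψ, hψ, trIrr e θ, trIrr_mem e hθ, by rw [classInner_resN_tr]; exact hne⟩
  obtain ⟨D, hD⟩ := exists_defectGroup hM B' hB'
  obtain ⟨-, -, h3⟩ := fong_theorem hM (N.subgroupOf T) (trSet e b) (isPBlock_trSet e hb) hinv B' hB'
    ((hconv B').mpr hcov') (by
      intro B'' hB'' hc''
      have hc2 := (hconv B'').mp hc''
      obtain ⟨B2, hi2, hcov2, -, -⟩ := fr1 B'' hB'' hc2
      have hd2 := defect_eq_of_fr hM N b hb T hT hNT B'' hB'' hc2 B2 hi2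
      have := hmax B2 hi2.2.1 hcov2
      omega) D hD
  rw [hd, h3, blockDefect_trSet]
  rfl

theorem ext_fmt_defect [Fintype G] [Fact p.Prime] (hM : IsPModular p M) (P : Subgroup G) (hP : IsPGroup p P)
    (H : Subgroup G) (hH : H = P ⊔ Subgroup.centralizer (P : Set G))
    (b : Set (IrrCharacter H)) (hb : IsPBlock M b)
    (hbP : IsDefectGroup p M b (P.subgroupOf H))
    (B : Set (IrrCharacter G)) (hind : IsInducedBlock M H b B)
    (T : Subgroup G)
    (hT : ∀ g : G, g ∈ T ↔ (g ∈ Subgroup.normalizer (P : Set G) ∧ ∀ θ ∈ b,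
      ∀ θ' : IrrCharacter H,
      (∀ h h' : H, (h' : G) = g * h * g⁻¹ → (θ' : H → ℂ) h' = (θ : H → ℂ) h) → θ' ∈ b)) :
    IsDefectGroup p M B P ↔ ¬ p ∣ H.relIndex T := by
  classical
  have hp : p.Prime := Fact.out
  set K := Subgroup.normalizer (P : Set G) with hK
  haveI := Fintype.ofFinite H
  haveI := Fintype.ofFinite K
  haveI := Fintype.ofFinite (H.subgroupOf K)
  haveI := Fintype.ofFinite (T.subgroupOf K)
  haveI := Fintype.ofFinite (IrrCharacter K)
  haveI := Fintype.ofFinite (IrrCharacter H)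
  have hHK : H ≤ K := hH ▸ pc_le_normalizer P
  have hPK : P ≤ K := Subgroup.le_normalizer
  have hPH : P ≤ H := hH ▸ le_sup_left
  haveI hHn : (H.subgroupOf K).Normal := hH ▸ pc_normal P
  have hPn : (P.subgroupOf K).Normal := Subgroup.normal_in_normalizer
  have hC : Subgroup.centralizer (P : Set G) ⊓ K ≤ H := hH ▸ inf_le_left.trans le_sup_right
  have hTK : T ≤ K := fun g hg => ((hT g).mp hg).1
  set e := Subgroup.subgroupOfEquivOfLe hHK with he
  -- conjugate characters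
  let cj : IrrCharacter H → K → IrrCharacter H := fun θ k =>
    trIrr e.symm ⟨conjFun hHn (trIrr e θ : H.subgroupOf K → ℂ) k, conjFun_irr hHn (trIrr e θ).2 k⟩
  have hcj : ∀ (θ : IrrCharacter H) (k : K), trIrr e (cj θ k)
      = ⟨conjFun hHn (trIrr e θ : H.subgroupOf K → ℂ) k, conjFun_irr hHn (trIrr e θ).2 k⟩ :=
    fun θ k => trIrr_symm' e _
  have hcjiff : ∀ (θ θ'' : IrrCharacter H) (k : K),
      (∀ h h' : H, (h' : G) = (k : G)⁻¹ * h * (k : G)⁻¹⁻¹ → (θ'' : H → ℂ) h' = (θ : H → ℂ) h) ↔ θ'' = cj θ k := by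
    intro θ θ'' k
    constructor
    · intro h
      apply Subtype.ext
      funext h'
      have hmem : (k : G) * h' * (k : G)⁻¹ ∈ H := by
        have := hHn.conj_mem (e.symm h') (e.symm h').2 k
        exact this
      rw [h ⟨(k : G) * h' * (k : G)⁻¹, hmem⟩ h' (by simp; group)]
      rfl
    · rintro rfl h h' hh
      have : h = ⟨(k : G) * h' * (k : G)⁻¹, by rw [hh]; simp [mul_assoc]⟩ := by
        apply Subtype.ext
        show (h : G) = (k : G) * h' * (k : G)⁻¹
        rw [hh]; group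
      rw [this]
      rfl
  have hT' : ∀ k : K, k ∈ T.subgroupOf K ↔ ∀ θ' ∈ trSet e b,
      (⟨conjFun hHn (θ' : H.subgroupOf K → ℂ) k, conjFun_irr hHn θ'.2 k⟩ : IrrCharacter (H.subgroupOf K)) ∈ trSet e b := by
    intro k
    constructor
    · rintro hk θ' ⟨θ, hθ, rfl⟩
      have hk' : (k : G)⁻¹ ∈ T := T.inv_mem hk
      have := ((hT _).mp hk').2 θ hθ (cj θ k) ((hcjiff θ _ k).mpr rfl)
      rw [← hcj]
      exact trIrr_mem e this
    · intro h
      have hk' : (k : G)⁻¹ ∈ T := by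
        rw [hT]
        refine ⟨K.inv_mem k.2, ?_⟩
        intro θ hθ θ'' hθ''
        rw [(hcjiff θ θ'' k).mp hθ'']
        obtain ⟨φ, hφ, hφe⟩ := h (trIrr e θ) (trIrr_mem e hθ)
        rw [← hcj] at hφe
        have : cj θ k = φ := by
          have := congrArg (trIrr e.symm) hφe
          rwa [trIrr_symm, trIrr_symm] at this
        rw [this]; exact hφ
      have := T.inv_mem hk'
      rw [inv_inv] at this
      exact this
  have hNT' : H.subgroupOf K ≤ T.subgroupOf K := by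
    intro n hn
    rw [hT']
    intro θ' hθ'
    have : (⟨conjFun hHn (θ' : H.subgroupOf K → ℂ) n, conjFun_irr hHn θ'.2 n⟩ : IrrCharacter (H.subgroupOf K)) = θ' := by
      apply Subtype.ext
      funext m
      exact IrrCharacter.isClassFunction θ' m ⟨n, hn⟩
    rw [this]; exact hθ'
  obtain ⟨θ0, hb0⟩ := hb
  have hb : IsPBlock M b := ⟨θ0, hb0⟩
  have hθ0 : θ0 ∈ b := by rw [hb0]; exact SameBlock.refl hM _
  obtain ⟨χ, hχ⟩ := exists_over H θ0
  obtain ⟨ζ, -, hζ⟩ := exists_middle H K hHK χ θ0 hχ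
  have h1 := rel_induced hM P H K hP hPK hHK hPn hHn hC b hb _ ⟨ζ, rfl⟩ ⟨ζ, SameBlock.refl hM _, θ0, hθ0, hζ⟩
  have hI := (induced_trans hM H K hHK b hb _ h1 B).mpr hind
  have fg := fong_general hM (H.subgroupOf K) (trSet e b) (isPBlock_trSet e hb) (T.subgroupOf K) hT' hNT'
    (blockOf M (ζ : K → ℂ)) ⟨ζ, rfl⟩
    ⟨ζ, SameBlock.refl hM _, trIrr e θ0, trIrr_mem e hθ0, by rw [classInner_resN_tr]; exact hζ⟩ (by
      rintro B'' hB'' ⟨ψ, hψ, θ', ⟨θ, hθ, rfl⟩, hne⟩
      rw [classInner_resN_tr] at hne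
      have h2 := rel_induced hM P H K hP hPK hHK hPn hHn hC b hb B'' hB'' ⟨ψ, hψ, θ, hθ, hne⟩
      rw [sameBlock_of_induced hM _ _ _ _ h2 h1])
  rw [blockDefect_trSet, Subgroup.relIndex_subgroupOf hTK] at fg
  have cP : Nat.card P = p ^ blockDefect p b := by
    rw [← defect_group_card hM b hb _ hbP]
    exact (Nat.card_congr (Subgroup.subgroupOfEquivOfLe hPH).toEquiv).symm
  have hrel0 : H.relIndex T ≠ 0 := Subgroup.index_ne_zero_of_finite
  constructor
  · intro hBP
    have hD := defect_eq_of_normal_of_induced hM K _ B hI P hBP hPK hPn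
    have c1 := defect_group_card hM _ hI.1 _ hD
    rw [Nat.card_congr (Subgroup.subgroupOfEquivOfLe hPK).toEquiv, cP] at c1
    have c2 := Nat.pow_right_injective hp.two_le c1
    intro hdvd
    have := (hp.dvd_iff_one_le_factorization hrel0).mp hdvd
    omega
  · intro hnd
    have h0 : (H.relIndex T).factorization p = 0 := Nat.factorization_eq_zero_of_not_dvd hnd
    obtain ⟨D, hD⟩ := exists_defectGroup hM _ hI.1
    have hle : P.subgroupOf K ≤ D := normal_pSubgroup_le_defect hM _ hI.1 D hD (P.subgroupOf K)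
      (hP.of_equiv (Subgroup.subgroupOfEquivOfLe hPK).symm)
    have c1 := defect_group_card hM _ hI.1 D hD
    have c3 : Nat.card (P.subgroupOf K) = Nat.card P := Nat.card_congr (Subgroup.subgroupOfEquivOfLe hPK).toEquiv
    have : P.subgroupOf K = D := Subgroup.eq_of_le_of_card_ge hle (by rw [c1, c3, cP, fg, h0, add_zero])
    rw [← this] at hD
    obtain ⟨B2, hB2, hD2, hI2⟩ := fmt_A hM P hP _ hI.1 hD
    rw [sameBlock_of_induced hM _ _ _ _ hI hI2]
    exact hD2

end FongGen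
end Cfsg.Agent.H4
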