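import Cfsg.Agent.Lib_helper4_BlkAU
import Cfsg.Prelude.Def_BlockFusion

set_option autoImplicit false
set_option linter.style.haveILetI false
set_option linter.unusedSectionVars false
namespace Cfsg.Agent.H4
open Module
open scoped ComplexConjugate
universe u v w

section PrincipalPairs
variable {p : ℕ} {M : Ideal AlgInt}

theorem trIrr_injective {A : Type v} {A₂ : Type w} [Group A] [Group A₂] (α : A ≃* A₂) :
    Function.Injective (trIrr α) := by
  intro θ θ' h
  have := congrArg (trIrr α.symm) h
  rwa [trIrr_symm, trIrr_symm] at this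

theorem blockCoeff_trSet {A : Type v} {A₂ : Type w} [Group A] [Group A₂] (α : A ≃* A₂)
    (b : Set (IrrCharacter A₂)) (a : A) : blockCoeff (trSet α b) a = blockCoeff b (α a) := by
  unfold blockCoeff
  rw [Nat.card_congr α.toEquiv]
  congr 1
  have h1 : trSet α b = trIrr α '' b := by
    ext φ
    constructor
    · rintro ⟨θ, hθ, rfl⟩; exact ⟨θ, hθ, rfl⟩
    · rintro ⟨θ, hθ, rfl⟩; exact ⟨θ, hθ, rfl⟩
  rw [h1, finsum_mem_image (trIrr_injective α).injOn]
  apply finsum_congr; intro θ
  apply finsum_congr; intro _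
  rw [trIrr_apply, trIrr_apply, map_one]

theorem trSet_principal {A : Type v} {A₂ : Type w} [Group A] [Group A₂] [Finite A] [Finite A₂] (α : A ≃* A₂) :
    trSet α (principalBlock M A₂) = principalBlock M A := by
  rw [principalBlock_eq, principalBlock_eq, trSet_blockOf]
  rfl

variable {G : Type u} [Group G]

theorem subpairLE_le (a b : BrauerPairIdx G) (h : Relation.ReflTransGen (NormalSubpairRel p M) a b) :
    a.1 ≤ b.1 ∧ (IsPGroup p a.1 → IsPGroup p b.1) := by
  induction h with
  | refl => exact ⟨le_rfl, id⟩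
  | tail _ hbc ih => exact ⟨ih.1.trans hbc.2.2.1, fun _ => hbc.2.1.1⟩

theorem principal_coeff_conj [Finite G] (K : Subgroup G) (g : G) (hg : g ∈ Subgroup.normalizer (K : Set G)) (x : G) :
    subgroupBlockCoeff K (principalBlock M K) (g * x * g⁻¹) = subgroupBlockCoeff K (principalBlock M K) x := by
  unfold subgroupBlockCoeff
  have hiff : x ∈ K ↔ g * x * g⁻¹ ∈ K := Subgroup.mem_normalizer_iff.mp hg x
  by_cases hx : x ∈ K
  · rw [dif_pos hx, dif_pos (hiff.mp hx)]
    have h1 := blockCoeff_trSet (conjInvEquiv K g hg) (principalBlock M K) ⟨g * x * g⁻¹, hiff.mp hx⟩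
    rw [trSet_principal] at h1
    rw [h1]
    congr 1
    apply Subtype.ext
    show g⁻¹ * (g * x * g⁻¹) * g = x
    group
  · rw [dif_neg hx, dif_neg (fun h => hx (hiff.mpr h))]

theorem principal_normalSubpair [Fintype G] (hM : IsPModular p M) (Q P : Subgroup G) (hP : IsPGroup p P)
    (hQP : Q ≤ P) (hPN : P ≤ Subgroup.normalizer (Q : Set G)) :
    IsNormalSubpair p M Q (principalBlock M (Subgroup.centralizer (Q : Set G))) P
      (principalBlock M (Subgroup.centralizer (P : Set G))) := by
  classical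
  set L := Subgroup.centralizer (Q : Set G) with hL
  set C := Subgroup.centralizer (P : Set G) with hC
  haveI := Fintype.ofFinite L
  haveI := Fintype.ofFinite C
  haveI := Fintype.ofFinite (IrrCharacter L)
  haveI := Fintype.ofFinite (IrrCharacter C)
  have hCL : C ≤ L := Subgroup.centralizer_le hQP
  refine ⟨⟨hP.to_le hQP, ⟨trivIrr _, principalBlock_eq⟩⟩, ⟨hP, ⟨trivIrr _, principalBlock_eq⟩⟩, hQP, hPN,
    fun x hx => stabilizes_principal _ x (normalizer_le_normalizer_centralizer Q (hPN hx)), ?_⟩
  set ε := subgroupBlockCoeff L (principalBlock M L) with hε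
  have hεeq : ε = extendByZero L (coef (Set.indicator (principalBlock M L) (1 : IrrCharacter L → ℂ))) :=
    subgroupBlockCoeff_eq L _
  have hZL : InZ M (Set.indicator (principalBlock M L) (1 : IrrCharacter L → ℂ)) := by
    rw [principalBlock_eq]; exact inZ_indicator_block hM _
  have hεloc : ∀ x, MemLocalRing M (ε x) := by
    intro x
    rw [hεeq]
    by_cases hx : x ∈ L
    · rw [extendByZero_mem L _ hx]; exact hZL _
    · rw [extendByZero_not_mem L _ hx]; exact MemLocalRing.zero hM
  set z : C → ℂ := fun x => ε x with hz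
  have hzcl : IsClassFunction C z := by
    intro x k
    show ε ((k : G) * x * (k : G)⁻¹) = ε x
    rw [hεeq]
    exact extendByZero_conj_inv L _ (coef_isClassFunction _) k (hCL k.2) x
  have hv : InZ M (spec z) := by
    intro x
    rw [coef_spec z hzcl]
    exact hεloc _
  have hbo : ∀ ξ : IrrCharacter C, brauerOmega P ε (ξ : C → ℂ) = spec z ξ := by
    intro ξ
    unfold brauerOmega spec
    rw [finsum_eq_sum_of_fintype, Finset.sum_div]
  have htriv : MemLocalIdeal M (spec z (trivIrr C) - 1) := by
    have h1 : spec z (trivIrr C) = ∑ x : G, (if x ∈ C then ε x else 0) := by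
      unfold spec
      have : ∀ x : C, z x * (trivIrr C : C → ℂ) x = (fun y : G => ε y) x := by
        intro x
        show ε x * 1 = ε x
        rw [mul_one]
      rw [Finset.sum_congr rfl (fun x _ => this x), sum_subgroup_eq C (fun y : G => ε y)]
      show (∑ x : G, _) / (1 : ℂ) = _
      rw [div_one]
      apply Finset.sum_congr rfl; intro x _
      split_ifs <;> simp
    have h2 : (1 : ℂ) = ∑ x : G, ε x := by
      have e1 := congrFun (spec_coef (Set.indicator (principalBlock M L) (1 : IrrCharacter L → ℂ))) (trivIrr L)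
      rw [Set.indicator_of_mem (by rw [principalBlock_eq]; exact SameBlock.refl hM _)] at e1
      unfold spec at e1
      have e2 : ∀ x : L, coef (Set.indicator (principalBlock M L) (1 : IrrCharacter L → ℂ)) x * (trivIrr L : L → ℂ) x
          = (fun y : G => ε y) x := by
        intro x
        show _ * (1 : ℂ) = ε x
        rw [mul_one, hεeq, extendByZero_coe]
      rw [Finset.sum_congr rfl (fun x _ => e2 x), sum_subgroup_eq L (fun y : G => ε y)] at e1
      have e3 : (trivIrr L : L → ℂ) 1 = 1 := rfl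
      rw [e3, div_one] at e1
      rw [show (1 : ℂ) = (1 : IrrCharacter L → ℂ) (trivIrr L) from rfl, ← e1]
      apply Finset.sum_congr rfl; intro x _
      by_cases hx : x ∈ L
      · rw [if_pos hx, one_mul]
      · rw [if_neg hx, zero_mul, hεeq, extendByZero_not_mem L _ hx]
    rw [h1, h2, ← Finset.sum_sub_distrib]
    apply conj_orbit_sum hM P hP
    · intro q hq g
      have hqn : q ∈ Subgroup.normalizer (P : Set G) := Subgroup.le_normalizer hq
      have h3 := mem_centralizer_conj_iff P hqn g
      have h4 : ε (q * g * q⁻¹) = ε g :=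
        principal_coeff_conj L q (normalizer_le_normalizer_centralizer Q (hPN hq)) g
      rw [h4]
      by_cases hg : g ∈ C
      · rw [if_pos hg, if_pos (h3.mpr hg)]
      · rw [if_neg hg, if_neg (fun h => hg (h3.mp h))]
    · intro g
      apply MemLocalRing.sub hM _ (hεloc g)
      split_ifs
      · exact hεloc g
      · exact MemLocalRing.zero hM
    · intro g hg
      rw [if_pos hg, sub_self]
  intro ξ hξ
  rw [hbo]
  have hs : SameBlock M (ξ : C → ℂ) (trivIrr C : C → ℂ) := by
    rw [principalBlock_eq] at hξ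
    exact SameBlock.symm hξ
  have := MemLocalIdeal.add hM (InZ.congr hM hv hs) htriv
  rwa [sub_add_sub_cancel] at this

theorem exists_normalizing [Finite G] [Fact p.Prime] (S Q : Subgroup G) (hS : IsPGroup p S) (hQS : Q ≤ S)
    (hne : Q ≠ S) : ∃ x ∈ S, x ∈ Subgroup.normalizer (Q : Set G) ∧ x ∉ Q := by
  haveI : Group.IsNilpotent S := hS.isNilpotent
  have hnc := Group.normalizerCondition_of_isNilpotent (G := S)
  have hlt : Q.subgroupOf S < ⊤ := by
    rw [lt_top_iff_ne_top]
    intro h
    rw [Subgroup.subgroupOf_eq_top] at h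
    exact hne (le_antisymm hQS h)
  obtain ⟨x, hx1, hx2⟩ := SetLike.exists_of_lt (hnc _ hlt)
  refine ⟨x, x.2, ?_, hx2⟩
  rw [Subgroup.mem_normalizer_iff] at hx1 ⊢
  intro g
  constructor
  · intro hg
    exact (hx1 ⟨g, hQS hg⟩).mp hg
  · intro hg
    have hgS : g ∈ S := by
      have h1 : (x : G)⁻¹ * ((x : G) * g * (x : G)⁻¹) * (x : G) ∈ S :=
        S.mul_mem (S.mul_mem (S.inv_mem x.2) (hQS hg)) x.2
      have h2 : (x : G)⁻¹ * ((x : G) * g * (x : G)⁻¹) * (x : G) = g := by group
      rwa [h2] at h1
    exact (hx1 ⟨g, hgS⟩).mpr hg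

theorem principal_subpairLE [Fintype G] [Fact p.Prime] (hM : IsPModular p M) (S : Subgroup G) (hS : IsPGroup p S) :
    ∀ (n : ℕ) (Q : Subgroup G), Q ≤ S → Nat.card S - Nat.card Q = n →
      SubpairLE p M Q (principalBlock M (Subgroup.centralizer (Q : Set G))) S
        (principalBlock M (Subgroup.centralizer (S : Set G))) := by
  intro n
  induction n using Nat.strong_induction_on with
  | _ n ih =>
    intro Q hQS hn
    by_cases hne : Q = S
    · subst hne
      exact Relation.ReflTransGen.refl
    · obtain ⟨x, hxS, hxN, hxQ⟩ := exists_normalizing S Q hS hQS hne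
      set P1 := S ⊓ Subgroup.normalizer (Q : Set G) with hP1
      have hQP1 : Q ≤ P1 := le_inf hQS Subgroup.le_normalizer
      have hP1S : P1 ≤ S := inf_le_left
      have hlt : Q < P1 := lt_of_le_of_ne hQP1 (fun h => hxQ (h ▸ ⟨hxS, hxN⟩))
      have hc1 : Nat.card Q < Nat.card P1 := by
        refine lt_of_le_of_ne (Subgroup.card_le_of_le hQP1) ?_
        intro h
        exact hlt.ne (Subgroup.eq_of_le_of_card_ge hQP1 h.ge)
      have hc2 : Nat.card P1 ≤ Nat.card S := Subgroup.card_le_of_le hP1S
      have h1 := principal_normalSubpair hM Q P1 (hS.to_le hP1S) hQP1 inf_le_right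
      have h2 := ih (Nat.card S - Nat.card P1) (by omega) P1 hP1S rfl
      exact Relation.ReflTransGen.head (show NormalSubpairRel p M ⟨Q, _⟩ ⟨P1, _⟩ from h1) h2

/-- conjugation isomorphism between centralizers -/
def centConjEquiv (Q : Subgroup G) (g : G) :
    Subgroup.centralizer ((Q.map (MulAut.conj g).toMonoidHom : Subgroup G) : Set G) ≃*
      Subgroup.centralizer (Q : Set G) where
  toFun c := ⟨g⁻¹ * c * g, by
    rw [Subgroup.mem_centralizer_iff]
    intro q hq
    have h1 := (Subgroup.mem_centralizer_iff.mp c.2) (g * q * g⁻¹) ⟨q, hq, by simp⟩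
    calc q * (g⁻¹ * c * g) = g⁻¹ * (g * q * g⁻¹ * c) * g := by group
      _ = g⁻¹ * (c * (g * q * g⁻¹)) * g := by rw [h1]
      _ = g⁻¹ * c * g * q := by group⟩
  invFun c := ⟨g * c * g⁻¹, by
    rw [Subgroup.mem_centralizer_iff]
    rintro _ ⟨q, hq, rfl⟩
    have h1 := (Subgroup.mem_centralizer_iff.mp c.2) q hq
    show g * q * g⁻¹ * (g * c * g⁻¹) = g * c * g⁻¹ * (g * q * g⁻¹)
    calc g * q * g⁻¹ * (g * c * g⁻¹) = g * (q * c) * g⁻¹ := by group
      _ = g * (c * q) * g⁻¹ := by rw [h1]
      _ = g * c * g⁻¹ * (g * q * g⁻¹) := by group⟩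
  left_inv c := by apply Subtype.ext; simp [mul_assoc]
  right_inv c := by apply Subtype.ext; simp [mul_assoc]
  map_mul' a b := by
    apply Subtype.ext
    show g⁻¹ * ((a : G) * b) * g = g⁻¹ * a * g * (g⁻¹ * b * g)
    group

theorem conjBlock_eq_trSet (Q : Subgroup G) (g : G) (f : Set (IrrCharacter (Subgroup.centralizer (Q : Set G)))) :
    conjBlock Q g f = trSet (centConjEquiv Q g) f := by
  ext ξ'
  constructor
  · rintro ⟨ξ, hξ, h⟩
    refine ⟨ξ, hξ, ?_⟩
    apply Subtype.ext
    funext c'
    exact h (centConjEquiv Q g c') c' (by show (c' : G) = g * (g⁻¹ * c' * g) * g⁻¹; group)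
  · rintro ⟨ξ, hξ, rfl⟩
    refine ⟨ξ, hξ, ?_⟩
    intro c c' hc
    show (ξ : _ → ℂ) (centConjEquiv Q g c') = _
    have : centConjEquiv Q g c' = c := by
      apply Subtype.ext
      show g⁻¹ * (c' : G) * g = c
      rw [hc]; group
    rw [this]

theorem principal_fusion [Fintype G] [Fact p.Prime] (hM : IsPModular p M) (S : Sylow p G) :
    IsMaximalBrauerPair p M (principalBlock M G) (S : Subgroup G)
      (principalBlock M (Subgroup.centralizer ((S : Subgroup G) : Set G))) ∧
    ∀ F : FusionSystem (S : Subgroup G), IsBlockFusionSystemOn p M (principalBlock M G) (S : Subgroup G)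
      (principalBlock M (Subgroup.centralizer ((S : Subgroup G) : Set G))) F →
      ∀ Q : Subgroup G, F.Hom Q = (groupFusionSystem (S : Subgroup G)).Hom Q := by
  constructor
  · refine ⟨principal_isBrauerPairOf hM _ S.2, ?_⟩
    intro R g hR hle
    obtain ⟨h1, h2⟩ := subpairLE_le _ _ hle
    exact (S.3 (h2 S.2) h1)
  · intro F hF Q
    ext φ
    rw [hF.2 Q φ]
    constructor
    · rintro ⟨hQS, g, hφ, hgS, -⟩
      refine ⟨hQS, ?_, g, hφ⟩
      intro x
      rw [hφ]
      exact hgS ⟨x, x.2, by simp⟩
    · rintro ⟨hQS, hφS, g, hφ⟩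
      have hgS : Q.map (MulAut.conj g).toMonoidHom ≤ (S : Subgroup G) := by
        rintro _ ⟨x, hx, rfl⟩
        have := hφS ⟨x, hx⟩
        rw [hφ] at this
        simpa using this
      refine ⟨hQS, g, hφ, hgS, principalBlock M _, principal_subpairLE hM (S : Subgroup G) S.2 _ Q hQS rfl, ?_⟩
      rw [conjBlock_eq_trSet, trSet_principal]
      exact principal_subpairLE hM (S : Subgroup G) S.2 _ _ hgS rfl

end PrincipalPairs
end Cfsg.Agent.H4
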