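import Cfsg.Agent.Lib_helper4_BlkAV

set_option autoImplicit false
set_option linter.style.haveILetI false
set_option linter.unusedSectionVars false
namespace Cfsg.Agent.H4
open Module
open scoped ComplexConjugate
universe u v w

section BrauerK
variable {p : ℕ} {M : Ideal AlgInt}

/-- transport of irreducible characters as an equivalence -/
def trIrrEquiv {A : Type v} {A₂ : Type w} [Group A] [Group A₂] (α : A ≃* A₂) : IrrCharacter A₂ ≃ IrrCharacter A where
  toFun := trIrr α
  invFun := trIrr α.symm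
  left_inv := trIrr_symm α
  right_inv := trIrr_symm' α

theorem coef_trIrr {A : Type v} {A₂ : Type w} [Group A] [Group A₂] [Fintype A] [Fintype A₂]
    [Fintype (IrrCharacter A)] [Fintype (IrrCharacter A₂)] (α : A ≃* A₂) (v : IrrCharacter A₂ → ℂ) (a : A) :
    coef (fun φ => v (trIrr α.symm φ)) a = coef v (α a) := by
  unfold coef
  rw [Nat.card_congr α.toEquiv]
  congr 1
  rw [← Equiv.sum_comp (trIrrEquiv α)]
  apply Finset.sum_congr rfl; intro θ _
  show (trIrr α θ : A → ℂ) 1 * v (trIrr α.symm (trIrr α θ)) * conj ((trIrr α θ : A → ℂ) a) = _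
  rw [trIrr_symm, trIrr_apply, trIrr_apply, map_one]

variable {G : Type u} [Group G]

/-- truncation to `C ≤ L` of the central element of `L` with spectral vector `v` -/
noncomputable def trunc (L C : Subgroup G) (hCL : C ≤ L) [Fintype L] [Fintype (IrrCharacter L)] [Fintype C]
    (v : IrrCharacter L → ℂ) : IrrCharacter C → ℂ := spec (fun c : C => coef v ⟨c, hCL c.2⟩)

theorem coef_trunc (L C : Subgroup G) (hCL : C ≤ L) [Fintype L] [Fintype (IrrCharacter L)] [Fintype C]
    [Fintype (IrrCharacter C)] (v : IrrCharacter L → ℂ) :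
    coef (trunc L C hCL v) = fun c : C => coef v ⟨c, hCL c.2⟩ := by
  apply coef_spec
  intro c k
  exact coef_isClassFunction v ⟨c, hCL c.2⟩ ⟨k, hCL k.2⟩

theorem trunc_sub (L C : Subgroup G) (hCL : C ≤ L) [Fintype L] [Fintype (IrrCharacter L)] [Fintype C]
    (v w : IrrCharacter L → ℂ) : trunc L C hCL (v - w) = trunc L C hCL v - trunc L C hCL w := by
  funext ξ
  unfold trunc spec
  simp only [coef_sub, Pi.sub_apply, sub_mul, Finset.sum_sub_distrib, sub_div]

theorem trunc_smul (L C : Subgroup G) (hCL : C ≤ L) [Fintype L] [Fintype (IrrCharacter L)] [Fintype C]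
    (r : ℂ) (v : IrrCharacter L → ℂ) : trunc L C hCL (r • v) = r • trunc L C hCL v := by
  funext ξ
  unfold trunc spec
  simp only [coef_smul, Pi.smul_apply, smul_eq_mul, mul_assoc, ← Finset.mul_sum, mul_div_assoc]

theorem inZ_trunc (L C : Subgroup G) (hCL : C ≤ L) [Fintype L] [Fintype (IrrCharacter L)] [Fintype C]
    [Fintype (IrrCharacter C)] {v : IrrCharacter L → ℂ} (hv : InZ M v) : InZ M (trunc L C hCL v) := by
  intro c
  rw [coef_trunc]; exact hv _

theorem inP_trunc (L C : Subgroup G) (hCL : C ≤ L) [Fintype L] [Fintype (IrrCharacter L)] [Fintype C]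
    [Fintype (IrrCharacter C)] {v : IrrCharacter L → ℂ} (hv : InP M v) : InP M (trunc L C hCL v) := by
  intro c
  rw [coef_trunc]; exact hv _

/-- invariance of a spectral vector on `L` under the conjugation action of `P ≤ N_G(L)` -/
def SInv (P L : Subgroup G) (hPL : P ≤ Subgroup.normalizer (L : Set G)) (v : IrrCharacter L → ℂ) : Prop :=
  ∀ (u : G) (hu : u ∈ P) (η : IrrCharacter L), v (trIrr (conjInvEquiv L u (hPL hu)) η) = v η

theorem SInv.mul {P L : Subgroup G} {hPL : P ≤ Subgroup.normalizer (L : Set G)} {v w : IrrCharacter L → ℂ}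
    (hv : SInv P L hPL v) (hw : SInv P L hPL w) : SInv P L hPL (v * w) := fun u hu η => by
  rw [Pi.mul_apply, Pi.mul_apply, hv u hu, hw u hu]

theorem SInv.sub {P L : Subgroup G} {hPL : P ≤ Subgroup.normalizer (L : Set G)} {v w : IrrCharacter L → ℂ}
    (hv : SInv P L hPL v) (hw : SInv P L hPL w) : SInv P L hPL (v - w) := fun u hu η => by
  rw [Pi.sub_apply, Pi.sub_apply, hv u hu, hw u hu]

theorem SInv.smul {P L : Subgroup G} {hPL : P ≤ Subgroup.normalizer (L : Set G)} (r : ℂ) {v : IrrCharacter L → ℂ}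
    (hv : SInv P L hPL v) : SInv P L hPL (r • v) := fun u hu η => by
  rw [Pi.smul_apply, Pi.smul_apply, hv u hu]

theorem SInv.pow {P L : Subgroup G} {hPL : P ≤ Subgroup.normalizer (L : Set G)} {v : IrrCharacter L → ℂ}
    (hv : SInv P L hPL v) (n : ℕ) : SInv P L hPL (v ^ n) := fun u hu η => by
  rw [Pi.pow_apply, Pi.pow_apply, hv u hu]

theorem SInv.coef {P L : Subgroup G} [Fintype L] [Fintype (IrrCharacter L)]
    {hPL : P ≤ Subgroup.normalizer (L : Set G)} {v : IrrCharacter L → ℂ}
    (hv : SInv P L hPL v) (u : G) (hu : u ∈ P) (l : L) :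
    H4.coef v (conjInvEquiv L u (hPL hu) l) = H4.coef v l := by
  rw [← coef_trIrr]
  congr 1
  funext φ
  have := hv u hu (trIrr (conjInvEquiv L u (hPL hu)).symm φ)
  rw [trIrr_symm'] at this
  exact this.symm

theorem SInv.ext {P L : Subgroup G} [Fintype L] [Fintype (IrrCharacter L)]
    {hPL : P ≤ Subgroup.normalizer (L : Set G)} {v : IrrCharacter L → ℂ}
    (hv : SInv P L hPL v) (u : G) (hu : u ∈ P) (g : G) :
    extendByZero L (H4.coef v) (u * g * u⁻¹) = extendByZero L (H4.coef v) g := by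
  have hiff : g ∈ L ↔ u * g * u⁻¹ ∈ L := Subgroup.mem_normalizer_iff.mp (hPL hu) g
  by_cases hg : g ∈ L
  · rw [extendByZero_mem L _ hg, extendByZero_mem L _ (hiff.mp hg), ← hv.coef u hu ⟨u * g * u⁻¹, hiff.mp hg⟩]
    congr 1
    apply Subtype.ext
    show u⁻¹ * (u * g * u⁻¹) * u = g
    group
  · rw [extendByZero_not_mem L _ hg, extendByZero_not_mem L _ (fun h => hg (hiff.mpr h))]

theorem inP_trunc_mul [Fintype G] (hM : IsPModular p M) (P L : Subgroup G) (hP : IsPGroup p P)
    (hPL : P ≤ Subgroup.normalizer (L : Set G)) (hCL : Subgroup.centralizer (P : Set G) ≤ L)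
    [Fintype L] [Fintype (IrrCharacter L)] [Fintype (Subgroup.centralizer (P : Set G))]
    [Fintype (IrrCharacter (Subgroup.centralizer (P : Set G)))]
    {v w : IrrCharacter L → ℂ} (hv : InZ M v) (hw : InZ M w) (hvP : SInv P L hPL v) (hwP : SInv P L hPL w) :
    InP M (trunc L _ hCL (v * w) - trunc L _ hCL v * trunc L _ hCL w) := by
  classical
  intro c
  rw [coef_sub, coef_mul, coef_trunc, coef_trunc, coef_trunc]
  simp only
  rw [coef_mul]
  set vt := extendByZero L (coef v) with hvt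
  set wt := extendByZero L (coef w) with hwt
  have hloc : ∀ (x : IrrCharacter L → ℂ), InZ M x → ∀ g, MemLocalRing M (extendByZero L (coef x) g) := by
    intro x hx g
    by_cases hg : g ∈ L
    · rw [extendByZero_mem L _ hg]; exact hx _
    · rw [extendByZero_not_mem L _ hg]; exact MemLocalRing.zero hM
  have h1 : ∑ x : L, coef v x * coef w (x⁻¹ * ⟨c, hCL c.2⟩) = ∑ g : G, vt g * wt (g⁻¹ * c) := by
    rw [sum_extendByZero_mul L (coef v) (fun g => wt (g⁻¹ * c))]
    apply Finset.sum_congr rfl; intro x _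
    congr 1
    rw [hwt, extendByZero_mem L _ (L.mul_mem (L.inv_mem x.2) (hCL c.2))]
    rfl
  have h2 : ∑ x : Subgroup.centralizer (P : Set G), coef v ⟨x, hCL x.2⟩ * coef w ⟨((x⁻¹ * c : _) : G), hCL (x⁻¹ * c).2⟩
      = ∑ g : G, (if g ∈ Subgroup.centralizer (P : Set G) then vt g * wt (g⁻¹ * c) else 0) := by
    have h3 : ∀ x : Subgroup.centralizer (P : Set G),
        coef v ⟨x, hCL x.2⟩ * coef w ⟨((x⁻¹ * c : _) : G), hCL (x⁻¹ * c).2⟩ = (fun g : G => vt g * wt (g⁻¹ * c)) x := by
      intro x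
      show _ = vt x * wt ((x : G)⁻¹ * c)
      rw [hvt, hwt, extendByZero_mem L _ (hCL x.2), extendByZero_mem L _ (L.mul_mem (L.inv_mem (hCL x.2)) (hCL c.2))]
      rfl
    rw [Finset.sum_congr rfl (fun x _ => h3 x), sum_subgroup_eq _ (fun g : G => vt g * wt (g⁻¹ * c))]
    apply Finset.sum_congr rfl; intro g _
    split_ifs <;> simp
  rw [h1, h2, ← Finset.sum_sub_distrib]
  apply conj_orbit_sum hM P hP
  · intro q hq x
    have hqn : q ∈ Subgroup.normalizer (P : Set G) := Subgroup.le_normalizer hq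
    have h3 : (q * x * q⁻¹)⁻¹ * (c : G) = q * (x⁻¹ * c) * q⁻¹ := by
      have h4 : q * (c : G) = c * q := (Subgroup.mem_centralizer_iff.mp c.2) q hq
      have h5 : q⁻¹ * (c : G) = c * q⁻¹ := by
        calc q⁻¹ * (c : G) = q⁻¹ * (c * q) * q⁻¹ := by group
          _ = c * q⁻¹ := by rw [← h4]; group
      calc (q * x * q⁻¹)⁻¹ * (c : G) = q * x⁻¹ * (q⁻¹ * c) := by group
        _ = q * (x⁻¹ * c) * q⁻¹ := by rw [h5]; group
    simp only [mem_centralizer_conj_iff P hqn, h3, hvt, hwt, hvP.ext q hq, hwP.ext q hq]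
  · intro x
    apply MemLocalRing.sub hM (MemLocalRing.mul hM (hloc v hv _) (hloc w hw _))
    split_ifs
    · exact MemLocalRing.mul hM (hloc v hv _) (hloc w hw _)
    · exact MemLocalRing.zero hM
  · intro x hx
    rw [if_pos hx, sub_self]

theorem memLocalIdeal_of_pow' (hM : IsPModular p M) {x : ℂ} (hx : MemLocalRing M x) (n : ℕ)
    (h : MemLocalIdeal M (x ^ n)) : MemLocalIdeal M x := by
  induction n with
  | zero => rw [pow_zero] at h; exact absurd h (not_memLocalIdeal_one hM)
  | succ k ih =>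
    rw [pow_succ] at h
    rcases MemLocalIdeal.of_mul hM (MemLocalRing.pow hM hx k) hx h with h1 | h1
    · exact ih h1
    · exact h1

theorem key_K [Fintype G] (hM : IsPModular p M) (P L : Subgroup G) (hP : IsPGroup p P)
    (hPL : P ≤ Subgroup.normalizer (L : Set G)) (hCL : Subgroup.centralizer (P : Set G) ≤ L)
    [Fintype L] [Fintype (IrrCharacter L)] [Fintype (Subgroup.centralizer (P : Set G))]
    [Fintype (IrrCharacter (Subgroup.centralizer (P : Set G)))]
    (f : Set (IrrCharacter L)) (hf : IsPBlock M f) (hfP : SInv P L hPL (Set.indicator f 1))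
    (ξ : IrrCharacter (Subgroup.centralizer (P : Set G)))
    (hξ : MemLocalIdeal M (trunc L _ hCL (Set.indicator f 1) ξ - 1))
    (v : IrrCharacter L → ℂ) (hv : InZ M v) (hvP : SInv P L hPL v) (η : IrrCharacter L) (hη : η ∈ f) :
    MemLocalIdeal M (trunc L _ hCL v ξ - v η) := by
  classical
  set r := v η with hr
  set e1 := Set.indicator f (1 : IrrCharacter L → ℂ) with he1
  have hrloc : MemLocalRing M r := InZ.eval_mem hM hv η
  have he1Z : InZ M e1 := by
    rw [he1, IsPBlock.eq_blockOf hM hf hη]; exact inZ_indicator_block hM η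
  set y := v * e1 - r • e1 with hy
  have hyZ : InZ M y := InZ.sub hM (InZ.mul hM hv he1Z) (InZ.smul hM hrloc he1Z)
  have hyP : SInv P L hPL y := (hvP.mul hfP).sub (hfP.smul r)
  have hyev : ∀ η', MemLocalIdeal M (y η') := by
    intro η'
    have e : y η' = (v η' - r) * e1 η' := by
      simp only [hy, Pi.sub_apply, Pi.mul_apply, Pi.smul_apply, smul_eq_mul]; ring
    rw [e]
    by_cases h : η' ∈ f
    · have hs : SameBlock M (η' : L → ℂ) (η : L → ℂ) := by
        have := hη
        rw [IsPBlock.eq_blockOf hM hf h] at this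
        exact this
      rw [he1, Set.indicator_of_mem h]
      simp only [Pi.one_apply, mul_one]
      exact InZ.congr hM hv hs
    · rw [he1, Set.indicator_of_notMem h, mul_zero]; exact MemLocalIdeal.zero hM
  have hn := InP.pow_of_eval hM hyZ hyev
  have hEloc : ∀ x : IrrCharacter L → ℂ, InZ M x → MemLocalRing M (trunc L _ hCL x ξ) :=
    fun x hx => InZ.eval_mem hM (inZ_trunc L _ hCL hx) ξ
  have hpow : ∀ k : ℕ, MemLocalIdeal M (trunc L _ hCL (y ^ (k + 1)) ξ - (trunc L _ hCL y ξ) ^ (k + 1)) := by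
    intro k
    induction k with
    | zero => simp only [zero_add, pow_one, sub_self]; exact MemLocalIdeal.zero hM
    | succ k ih =>
      have h1 := InP.eval hM (inP_trunc_mul hM P L hP hPL hCL (InZ.pow hM hyZ (k + 1)) hyZ (hyP.pow (k + 1)) hyP) ξ
      rw [Pi.sub_apply, Pi.mul_apply] at h1
      have h2 := MemLocalIdeal.mul_right hM ih (hEloc y hyZ)
      have h3 := MemLocalIdeal.add hM h1 h2
      have e : trunc L _ hCL (y ^ (k + 1) * y) ξ - trunc L _ hCL (y ^ (k + 1)) ξ * trunc L _ hCL y ξ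
          + (trunc L _ hCL (y ^ (k + 1)) ξ - trunc L _ hCL y ξ ^ (k + 1)) * trunc L _ hCL y ξ
          = trunc L _ hCL (y ^ (k + 1 + 1)) ξ - trunc L _ hCL y ξ ^ (k + 1 + 1) := by
        rw [pow_succ y (k + 1), pow_succ (trunc L _ hCL y ξ) (k + 1)]; ring
      rwa [e] at h3
  have hpos : 0 < Fintype.card (IrrCharacter L) := Fintype.card_pos_iff.mpr ⟨η⟩
  obtain ⟨k, hk⟩ := Nat.exists_eq_succ_of_ne_zero hpos.ne'
  rw [hk] at hn
  have h4 := InP.eval hM (inP_trunc L _ hCL hn) ξ
  have h5 := MemLocalIdeal.sub hM h4 (hpow k)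
  rw [sub_sub_cancel] at h5
  have hEy : MemLocalIdeal M (trunc L _ hCL y ξ) := memLocalIdeal_of_pow' hM (hEloc y hyZ) _ h5
  rw [hy, trunc_sub, trunc_smul, Pi.sub_apply, Pi.smul_apply, smul_eq_mul] at hEy
  have h6 := InP.eval hM (inP_trunc_mul hM P L hP hPL hCL hv he1Z hvP hfP) ξ
  rw [Pi.sub_apply, Pi.mul_apply] at h6
  have h7 := MemLocalIdeal.sub hM hEy h6
  have h8 := MemLocalIdeal.mul_left hM (MemLocalRing.sub hM (hEloc v hv) hrloc) hξ
  have h9 := MemLocalIdeal.sub hM h7 h8
  have e : trunc L _ hCL (v * e1) ξ - r * trunc L _ hCL e1 ξ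
      - (trunc L _ hCL (v * e1) ξ - trunc L _ hCL v ξ * trunc L _ hCL e1 ξ)
      - (trunc L _ hCL v ξ - r) * (trunc L _ hCL e1 ξ - 1) = trunc L _ hCL v ξ - r := by ring
  rwa [e] at h9

theorem brauerOmega_eq_spec (P : Subgroup G) [Fintype (Subgroup.centralizer (P : Set G))] (a : G → ℂ)
    (ξ : IrrCharacter (Subgroup.centralizer (P : Set G))) :
    brauerOmega P a (ξ : Subgroup.centralizer (P : Set G) → ℂ)
      = spec (fun c : Subgroup.centralizer (P : Set G) => a c) ξ := by
  unfold brauerOmega spec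
  rw [finsum_eq_sum_of_fintype, Finset.sum_div]

theorem trunc_spec (L C : Subgroup G) (hCL : C ≤ L) [Fintype L] [Fintype (IrrCharacter L)] [Fintype C]
    (a : G → ℂ) (haL : ∀ x ∈ L, ∀ g, a (x * g * x⁻¹) = a g) :
    trunc L C hCL (spec (fun l : L => a l)) = spec (fun c : C => a c) := by
  unfold trunc
  rw [coef_spec (fun l : L => a l) (fun l k => haL k k.2 l)]

theorem sInv_spec (P L : Subgroup G) (hPL : P ≤ Subgroup.normalizer (L : Set G)) [Fintype L]
    (a : G → ℂ) (haP : ∀ u ∈ P, ∀ g, a (u * g * u⁻¹) = a g) : SInv P L hPL (spec (fun l : L => a l)) := by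
  intro u hu η
  unfold spec
  rw [trIrr_apply, map_one]
  congr 1
  rw [← Equiv.sum_comp (conjInvEquiv L u (hPL hu)).toEquiv (fun l : L => a l * (η : L → ℂ) l)]
  apply Finset.sum_congr rfl; intro l _
  rw [trIrr_apply]
  congr 1
  show a l = a (u⁻¹ * l * u)
  have := haP u hu (u⁻¹ * l * u)
  rw [← this]
  congr 1
  group

theorem stab_trIrr (L : Subgroup G) (f : Set (IrrCharacter L)) (u : G) (h : StabilizesBlock L f u)
    (η : IrrCharacter L) (hη : η ∈ f) : trIrr (conjInvEquiv L u h.1) η ∈ f := by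
  obtain ⟨χ', hχ', hc⟩ := h.2 η hη
  have : χ' = trIrr (conjInvEquiv L u h.1) η := by
    apply Subtype.ext
    funext k'
    exact hc (conjInvEquiv L u h.1 k') k' (by show (k' : G) = u * (u⁻¹ * k' * u) * u⁻¹; group)
  rw [← this]; exact hχ'

theorem sInv_indicator (P L : Subgroup G) (hPL : P ≤ Subgroup.normalizer (L : Set G)) (f : Set (IrrCharacter L))
    (h : ∀ x ∈ P, StabilizesBlock L f x) : SInv P L hPL (Set.indicator f 1) := by
  intro u hu η
  have h1 : trIrr (conjInvEquiv L u (hPL hu)) η ∈ f ↔ η ∈ f := by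
    constructor
    · intro h2
      have h3 := stab_trIrr L f u⁻¹ (h _ (P.inv_mem hu)) _ h2
      have : trIrr (conjInvEquiv L u⁻¹ (h _ (P.inv_mem hu)).1) (trIrr (conjInvEquiv L u (hPL hu)) η) = η := by
        apply Subtype.ext
        funext l
        rw [trIrr_apply, trIrr_apply]
        have h4 : (conjInvEquiv L u (hPL hu)) ((conjInvEquiv L u⁻¹ (h _ (P.inv_mem hu)).1) l) = l := by
          apply Subtype.ext
          show u⁻¹ * (u⁻¹⁻¹ * l * u⁻¹) * u = l
          group
        rw [h4]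
      rwa [this] at h3
    · exact stab_trIrr L f u (h u hu) η
  by_cases hη : η ∈ f
  · rw [Set.indicator_of_mem hη, Set.indicator_of_mem (h1.mpr hη)]; rfl
  · rw [Set.indicator_of_notMem hη, Set.indicator_of_notMem (fun h2 => hη (h1.mp h2))]

theorem brauerOmega_subgroupBlockCoeff [Fintype G] (P L : Subgroup G) (hCL : Subgroup.centralizer (P : Set G) ≤ L)
    [Fintype L] [Fintype (IrrCharacter L)] [Fintype (Subgroup.centralizer (P : Set G))]
    (f : Set (IrrCharacter L)) (ξ : IrrCharacter (Subgroup.centralizer (P : Set G))) :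
    brauerOmega P (subgroupBlockCoeff L f) (ξ : Subgroup.centralizer (P : Set G) → ℂ)
      = trunc L _ hCL (Set.indicator f 1) ξ := by
  rw [brauerOmega_eq_spec, subgroupBlockCoeff_eq]
  unfold trunc
  congr 1
  funext c
  rw [extendByZero_mem L _ (hCL c.2)]

theorem key_K' [Fintype G] (hM : IsPModular p M) (Q P : Subgroup G)
    (f : Set (IrrCharacter (Subgroup.centralizer (Q : Set G))))
    (e : Set (IrrCharacter (Subgroup.centralizer (P : Set G)))) (h : IsNormalSubpair p M Q f P e)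
    (a : G → ℂ) (haloc : ∀ g, MemLocalRing M (a g))
    (haL : ∀ x ∈ Subgroup.centralizer (Q : Set G), ∀ g, a (x * g * x⁻¹) = a g)
    (haP : ∀ u ∈ P, ∀ g, a (u * g * u⁻¹) = a g) :
    ∀ ξ ∈ e, ∀ η ∈ f, MemLocalIdeal M (brauerOmega P a (ξ : Subgroup.centralizer (P : Set G) → ℂ)
      - brauerOmega Q a (η : Subgroup.centralizer (Q : Set G) → ℂ)) := by
  classical
  haveI := Fintype.ofFinite (Subgroup.centralizer (Q : Set G))
  haveI := Fintype.ofFinite (Subgroup.centralizer (P : Set G))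
  haveI := Fintype.ofFinite (IrrCharacter (Subgroup.centralizer (Q : Set G)))
  haveI := Fintype.ofFinite (IrrCharacter (Subgroup.centralizer (P : Set G)))
  obtain ⟨hQf, hPe, hQP, hPN, hst, hbr⟩ := h
  have hPL : P ≤ Subgroup.normalizer (Subgroup.centralizer (Q : Set G) : Set G) :=
    hPN.trans (normalizer_le_normalizer_centralizer Q)
  have hCL : Subgroup.centralizer (P : Set G) ≤ Subgroup.centralizer (Q : Set G) := Subgroup.centralizer_le hQP
  intro ξ hξ η hη
  have h1 := hbr ξ hξ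
  rw [brauerOmega_subgroupBlockCoeff P _ hCL] at h1
  have hvZ : InZ M (spec (fun l : Subgroup.centralizer (Q : Set G) => a l)) := by
    intro l
    rw [coef_spec (fun l : Subgroup.centralizer (Q : Set G) => a l) (fun l k => haL k k.2 l)]
    exact haloc _
  have h2 := key_K hM P _ hPe.1 hPL hCL f hQf.2 (sInv_indicator P _ hPL f hst) ξ h1
    (spec (fun l : Subgroup.centralizer (Q : Set G) => a l)) hvZ (sInv_spec P _ hPL a haP) η hη
  rw [trunc_spec _ _ hCL a haL] at h2
  rw [brauerOmega_eq_spec, brauerOmega_eq_spec]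
  exact h2

theorem blockCoeff_loc [Finite G] (hM : IsPModular p M) (B : Set (IrrCharacter G)) (hB : IsPBlock M B) (g : G) :
    MemLocalRing M (blockCoeff B g) := by
  haveI := Fintype.ofFinite G
  haveI := Fintype.ofFinite (IrrCharacter G)
  obtain ⟨χ, rfl⟩ := hB
  rw [blockCoeff_eq_coef]
  exact inZ_indicator_block hM χ g

theorem blockCoeff_conj [Finite G] (B : Set (IrrCharacter G)) (x g : G) :
    blockCoeff B (x * g * x⁻¹) = blockCoeff B g := by
  haveI := Fintype.ofFinite G
  haveI := Fintype.ofFinite (IrrCharacter G)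
  rw [blockCoeff_eq_coef, blockCoeff_eq_coef]
  exact coef_isClassFunction _ g x

theorem IsPBlock.nonempty [Finite G] (hM : IsPModular p M) {B : Set (IrrCharacter G)} (hB : IsPBlock M B) :
    ∃ χ, χ ∈ B := by
  haveI := Fintype.ofFinite G
  haveI := Fintype.ofFinite (IrrCharacter G)
  obtain ⟨χ, rfl⟩ := hB
  exact ⟨χ, SameBlock.refl hM _⟩

theorem brauerPairOf_normal_step [Fintype G] (hM : IsPModular p M) (Q P : Subgroup G)
    (f : Set (IrrCharacter (Subgroup.centralizer (Q : Set G))))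
    (e : Set (IrrCharacter (Subgroup.centralizer (P : Set G)))) (h : IsNormalSubpair p M Q f P e)
    (B : Set (IrrCharacter G)) (hB : IsPBlock M B) :
    IsBrauerPairOf p M B P e ↔ IsBrauerPairOf p M B Q f := by
  have key := key_K' hM Q P f e h (blockCoeff B) (blockCoeff_loc hM B hB)
    (fun x _ g => blockCoeff_conj B x g) (fun x _ g => blockCoeff_conj B x g)
  obtain ⟨ξ0, hξ0⟩ := IsPBlock.nonempty hM h.2.1.2
  obtain ⟨η0, hη0⟩ := IsPBlock.nonempty hM h.1.2
  constructor
  · rintro ⟨-, -, h1⟩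
    refine ⟨h.1, hB, ?_⟩
    intro η hη
    have := MemLocalIdeal.sub hM (h1 ξ0 hξ0) (key ξ0 hξ0 η hη)
    rwa [sub_sub_sub_cancel_left] at this
  · rintro ⟨-, -, h1⟩
    refine ⟨h.2.1, hB, ?_⟩
    intro ξ hξ
    have := MemLocalIdeal.add hM (key ξ hξ η0 hη0) (h1 η0 hη0)
    rwa [sub_add_sub_cancel] at this

theorem brauerPairOf_subpairLE [Fintype G] (hM : IsPModular p M) (B : Set (IrrCharacter G)) (hB : IsPBlock M B)
    (a b : BrauerPairIdx G) (h : Relation.ReflTransGen (NormalSubpairRel p M) a b) :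
    IsBrauerPairOf p M B b.1 b.2 ↔ IsBrauerPairOf p M B a.1 a.2 := by
  induction h with
  | refl => exact Iff.rfl
  | tail _ hbc ih => exact (brauerPairOf_normal_step hM _ _ _ _ hbc B hB).trans ih

end BrauerK
end Cfsg.Agent.H4
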