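import Cfsg.Agent.Lib_helper4_BlkAW

set_option autoImplicit false
set_option linter.style.haveILetI false
set_option linter.unusedSectionVars false
namespace Cfsg.Agent.H4
open Module
open scoped ComplexConjugate
universe u v w

section BrauerU
variable {p : ℕ} {M : Ideal AlgInt} {G : Type u} [Group G]

theorem trunc_add (L C : Subgroup G) (hCL : C ≤ L) [Fintype L] [Fintype (IrrCharacter L)] [Fintype C]
    (v w : IrrCharacter L → ℂ) : trunc L C hCL (v + w) = trunc L C hCL v + trunc L C hCL w := by
  funext ξ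
  unfold trunc spec
  simp only [coef_add, Pi.add_apply, add_mul, Finset.sum_add_distrib, add_div]

theorem trunc_zero (L C : Subgroup G) (hCL : C ≤ L) [Fintype L] [Fintype (IrrCharacter L)] [Fintype C] :
    trunc L C hCL 0 = 0 := by
  have := trunc_sub L C hCL 0 0
  rwa [sub_zero, sub_self] at this

theorem trunc_sum (L C : Subgroup G) (hCL : C ≤ L) [Fintype L] [Fintype (IrrCharacter L)] [Fintype C]
    {ι : Type*} (s : Finset ι) (v : ι → IrrCharacter L → ℂ) :
    trunc L C hCL (∑ i ∈ s, v i) = ∑ i ∈ s, trunc L C hCL (v i) := by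
  classical
  induction s using Finset.induction_on with
  | empty => simp [trunc_zero]
  | insert a s ha ih => rw [Finset.sum_insert ha, Finset.sum_insert ha, trunc_add, ih]

theorem trunc_one (L C : Subgroup G) (hCL : C ≤ L) [Fintype L] [Fintype (IrrCharacter L)] [Fintype C]
    [Fintype (IrrCharacter C)] : trunc L C hCL 1 = 1 := by
  classical
  unfold trunc
  have : (fun c : C => coef (1 : IrrCharacter L → ℂ) ⟨c, hCL c.2⟩) = coef (1 : IrrCharacter C → ℂ) := by
    funext c
    rw [coef_one, coef_one]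
    by_cases h : c = 1
    · subst h; simp
    · rw [if_neg h, if_neg]
      intro h2
      apply h
      apply Subtype.ext
      exact congrArg (fun l : L => (l : G)) h2
  rw [this, spec_coef]

theorem trIrr_conj_mul (L : Subgroup G) (u v w : G) (hu : u ∈ Subgroup.normalizer (L : Set G))
    (hv : v ∈ Subgroup.normalizer (L : Set G)) (hw : w ∈ Subgroup.normalizer (L : Set G)) (h : w = u * v)
    (θ : IrrCharacter L) :
    trIrr (conjInvEquiv L w hw) θ = trIrr (conjInvEquiv L u hu) (trIrr (conjInvEquiv L v hv) θ) := by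
  subst h
  apply Subtype.ext; funext k
  rw [trIrr_apply, trIrr_apply, trIrr_apply]
  have : conjInvEquiv L (u * v) hw k = conjInvEquiv L v hv (conjInvEquiv L u hu k) := by
    apply Subtype.ext
    show (u * v)⁻¹ * k * (u * v) = v⁻¹ * (u⁻¹ * k * u) * v
    group
  rw [this]

theorem trIrr_conj_one (L : Subgroup G) (u : G) (hu : u ∈ Subgroup.normalizer (L : Set G)) (h : u = 1)
    (θ : IrrCharacter L) : trIrr (conjInvEquiv L u hu) θ = θ := by
  subst h
  apply Subtype.ext; funext k
  rw [trIrr_apply]
  have : conjInvEquiv L 1 hu k = k := by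
    apply Subtype.ext
    show (1 : G)⁻¹ * k * 1 = k
    group
  rw [this]

/-- the conjugation action of `P ≤ N_G(L)` on sets of irreducible characters of `L` -/
@[instance_reducible] def blkAction (P L : Subgroup G) (hPL : P ≤ Subgroup.normalizer (L : Set G)) :
    MulAction P (Set (IrrCharacter L)) where
  smul u f := trSet (conjInvEquiv L u (hPL u.2)) f
  one_smul f := by
    show trSet (conjInvEquiv L ((1 : P) : G) (hPL (1 : P).2)) f = f
    ext θ; constructor
    · rintro ⟨θ', h, rfl⟩
      rw [trIrr_conj_one L ((1 : P) : G) _ rfl]; exact h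
    · intro h
      exact ⟨θ, h, (trIrr_conj_one L ((1 : P) : G) _ rfl θ).symm⟩
  mul_smul u v f := by
    show trSet (conjInvEquiv L ((u * v : P) : G) (hPL (u * v).2)) f
      = trSet (conjInvEquiv L u (hPL u.2)) (trSet (conjInvEquiv L v (hPL v.2)) f)
    ext θ; constructor
    · rintro ⟨θ', h, rfl⟩
      exact ⟨_, ⟨θ', h, rfl⟩, trIrr_conj_mul L u v _ (hPL u.2) (hPL v.2) _ rfl θ'⟩
    · rintro ⟨_, ⟨θ', h, rfl⟩, rfl⟩
      exact ⟨θ', h, (trIrr_conj_mul L u v _ (hPL u.2) (hPL v.2) _ rfl θ').symm⟩

theorem sInv_of_trSet (P L : Subgroup G) (hPL : P ≤ Subgroup.normalizer (L : Set G)) (f : Set (IrrCharacter L))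
    (h : ∀ (u : G) (hu : u ∈ P), trSet (conjInvEquiv L u (hPL hu)) f = f) : SInv P L hPL (Set.indicator f 1) := by
  intro u hu η
  have h1 : trIrr (conjInvEquiv L u (hPL hu)) η ∈ f ↔ η ∈ f := by
    constructor
    · intro h2
      rw [← h u hu] at h2
      obtain ⟨θ, hθ, h3⟩ := h2
      rw [trIrr_injective _ h3]; exact hθ
    · intro h2
      have := trIrr_mem (conjInvEquiv L u (hPL hu)) h2
      rwa [h u hu] at this
  by_cases hη : η ∈ f
  · rw [Set.indicator_of_mem hη, Set.indicator_of_mem (h1.mpr hη)]; rfl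
  · rw [Set.indicator_of_notMem hη, Set.indicator_of_notMem (fun h2 => hη (h1.mp h2))]

theorem trunc_trSet [Fintype G] (P L : Subgroup G)
    (hPL : P ≤ Subgroup.normalizer (L : Set G)) (hCL : Subgroup.centralizer (P : Set G) ≤ L)
    [Fintype L] [Fintype (IrrCharacter L)] [Fintype (Subgroup.centralizer (P : Set G))]
    (u : G) (hu : u ∈ P) (f : Set (IrrCharacter L)) :
    trunc L _ hCL (Set.indicator (trSet (conjInvEquiv L u (hPL hu)) f) 1) = trunc L _ hCL (Set.indicator f 1) := by
  unfold trunc
  congr 1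
  funext c
  rw [← blockCoeff_eq_coef, ← blockCoeff_eq_coef, blockCoeff_trSet]
  congr 1
  apply Subtype.ext
  show u⁻¹ * (c : G) * u = c
  have h4 : u * (c : G) = c * u := (Subgroup.mem_centralizer_iff.mp c.2) u hu
  calc u⁻¹ * (c : G) * u = u⁻¹ * (c * u) := by group
    _ = c := by rw [← h4]; group

theorem exists_stable_block [Fintype G] (hM : IsPModular p M) (P L : Subgroup G) (hP : IsPGroup p P)
    (hPL : P ≤ Subgroup.normalizer (L : Set G)) (hCL : Subgroup.centralizer (P : Set G) ≤ L)
    [Fintype L] [Fintype (IrrCharacter L)] [Fintype (Subgroup.centralizer (P : Set G))]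
    [Fintype (IrrCharacter (Subgroup.centralizer (P : Set G)))]
    (ξ : IrrCharacter (Subgroup.centralizer (P : Set G))) :
    ∃ f : Set (IrrCharacter L), IsPBlock M f ∧ (∀ (u : G) (hu : u ∈ P), trSet (conjInvEquiv L u (hPL hu)) f = f) ∧
      MemLocalIdeal M (trunc L _ hCL (Set.indicator f 1) ξ - 1) := by
  classical
  letI := blkAction P L hPL
  haveI : Fintype (Set (IrrCharacter L)) := Fintype.ofFinite _
  have hsmul : ∀ (u : P) (f : Set (IrrCharacter L)), u • f = trSet (conjInvEquiv L u (hPL u.2)) f := fun _ _ => rfl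
  set T : Set (IrrCharacter L) → ℂ := fun f => trunc L _ hCL (Set.indicator f 1) ξ with hT
  have hZ : ∀ f, IsPBlock M f → InZ M (Set.indicator f (1 : IrrCharacter L → ℂ)) := by
    rintro f ⟨η, rfl⟩; exact inZ_indicator_block hM η
  have hTloc : ∀ f, IsPBlock M f → MemLocalRing M (T f) := fun f hf =>
    InZ.eval_mem hM (inZ_trunc L _ hCL (hZ f hf)) ξ
  have hsum : ∑ f : Set (IrrCharacter L), (if IsPBlock M f then T f else 0) = 1 := by
    have h1 : ∑ f : Set (IrrCharacter L), (if IsPBlock M f then Set.indicator f (1 : IrrCharacter L → ℂ) else 0) = 1 := by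
      funext η
      rw [Finset.sum_apply, Finset.sum_eq_single (blockOf M (η : L → ℂ))]
      · rw [if_pos ⟨η, rfl⟩, Set.indicator_of_mem (SameBlock.refl hM _)]
      · intro f _ hne
        split_ifs with hf
        · rw [Set.indicator_of_notMem]
          intro hη
          exact hne (IsPBlock.eq_blockOf hM hf hη)
        · rfl
      · intro h; exact absurd (Finset.mem_univ _) h
    have h2 := congrFun (trunc_sum L _ hCL Finset.univ
      (fun f : Set (IrrCharacter L) => if IsPBlock M f then Set.indicator f (1 : IrrCharacter L → ℂ) else 0)) ξ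
    rw [h1, trunc_one, Finset.sum_apply] at h2
    rw [Pi.one_apply] at h2
    rw [h2]
    apply Finset.sum_congr rfl; intro f _
    split_ifs
    · rfl
    · rw [trunc_zero]; rfl
  have hTinv : ∀ (u : P) f, T (u • f) = T f := by
    intro u f
    rw [hsmul, hT]
    simp only
    rw [trunc_trSet P L hPL hCL u u.2 f]
  have hBinv : ∀ (u : P) (f : Set (IrrCharacter L)), IsPBlock M (u • f) ↔ IsPBlock M f := by
    intro u f
    constructor
    · intro h
      have := isPBlock_trSet (M := M) (conjInvEquiv L u (hPL u.2)).symm h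
      rwa [hsmul, trSet_symm] at this
    · intro h; exact isPBlock_trSet _ h
  have hFinv : ∀ (u : P) (f : Set (IrrCharacter L)), u • f ∈ MulAction.fixedPoints P (Set (IrrCharacter L))
      ↔ f ∈ MulAction.fixedPoints P (Set (IrrCharacter L)) := by
    intro u f
    constructor
    · intro h w
      have h1 : u • f = f := by
        have := h u⁻¹
        rw [inv_smul_smul] at this
        exact this.symm
      rw [h1] at h
      exact h w
    · intro h
      rw [h u]; exact h
  have horb := orbit_sum hM (Q := P) hP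
    (fun f => if IsPBlock M f ∧ f ∉ MulAction.fixedPoints P (Set (IrrCharacter L)) then T f else 0)
    (by intro u f; simp only [hBinv, hFinv, hTinv])
    (by
      intro f
      split_ifs with h
      · exact hTloc f h.1
      · exact MemLocalRing.zero hM)
    (by
      intro f hf
      rw [if_neg]
      exact fun h => h.2 hf)
  by_contra hcon
  push_neg at hcon
  have hst : ∀ f, IsPBlock M f → f ∈ MulAction.fixedPoints P (Set (IrrCharacter L)) → MemLocalIdeal M (T f) := by
    intro f hf hfix
    have hfix' : ∀ (u : G) (hu : u ∈ P), trSet (conjInvEquiv L u (hPL hu)) f = f := fun u hu => hfix ⟨u, hu⟩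
    have hS := sInv_of_trSet P L hPL f hfix'
    have h1 := InP.eval hM (inP_trunc_mul hM P L hP hPL hCL (hZ f hf) (hZ f hf) hS hS) ξ
    rw [indicator_mul_self, Pi.sub_apply, Pi.mul_apply] at h1
    have e : trunc L _ hCL (Set.indicator f 1) ξ - trunc L _ hCL (Set.indicator f 1) ξ * trunc L _ hCL (Set.indicator f 1) ξ
        = T f * (1 - T f) := by rw [hT]; ring
    rw [e] at h1
    rcases MemLocalIdeal.of_mul hM (hTloc f hf) (MemLocalRing.sub hM (MemLocalRing.one hM) (hTloc f hf)) h1 with h2 | h2
    · exact h2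
    · exfalso
      apply hcon f hf hfix'
      have := MemLocalIdeal.neg h2
      rwa [neg_sub] at this
  apply not_memLocalIdeal_one hM
  rw [← hsum]
  have h3 : ∑ f : Set (IrrCharacter L), (if IsPBlock M f then T f else 0)
      = ∑ f : Set (IrrCharacter L), (if IsPBlock M f ∧ f ∉ MulAction.fixedPoints P (Set (IrrCharacter L)) then T f else 0)
        + ∑ f : Set (IrrCharacter L), (if IsPBlock M f ∧ f ∈ MulAction.fixedPoints P (Set (IrrCharacter L)) then T f else 0) := by
    rw [← Finset.sum_add_distrib]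
    apply Finset.sum_congr rfl; intro f _
    by_cases h1 : IsPBlock M f <;> by_cases h2 : f ∈ MulAction.fixedPoints P (Set (IrrCharacter L)) <;> simp [h1, h2]
  rw [h3]
  apply MemLocalIdeal.add hM horb
  apply MemLocalIdeal.sum hM
  intro f _
  split_ifs with h
  · exact hst f h.1 h.2
  · exact MemLocalIdeal.zero hM

theorem stabilizes_of_trSet (L : Subgroup G) (f : Set (IrrCharacter L)) (u : G)
    (hu : u ∈ Subgroup.normalizer (L : Set G)) (h : trSet (conjInvEquiv L u hu) f = f) : StabilizesBlock L f u := by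
  refine ⟨hu, ?_⟩
  intro χ hχ
  refine ⟨trIrr (conjInvEquiv L u hu) χ, ?_, ?_⟩
  · have := trIrr_mem (conjInvEquiv L u hu) hχ
    rwa [h] at this
  · intro k k' hk
    rw [trIrr_apply]
    have : conjInvEquiv L u hu k' = k := by
      apply Subtype.ext
      show u⁻¹ * (k' : G) * u = k
      rw [hk]; group
    rw [this]

theorem normalSubpair_unique [Fintype G] (hM : IsPModular p M) (Q P : Subgroup G)
    (f f' : Set (IrrCharacter (Subgroup.centralizer (Q : Set G))))
    (e : Set (IrrCharacter (Subgroup.centralizer (P : Set G)))) (h : IsNormalSubpair p M Q f P e)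
    (h' : IsNormalSubpair p M Q f' P e) : f = f' := by
  classical
  haveI := Fintype.ofFinite (Subgroup.centralizer (Q : Set G))
  haveI := Fintype.ofFinite (Subgroup.centralizer (P : Set G))
  haveI := Fintype.ofFinite (IrrCharacter (Subgroup.centralizer (Q : Set G)))
  haveI := Fintype.ofFinite (IrrCharacter (Subgroup.centralizer (P : Set G)))
  obtain ⟨hQf, hPe, hQP, hPN, hst, hbr⟩ := h
  obtain ⟨hQf', -, -, -, hst', hbr'⟩ := h'
  have hPL : P ≤ Subgroup.normalizer (Subgroup.centralizer (Q : Set G) : Set G) :=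
    hPN.trans (normalizer_le_normalizer_centralizer Q)
  have hCL : Subgroup.centralizer (P : Set G) ≤ Subgroup.centralizer (Q : Set G) := Subgroup.centralizer_le hQP
  obtain ⟨ξ, hξ⟩ := IsPBlock.nonempty hM hPe.2
  obtain ⟨η, hη⟩ := IsPBlock.nonempty hM hQf.2
  have h1 := hbr ξ hξ
  have h1' := hbr' ξ hξ
  rw [brauerOmega_subgroupBlockCoeff P _ hCL] at h1 h1'
  have hZ' : InZ M (Set.indicator f' (1 : IrrCharacter (Subgroup.centralizer (Q : Set G)) → ℂ)) := by
    obtain ⟨η', rfl⟩ := hQf'.2; exact inZ_indicator_block hM η'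
  have h2 := key_K hM P _ hPe.1 hPL hCL f hQf.2 (sInv_indicator P _ hPL f hst) ξ h1
    (Set.indicator f' 1) hZ' (sInv_indicator P _ hPL f' hst') η hη
  have hη' : η ∈ f' := by
    by_contra hn
    rw [Set.indicator_of_notMem hn, sub_zero] at h2
    apply not_memLocalIdeal_one hM
    have := MemLocalIdeal.sub hM h2 h1'
    rwa [sub_sub_cancel] at this
  rw [IsPBlock.eq_blockOf hM hQf.2 hη, IsPBlock.eq_blockOf hM hQf'.2 hη']

theorem normalSubpair_exists [Fintype G] (hM : IsPModular p M) (Q P : Subgroup G)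
    (e : Set (IrrCharacter (Subgroup.centralizer (P : Set G)))) (hPe : IsBrauerPair p M P e) (hQP : Q ≤ P)
    (hPN : P ≤ Subgroup.normalizer (Q : Set G)) :
    ∃ f : Set (IrrCharacter (Subgroup.centralizer (Q : Set G))), IsNormalSubpair p M Q f P e := by
  classical
  haveI := Fintype.ofFinite (Subgroup.centralizer (Q : Set G))
  haveI := Fintype.ofFinite (Subgroup.centralizer (P : Set G))
  haveI := Fintype.ofFinite (IrrCharacter (Subgroup.centralizer (Q : Set G)))
  haveI := Fintype.ofFinite (IrrCharacter (Subgroup.centralizer (P : Set G)))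
  have hPL : P ≤ Subgroup.normalizer (Subgroup.centralizer (Q : Set G) : Set G) :=
    hPN.trans (normalizer_le_normalizer_centralizer Q)
  have hCL : Subgroup.centralizer (P : Set G) ≤ Subgroup.centralizer (Q : Set G) := Subgroup.centralizer_le hQP
  obtain ⟨ξ0, hξ0⟩ := IsPBlock.nonempty hM hPe.2
  obtain ⟨f, hf, hst, h1⟩ := exists_stable_block hM P _ hPe.1 hPL hCL ξ0
  refine ⟨f, ⟨hPe.1.to_le hQP, hf⟩, hPe, hQP, hPN, fun x hx => stabilizes_of_trSet _ f x (hPL hx) (hst x hx), ?_⟩
  intro ξ hξ
  rw [brauerOmega_subgroupBlockCoeff P _ hCL]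
  have hZ : InZ M (Set.indicator f (1 : IrrCharacter (Subgroup.centralizer (Q : Set G)) → ℂ)) := by
    obtain ⟨η', rfl⟩ := hf; exact inZ_indicator_block hM η'
  have hs : SameBlock M (ξ : Subgroup.centralizer (P : Set G) → ℂ) (ξ0 : Subgroup.centralizer (P : Set G) → ℂ) := by
    have := hξ0
    rw [IsPBlock.eq_blockOf hM hPe.2 hξ] at this
    exact this
  have h2 := InZ.congr hM (inZ_trunc _ _ hCL hZ) hs
  have := MemLocalIdeal.add hM h2 h1
  rwa [sub_add_sub_cancel] at this

end BrauerU
end Cfsg.Agent.H4
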