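import Cfsg.Agent.Lib_helper4_BlkAX

set_option autoImplicit false
set_option linter.style.haveILetI false
set_option linter.unusedSectionVars false
namespace Cfsg.Agent.H4
open Module
open scoped ComplexConjugate
universe u v w

section BrauerV
variable {p : ℕ} {M : Ideal AlgInt} {G : Type u} [Group G]

theorem omega_normal_step [Fintype G] (hM : IsPModular p M) (Q P : Subgroup G)
    (f : Set (IrrCharacter (Subgroup.centralizer (Q : Set G))))
    (e : Set (IrrCharacter (Subgroup.centralizer (P : Set G)))) (h : IsNormalSubpair p M Q f P e)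
    (a : G → ℂ) (haloc : ∀ g, MemLocalRing M (a g))
    (haL : ∀ x ∈ Subgroup.centralizer (Q : Set G), ∀ g, a (x * g * x⁻¹) = a g)
    (haP : ∀ u ∈ P, ∀ g, a (u * g * u⁻¹) = a g) :
    (∀ ξ ∈ e, MemLocalIdeal M (brauerOmega P a (ξ : Subgroup.centralizer (P : Set G) → ℂ) - 1)) ↔
    (∀ η ∈ f, MemLocalIdeal M (brauerOmega Q a (η : Subgroup.centralizer (Q : Set G) → ℂ) - 1)) := by
  have key := key_K' hM Q P f e h a haloc haL haP
  obtain ⟨ξ0, hξ0⟩ := IsPBlock.nonempty hM h.2.1.2
  obtain ⟨η0, hη0⟩ := IsPBlock.nonempty hM h.1.2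
  constructor
  · intro h1 η hη
    have := MemLocalIdeal.sub hM (h1 ξ0 hξ0) (key ξ0 hξ0 η hη)
    rwa [sub_sub_sub_cancel_left] at this
  · intro h1 ξ hξ
    have := MemLocalIdeal.add hM (key ξ hξ η0 hη0) (h1 η0 hη0)
    rwa [sub_add_sub_cancel] at this

theorem omega_chain [Fintype G] (hM : IsPModular p M) (Q N : Subgroup G)
    (a : G → ℂ) (haloc : ∀ g, MemLocalRing M (a g))
    (haL : ∀ x ∈ Subgroup.centralizer (Q : Set G), ∀ g, a (x * g * x⁻¹) = a g)
    (haP : ∀ u ∈ N, ∀ g, a (u * g * u⁻¹) = a g)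
    (x y : BrauerPairIdx G) (h : Relation.ReflTransGen (NormalSubpairRel p M) x y) (hQ : Q ≤ x.1) (hN : y.1 ≤ N) :
    (∀ ξ ∈ y.2, MemLocalIdeal M (brauerOmega y.1 a (ξ : Subgroup.centralizer (y.1 : Set G) → ℂ) - 1)) ↔
    (∀ η ∈ x.2, MemLocalIdeal M (brauerOmega x.1 a (η : Subgroup.centralizer (x.1 : Set G) → ℂ) - 1)) := by
  induction h with
  | refl => exact Iff.rfl
  | @tail b c hxb hbc ih =>
    have hbc' : b.1 ≤ c.1 := hbc.2.2.1
    have hxb' : x.1 ≤ b.1 := (subpairLE_le x b hxb).1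
    refine (omega_normal_step hM _ _ _ _ hbc a haloc ?_ (fun u hu => haP u (hN hu))).trans (ih (hbc'.trans hN))
    intro z hz
    exact haL z (Subgroup.centralizer_le (hQ.trans hxb') hz)

theorem trunc_self (L : Subgroup G) [Fintype L] [Fintype (IrrCharacter L)] (v : IrrCharacter L → ℂ) :
    trunc L L le_rfl v = v := by
  unfold trunc
  exact spec_coef v

theorem normalSubpair_same [Fintype G] (hM : IsPModular p M) (b c : BrauerPairIdx G)
    (h : NormalSubpairRel p M b c) (hbc : b.1 = c.1) : b = c := by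
  classical
  obtain ⟨Q, f⟩ := b
  obtain ⟨P, e⟩ := c
  simp only at hbc
  subst hbc
  haveI := Fintype.ofFinite (Subgroup.centralizer (Q : Set G))
  haveI := Fintype.ofFinite (IrrCharacter (Subgroup.centralizer (Q : Set G)))
  obtain ⟨hQf, hPe, -, -, -, hbr⟩ := h
  simp only at hQf hPe hbr
  obtain ⟨ξ, hξ⟩ := IsPBlock.nonempty hM hPe.2
  have h1 := hbr ξ hξ
  rw [brauerOmega_subgroupBlockCoeff Q _ le_rfl, trunc_self] at h1
  have hξf : ξ ∈ f := by
    by_contra hn
    rw [Set.indicator_of_notMem hn, zero_sub] at h1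
    apply not_memLocalIdeal_one hM
    have := MemLocalIdeal.neg h1
    rwa [neg_neg] at this
  have : f = e := by rw [IsPBlock.eq_blockOf hM hQf.2 hξf, IsPBlock.eq_blockOf hM hPe.2 hξ]
  rw [this]

theorem subpairLE_same [Fintype G] (hM : IsPModular p M) (x y : BrauerPairIdx G)
    (h : Relation.ReflTransGen (NormalSubpairRel p M) x y) (hxy : x.1 = y.1) : x = y := by
  induction h with
  | refl => rfl
  | @tail b c hxb hbc ih =>
    have hbc' : b.1 ≤ c.1 := hbc.2.2.1
    have hxb' : x.1 ≤ b.1 := (subpairLE_le x b hxb).1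
    have h1 : x.1 = b.1 := le_antisymm hxb' (hxy ▸ hbc')
    have h2 : b.1 = c.1 := h1 ▸ hxy
    rw [ih h1]
    exact normalSubpair_same hM b c hbc h2

theorem first_proper_step [Fintype G] (hM : IsPModular p M) (x z : BrauerPairIdx G)
    (h : Relation.ReflTransGen (NormalSubpairRel p M) x z) (hxz : x.1 ≠ z.1) :
    ∃ c, NormalSubpairRel p M x c ∧ Relation.ReflTransGen (NormalSubpairRel p M) c z ∧ x.1 ≠ c.1 := by
  induction h using Relation.ReflTransGen.head_induction_on with
  | refl => exact absurd rfl hxz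
  | @head x c hxc hcz ih =>
    by_cases h1 : x.1 = c.1
    · have h2 := normalSubpair_same hM x c hxc h1
      subst h2
      exact ih hxz
    · exact ⟨c, hxc, hcz, h1⟩

theorem card_lt_of_lt [Finite G] {Q R : Subgroup G} (hQR : Q ≤ R) (hne : Q ≠ R) : Nat.card Q < Nat.card R := by
  refine lt_of_le_of_ne (Subgroup.card_le_of_le hQR) ?_
  intro h
  exact hne (Subgroup.eq_of_le_of_card_ge hQR h.ge)

theorem subpair_exists [Fintype G] [Fact p.Prime] (hM : IsPModular p M) (P : Subgroup G)
    (e : Set (IrrCharacter (Subgroup.centralizer (P : Set G)))) (hPe : IsBrauerPair p M P e) :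
    ∀ (n : ℕ) (Q : Subgroup G), Q ≤ P → Nat.card P - Nat.card Q = n →
      ∃ f : Set (IrrCharacter (Subgroup.centralizer (Q : Set G))), IsPBlock M f ∧ SubpairLE p M Q f P e := by
  intro n
  induction n using Nat.strong_induction_on with
  | _ n ih =>
    intro Q hQS hn
    by_cases hne : Q = P
    · subst hne
      exact ⟨e, hPe.2, Relation.ReflTransGen.refl⟩
    · obtain ⟨x, hxS, hxN, hxQ⟩ := exists_normalizing P Q hPe.1 hQS hne
      set P1 := P ⊓ Subgroup.normalizer (Q : Set G) with hP1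
      have hQP1 : Q ≤ P1 := le_inf hQS Subgroup.le_normalizer
      have hP1S : P1 ≤ P := inf_le_left
      have hc1 : Nat.card Q < Nat.card P1 := card_lt_of_lt hQP1 (fun h => hxQ (h ▸ ⟨hxS, hxN⟩))
      have hc2 : Nat.card P1 ≤ Nat.card P := Subgroup.card_le_of_le hP1S
      obtain ⟨h, hh, h2⟩ := ih (Nat.card P - Nat.card P1) (by omega) P1 hP1S rfl
      obtain ⟨f, h1⟩ := normalSubpair_exists hM Q P1 h ⟨hPe.1.to_le hP1S, hh⟩ hQP1 inf_le_right
      exact ⟨f, h1.1.2, Relation.ReflTransGen.head (show NormalSubpairRel p M ⟨Q, _⟩ ⟨P1, _⟩ from h1) h2⟩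

theorem subgroupBlockCoeff_loc [Fintype G] (hM : IsPModular p M) (L : Subgroup G) (f : Set (IrrCharacter L))
    (hf : IsPBlock M f) (g : G) : MemLocalRing M (subgroupBlockCoeff L f g) := by
  unfold subgroupBlockCoeff
  split_ifs with h
  · exact blockCoeff_loc hM f hf _
  · exact MemLocalRing.zero hM

theorem subgroupBlockCoeff_conj_self [Fintype G] (L : Subgroup G) (f : Set (IrrCharacter L)) (x : G) (hx : x ∈ L)
    (g : G) : subgroupBlockCoeff L f (x * g * x⁻¹) = subgroupBlockCoeff L f g := by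
  unfold subgroupBlockCoeff
  have hiff : g ∈ L ↔ x * g * x⁻¹ ∈ L := Subgroup.mem_normalizer_iff.mp (Subgroup.le_normalizer hx) g
  by_cases hg : g ∈ L
  · rw [dif_pos hg, dif_pos (hiff.mp hg)]
    exact blockCoeff_conj f ⟨x, hx⟩ ⟨g, hg⟩
  · rw [dif_neg hg, dif_neg (fun h => hg (hiff.mpr h))]

theorem subgroupBlockCoeff_conj_stab [Fintype G] (P L : Subgroup G) (hPL : P ≤ Subgroup.normalizer (L : Set G))
    (f : Set (IrrCharacter L)) (h : ∀ x ∈ P, StabilizesBlock L f x) (u : G) (hu : u ∈ P) (g : G) :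
    subgroupBlockCoeff L f (u * g * u⁻¹) = subgroupBlockCoeff L f g := by
  haveI := Fintype.ofFinite L
  haveI := Fintype.ofFinite (IrrCharacter L)
  rw [subgroupBlockCoeff_eq]
  exact (sInv_indicator P L hPL f h).ext u hu g

theorem subpair_unique [Fintype G] [Fact p.Prime] (hM : IsPModular p M) (P : Subgroup G)
    (e : Set (IrrCharacter (Subgroup.centralizer (P : Set G)))) (hPe : IsBrauerPair p M P e) :
    ∀ (n : ℕ) (Q : Subgroup G) (f f' : Set (IrrCharacter (Subgroup.centralizer (Q : Set G)))),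
      Nat.card P - Nat.card Q = n → SubpairLE p M Q f P e → SubpairLE p M Q f' P e → f = f' := by
  intro n
  induction n using Nat.strong_induction_on with
  | _ n ih =>
    intro Q f f' hn hf hf'
    have hQS : Q ≤ P := (subpairLE_le _ _ hf).1
    by_cases hne : Q = P
    · have h1 := subpairLE_same hM _ _ hf hne
      have h2 := subpairLE_same hM _ _ hf' hne
      have h3 : (⟨Q, f⟩ : BrauerPairIdx G) = ⟨Q, f'⟩ := h1.trans h2.symm
      exact eq_of_heq (Sigma.mk.inj_iff.mp h3).2
    · obtain ⟨x, hxS, hxN, hxQ⟩ := exists_normalizing P Q hPe.1 hQS hne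
      set N := P ⊓ Subgroup.normalizer (Q : Set G) with hNdef
      have hQN : Q ≤ N := le_inf hQS Subgroup.le_normalizer
      have hNP : N ≤ P := inf_le_left
      obtain ⟨h, hh, hNh⟩ := subpair_exists hM P e hPe _ N hNP rfl
      have hNpair : IsBrauerPair p M N h := ⟨hPe.1.to_le hNP, hh⟩
      obtain ⟨f0, hf0⟩ := normalSubpair_exists hM Q N h hNpair hQN inf_le_right
      have main : ∀ f1 : Set (IrrCharacter (Subgroup.centralizer (Q : Set G))), SubpairLE p M Q f1 P e → f1 = f0 := by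
        intro f1 hf1
        obtain ⟨⟨R, g⟩, hstep, hrest, hQR⟩ := first_proper_step hM _ _ hf1 hne
        simp only at hQR
        have hstep' : IsNormalSubpair p M Q f1 R g := hstep
        have hRP : R ≤ P := (subpairLE_le _ _ hrest).1
        have hQR' : Q ≤ R := hstep'.2.2.1
        have hRN : R ≤ N := le_inf hRP hstep'.2.2.2.1
        obtain ⟨g', hg', hRg'⟩ := subpair_exists hM N h hNpair _ R hRN rfl
        have hc1 : Nat.card Q < Nat.card R := card_lt_of_lt hQR' hQR
        have hc2 : Nat.card R ≤ Nat.card P := Subgroup.card_le_of_le hRP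
        have hgg : g' = g := ih (Nat.card P - Nat.card R) (by omega) R g' g rfl (hRg'.trans hNh) hrest
        subst hgg
        have hNL : N ≤ Subgroup.normalizer (Subgroup.centralizer (Q : Set G) : Set G) :=
          (inf_le_right : N ≤ _).trans (normalizer_le_normalizer_centralizer Q)
        have hch := omega_chain hM Q N (subgroupBlockCoeff (Subgroup.centralizer (Q : Set G)) f0)
          (subgroupBlockCoeff_loc hM _ f0 hf0.1.2)
          (fun x hx g => subgroupBlockCoeff_conj_self _ f0 x hx g)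
          (fun u hu g => subgroupBlockCoeff_conj_stab N _ hNL f0 hf0.2.2.2.2.1 u hu g)
          ⟨R, g'⟩ ⟨N, h⟩ hRg' hQR' le_rfl
        have h5 : IsNormalSubpair p M Q f0 R g' :=
          ⟨hf0.1, hstep'.2.1, hQR', hstep'.2.2.2.1, fun x hx => hf0.2.2.2.2.1 x (hRN hx), hch.mp hf0.2.2.2.2.2⟩
        exact normalSubpair_unique hM Q R f1 f0 g' hstep' h5
      rw [main f hf, main f' hf']

end BrauerV
end Cfsg.Agent.H4
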