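import Cfsg.Agent.Lib_helper4_BlkAY

set_option autoImplicit false
set_option linter.style.haveILetI false
set_option linter.unusedSectionVars false
namespace Cfsg.Agent.H4
open Module
open scoped ComplexConjugate
universe u v w

section BrauerW
variable {p : ℕ} {M : Ideal AlgInt} {G : Type u} [Group G]

theorem orbit_exists (hM : IsPModular p M) {Q : Type*} [Group Q] (hQ : IsPGroup p Q) {Ω : Type*} [Fintype Ω]
    [MulAction Q Ω] (F : Ω → ℂ) (hF : ∀ (q : Q) ω, F (q • ω) = F ω) (hR : ∀ ω, MemLocalRing M (F ω))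
    (hsum : ¬ MemLocalIdeal M (∑ ω, F ω)) : ∃ ω ∈ MulAction.fixedPoints Q Ω, ¬ MemLocalIdeal M (F ω) := by
  classical
  by_contra hcon
  push_neg at hcon
  have hFinv : ∀ (u : Q) (f : Ω), u • f ∈ MulAction.fixedPoints Q Ω ↔ f ∈ MulAction.fixedPoints Q Ω := by
    intro u f
    constructor
    · intro h w
      have h1 : u • f = f := by
        have := h u⁻¹
        rw [inv_smul_smul] at this
        exact this.symm
      rw [h1] at h
      exact h w
    · intro h
      rw [h u]; exact h
  have horb := orbit_sum hM hQ (fun f => if f ∉ MulAction.fixedPoints Q Ω then F f else 0)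
    (by intro u f; simp only [hFinv, hF])
    (by
      intro f
      split_ifs with h
      · exact MemLocalRing.zero hM
      · exact hR f)
    (by
      intro f hf
      rw [if_neg]
      exact fun h => h hf)
  apply hsum
  have h3 : ∑ f : Ω, F f = ∑ f : Ω, (if f ∉ MulAction.fixedPoints Q Ω then F f else 0)
        + ∑ f : Ω, (if f ∈ MulAction.fixedPoints Q Ω then F f else 0) := by
    rw [← Finset.sum_add_distrib]
    apply Finset.sum_congr rfl; intro f _
    by_cases h2 : f ∈ MulAction.fixedPoints Q Ω <;> simp [h2]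
  rw [h3]
  apply MemLocalIdeal.add hM horb
  apply MemLocalIdeal.sum hM
  intro f _
  split_ifs with h
  · exact hcon f h
  · exact MemLocalIdeal.zero hM

theorem trSet_conj_mul (L : Subgroup G) (u v w : G) (hu : u ∈ Subgroup.normalizer (L : Set G))
    (hv : v ∈ Subgroup.normalizer (L : Set G)) (hw : w ∈ Subgroup.normalizer (L : Set G)) (h : w = u * v)
    (f : Set (IrrCharacter L)) :
    trSet (conjInvEquiv L w hw) f = trSet (conjInvEquiv L u hu) (trSet (conjInvEquiv L v hv) f) := by
  ext θ; constructor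
  · rintro ⟨θ', h', rfl⟩
    exact ⟨_, ⟨θ', h', rfl⟩, trIrr_conj_mul L u v _ hu hv _ h θ'⟩
  · rintro ⟨_, ⟨θ', h', rfl⟩, rfl⟩
    exact ⟨θ', h', (trIrr_conj_mul L u v _ hu hv _ h θ').symm⟩

theorem trSet_conj_one (L : Subgroup G) (u : G) (hu : u ∈ Subgroup.normalizer (L : Set G)) (h : u = 1)
    (f : Set (IrrCharacter L)) : trSet (conjInvEquiv L u hu) f = f := by
  ext θ; constructor
  · rintro ⟨θ', h', rfl⟩
    rw [trIrr_conj_one L u _ h]; exact h'
  · intro h'
    exact ⟨θ, h', (trIrr_conj_one L u _ h θ).symm⟩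

theorem coef_zero' [Fintype G] [Fintype (IrrCharacter G)] (g : G) : coef (0 : IrrCharacter G → ℂ) g = 0 := by
  have := coef_sub (0 : IrrCharacter G → ℂ) 0 g
  rwa [sub_zero, sub_self] at this

theorem coef_finset_sum [Fintype G] [Fintype (IrrCharacter G)] {ι : Type*} (s : Finset ι)
    (v : ι → IrrCharacter G → ℂ) (g : G) : coef (∑ i ∈ s, v i) g = ∑ i ∈ s, coef (v i) g := by
  classical
  induction s using Finset.induction_on with
  | empty => simp [coef_zero']
  | insert a s ha ih => rw [Finset.sum_insert ha, Finset.sum_insert ha, coef_add, ih]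

theorem exists_stab_conj [Fintype G] [Fact p.Prime] (hM : IsPModular p M) (P : Subgroup G) [hPn : P.Normal]
    (hP : IsPGroup p P) (N : Subgroup G) [hN : N.Normal] [Fintype N] (hCN : Subgroup.centralizer (P : Set G) ≤ N)
    (hNn : ∀ g : G, g ∈ Subgroup.normalizer (N : Set G))
    (b : Set (IrrCharacter N)) (hb : IsPBlock M b) (B : Set (IrrCharacter G)) (hB : IsPBlock M B)
    (hcov : ∃ χ ∈ B, ∃ θ ∈ b, classInner (fun n : N => (χ : G → ℂ) n) (θ : N → ℂ) ≠ 0)
    (D : Subgroup G) (hD : IsDefectGroup p M B D) :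
    ∃ (k : G) (x : N), (∀ u ∈ D, u * (x : G) = x * u) ∧
      (∀ u ∈ D, trSet (conjInvEquiv N u (hNn u)) (trSet (conjInvEquiv N k (hNn k)) b)
        = trSet (conjInvEquiv N k (hNn k)) b) ∧
      ¬ MemLocalIdeal M (blockCoeff (trSet (conjInvEquiv N k (hNn k)) b) x) := by
  classical
  haveI := Fintype.ofFinite (IrrCharacter G)
  haveI := Fintype.ofFinite (IrrCharacter N)
  have hDp : IsPGroup p D := isPGroup_of_defectGroup hM B hB D hD
  -- `B` is the set of characters over the orbit
  have hBcov : B = Cov N (orbB hN b) := by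
    obtain ⟨χ0, hχ0, hc0⟩ := hcov
    ext χ
    rw [mem_cov_orbB_iff]
    constructor
    · intro hχ
      have hs : SameBlock M (χ0 : G → ℂ) (χ : G → ℂ) := by
        rw [IsPBlock.eq_blockOf hM hB hχ0] at hχ
        exact hχ
      exact block_over hM N b hb χ0 χ hc0 hs
    · intro hχ
      have h1 := induced_of_cover_centralizer hM P hP N hCN b hb B hB ⟨χ0, hχ0, hc0⟩
      have h2 := induced_of_cover_centralizer hM P hP N hCN b hb (blockOf M (χ : G → ℂ)) ⟨χ, rfl⟩
        ⟨χ, SameBlock.refl hM _, hχ⟩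
      rw [sameBlock_of_induced hM N b _ _ h1 h2]
      exact SameBlock.refl hM _
  obtain ⟨g, hg, S, hS⟩ := hD
  have hgc : ¬ MemLocalIdeal M (coef (Set.indicator B (1 : IrrCharacter G → ℂ)) g) := by
    rw [← blockCoeff_eq_coef]; exact hg.2.1
  rw [hBcov, coef_cov N (orbB hN b) (orbB_stable hN b)] at hgc
  have hgN : g ∈ N := by
    by_contra hn
    rw [extendByZero_not_mem N _ hn] at hgc
    exact hgc (MemLocalIdeal.zero hM)
  rw [extendByZero_mem N _ hgN] at hgc
  have hDg : ∀ u ∈ D, u * g = g * u := by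
    intro u hu
    rw [hS] at hu
    obtain ⟨c, -, rfl⟩ := hu
    have := c.2
    rw [Subgroup.mem_centralizer_iff] at this
    exact (this g rfl).symm
  have hDN : D ≤ Subgroup.normalizer (N : Set G) := fun u _ => hNn u
  letI := blkAction D N hDN
  haveI : Fintype (Set (IrrCharacter N)) := Fintype.ofFinite _
  have hsmul : ∀ (u : D) (f : Set (IrrCharacter N)), u • f = trSet (conjInvEquiv N u (hNn u)) f := fun _ _ => rfl
  set Orb : Set (Set (IrrCharacter N)) := {f | ∃ k : G, f = trSet (conjInvEquiv N k (hNn k)) b} with hOrb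
  have hOrbB : ∀ f ∈ Orb, IsPBlock M f := by
    rintro f ⟨k, rfl⟩; exact isPBlock_trSet _ hb
  have hind : Set.indicator (orbB hN b) (1 : IrrCharacter N → ℂ)
      = ∑ f : Set (IrrCharacter N), (if f ∈ Orb then Set.indicator f (1 : IrrCharacter N → ℂ) else 0) := by
    funext η
    rw [Finset.sum_apply]
    by_cases hη : η ∈ orbB hN b
    · rw [Set.indicator_of_mem hη]
      obtain ⟨a, θ', hθ', h⟩ := hη
      have hmem : η ∈ trSet (conjInvEquiv N a⁻¹ (hNn a⁻¹)) b := by
        refine ⟨θ', hθ', ?_⟩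
        apply Subtype.ext
        rw [h]
        funext n
        rw [trIrr_apply, conjFun_apply]
        have h5 : (⟨a * (n : G) * a⁻¹, hN.conj_mem n n.2 a⟩ : N) = conjInvEquiv N a⁻¹ (hNn a⁻¹) n := by
          apply Subtype.ext
          show a * (n : G) * a⁻¹ = a⁻¹⁻¹ * n * a⁻¹
          group
        rw [h5]
      rw [Finset.sum_eq_single (trSet (conjInvEquiv N a⁻¹ (hNn a⁻¹)) b)]
      · rw [if_pos ⟨a⁻¹, rfl⟩, Set.indicator_of_mem hmem]
      · intro f _ hne
        split_ifs with hf
        · rw [Set.indicator_of_notMem]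
          intro hηf
          apply hne
          rw [IsPBlock.eq_blockOf hM (hOrbB f hf) hηf, IsPBlock.eq_blockOf hM (isPBlock_trSet _ hb) hmem]
        · rfl
      · intro h; exact absurd (Finset.mem_univ _) h
    · rw [Set.indicator_of_notMem hη]
      symm
      apply Finset.sum_eq_zero
      intro f _
      split_ifs with hf
      · rw [Set.indicator_of_notMem]
        intro hηf
        apply hη
        obtain ⟨k, rfl⟩ := hf
        obtain ⟨θ', hθ', rfl⟩ := hηf
        refine ⟨k⁻¹, θ', hθ', ?_⟩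
        funext n
        rw [trIrr_apply, conjFun_apply]
        have h5 : (⟨k⁻¹ * (n : G) * k⁻¹⁻¹, hN.conj_mem n n.2 k⁻¹⟩ : N) = conjInvEquiv N k (hNn k) n := by
          apply Subtype.ext
          show k⁻¹ * (n : G) * k⁻¹⁻¹ = k⁻¹ * n * k
          group
        rw [h5]
      · rfl
  rw [hind, coef_finset_sum] at hgc
  have hterm : ∀ f : Set (IrrCharacter N),
      coef (if f ∈ Orb then Set.indicator f (1 : IrrCharacter N → ℂ) else 0) ⟨g, hgN⟩
        = if f ∈ Orb then blockCoeff f ⟨g, hgN⟩ else 0 := by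
    intro f
    split_ifs
    · rw [blockCoeff_eq_coef]
    · exact coef_zero' _
  rw [Finset.sum_congr rfl (fun f _ => hterm f)] at hgc
  have hOinv : ∀ (u : D) (f : Set (IrrCharacter N)), u • f ∈ Orb ↔ f ∈ Orb := by
    intro u f
    constructor
    · rintro ⟨k, hk⟩
      refine ⟨(u : G)⁻¹ * k, ?_⟩
      rw [trSet_conj_mul N (u : G)⁻¹ k _ (hNn _) (hNn k) _ rfl, ← hk, hsmul,
        ← trSet_conj_mul N (u : G)⁻¹ u 1 (hNn _) (hNn _) (hNn 1) (by group), trSet_conj_one N 1 _ rfl]
    · rintro ⟨k, rfl⟩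
      exact ⟨(u : G) * k, by rw [hsmul, ← trSet_conj_mul N (u : G) k _ (hNn _) (hNn k) (hNn _) rfl]⟩
  have hCinv : ∀ (u : D) (f : Set (IrrCharacter N)), blockCoeff (u • f) ⟨g, hgN⟩ = blockCoeff f ⟨g, hgN⟩ := by
    intro u f
    rw [hsmul, blockCoeff_trSet]
    congr 1
    apply Subtype.ext
    show (u : G)⁻¹ * g * u = g
    have h4 := hDg u u.2
    calc (u : G)⁻¹ * g * u = (u : G)⁻¹ * (g * u) := by group
      _ = g := by rw [← h4]; group
  obtain ⟨f, hfix, hf⟩ := orbit_exists hM (Q := D) hDp (fun f => if f ∈ Orb then blockCoeff f ⟨g, hgN⟩ else 0)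
    (by intro u f; simp only [hOinv, hCinv])
    (by
      intro f
      split_ifs with h
      · exact blockCoeff_loc hM f (hOrbB f h) _
      · exact MemLocalRing.zero hM) hgc
  have hfO : f ∈ Orb := by
    by_contra hn
    rw [if_neg hn] at hf
    exact hf (MemLocalIdeal.zero hM)
  rw [if_pos hfO] at hf
  obtain ⟨k, rfl⟩ := hfO
  exact ⟨k, ⟨g, hgN⟩, hDg, fun u hu => hfix ⟨u, hu⟩, hf⟩

theorem exists_normal_superpair [Fintype G] (hM : IsPModular p M) (P R : Subgroup G)
    (e : Set (IrrCharacter (Subgroup.centralizer (P : Set G)))) (hPe : IsBrauerPair p M P e)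
    (hR : IsPGroup p R) (hPR : P ≤ R) (hRN : R ≤ Subgroup.normalizer (P : Set G))
    (hst : ∀ (u : G) (hu : u ∈ R), trSet (conjInvEquiv (Subgroup.centralizer (P : Set G)) u
        (normalizer_le_normalizer_centralizer P (hRN hu))) e = e)
    (x : Subgroup.centralizer (P : Set G)) (hx : ∀ u ∈ R, u * (x : G) = x * u)
    (hne : ¬ MemLocalIdeal M (blockCoeff e x)) :
    ∃ g : Set (IrrCharacter (Subgroup.centralizer (R : Set G))), IsNormalSubpair p M P e R g := by
  classical
  haveI := Fintype.ofFinite (Subgroup.centralizer (R : Set G))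
  haveI := Fintype.ofFinite (Subgroup.centralizer (P : Set G))
  haveI := Fintype.ofFinite (IrrCharacter (Subgroup.centralizer (R : Set G)))
  haveI := Fintype.ofFinite (IrrCharacter (Subgroup.centralizer (P : Set G)))
  have hRL : R ≤ Subgroup.normalizer (Subgroup.centralizer (P : Set G) : Set G) :=
    hRN.trans (normalizer_le_normalizer_centralizer P)
  have hCL : Subgroup.centralizer (R : Set G) ≤ Subgroup.centralizer (P : Set G) := Subgroup.centralizer_le hPR
  have hZ : InZ M (Set.indicator e (1 : IrrCharacter (Subgroup.centralizer (P : Set G)) → ℂ)) := by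
    obtain ⟨η', rfl⟩ := hPe.2; exact inZ_indicator_block hM η'
  have hS := sInv_of_trSet R _ hRL e hst
  have hyZ := inZ_trunc (M := M) _ _ hCL hZ
  have h1 := inP_trunc_mul hM R _ hR hRL hCL hZ hZ hS hS
  rw [indicator_mul_self] at h1
  have hidem : InP M (trunc _ _ hCL (Set.indicator e 1) * trunc _ _ hCL (Set.indicator e 1)
      - trunc _ _ hCL (Set.indicator e 1)) := by
    intro c
    have h2 := MemLocalIdeal.neg (h1 c)
    rw [coef_sub, neg_sub] at h2
    rw [coef_sub]; exact h2
  have hxC : (x : G) ∈ Subgroup.centralizer (R : Set G) := by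
    rw [Subgroup.mem_centralizer_iff]; intro u hu; exact hx u hu
  have hc : ¬ MemLocalIdeal M (coef (trunc _ _ hCL (Set.indicator e 1)) ⟨x, hxC⟩) := by
    rw [coef_trunc]
    show ¬ MemLocalIdeal M (coef (Set.indicator e 1) x)
    rw [← blockCoeff_eq_coef]; exact hne
  obtain ⟨ξ, hξ⟩ := exists_eval_not_mem_of_idem hM hyZ hidem _ hc
  have h2 := InP.eval hM hidem ξ
  rw [Pi.sub_apply, Pi.mul_apply] at h2
  have hloc := InZ.eval_mem hM hyZ ξ
  have h3 : MemLocalIdeal M (trunc _ _ hCL (Set.indicator e 1) ξ - 1) := by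
    have e1 : trunc _ _ hCL (Set.indicator e 1) ξ * trunc _ _ hCL (Set.indicator e 1) ξ
        - trunc _ _ hCL (Set.indicator e 1) ξ
        = trunc _ _ hCL (Set.indicator e 1) ξ * (trunc _ _ hCL (Set.indicator e 1) ξ - 1) := by ring
    rw [e1] at h2
    rcases MemLocalIdeal.of_mul hM hloc (MemLocalRing.sub hM hloc (MemLocalRing.one hM)) h2 with h4 | h4
    · exact absurd h4 hξ
    · exact h4
  refine ⟨blockOf M (ξ : Subgroup.centralizer (R : Set G) → ℂ), hPe, ⟨hR, ⟨ξ, rfl⟩⟩, hPR, hRN,
    fun u hu => stabilizes_of_trSet _ e u _ (hst u hu), ?_⟩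
  intro ξ' hξ'
  rw [brauerOmega_subgroupBlockCoeff R _ hCL]
  have hs : SameBlock M (ξ : Subgroup.centralizer (R : Set G) → ℂ) (ξ' : Subgroup.centralizer (R : Set G) → ℂ) := hξ'
  have h5 := MemLocalIdeal.neg (InZ.congr hM hyZ hs)
  rw [neg_sub] at h5
  have := MemLocalIdeal.add hM h5 h3
  rwa [sub_add_sub_cancel] at this

theorem trSet_conj_sub (C K : Subgroup G) (hCK : C ≤ K) (k : K)
    (h1 : k ∈ Subgroup.normalizer ((C.subgroupOf K : Subgroup K) : Set K))
    (h2 : (k : G) ∈ Subgroup.normalizer (C : Set G)) (e : Set (IrrCharacter C)) :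
    trSet (conjInvEquiv (C.subgroupOf K) k h1) (trSet (Subgroup.subgroupOfEquivOfLe hCK) e)
      = trSet (Subgroup.subgroupOfEquivOfLe hCK) (trSet (conjInvEquiv C (k : G) h2) e) := by
  ext θ; constructor
  · rintro ⟨_, ⟨θ', h', rfl⟩, rfl⟩
    exact ⟨_, ⟨θ', h', rfl⟩, rfl⟩
  · rintro ⟨_, ⟨θ', h', rfl⟩, rfl⟩
    exact ⟨_, ⟨θ', h', rfl⟩, rfl⟩

theorem cent_normal (P : Subgroup G) :
    ((Subgroup.centralizer (P : Set G)).subgroupOf (Subgroup.normalizer (P : Set G))).Normal :=
  (Subgroup.normal_subgroupOf_iff_le_normalizer (centralizer_le_normalizer' P)).mpr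
    (normalizer_le_normalizer_centralizer P)

/-- a block of `N_G(P)` covering `e` induces to the same block of `G` as `e` -/
theorem exists_cover_normalizer [Fintype G] (hM : IsPModular p M) (P : Subgroup G) (hP : IsPGroup p P)
    (e : Set (IrrCharacter (Subgroup.centralizer (P : Set G)))) (he : IsPBlock M e)
    (B : Set (IrrCharacter G)) (hind : IsInducedBlock M (Subgroup.centralizer (P : Set G)) e B)
    [Fintype (Subgroup.centralizer (P : Set G))] [Fintype (Subgroup.normalizer (P : Set G))]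
    (θ : IrrCharacter (Subgroup.centralizer (P : Set G))) (hθ : θ ∈ e) :
    ∃ ζ : IrrCharacter (Subgroup.normalizer (P : Set G)),
      classInner (resN (centralizer_le_normalizer' P) (ζ : Subgroup.normalizer (P : Set G) → ℂ))
        (θ : Subgroup.centralizer (P : Set G) → ℂ) ≠ 0 ∧
      IsInducedBlock M (Subgroup.normalizer (P : Set G)) (blockOf M (ζ : Subgroup.normalizer (P : Set G) → ℂ)) B := by
  haveI := Fintype.ofFinite (IrrCharacter (Subgroup.normalizer (P : Set G)))
  obtain ⟨χ, hχ⟩ := exists_over (Subgroup.centralizer (P : Set G)) θ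
  obtain ⟨ζ, -, hζ⟩ := exists_middle _ _ (centralizer_le_normalizer' P) χ θ hχ
  refine ⟨ζ, hζ, ?_⟩
  have h1 := rel_induced hM P _ _ hP Subgroup.le_normalizer (centralizer_le_normalizer' P)
    Subgroup.normal_in_normalizer (cent_normal P) inf_le_left e he _ ⟨ζ, rfl⟩ ⟨ζ, SameBlock.refl hM _, θ, hθ, hζ⟩
  exact (induced_trans hM _ _ (centralizer_le_normalizer' P) e he _ h1 B).mpr hind

theorem maximal_pair_defect [Fintype G] [Fact p.Prime] (hM : IsPModular p M) (B : Set (IrrCharacter G))
    (P : Subgroup G) (e : Set (IrrCharacter (Subgroup.centralizer (P : Set G))))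
    (hmax : IsMaximalBrauerPair p M B P e) : IsDefectGroup p M B P := by
  classical
  obtain ⟨hBP, hmx⟩ := hmax
  have hPe := hBP.1
  have hB := hBP.2.1
  haveI := Fintype.ofFinite (Subgroup.centralizer (P : Set G))
  haveI := Fintype.ofFinite (Subgroup.normalizer (P : Set G))
  haveI := Fintype.ofFinite ((Subgroup.centralizer (P : Set G)).subgroupOf (Subgroup.normalizer (P : Set G)))
  haveI := Fintype.ofFinite (IrrCharacter (Subgroup.normalizer (P : Set G)))
  have hCK := centralizer_le_normalizer' P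
  have hPK : P ≤ Subgroup.normalizer (P : Set G) := Subgroup.le_normalizer
  haveI hCn := cent_normal P
  haveI hPn : (P.subgroupOf (Subgroup.normalizer (P : Set G))).Normal := Subgroup.normal_in_normalizer
  have hind := (isBrauerPairOf_iff_induced hM P hPe.1 e hPe.2 B).mp hBP
  obtain ⟨θ, hθ⟩ := IsPBlock.nonempty hM hPe.2
  obtain ⟨ζ, hζ, hI⟩ := exists_cover_normalizer hM P hPe.1 e hPe.2 B hind θ hθ
  obtain ⟨D, hD⟩ := exists_defectGroup (p := p) hM (blockOf M (ζ : Subgroup.normalizer (P : Set G) → ℂ)) ⟨ζ, rfl⟩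
  have hDp : IsPGroup p D := isPGroup_of_defectGroup hM _ ⟨ζ, rfl⟩ D hD
  have hP' : IsPGroup p (P.subgroupOf (Subgroup.normalizer (P : Set G))) := hPe.1.comap_subtype
  have hPD : P.subgroupOf (Subgroup.normalizer (P : Set G)) ≤ D :=
    normal_pSubgroup_le_defect hM _ ⟨ζ, rfl⟩ D hD _ hP'
  have hCN : Subgroup.centralizer ((P.subgroupOf (Subgroup.normalizer (P : Set G)) :
      Subgroup (Subgroup.normalizer (P : Set G))) : Set (Subgroup.normalizer (P : Set G)))
      ≤ (Subgroup.centralizer (P : Set G)).subgroupOf (Subgroup.normalizer (P : Set G)) := by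
    intro c hc
    rw [Subgroup.mem_subgroupOf, Subgroup.mem_centralizer_iff]
    intro q hq
    have := (Subgroup.mem_centralizer_iff.mp hc) ⟨q, hPK hq⟩ (by
      show (⟨q, hPK hq⟩ : Subgroup.normalizer (P : Set G)) ∈ P.subgroupOf _
      rw [Subgroup.mem_subgroupOf]; exact hq)
    exact congrArg Subtype.val this
  have hNn : ∀ g : Subgroup.normalizer (P : Set G), g ∈ Subgroup.normalizer
      (((Subgroup.centralizer (P : Set G)).subgroupOf (Subgroup.normalizer (P : Set G)) :
        Subgroup (Subgroup.normalizer (P : Set G))) : Set (Subgroup.normalizer (P : Set G))) := by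
    intro g
    have := Subgroup.normalizer_eq_top ((Subgroup.centralizer (P : Set G)).subgroupOf (Subgroup.normalizer (P : Set G)))
    exact this ▸ Subgroup.mem_top g
  obtain ⟨k, x, hx, hst, hne⟩ := exists_stab_conj hM (P.subgroupOf (Subgroup.normalizer (P : Set G))) hP'
    ((Subgroup.centralizer (P : Set G)).subgroupOf (Subgroup.normalizer (P : Set G))) hCN hNn
    (trSet (Subgroup.subgroupOfEquivOfLe hCK) e) (isPBlock_trSet _ hPe.2) _ ⟨ζ, rfl⟩
    ⟨ζ, SameBlock.refl hM _, trIrr (Subgroup.subgroupOfEquivOfLe hCK) θ, trIrr_mem _ hθ, by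
      rw [classInner_resN_tr]; exact hζ⟩ D hD
  have hKL := normalizer_le_normalizer_centralizer P
  -- the conjugated subgroup
  set R : Subgroup G := (D.map (MulAut.conj k⁻¹).toMonoidHom).map (Subgroup.normalizer (P : Set G)).subtype with hR
  have hRmem : ∀ u ∈ R, ∃ d ∈ D, u = (k : G)⁻¹ * (d : G) * k := by
    rintro u ⟨_, ⟨d, hd, rfl⟩, rfl⟩
    exact ⟨d, hd, by simp⟩
  have hRK : R ≤ Subgroup.normalizer (P : Set G) := Subgroup.map_subtype_le _
  have hRp : IsPGroup p R := (hDp.map _).map _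
  have hcard : Nat.card R = Nat.card D := by
    rw [hR]
    rw [Nat.card_congr (Subgroup.equivMapOfInjective _ _ (Subgroup.subtype_injective _)).symm.toEquiv,
      Nat.card_congr (Subgroup.equivMapOfInjective _ _ (MulAut.conj k⁻¹).injective).symm.toEquiv]
  have hPR : P ≤ R := by
    intro q hq
    have h1 : (k : G) * q * (k : G)⁻¹ ∈ P := (Subgroup.mem_normalizer_iff.mp k.2 q).mp hq
    have h2 : (⟨(k : G) * q * (k : G)⁻¹, hPK h1⟩ : Subgroup.normalizer (P : Set G)) ∈ D := hPD (by
      rw [Subgroup.mem_subgroupOf]; exact h1)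
    refine ⟨_, ⟨_, h2, rfl⟩, ?_⟩
    simp [mul_assoc]
  have hstR : ∀ (u : G) (hu : u ∈ R), trSet (conjInvEquiv (Subgroup.centralizer (P : Set G)) u
        (hKL (hRK hu))) e = e := by
    intro u hu
    obtain ⟨d, hd, hud⟩ := hRmem u hu
    have h1 := hst d hd
    have h2 : trSet (conjInvEquiv _ (k⁻¹ * d * k) (hNn _)) (trSet (Subgroup.subgroupOfEquivOfLe hCK) e)
        = trSet (Subgroup.subgroupOfEquivOfLe hCK) e := by
      rw [trSet_conj_mul _ (k⁻¹ * d) k _ (hNn _) (hNn _) _ rfl, trSet_conj_mul _ k⁻¹ d _ (hNn _) (hNn _) _ rfl, h1,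
        ← trSet_conj_mul _ k⁻¹ k 1 (hNn _) (hNn _) (hNn _) (by group), trSet_conj_one _ 1 _ rfl]
    rw [trSet_conj_sub _ _ hCK (k⁻¹ * d * k) _ (hKL (k⁻¹ * d * k).2)] at h2
    have h3 := congrArg (trSet (Subgroup.subgroupOfEquivOfLe hCK).symm) h2
    rw [trSet_symm, trSet_symm] at h3
    subst hud
    exact h3
  rw [blockCoeff_trSet, blockCoeff_trSet] at hne
  obtain ⟨g, hg⟩ := exists_normal_superpair hM P R e hPe hRp hPR hRK hstR _ (by
    intro u hu
    obtain ⟨d, hd, hud⟩ := hRmem u hu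
    have h1 : (d : G) * ((x : Subgroup.normalizer (P : Set G)) : G) = ((x : Subgroup.normalizer (P : Set G)) : G) * d :=
      congrArg Subtype.val (hx d hd)
    show u * ((k : G)⁻¹ * ((x : Subgroup.normalizer (P : Set G)) : G) * k)
      = ((k : G)⁻¹ * ((x : Subgroup.normalizer (P : Set G)) : G) * k) * u
    rw [hud]
    calc (k : G)⁻¹ * (d : G) * k * ((k : G)⁻¹ * ((x : Subgroup.normalizer (P : Set G)) : G) * k)
        = (k : G)⁻¹ * ((d : G) * ((x : Subgroup.normalizer (P : Set G)) : G)) * k := by group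
      _ = (k : G)⁻¹ * (((x : Subgroup.normalizer (P : Set G)) : G) * d) * k := by rw [h1]
      _ = _ := by group) hne
  have hRP : R = P := hmx R g ((brauerPairOf_normal_step hM P R e g hg B hB).mpr hBP) (Relation.ReflTransGen.single hg)
  have hDeq : P.subgroupOf (Subgroup.normalizer (P : Set G)) = D := by
    apply Subgroup.eq_of_le_of_card_ge hPD
    rw [← hcard, hRP]
    exact (Nat.card_congr (Subgroup.subgroupOfEquivOfLe hPK).toEquiv).ge
  rw [← hDeq] at hD
  obtain ⟨B', hB', hDB', hI'⟩ := fmt_A hM P hPe.1 _ ⟨ζ, rfl⟩ hD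
  rw [sameBlock_of_induced hM _ _ _ _ hI hI']
  exact hDB'

end BrauerW
end Cfsg.Agent.H4
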