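import Cfsg.Agent.Lib_helper4_BlkAZ

set_option autoImplicit false
set_option linter.style.haveILetI false
set_option linter.unusedSectionVars false
namespace Cfsg.Agent.H4
open Module
open scoped ComplexConjugate
universe u v w

section BrauerX
variable {p : ℕ} {M : Ideal AlgInt} {G : Type u} [Group G]

/-- conjugate of a Brauer pair -/
def conjPair (z : G) (a : BrauerPairIdx G) : BrauerPairIdx G :=
  ⟨a.1.map (MulAut.conj z).toMonoidHom, conjBlock a.1 z a.2⟩

theorem mem_map_conj_iff (Q : Subgroup G) (z h : G) :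
    h ∈ Q.map (MulAut.conj z).toMonoidHom ↔ z⁻¹ * h * z ∈ Q := by
  constructor
  · rintro ⟨q, hq, rfl⟩
    have : z⁻¹ * ((MulAut.conj z).toMonoidHom q) * z = q := by simp [mul_assoc]
    rw [this]; exact hq
  · intro hq
    exact ⟨_, hq, by simp [mul_assoc]⟩

theorem conj_mem_normalizer (Q : Subgroup G) (z v : G) (hv : v ∈ Subgroup.normalizer (Q : Set G)) :
    z * v * z⁻¹ ∈ Subgroup.normalizer ((Q.map (MulAut.conj z).toMonoidHom : Subgroup G) : Set G) := by
  rw [Subgroup.mem_normalizer_iff]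
  intro h
  rw [mem_map_conj_iff, mem_map_conj_iff, Subgroup.mem_normalizer_iff.mp hv (z⁻¹ * h * z)]
  have : z⁻¹ * (z * v * z⁻¹ * h * (z * v * z⁻¹)⁻¹) * z = v * (z⁻¹ * h * z) * v⁻¹ := by group
  rw [this]

theorem brauerOmega_conj [Fintype G] (P : Subgroup G) (z : G) (β β' : G → ℂ) (h : ∀ c, β' (z * c * z⁻¹) = β c)
    (ξ : IrrCharacter (Subgroup.centralizer (P : Set G))) :
    brauerOmega (P.map (MulAut.conj z).toMonoidHom) β' (trIrr (centConjEquiv P z) ξ : _ → ℂ)
      = brauerOmega P β (ξ : Subgroup.centralizer (P : Set G) → ℂ) := by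
  classical
  haveI := Fintype.ofFinite (Subgroup.centralizer (P : Set G))
  haveI := Fintype.ofFinite (Subgroup.centralizer ((P.map (MulAut.conj z).toMonoidHom : Subgroup G) : Set G))
  rw [brauerOmega_eq_spec, brauerOmega_eq_spec]
  unfold spec
  rw [trIrr_apply, map_one]
  congr 1
  rw [← Equiv.sum_comp (centConjEquiv P z).toEquiv]
  apply Finset.sum_congr rfl; intro c' _
  rw [trIrr_apply]
  congr 1
  have := h (z⁻¹ * (c' : G) * z)
  have e : z * (z⁻¹ * (c' : G) * z) * z⁻¹ = c' := by group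
  rw [e] at this
  exact this

theorem subgroupBlockCoeff_conjBlock (Q : Subgroup G) (z : G)
    (f : Set (IrrCharacter (Subgroup.centralizer (Q : Set G)))) (c : G) :
    subgroupBlockCoeff (Subgroup.centralizer ((Q.map (MulAut.conj z).toMonoidHom : Subgroup G) : Set G))
      (conjBlock Q z f) (z * c * z⁻¹) = subgroupBlockCoeff (Subgroup.centralizer (Q : Set G)) f c := by
  unfold subgroupBlockCoeff
  by_cases hc : c ∈ Subgroup.centralizer (Q : Set G)
  · have hc' : z * c * z⁻¹ ∈ Subgroup.centralizer ((Q.map (MulAut.conj z).toMonoidHom : Subgroup G) : Set G) :=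
      ((centConjEquiv Q z).symm ⟨c, hc⟩).2
    rw [dif_pos hc, dif_pos hc', conjBlock_eq_trSet, blockCoeff_trSet]
    congr 1
    apply Subtype.ext
    show z⁻¹ * (z * c * z⁻¹) * z = c
    group
  · have hc' : z * c * z⁻¹ ∉ Subgroup.centralizer ((Q.map (MulAut.conj z).toMonoidHom : Subgroup G) : Set G) := by
      intro h
      apply hc
      have := (centConjEquiv Q z ⟨_, h⟩).2
      have e : ((centConjEquiv Q z ⟨_, h⟩ : Subgroup.centralizer (Q : Set G)) : G) = c := by
        show z⁻¹ * (z * c * z⁻¹) * z = c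
        group
      rwa [e] at this
    rw [dif_neg hc, dif_neg hc']

theorem isBrauerPair_conj (Q : Subgroup G) (z : G) (f : Set (IrrCharacter (Subgroup.centralizer (Q : Set G))))
    (h : IsBrauerPair p M Q f) : IsBrauerPair p M (Q.map (MulAut.conj z).toMonoidHom) (conjBlock Q z f) := by
  refine ⟨h.1.map _, ?_⟩
  rw [conjBlock_eq_trSet]
  exact isPBlock_trSet _ h.2

theorem isBrauerPairOf_conj [Fintype G] (B : Set (IrrCharacter G)) (Q : Subgroup G) (z : G)
    (f : Set (IrrCharacter (Subgroup.centralizer (Q : Set G))))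
    (h : IsBrauerPairOf p M B Q f) :
    IsBrauerPairOf p M B (Q.map (MulAut.conj z).toMonoidHom) (conjBlock Q z f) := by
  refine ⟨isBrauerPair_conj Q z f h.1, h.2.1, ?_⟩
  intro ξ hξ
  rw [conjBlock_eq_trSet] at hξ
  obtain ⟨ξ0, hξ0, rfl⟩ := hξ
  rw [brauerOmega_conj Q z (blockCoeff B) (blockCoeff B) (fun c => blockCoeff_conj B z c)]
  exact h.2.2 ξ0 hξ0

theorem isNormalSubpair_conj [Fintype G] (Q P : Subgroup G) (z : G)
    (f : Set (IrrCharacter (Subgroup.centralizer (Q : Set G))))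
    (e : Set (IrrCharacter (Subgroup.centralizer (P : Set G)))) (h : IsNormalSubpair p M Q f P e) :
    IsNormalSubpair p M (Q.map (MulAut.conj z).toMonoidHom) (conjBlock Q z f)
      (P.map (MulAut.conj z).toMonoidHom) (conjBlock P z e) := by
  obtain ⟨hQf, hPe, hQP, hPN, hst, hbr⟩ := h
  have hN : P.map (MulAut.conj z).toMonoidHom
      ≤ Subgroup.normalizer ((Q.map (MulAut.conj z).toMonoidHom : Subgroup G) : Set G) := by
    rintro _ ⟨v, hv, rfl⟩
    exact conj_mem_normalizer Q z v (hPN hv)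
  refine ⟨isBrauerPair_conj Q z f hQf, isBrauerPair_conj P z e hPe, Subgroup.map_mono hQP, hN, ?_, ?_⟩
  · intro x hx
    refine ⟨normalizer_le_normalizer_centralizer _ (hN hx), ?_⟩
    obtain ⟨v, hv, rfl⟩ := hx
    intro χ hχ
    rw [conjBlock_eq_trSet] at hχ ⊢
    obtain ⟨χ0, hχ0, rfl⟩ := hχ
    obtain ⟨χ1, hχ1, hc⟩ := (hst v hv).2 χ0 hχ0
    refine ⟨trIrr (centConjEquiv Q z) χ1, trIrr_mem _ hχ1, ?_⟩
    intro k k' hk
    rw [trIrr_apply, trIrr_apply]
    apply hc
    show z⁻¹ * (k' : G) * z = v * (z⁻¹ * (k : G) * z) * v⁻¹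
    rw [hk]
    show z⁻¹ * (z * v * z⁻¹ * (k : G) * (z * v * z⁻¹)⁻¹) * z = v * (z⁻¹ * (k : G) * z) * v⁻¹
    group
  · intro ξ hξ
    rw [conjBlock_eq_trSet] at hξ
    obtain ⟨ξ0, hξ0, rfl⟩ := hξ
    rw [brauerOmega_conj P z (subgroupBlockCoeff (Subgroup.centralizer (Q : Set G)) f) _
      (fun c => subgroupBlockCoeff_conjBlock Q z f c)]
    exact hbr ξ0 hξ0

theorem subpairLE_conj [Fintype G] (z : G) (a b : BrauerPairIdx G)
    (h : Relation.ReflTransGen (NormalSubpairRel p M) a b) :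
    Relation.ReflTransGen (NormalSubpairRel p M) (conjPair z a) (conjPair z b) := by
  induction h with
  | refl => exact Relation.ReflTransGen.refl
  | tail _ hbc ih => exact ih.tail (isNormalSubpair_conj _ _ z _ _ hbc)

theorem pair_eq_of [Finite G] (hM : IsPModular p M) (a b : BrauerPairIdx G) (h1 : a.1 = b.1)
    (ha : IsPBlock M a.2) (hb : IsPBlock M b.2)
    (h : ∃ ξ ∈ a.2, ∃ ξ' ∈ b.2, ∀ (c : Subgroup.centralizer (a.1 : Set G)) (c' : Subgroup.centralizer (b.1 : Set G)),
      (c : G) = c' → (ξ : _ → ℂ) c = (ξ' : _ → ℂ) c') : a = b := by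
  obtain ⟨Q, f⟩ := a
  obtain ⟨P, e⟩ := b
  simp only at h1
  subst h1
  simp only at ha hb h
  obtain ⟨ξ, hξ, ξ', hξ', hc⟩ := h
  have : ξ = ξ' := by
    apply Subtype.ext; funext c; exact hc c c rfl
  subst this
  have : f = e := by rw [IsPBlock.eq_blockOf hM ha hξ, IsPBlock.eq_blockOf hM hb hξ']
  rw [this]

theorem exists_maximal_above [Fintype G] (hM : IsPModular p M) (B : Set (IrrCharacter G)) :
    ∀ (n : ℕ) (a : BrauerPairIdx G), Nat.card G - Nat.card a.1 = n → IsBrauerPairOf p M B a.1 a.2 →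
      ∃ b : BrauerPairIdx G, IsMaximalBrauerPair p M B b.1 b.2 ∧ Relation.ReflTransGen (NormalSubpairRel p M) a b := by
  intro n
  induction n using Nat.strong_induction_on with
  | _ n ih =>
    intro a hn ha
    by_cases hmax : IsMaximalBrauerPair p M B a.1 a.2
    · exact ⟨a, hmax, Relation.ReflTransGen.refl⟩
    · unfold IsMaximalBrauerPair at hmax
      push_neg at hmax
      obtain ⟨R, g, hRg, hle, hne⟩ := hmax ha
      have hle' : Relation.ReflTransGen (NormalSubpairRel p M) a ⟨R, g⟩ := hle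
      have h1 : a.1 ≤ R := (subpairLE_le _ _ hle').1
      have hc1 : Nat.card a.1 < Nat.card R := card_lt_of_lt h1 (fun h => hne h.symm)
      have hc2 : Nat.card R ≤ Nat.card G := Subgroup.card_le_card_group R
      obtain ⟨b, hb, hab⟩ := ih (Nat.card G - Nat.card R) (by omega) ⟨R, g⟩ rfl hRg
      exact ⟨b, hb, hle'.trans hab⟩

theorem pairs_at_defect_conj [Fintype G] [Fact p.Prime] (hM : IsPModular p M) (B : Set (IrrCharacter G))
    (P : Subgroup G) (hP : IsDefectGroup p M B P)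
    (e e' : Set (IrrCharacter (Subgroup.centralizer (P : Set G)))) (he : IsBrauerPairOf p M B P e)
    (he' : IsBrauerPairOf p M B P e') :
    ∃ k ∈ Subgroup.normalizer (P : Set G), ∃ θ0 ∈ e, ∃ θ2 ∈ e', ∀ (c c' : Subgroup.centralizer (P : Set G)),
      (c' : G) = k * c * k⁻¹ → (θ2 : _ → ℂ) c = (θ0 : _ → ℂ) c' := by
  classical
  haveI := Fintype.ofFinite (Subgroup.centralizer (P : Set G))
  haveI := Fintype.ofFinite (Subgroup.normalizer (P : Set G))
  haveI := Fintype.ofFinite ((Subgroup.centralizer (P : Set G)).subgroupOf (Subgroup.normalizer (P : Set G)))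
  haveI := Fintype.ofFinite (IrrCharacter (Subgroup.normalizer (P : Set G)))
  have hPp := he.1.1
  have hCK := centralizer_le_normalizer' P
  have hPK : P ≤ Subgroup.normalizer (P : Set G) := Subgroup.le_normalizer
  haveI hCn := cent_normal P
  have hPn : (P.subgroupOf (Subgroup.normalizer (P : Set G))).Normal := Subgroup.normal_in_normalizer
  have hi1 := (isBrauerPairOf_iff_induced hM P hPp e he.1.2 B).mp he
  have hi2 := (isBrauerPairOf_iff_induced hM P hPp e' he'.1.2 B).mp he'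
  obtain ⟨θ1, hθ1⟩ := IsPBlock.nonempty hM he.1.2
  obtain ⟨θ2, hθ2⟩ := IsPBlock.nonempty hM he'.1.2
  obtain ⟨ζ1, hζ1, hI1⟩ := exists_cover_normalizer hM P hPp e he.1.2 B hi1 θ1 hθ1
  obtain ⟨ζ2, hζ2, hI2⟩ := exists_cover_normalizer hM P hPp e' he'.1.2 B hi2 θ2 hθ2
  have hD1 := defect_eq_of_normal_of_induced hM _ _ B hI1 P hP hPK hPn
  have heq := fmt_B_unique hM P hPp B _ _ hD1 hI1 hI2
  have hsame : SameBlock M (ζ1 : Subgroup.normalizer (P : Set G) → ℂ) (ζ2 : Subgroup.normalizer (P : Set G) → ℂ) := by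
    have : ζ2 ∈ blockOf M (ζ2 : Subgroup.normalizer (P : Set G) → ℂ) := SameBlock.refl hM _
    rw [← heq] at this
    exact this
  obtain ⟨k, θ'', hθ'', hc⟩ := block_constituents_conj hM
    ((Subgroup.centralizer (P : Set G)).subgroupOf (Subgroup.normalizer (P : Set G)))
    (trSet (Subgroup.subgroupOfEquivOfLe hCK) e) (isPBlock_trSet _ he.1.2)
    ζ1 ζ2 ⟨trIrr (Subgroup.subgroupOfEquivOfLe hCK) θ1, trIrr_mem _ hθ1, by rw [classInner_resN_tr]; exact hζ1⟩ hsame
    (trIrr (Subgroup.subgroupOfEquivOfLe hCK) θ2) (by rw [classInner_resN_tr]; exact hζ2)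
  obtain ⟨θ0, hθ0, rfl⟩ := hθ''
  refine ⟨k, k.2, θ0, hθ0, θ2, hθ2, ?_⟩
  intro c c' hcc
  have h4 := congrFun hc ((Subgroup.subgroupOfEquivOfLe hCK).symm c)
  rw [trIrr_apply, MulEquiv.apply_symm_apply, conjFun_apply, trIrr_apply] at h4
  rw [h4]
  have h5 : (Subgroup.subgroupOfEquivOfLe hCK) ⟨k * ((Subgroup.subgroupOfEquivOfLe hCK).symm c :
      (Subgroup.centralizer (P : Set G)).subgroupOf (Subgroup.normalizer (P : Set G))) * k⁻¹,
        hCn.conj_mem _ ((Subgroup.subgroupOfEquivOfLe hCK).symm c).2 k⟩ = c' := by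
    apply Subtype.ext
    rw [hcc]
    rfl
  rw [h5]

theorem pair_conj_into_maximal [Fintype G] [Fact p.Prime] (hM : IsPModular p M) (B : Set (IrrCharacter G))
    (P Q : Subgroup G) (e : Set (IrrCharacter (Subgroup.centralizer (P : Set G))))
    (f : Set (IrrCharacter (Subgroup.centralizer (Q : Set G)))) (hmax : IsMaximalBrauerPair p M B P e)
    (hQf : IsBrauerPairOf p M B Q f) :
    ∃ x : G, SubpairLE p M (Q.map (MulAut.conj x).toMonoidHom) (conjBlock Q x f) P e := by
  have hB := hQf.2.1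
  obtain ⟨⟨R, g⟩, hRmax, hle⟩ := exists_maximal_above hM B _ ⟨Q, f⟩ rfl hQf
  simp only at hRmax
  have hRD := maximal_pair_defect hM B R g hRmax
  have hPD := maximal_pair_defect hM B P e hmax
  obtain ⟨t, ht⟩ := defectGroup_conj hM B hB R P hRD hPD
  subst ht
  have h1 := isBrauerPairOf_conj B R t g hRmax.1
  obtain ⟨k, hk, θ0, hθ0, θ2, hθ2, hc⟩ := pairs_at_defect_conj hM B _ hPD e (conjBlock R t g) hmax.1 h1
  refine ⟨k * t, ?_⟩
  have h2 := subpairLE_conj (k * t) _ _ hle
  have h3 : conjPair (k * t) ⟨R, g⟩ = ⟨R.map (MulAut.conj t).toMonoidHom, e⟩ := by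
    apply pair_eq_of hM
    · show R.map (MulAut.conj (k * t)).toMonoidHom = R.map (MulAut.conj t).toMonoidHom
      ext h
      rw [mem_map_conj_iff]
      have h4 := Subgroup.mem_normalizer_iff.mp hk (k⁻¹ * h * k)
      rw [mem_map_conj_iff] at h4
      have e1 : k * (k⁻¹ * h * k) * k⁻¹ = h := by group
      have e2 : t⁻¹ * (k⁻¹ * h * k) * t = (k * t)⁻¹ * h * (k * t) := by group
      rw [e1, e2] at h4
      exact h4
    · exact (isBrauerPair_conj R (k * t) g hRmax.1.1).2
    · exact hmax.1.1.2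
    · rw [conjBlock_eq_trSet] at hθ2
      obtain ⟨ξ0, hξ0, rfl⟩ := hθ2
      refine ⟨trIrr (centConjEquiv R (k * t)) ξ0, ?_, θ0, hθ0, ?_⟩
      · show _ ∈ conjBlock R (k * t) g
        rw [conjBlock_eq_trSet]; exact trIrr_mem _ hξ0
      · intro c c' hcc
        have h5 := hc (conjInvEquiv _ k (normalizer_le_normalizer_centralizer _ hk) c') c' (by
          show (c' : G) = k * (k⁻¹ * (c' : G) * k) * k⁻¹
          group)
        rw [← h5]
        have h6 : centConjEquiv R (k * t) c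
            = centConjEquiv R t (conjInvEquiv _ k (normalizer_le_normalizer_centralizer _ hk) c') := by
          apply Subtype.ext
          show (k * t)⁻¹ * (c : G) * (k * t) = t⁻¹ * (k⁻¹ * (c' : G) * k) * t
          rw [hcc]; group
        show (ξ0 : _ → ℂ) (centConjEquiv R (k * t) c)
          = (ξ0 : _ → ℂ) (centConjEquiv R t (conjInvEquiv _ k (normalizer_le_normalizer_centralizer _ hk) c'))
        rw [h6]
  rw [h3] at h2
  exact h2

end BrauerX
end Cfsg.Agent.H4
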