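import Cfsg.Agent.Lib_helper4_BlkBA

set_option autoImplicit false
set_option linter.style.haveILetI false
set_option linter.unusedSectionVars false
namespace Cfsg.Agent.H4
open Module
open scoped ComplexConjugate
universe u v w

section BrauerY
variable {p : ℕ} {M : Ideal AlgInt} {G : Type u} [Group G]

theorem mem_sup_centralizing (Q R : Subgroup G) (hR : R ≤ Subgroup.centralizer (Q : Set G)) (x : G)
    (hx : x ∈ Q ⊔ R) : ∃ q ∈ Q, ∃ r ∈ R, x = q * r := by
  have hcomm : ∀ q ∈ Q, ∀ r ∈ R, q * r = r * q := fun q hq r hr => (Subgroup.mem_centralizer_iff.mp (hR hr)) q hq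
  let T : Subgroup G :=
    { carrier := {x | ∃ q ∈ Q, ∃ r ∈ R, x = q * r}
      mul_mem' := by
        rintro _ _ ⟨q, hq, r, hr, rfl⟩ ⟨q', hq', r', hr', rfl⟩
        refine ⟨q * q', Q.mul_mem hq hq', r * r', R.mul_mem hr hr', ?_⟩
        calc q * r * (q' * r') = q * (r * q') * r' := by group
          _ = q * (q' * r) * r' := by rw [hcomm q' hq' r hr]
          _ = q * q' * (r * r') := by group
      one_mem' := ⟨1, Q.one_mem, 1, R.one_mem, by simp⟩
      inv_mem' := by
        rintro _ ⟨q, hq, r, hr, rfl⟩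
        refine ⟨q⁻¹, Q.inv_mem hq, r⁻¹, R.inv_mem hr, ?_⟩
        rw [mul_inv_rev]
        exact (hcomm q⁻¹ (Q.inv_mem hq) r⁻¹ (R.inv_mem hr)).symm }
  have h1 : Q ⊔ R ≤ T := sup_le (fun q hq => ⟨q, hq, 1, R.one_mem, by simp⟩) (fun r hr => ⟨1, Q.one_mem, r, hr, by simp⟩)
  exact h1 hx

/-- the centralizer in `L` of `R' ≤ L` as a centralizer in `G` -/
def centSubEquiv (L S : Subgroup G) (R' : Subgroup L) (h2 : Subgroup.centralizer (S : Set G) ≤ L)
    (h1 : ∀ c : L, c ∈ Subgroup.centralizer (R' : Set L) ↔ (c : G) ∈ Subgroup.centralizer (S : Set G)) :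
    Subgroup.centralizer (R' : Set L) ≃* Subgroup.centralizer (S : Set G) where
  toFun c := ⟨((c : L) : G), (h1 c).mp c.2⟩
  invFun d := ⟨⟨d, h2 d.2⟩, (h1 _).mpr d.2⟩
  left_inv _ := rfl
  right_inv _ := rfl
  map_mul' _ _ := rfl

theorem dict_h2 (Q S : Subgroup G) (hQS : Q ≤ S) :
    Subgroup.centralizer (S : Set G) ≤ Subgroup.centralizer (Q : Set G) := Subgroup.centralizer_le hQS

theorem dict_h1 (Q S : Subgroup G) (R' : Subgroup (Subgroup.centralizer (Q : Set G)))
    (hS : S = Q ⊔ R'.map (Subgroup.centralizer (Q : Set G)).subtype) :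
    ∀ c : Subgroup.centralizer (Q : Set G),
      c ∈ Subgroup.centralizer (R' : Set (Subgroup.centralizer (Q : Set G))) ↔
        (c : G) ∈ Subgroup.centralizer (S : Set G) := by
  intro c
  constructor
  · intro hc
    rw [Subgroup.mem_centralizer_iff]
    intro s hs
    have hs' : s ∈ Q ⊔ R'.map (Subgroup.centralizer (Q : Set G)).subtype := hS ▸ hs
    obtain ⟨q, hq, r, hr, rfl⟩ := mem_sup_centralizing Q _ (Subgroup.map_subtype_le R') s hs'
    obtain ⟨r', hr', rfl⟩ := hr
    have h1 : q * (c : G) = c * q := (Subgroup.mem_centralizer_iff.mp c.2) q hq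
    have h2 : (r' : G) * (c : G) = c * r' := congrArg Subtype.val ((Subgroup.mem_centralizer_iff.mp hc) r' hr')
    show q * (r' : G) * (c : G) = c * (q * (r' : G))
    calc q * (r' : G) * (c : G) = q * ((r' : G) * c) := by group
      _ = q * (c * r') := by rw [h2]
      _ = (q * c) * r' := by group
      _ = c * (q * (r' : G)) := by rw [h1]; group
  · intro hc
    rw [Subgroup.mem_centralizer_iff]
    intro r' hr'
    apply Subtype.ext
    have : (r' : G) ∈ S := by
      rw [hS]; exact (le_sup_right : _ ≤ Q ⊔ _) ⟨r', hr', rfl⟩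
    exact (Subgroup.mem_centralizer_iff.mp hc) r' this

theorem stabilizes_of_mul (Q : Subgroup G) (f : Set (IrrCharacter (Subgroup.centralizer (Q : Set G)))) (q l : G)
    (hq : q ∈ Q) (hl : l ∈ Subgroup.centralizer (Q : Set G)) :
    StabilizesBlock (Subgroup.centralizer (Q : Set G)) f (q * l) := by
  refine ⟨Subgroup.mul_mem _ (normalizer_le_normalizer_centralizer Q (Subgroup.le_normalizer hq))
    (Subgroup.le_normalizer hl), ?_⟩
  intro χ hχ
  refine ⟨χ, hχ, ?_⟩
  intro k k' hk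
  have h1 : (k' : G) = l * k * l⁻¹ := by
    have h2 : q * (l * (k : G) * l⁻¹) = (l * (k : G) * l⁻¹) * q :=
      (Subgroup.mem_centralizer_iff.mp (Subgroup.mul_mem _ (Subgroup.mul_mem _ hl k.2) (Subgroup.inv_mem _ hl))) q hq
    rw [hk]
    calc q * l * (k : G) * (q * l)⁻¹ = (q * (l * (k : G) * l⁻¹)) * q⁻¹ := by group
      _ = l * k * l⁻¹ := by rw [h2]; group
  have h3 : k' = ⟨l, hl⟩ * k * ⟨l, hl⟩⁻¹ := Subtype.ext h1
  rw [h3]
  exact IrrCharacter.isClassFunction χ k ⟨l, hl⟩

theorem subgroupBlockCoeff_mem (L : Subgroup G) (f : Set (IrrCharacter L)) (g : G) (hg : g ∈ L) :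
    subgroupBlockCoeff L f g = blockCoeff f ⟨g, hg⟩ := by
  unfold subgroupBlockCoeff
  rw [dif_pos hg]

theorem brauerOmega_dict [Fintype G] (Q S : Subgroup G) (R' : Subgroup (Subgroup.centralizer (Q : Set G)))
    (h2 : Subgroup.centralizer (S : Set G) ≤ Subgroup.centralizer (Q : Set G))
    (h1 : ∀ c : Subgroup.centralizer (Q : Set G),
      c ∈ Subgroup.centralizer (R' : Set (Subgroup.centralizer (Q : Set G))) ↔
        (c : G) ∈ Subgroup.centralizer (S : Set G))
    (f : Set (IrrCharacter (Subgroup.centralizer (Q : Set G))))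
    (ξ : IrrCharacter (Subgroup.centralizer (S : Set G))) :
    brauerOmega R' (blockCoeff f) (trIrr (centSubEquiv _ S R' h2 h1) ξ : _ → ℂ)
      = brauerOmega S (subgroupBlockCoeff (Subgroup.centralizer (Q : Set G)) f)
          (ξ : Subgroup.centralizer (S : Set G) → ℂ) := by
  classical
  haveI := Fintype.ofFinite (Subgroup.centralizer (S : Set G))
  haveI := Fintype.ofFinite (Subgroup.centralizer (R' : Set (Subgroup.centralizer (Q : Set G))))
  rw [brauerOmega_eq_spec, brauerOmega_eq_spec]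
  unfold spec
  rw [trIrr_apply, map_one]
  congr 1
  rw [← Equiv.sum_comp (centSubEquiv _ S R' h2 h1).toEquiv]
  apply Finset.sum_congr rfl; intro c _
  rw [trIrr_apply]
  congr 1
  exact (subgroupBlockCoeff_mem _ f _ (c : Subgroup.centralizer (Q : Set G)).2).symm

theorem pair_dict [Fintype G] (Q S : Subgroup G) (R' : Subgroup (Subgroup.centralizer (Q : Set G)))
    (hS : S = Q ⊔ R'.map (Subgroup.centralizer (Q : Set G)).subtype) (hQS : Q ≤ S) (hSp : IsPGroup p S)
    (f : Set (IrrCharacter (Subgroup.centralizer (Q : Set G)))) (hf : IsPBlock M f)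
    (g : Set (IrrCharacter (Subgroup.centralizer (S : Set G)))) (hg : IsPBlock M g) :
    IsBrauerPairOf p M f R' (trSet (centSubEquiv _ S R' (dict_h2 Q S hQS) (dict_h1 Q S R' hS)) g)
      ↔ IsNormalSubpair p M Q f S g := by
  have hdec : ∀ x ∈ S, ∃ q ∈ Q, ∃ r ∈ Subgroup.centralizer (Q : Set G), x = q * r := by
    intro x hx
    have hx' : x ∈ Q ⊔ R'.map (Subgroup.centralizer (Q : Set G)).subtype := hS ▸ hx
    obtain ⟨q, hq, r, hr, h⟩ := mem_sup_centralizing Q _ (Subgroup.map_subtype_le R') x hx'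
    exact ⟨q, hq, r, Subgroup.map_subtype_le R' hr, h⟩
  have hR'p : IsPGroup p R' := by
    have h1 : R'.map (Subgroup.centralizer (Q : Set G)).subtype ≤ S := by rw [hS]; exact le_sup_right
    exact (hSp.to_le h1).of_equiv (Subgroup.equivMapOfInjective _ _ (Subgroup.subtype_injective _)).symm
  constructor
  · rintro ⟨-, -, h⟩
    refine ⟨⟨hSp.to_le hQS, hf⟩, ⟨hSp, hg⟩, hQS, ?_, ?_, ?_⟩
    · intro x hx
      obtain ⟨q, hq, r, hr, rfl⟩ := hdec x hx
      exact Subgroup.mul_mem _ (Subgroup.le_normalizer hq) (centralizer_le_normalizer' Q hr)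
    · intro x hx
      obtain ⟨q, hq, r, hr, rfl⟩ := hdec x hx
      exact stabilizes_of_mul Q f q r hq hr
    · intro ξ hξ
      rw [← brauerOmega_dict Q S R' (dict_h2 Q S hQS) (dict_h1 Q S R' hS)]
      exact h _ (trIrr_mem _ hξ)
  · rintro ⟨-, -, -, -, -, h⟩
    refine ⟨⟨hR'p, isPBlock_trSet _ hg⟩, hf, ?_⟩
    rintro _ ⟨ξ, hξ, rfl⟩
    rw [brauerOmega_dict Q S R' (dict_h2 Q S hQS) (dict_h1 Q S R' hS)]
    exact h ξ hξ

theorem cent_pair_max [Fintype G] [Fact p.Prime] (hM : IsPModular p M) (P Q : Subgroup G)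
    (e : Set (IrrCharacter (Subgroup.centralizer (P : Set G))))
    (f : Set (IrrCharacter (Subgroup.centralizer (Q : Set G)))) (hPe : IsBrauerPair p M P e) (hQP : Q ≤ P)
    (hf : IsPBlock M f) (hle : SubpairLE p M Q f P e) :
    ∃ (D : Subgroup (Subgroup.centralizer (Q : Set G)))
      (g' : Set (IrrCharacter (Subgroup.centralizer (D : Set (Subgroup.centralizer (Q : Set G)))))),
      IsMaximalBrauerPair p M f D g' ∧
        (P ⊓ Subgroup.centralizer (Q : Set G)).subgroupOf (Subgroup.centralizer (Q : Set G)) ≤ D := by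
  classical
  haveI := Fintype.ofFinite (Subgroup.centralizer (Q : Set G))
  have hSP : Q ⊔ ((P ⊓ Subgroup.centralizer (Q : Set G)).subgroupOf (Subgroup.centralizer (Q : Set G))).map
      (Subgroup.centralizer (Q : Set G)).subtype ≤ P := by
    apply sup_le hQP
    rw [Subgroup.subgroupOf_map_subtype]
    exact inf_le_left.trans inf_le_left
  have hQS : Q ≤ Q ⊔ ((P ⊓ Subgroup.centralizer (Q : Set G)).subgroupOf (Subgroup.centralizer (Q : Set G))).map
      (Subgroup.centralizer (Q : Set G)).subtype := le_sup_left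
  have hSp := hPe.1.to_le hSP
  obtain ⟨eS, heS, hSle⟩ := subpair_exists hM P e hPe _ _ hSP rfl
  have hSN : Q ⊔ ((P ⊓ Subgroup.centralizer (Q : Set G)).subgroupOf (Subgroup.centralizer (Q : Set G))).map
      (Subgroup.centralizer (Q : Set G)).subtype ≤ Subgroup.normalizer (Q : Set G) :=
    sup_le Subgroup.le_normalizer ((Subgroup.map_subtype_le _).trans (centralizer_le_normalizer' Q))
  obtain ⟨f1, hf1⟩ := normalSubpair_exists hM Q _ eS ⟨hSp, heS⟩ hQS hSN
  have hff : f1 = f := subpair_unique hM P e hPe _ Q f1 f rfl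
    (Relation.ReflTransGen.head (show NormalSubpairRel p M ⟨Q, f1⟩ ⟨_, eS⟩ from hf1) hSle) hle
  subst hff
  have h3 := (pair_dict Q _ _ rfl hQS hSp f1 hf eS heS).mpr hf1
  obtain ⟨⟨D, g'⟩, hmax, hle'⟩ := exists_maximal_above hM f1 _ ⟨_, _⟩ rfl h3
  exact ⟨D, g', hmax, (subpairLE_le _ _ hle').1⟩

theorem cent_defect_conj [Fintype G] [Fact p.Prime] (hM : IsPModular p M) (B : Set (IrrCharacter G))
    (P Q : Subgroup G) (e : Set (IrrCharacter (Subgroup.centralizer (P : Set G))))
    (f : Set (IrrCharacter (Subgroup.centralizer (Q : Set G)))) (hmax : IsMaximalBrauerPair p M B P e)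
    (hQP : Q ≤ P) (hf : IsPBlock M f) (hle : SubpairLE p M Q f P e) :
    ∃ x : G, SubpairLE p M (Q.map (MulAut.conj x).toMonoidHom) (conjBlock Q x f) P e ∧
      IsDefectGroup p M (conjBlock Q x f)
        ((P ⊓ Subgroup.centralizer ((Q.map (MulAut.conj x).toMonoidHom) : Set G)).subgroupOf
          (Subgroup.centralizer ((Q.map (MulAut.conj x).toMonoidHom) : Set G))) := by
  classical
  haveI := Fintype.ofFinite (Subgroup.centralizer (Q : Set G))
  have hPe := hmax.1.1
  have hB := hmax.1.2.1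
  obtain ⟨D, g', hDmax, -⟩ := cent_pair_max hM P Q e f hPe hQP hf hle
  have hDdef := maximal_pair_defect hM f D g' hDmax
  have hQS : Q ≤ Q ⊔ D.map (Subgroup.centralizer (Q : Set G)).subtype := le_sup_left
  have hSp : IsPGroup p (Q ⊔ D.map (Subgroup.centralizer (Q : Set G)).subtype : Subgroup G) :=
    IsPGroup.to_sup_of_normal_left' (hPe.1.to_le hQP) (hDmax.1.1.1.map _)
      ((Subgroup.map_subtype_le _).trans (centralizer_le_normalizer' Q))
  have hgg := trSet_symm' (centSubEquiv _ _ D (dict_h2 Q _ hQS) (dict_h1 Q _ D rfl)) g'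
  have hg : IsPBlock M (trSet (centSubEquiv _ _ D (dict_h2 Q _ hQS) (dict_h1 Q _ D rfl)).symm g') :=
    isPBlock_trSet _ hDmax.1.1.2
  have hn := (pair_dict Q _ D rfl hQS hSp f hf _ hg).mp (by rw [hgg]; exact hDmax.1)
  have hQB : IsBrauerPairOf p M B Q f := (brauerPairOf_subpairLE hM B hB ⟨Q, f⟩ ⟨P, e⟩ hle).mp hmax.1
  have hSB := (brauerPairOf_normal_step hM Q _ f _ hn B hB).mpr hQB
  obtain ⟨x, hx⟩ := pair_conj_into_maximal hM B P _ e _ hmax hSB
  have hn' := isNormalSubpair_conj Q _ x f _ hn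
  have hle' : SubpairLE p M (Q.map (MulAut.conj x).toMonoidHom) (conjBlock Q x f) P e :=
    Relation.ReflTransGen.head (show NormalSubpairRel p M ⟨_, _⟩ ⟨_, _⟩ from hn') hx
  refine ⟨x, hle', ?_⟩
  have hxQP : Q.map (MulAut.conj x).toMonoidHom ≤ P := (subpairLE_le _ _ hle').1
  have hf' : IsPBlock M (conjBlock Q x f) := (isBrauerPair_conj Q x f ⟨hPe.1.to_le hQP, hf⟩).2
  obtain ⟨D2, g2, hD2max, hD2le⟩ := cent_pair_max hM P _ e (conjBlock Q x f) hPe hxQP hf' hle'
  haveI := Fintype.ofFinite (Subgroup.centralizer ((Q.map (MulAut.conj x).toMonoidHom : Subgroup G) : Set G))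
  have hD2def := maximal_pair_defect hM _ D2 g2 hD2max
  have hc1 := defect_group_card hM f hf D hDdef
  have hc2 := defect_group_card hM _ hf' D2 hD2def
  rw [conjBlock_eq_trSet, blockDefect_trSet, ← hc1] at hc2
  have hsub : (D.map (Subgroup.centralizer (Q : Set G)).subtype).map (MulAut.conj x).toMonoidHom
      ≤ P ⊓ Subgroup.centralizer ((Q.map (MulAut.conj x).toMonoidHom : Subgroup G) : Set G) := by
    apply le_inf
    · exact (Subgroup.map_mono le_sup_right).trans (subpairLE_le _ _ hx).1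
    · rintro _ ⟨_, ⟨d, -, rfl⟩, rfl⟩
      exact ((centConjEquiv Q x).symm d).2
  have heq : (P ⊓ Subgroup.centralizer ((Q.map (MulAut.conj x).toMonoidHom) : Set G)).subgroupOf
          (Subgroup.centralizer ((Q.map (MulAut.conj x).toMonoidHom) : Set G)) = D2 := by
    apply Subgroup.eq_of_le_of_card_ge hD2le
    rw [hc2, Nat.card_congr (Subgroup.subgroupOfEquivOfLe (inf_le_right : P ⊓ Subgroup.centralizer
      ((Q.map (MulAut.conj x).toMonoidHom : Subgroup G) : Set G) ≤ _)).toEquiv]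
    refine le_trans (le_of_eq ?_) (Subgroup.card_le_of_le hsub)
    rw [Nat.card_congr (Subgroup.equivMapOfInjective _ _ (MulAut.conj x).injective).symm.toEquiv,
      Nat.card_congr (Subgroup.equivMapOfInjective _ _ (Subgroup.subtype_injective _)).symm.toEquiv]
  rw [heq]; exact hD2def

end BrauerY
end Cfsg.Agent.H4
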