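import Cfsg.Agent.Lib_helper4_BlkBB

set_option autoImplicit false
set_option linter.style.haveILetI false
set_option linter.unusedSectionVars false
namespace Cfsg.Agent.H4
open Module
open scoped ComplexConjugate
universe u v w

section BrauerZ
variable {p : ℕ} {M : Ideal AlgInt} {G : Type u} [Group G]

theorem card_subgroupOf_inf (A L : Subgroup G) :
    Nat.card ((A ⊓ L).subgroupOf L) = Nat.card (A ⊓ L : Subgroup G) :=
  Nat.card_congr (Subgroup.subgroupOfEquivOfLe (inf_le_right : A ⊓ L ≤ L)).toEquiv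

theorem cent_card [Fintype G] [Fact p.Prime] (hM : IsPModular p M) (P Q : Subgroup G)
    (e : Set (IrrCharacter (Subgroup.centralizer (P : Set G))))
    (f : Set (IrrCharacter (Subgroup.centralizer (Q : Set G)))) (hPe : IsBrauerPair p M P e) (hQP : Q ≤ P)
    (hf : IsPBlock M f) (hle : SubpairLE p M Q f P e) :
    Nat.card (P ⊓ Subgroup.centralizer (Q : Set G) : Subgroup G) ≤ p ^ blockDefect p f ∧
    ∀ A : Subgroup G, A ≤ P → (Nat.card (A ⊓ Subgroup.centralizer (Q : Set G) : Subgroup G) = p ^ blockDefect p f ↔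
      IsDefectGroup p M f
        ((A ⊓ Subgroup.centralizer (Q : Set G)).subgroupOf (Subgroup.centralizer (Q : Set G)))) := by
  haveI := Fintype.ofFinite (Subgroup.centralizer (Q : Set G))
  obtain ⟨D, g', hDmax, hD⟩ := cent_pair_max hM P Q e f hPe hQP hf hle
  have hDdef := maximal_pair_defect hM f D g' hDmax
  have hc := defect_group_card hM f hf D hDdef
  constructor
  · rw [← hc, ← card_subgroupOf_inf]
    exact Subgroup.card_le_of_le hD
  · intro A hA
    constructor
    · intro h
      have hAD : (A ⊓ Subgroup.centralizer (Q : Set G)).subgroupOf (Subgroup.centralizer (Q : Set G)) ≤ D := by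
        refine le_trans ?_ hD
        intro x hx
        rw [Subgroup.mem_subgroupOf] at hx ⊢
        exact ⟨hA hx.1, hx.2⟩
      have : (A ⊓ Subgroup.centralizer (Q : Set G)).subgroupOf (Subgroup.centralizer (Q : Set G)) = D := by
        apply Subgroup.eq_of_le_of_card_ge hAD
        rw [card_subgroupOf_inf, h, hc]
      rw [this]; exact hDdef
    · intro h
      rw [← card_subgroupOf_inf]
      exact defect_group_card hM f hf _ h

theorem fusion_conj_iff [Fintype G] [Fact p.Prime] (hM : IsPModular p M) (B : Set (IrrCharacter G)) (P : Subgroup G)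
    (e : Set (IrrCharacter (Subgroup.centralizer (P : Set G)))) (F : FusionSystem P)
    (hF : IsBlockFusionSystemOn p M B P e F) (Q : Subgroup G)
    (f : Set (IrrCharacter (Subgroup.centralizer (Q : Set G)))) (hQP : Q ≤ P)
    (hle : SubpairLE p M Q f P e) (Q2 : Subgroup G) :
    F.IsConj Q Q2 ↔ ∃ g : G, Q2 = Q.map (MulAut.conj g).toMonoidHom ∧
      SubpairLE p M (Q.map (MulAut.conj g).toMonoidHom) (conjBlock Q g f) P e := by
  have hPe := hF.1.1.1
  constructor
  · rintro ⟨φ, hφ, rfl⟩
    obtain ⟨-, g, hg, -, f', hf', hgf'⟩ := (hF.2 Q φ).mp hφ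
    have : f' = f := subpair_unique hM P e hPe _ Q f' f rfl hf' hle
    subst this
    refine ⟨g, ?_, hgf'⟩
    ext x
    constructor
    · rintro ⟨u, rfl⟩
      exact ⟨u, u.2, by rw [hg]; simp⟩
    · rintro ⟨u, hu, rfl⟩
      exact ⟨⟨u, hu⟩, by rw [hg]; simp⟩
  · rintro ⟨g, rfl, hg⟩
    refine ⟨(MulAut.conj g).toMonoidHom.comp Q.subtype, ?_, ?_⟩
    · rw [hF.2]
      exact ⟨hQP, g, fun u => by simp, (subpairLE_le _ _ hg).1, f, hle, hg⟩
    · ext x
      constructor
      · rintro ⟨u, rfl⟩
        exact ⟨u, u.2, rfl⟩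
      · rintro ⟨u, hu, rfl⟩
        exact ⟨⟨u, hu⟩, rfl⟩

theorem fully_centralized_iff [Fintype G] [Fact p.Prime] (hM : IsPModular p M) (B : Set (IrrCharacter G))
    (P : Subgroup G) (e : Set (IrrCharacter (Subgroup.centralizer (P : Set G))))
    (hmax : IsMaximalBrauerPair p M B P e) (F : FusionSystem P)
    (hF : IsBlockFusionSystemOn p M B P e F) (Q : Subgroup G)
    (f : Set (IrrCharacter (Subgroup.centralizer (Q : Set G)))) (hQP : Q ≤ P) (hf : IsPBlock M f)
    (hle : SubpairLE p M Q f P e) :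
    F.IsFullyCentralized Q ↔ IsDefectGroup p M f
      ((P ⊓ Subgroup.centralizer (Q : Set G)).subgroupOf (Subgroup.centralizer (Q : Set G))) := by
  have hPe := hmax.1.1
  obtain ⟨h1, h2⟩ := cent_card hM P Q e f hPe hQP hf hle
  rw [← h2 P le_rfl]
  constructor
  · rintro ⟨-, h⟩
    obtain ⟨x, hx, hxd⟩ := cent_defect_conj hM B P Q e f hmax hQP hf hle
    have h3 := h _ ((fusion_conj_iff hM B P e F hF Q f hQP hle _).mpr ⟨x, rfl, hx⟩)
    have hf' : IsPBlock M (conjBlock Q x f) := (isBrauerPair_conj Q x f ⟨hPe.1.to_le hQP, hf⟩).2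
    have h4 := defect_group_card hM _ hf' _ hxd
    rw [card_subgroupOf_inf, conjBlock_eq_trSet, blockDefect_trSet] at h4
    unfold FusionSystem.centralizerIn at h3
    rw [h4] at h3
    exact le_antisymm h1 h3
  · intro h
    refine ⟨hQP, ?_⟩
    intro Q2 hQ2
    obtain ⟨g, rfl, hg⟩ := (fusion_conj_iff hM B P e F hF Q f hQP hle _).mp hQ2
    have hf' : IsPBlock M (conjBlock Q g f) := (isBrauerPair_conj Q g f ⟨hPe.1.to_le hQP, hf⟩).2
    have h5 := (cent_card hM P _ e (conjBlock Q g f) hPe (subpairLE_le _ _ hg).1 hf' hg).1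
    rw [conjBlock_eq_trSet, blockDefect_trSet] at h5
    unfold FusionSystem.centralizerIn
    rw [h]; exact h5

theorem mem_centralizer_map_conj_iff (Q : Subgroup G) (z h : G) :
    h ∈ Subgroup.centralizer ((Q.map (MulAut.conj z).toMonoidHom : Subgroup G) : Set G) ↔
      z⁻¹ * h * z ∈ Subgroup.centralizer (Q : Set G) := by
  constructor
  · intro hh
    exact (centConjEquiv Q z ⟨h, hh⟩).2
  · intro hh
    have := ((centConjEquiv Q z).symm ⟨_, hh⟩).2
    have e : (((centConjEquiv Q z).symm ⟨_, hh⟩ : _) : G) = h := by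
      show z * (z⁻¹ * h * z) * z⁻¹ = h
      group
    rwa [e] at this

theorem card_center_conj (Q : Subgroup G) (z : G) :
    Nat.card (Q.map (MulAut.conj z).toMonoidHom ⊓
      Subgroup.centralizer ((Q.map (MulAut.conj z).toMonoidHom : Subgroup G) : Set G) : Subgroup G)
      = Nat.card (Q ⊓ Subgroup.centralizer (Q : Set G) : Subgroup G) := by
  have : (Q ⊓ Subgroup.centralizer (Q : Set G)).map (MulAut.conj z).toMonoidHom
      = Q.map (MulAut.conj z).toMonoidHom ⊓
      Subgroup.centralizer ((Q.map (MulAut.conj z).toMonoidHom : Subgroup G) : Set G) := by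
    ext h
    rw [mem_map_conj_iff, Subgroup.mem_inf, Subgroup.mem_inf, mem_map_conj_iff, mem_centralizer_map_conj_iff]
  rw [← this]
  exact Nat.card_congr (Subgroup.equivMapOfInjective _ _ (MulAut.conj z).injective).symm.toEquiv

theorem centric_iff [Fintype G] [Fact p.Prime] (hM : IsPModular p M) (B : Set (IrrCharacter G))
    (P : Subgroup G) (e : Set (IrrCharacter (Subgroup.centralizer (P : Set G))))
    (hmax : IsMaximalBrauerPair p M B P e) (F : FusionSystem P)
    (hF : IsBlockFusionSystemOn p M B P e F) (Q : Subgroup G)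
    (f : Set (IrrCharacter (Subgroup.centralizer (Q : Set G)))) (hQP : Q ≤ P) (hf : IsPBlock M f)
    (hle : SubpairLE p M Q f P e) :
    F.IsCentric Q ↔ IsDefectGroup p M f
      ((Q ⊓ Subgroup.centralizer (Q : Set G)).subgroupOf (Subgroup.centralizer (Q : Set G))) := by
  have hPe := hmax.1.1
  obtain ⟨h1, h2⟩ := cent_card hM P Q e f hPe hQP hf hle
  rw [← h2 Q hQP]
  constructor
  · rintro ⟨-, h⟩
    obtain ⟨x, hx, hxd⟩ := cent_defect_conj hM B P Q e f hmax hQP hf hle
    have h3 := h _ ((fusion_conj_iff hM B P e F hF Q f hQP hle _).mpr ⟨x, rfl, hx⟩)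
    have hf' : IsPBlock M (conjBlock Q x f) := (isBrauerPair_conj Q x f ⟨hPe.1.to_le hQP, hf⟩).2
    have h4 := defect_group_card hM _ hf' _ hxd
    rw [card_subgroupOf_inf, conjBlock_eq_trSet, blockDefect_trSet] at h4
    unfold FusionSystem.centralizerIn at h3
    have h5 : P ⊓ Subgroup.centralizer ((Q.map (MulAut.conj x).toMonoidHom : Subgroup G) : Set G)
        ≤ Q.map (MulAut.conj x).toMonoidHom ⊓
          Subgroup.centralizer ((Q.map (MulAut.conj x).toMonoidHom : Subgroup G) : Set G) := le_inf h3 inf_le_right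
    have h6 := Subgroup.card_le_of_le h5
    rw [h4, card_center_conj] at h6
    have h7 : Nat.card (Q ⊓ Subgroup.centralizer (Q : Set G) : Subgroup G)
        ≤ Nat.card (P ⊓ Subgroup.centralizer (Q : Set G) : Subgroup G) :=
      Subgroup.card_le_of_le (inf_le_inf_right _ hQP)
    exact le_antisymm (h7.trans h1) h6
  · intro h
    refine ⟨hQP, ?_⟩
    intro Q2 hQ2
    obtain ⟨g, rfl, hg⟩ := (fusion_conj_iff hM B P e F hF Q f hQP hle _).mp hQ2
    have hf' : IsPBlock M (conjBlock Q g f) := (isBrauerPair_conj Q g f ⟨hPe.1.to_le hQP, hf⟩).2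
    have hgP := (subpairLE_le _ _ hg).1
    have h5 := (cent_card hM P _ e (conjBlock Q g f) hPe hgP hf' hg).1
    rw [conjBlock_eq_trSet, blockDefect_trSet, ← h, ← card_center_conj Q g] at h5
    unfold FusionSystem.centralizerIn
    have h6 : Q.map (MulAut.conj g).toMonoidHom ⊓
          Subgroup.centralizer ((Q.map (MulAut.conj g).toMonoidHom : Subgroup G) : Set G)
        ≤ P ⊓ Subgroup.centralizer ((Q.map (MulAut.conj g).toMonoidHom : Subgroup G) : Set G) :=
      inf_le_inf_right _ hgP
    rw [← Subgroup.eq_of_le_of_card_ge h6 h5]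
    exact inf_le_left

end BrauerZ
end Cfsg.Agent.H4
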