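import Cfsg.Agent.Lib_helper4_BlkBC

set_option autoImplicit false
set_option linter.style.haveILetI false
set_option linter.unusedSectionVars false
namespace Cfsg.Agent.H4
open Module
open scoped ComplexConjugate
universe u v w

section BrauerT
variable {p : ℕ} {M : Ideal AlgInt} {G : Type u} [Group G]

theorem cover_eq_cov [Fintype G] (hM : IsPModular p M) (P : Subgroup G) [hPn : P.Normal]
    (hP : IsPGroup p P) (N : Subgroup G) [hN : N.Normal] [Fintype N] (hCN : Subgroup.centralizer (P : Set G) ≤ N)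
    (b : Set (IrrCharacter N)) (hb : IsPBlock M b) (B : Set (IrrCharacter G)) (hB : IsPBlock M B)
    (hcov : ∃ χ ∈ B, ∃ θ ∈ b, classInner (fun n : N => (χ : G → ℂ) n) (θ : N → ℂ) ≠ 0) :
    B = Cov N (orbB hN b) := by
  haveI := Fintype.ofFinite (IrrCharacter G)
  obtain ⟨χ0, hχ0, hc0⟩ := hcov
  ext χ
  rw [mem_cov_orbB_iff]
  constructor
  · intro hχ
    have hs : SameBlock M (χ0 : G → ℂ) (χ : G → ℂ) := by
      rw [IsPBlock.eq_blockOf hM hB hχ0] at hχ
      exact hχ
    exact block_over hM N b hb χ0 χ hc0 hs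
  · intro hχ
    have h1 := induced_of_cover_centralizer hM P hP N hCN b hb B hB ⟨χ0, hχ0, hc0⟩
    have h2 := induced_of_cover_centralizer hM P hP N hCN b hb (blockOf M (χ : G → ℂ)) ⟨χ, rfl⟩
      ⟨χ, SameBlock.refl hM _, hχ⟩
    rw [sameBlock_of_induced hM N b _ _ h1 h2]
    exact SameBlock.refl hM _

theorem stab_facts (Q : Subgroup G) (f : Set (IrrCharacter (Subgroup.centralizer (Q : Set G)))) (T : Subgroup G)
    (hT : ∀ y : G, y ∈ T ↔ y ∈ Subgroup.normalizer (Q : Set G) ∧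
      StabilizesBlock (Subgroup.centralizer (Q : Set G)) f y) :
    Subgroup.centralizer (Q : Set G) ≤ T ∧ Q ≤ T ∧ T ≤ Subgroup.normalizer (Q : Set G) := by
  refine ⟨?_, ?_, fun y hy => ((hT y).mp hy).1⟩
  · intro l hl
    rw [hT]
    refine ⟨centralizer_le_normalizer' Q hl, ?_⟩
    have := stabilizes_of_mul Q f 1 l Q.one_mem hl
    rwa [one_mul] at this
  · intro q hq
    rw [hT]
    refine ⟨Subgroup.le_normalizer hq, ?_⟩
    have := stabilizes_of_mul Q f q 1 hq (Subgroup.one_mem _)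
    rwa [mul_one] at this

theorem stab_block_exists [Fintype G] (hM : IsPModular p M) (Q : Subgroup G) (hQ : IsPGroup p Q)
    (f : Set (IrrCharacter (Subgroup.centralizer (Q : Set G)))) (hf : IsPBlock M f) (T : Subgroup G)
    (hT : ∀ y : G, y ∈ T ↔ y ∈ Subgroup.normalizer (Q : Set G) ∧
      StabilizesBlock (Subgroup.centralizer (Q : Set G)) f y) :
    ∃ F : Set (IrrCharacter T), IsPBlock M F ∧
      ∀ t : T, blockCoeff F t = subgroupBlockCoeff (Subgroup.centralizer (Q : Set G)) f (t : G) := by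
  classical
  obtain ⟨hLT, hQT, hTN⟩ := stab_facts Q f T hT
  haveI := Fintype.ofFinite T
  haveI := Fintype.ofFinite (IrrCharacter T)
  haveI := Fintype.ofFinite ((Subgroup.centralizer (Q : Set G)).subgroupOf T)
  haveI := Fintype.ofFinite (IrrCharacter ((Subgroup.centralizer (Q : Set G)).subgroupOf T))
  haveI hLn : ((Subgroup.centralizer (Q : Set G)).subgroupOf T).Normal :=
    (Subgroup.normal_subgroupOf_iff_le_normalizer hLT).mpr (hTN.trans (normalizer_le_normalizer_centralizer Q))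
  haveI hQn : (Q.subgroupOf T).Normal := (Subgroup.normal_subgroupOf_iff_le_normalizer hQT).mpr hTN
  have hQ' : IsPGroup p (Q.subgroupOf T) := hQ.comap_subtype
  have hCN : Subgroup.centralizer ((Q.subgroupOf T : Subgroup T) : Set T)
      ≤ (Subgroup.centralizer (Q : Set G)).subgroupOf T := by
    intro c hc
    rw [Subgroup.mem_subgroupOf, Subgroup.mem_centralizer_iff]
    intro q hq
    have := (Subgroup.mem_centralizer_iff.mp hc) ⟨q, hQT hq⟩ (by
      show (⟨q, hQT hq⟩ : T) ∈ Q.subgroupOf _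
      rw [Subgroup.mem_subgroupOf]; exact hq)
    exact congrArg Subtype.val this
  obtain ⟨θ, hθ⟩ := IsPBlock.nonempty hM hf
  obtain ⟨ζ, hζ⟩ := exists_over ((Subgroup.centralizer (Q : Set G)).subgroupOf T)
    (trIrr (Subgroup.subgroupOfEquivOfLe hLT) θ)
  have hb := isPBlock_trSet (M := M) (Subgroup.subgroupOfEquivOfLe hLT) hf
  have hcov := cover_eq_cov hM (Q.subgroupOf T) hQ' _ hCN _ hb (blockOf M (ζ : T → ℂ)) ⟨ζ, rfl⟩
    ⟨ζ, SameBlock.refl hM _, _, trIrr_mem _ hθ, hζ⟩
  have horb : orbB hLn (trSet (Subgroup.subgroupOfEquivOfLe hLT) f) = trSet (Subgroup.subgroupOfEquivOfLe hLT) f := by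
    ext ψ
    constructor
    · rintro ⟨t, _, ⟨η, hη, rfl⟩, h⟩
      have hst := ((hT _).mp (T.inv_mem t.2)).2
      refine ⟨_, stab_trIrr _ f _ hst η hη, ?_⟩
      apply Subtype.ext
      rw [h]
      funext n
      rw [conjFun_apply, trIrr_apply, trIrr_apply, trIrr_apply]
      have h5 : (Subgroup.subgroupOfEquivOfLe hLT) ⟨t * (n : T) * t⁻¹, hLn.conj_mem n n.2 t⟩
          = conjInvEquiv (Subgroup.centralizer (Q : Set G)) (t : G)⁻¹ hst.1 ((Subgroup.subgroupOfEquivOfLe hLT) n) := by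
        apply Subtype.ext
        show (t : G) * (n : G) * (t : G)⁻¹ = (t : G)⁻¹⁻¹ * (n : G) * (t : G)⁻¹
        group
      rw [h5]
    · intro hψ
      exact ⟨1, ψ, hψ, (conjFun_one hLn _).symm⟩
  refine ⟨blockOf M (ζ : T → ℂ), ⟨ζ, rfl⟩, ?_⟩
  intro t
  rw [blockCoeff_eq_coef, hcov, coef_cov _ _ (orbB_stable hLn _), horb]
  by_cases ht : (t : G) ∈ Subgroup.centralizer (Q : Set G)
  · have ht' : t ∈ (Subgroup.centralizer (Q : Set G)).subgroupOf T := by
      rw [Subgroup.mem_subgroupOf]; exact ht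
    rw [extendByZero_mem _ _ ht', ← blockCoeff_eq_coef, blockCoeff_trSet, subgroupBlockCoeff_mem _ f _ ht]
    rfl
  · have ht' : t ∉ (Subgroup.centralizer (Q : Set G)).subgroupOf T := by
      rw [Subgroup.mem_subgroupOf]; exact ht
    rw [extendByZero_not_mem _ _ ht']
    unfold subgroupBlockCoeff
    rw [dif_neg ht]

theorem tdict_h1 (T S : Subgroup G) (R' : Subgroup T) (hS : S = R'.map T.subtype) :
    ∀ c : T, c ∈ Subgroup.centralizer (R' : Set T) ↔ (c : G) ∈ Subgroup.centralizer (S : Set G) := by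
  intro c
  subst hS
  constructor
  · intro hc
    rw [Subgroup.mem_centralizer_iff]
    rintro _ ⟨r, hr, rfl⟩
    exact congrArg Subtype.val ((Subgroup.mem_centralizer_iff.mp hc) r hr)
  · intro hc
    rw [Subgroup.mem_centralizer_iff]
    intro r hr
    apply Subtype.ext
    exact (Subgroup.mem_centralizer_iff.mp hc) r ⟨r, hr, rfl⟩

theorem brauerOmega_tdict [Fintype G] (T S : Subgroup G) (R' : Subgroup T)
    (h2 : Subgroup.centralizer (S : Set G) ≤ T)
    (h1 : ∀ c : T, c ∈ Subgroup.centralizer (R' : Set T) ↔ (c : G) ∈ Subgroup.centralizer (S : Set G))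
    (F : Set (IrrCharacter T)) (β : G → ℂ) (hF : ∀ t : T, blockCoeff F t = β t)
    (ξ : IrrCharacter (Subgroup.centralizer (S : Set G))) :
    brauerOmega R' (blockCoeff F) (trIrr (centSubEquiv T S R' h2 h1) ξ : _ → ℂ)
      = brauerOmega S β (ξ : Subgroup.centralizer (S : Set G) → ℂ) := by
  classical
  haveI := Fintype.ofFinite (Subgroup.centralizer (S : Set G))
  haveI := Fintype.ofFinite (Subgroup.centralizer (R' : Set T))
  rw [brauerOmega_eq_spec, brauerOmega_eq_spec]
  unfold spec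
  rw [trIrr_apply, map_one]
  congr 1
  rw [← Equiv.sum_comp (centSubEquiv T S R' h2 h1).toEquiv]
  apply Finset.sum_congr rfl; intro c _
  rw [trIrr_apply]
  congr 1
  exact hF c

theorem pair_tdict [Fintype G] (Q : Subgroup G) (f : Set (IrrCharacter (Subgroup.centralizer (Q : Set G))))
    (hf : IsPBlock M f) (T : Subgroup G)
    (hT : ∀ y : G, y ∈ T ↔ y ∈ Subgroup.normalizer (Q : Set G) ∧
      StabilizesBlock (Subgroup.centralizer (Q : Set G)) f y)
    (F : Set (IrrCharacter T)) (hFb : IsPBlock M F)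
    (hFc : ∀ t : T, blockCoeff F t = subgroupBlockCoeff (Subgroup.centralizer (Q : Set G)) f (t : G))
    (S : Subgroup G) (R' : Subgroup T) (hS : S = R'.map T.subtype) (hQS : Q ≤ S) (hSp : IsPGroup p S)
    (g : Set (IrrCharacter (Subgroup.centralizer (S : Set G)))) (hg : IsPBlock M g) :
    IsBrauerPairOf p M F R' (trSet (centSubEquiv T S R'
      ((Subgroup.centralizer_le hQS).trans (stab_facts Q f T hT).1) (tdict_h1 T S R' hS)) g)
      ↔ IsNormalSubpair p M Q f S g := by
  have hST : S ≤ T := by rw [hS]; exact Subgroup.map_subtype_le _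
  have hR'p : IsPGroup p R' := by
    subst hS
    exact hSp.of_equiv (Subgroup.equivMapOfInjective _ _ (Subgroup.subtype_injective _)).symm
  constructor
  · rintro ⟨-, -, h⟩
    refine ⟨⟨hSp.to_le hQS, hf⟩, ⟨hSp, hg⟩, hQS, fun y hy => ((hT y).mp (hST hy)).1,
      fun y hy => ((hT y).mp (hST hy)).2, ?_⟩
    intro ξ hξ
    rw [← brauerOmega_tdict T S R' ((Subgroup.centralizer_le hQS).trans (stab_facts Q f T hT).1)
      (tdict_h1 T S R' hS) F _ hFc]
    exact h _ (trIrr_mem _ hξ)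
  · rintro ⟨-, -, -, -, -, h⟩
    refine ⟨⟨hR'p, isPBlock_trSet _ hg⟩, hFb, ?_⟩
    rintro _ ⟨ξ, hξ, rfl⟩
    rw [brauerOmega_tdict T S R' ((Subgroup.centralizer_le hQS).trans (stab_facts Q f T hT).1)
      (tdict_h1 T S R' hS) F _ hFc]
    exact h ξ hξ

theorem norm_pair_max [Fintype G] [Fact p.Prime] (hM : IsPModular p M) (P Q : Subgroup G)
    (e : Set (IrrCharacter (Subgroup.centralizer (P : Set G))))
    (f : Set (IrrCharacter (Subgroup.centralizer (Q : Set G)))) (hPe : IsBrauerPair p M P e) (hQP : Q ≤ P)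
    (hf : IsPBlock M f) (hle : SubpairLE p M Q f P e) (T : Subgroup G)
    (hT : ∀ y : G, y ∈ T ↔ y ∈ Subgroup.normalizer (Q : Set G) ∧
      StabilizesBlock (Subgroup.centralizer (Q : Set G)) f y)
    (F : Set (IrrCharacter T)) (hFb : IsPBlock M F)
    (hFc : ∀ t : T, blockCoeff F t = subgroupBlockCoeff (Subgroup.centralizer (Q : Set G)) f (t : G)) :
    ∃ (D : Subgroup T) (g' : Set (IrrCharacter (Subgroup.centralizer (D : Set T)))),
      IsMaximalBrauerPair p M F D g' ∧ (P ⊓ Subgroup.normalizer (Q : Set G)).subgroupOf T ≤ D ∧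
        P ⊓ Subgroup.normalizer (Q : Set G) ≤ T := by
  classical
  haveI := Fintype.ofFinite T
  have hNP : P ⊓ Subgroup.normalizer (Q : Set G) ≤ P := inf_le_left
  have hQN : Q ≤ P ⊓ Subgroup.normalizer (Q : Set G) := le_inf hQP Subgroup.le_normalizer
  have hNp := hPe.1.to_le hNP
  obtain ⟨eN, heN, hNle⟩ := subpair_exists hM P e hPe _ _ hNP rfl
  obtain ⟨f1, hf1⟩ := normalSubpair_exists hM Q _ eN ⟨hNp, heN⟩ hQN inf_le_right
  have hff : f1 = f := subpair_unique hM P e hPe _ Q f1 f rfl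
    (Relation.ReflTransGen.head (show NormalSubpairRel p M ⟨Q, f1⟩ ⟨_, eN⟩ from hf1) hNle) hle
  subst hff
  have hNT : P ⊓ Subgroup.normalizer (Q : Set G) ≤ T := fun y hy => (hT y).mpr ⟨hy.2, hf1.2.2.2.2.1 y hy⟩
  have h3 := (pair_tdict Q f1 hf T hT F hFb hFc _ ((P ⊓ Subgroup.normalizer (Q : Set G)).subgroupOf T)
    (Subgroup.map_subgroupOf_eq_of_le hNT).symm hQN hNp eN heN).mpr hf1
  obtain ⟨⟨D, g'⟩, hmax, hle'⟩ := exists_maximal_above hM F _ ⟨_, _⟩ rfl h3
  exact ⟨D, g', hmax, (subpairLE_le _ _ hle').1, hNT⟩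

theorem pair_card_le [Fintype G] [Fact p.Prime] (hM : IsPModular p M) (B : Set (IrrCharacter G)) (R : Subgroup G)
    (g : Set (IrrCharacter (Subgroup.centralizer (R : Set G)))) (h : IsBrauerPairOf p M B R g) :
    Nat.card R ≤ p ^ blockDefect p B := by
  obtain ⟨⟨D, g'⟩, hmax, hle'⟩ := exists_maximal_above hM B _ ⟨R, g⟩ rfl h
  rw [← defect_group_card hM B h.2.1 D (maximal_pair_defect hM B D g' hmax)]
  exact Subgroup.card_le_of_le (subpairLE_le _ _ hle').1

theorem conjPair_inv [Finite G] (hM : IsPModular p M) (x : G) (a : BrauerPairIdx G) (ha : IsPBlock M a.2) :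
    conjPair x⁻¹ (conjPair x a) = a := by
  obtain ⟨Q, f⟩ := a
  simp only at ha
  have hb1 : IsPBlock M (conjBlock Q x f) := by rw [conjBlock_eq_trSet]; exact isPBlock_trSet _ ha
  apply pair_eq_of hM
  · show (Q.map (MulAut.conj x).toMonoidHom).map (MulAut.conj x⁻¹).toMonoidHom = Q
    ext h
    rw [mem_map_conj_iff, mem_map_conj_iff]
    have : x⁻¹ * (x⁻¹⁻¹ * h * x⁻¹) * x = h := by group
    rw [this]
  · show IsPBlock M (conjBlock _ x⁻¹ (conjBlock Q x f))
    rw [conjBlock_eq_trSet]; exact isPBlock_trSet _ hb1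
  · exact ha
  · obtain ⟨ξ0, hξ0⟩ := IsPBlock.nonempty hM ha
    refine ⟨trIrr (centConjEquiv _ x⁻¹) (trIrr (centConjEquiv Q x) ξ0), ?_, ξ0, hξ0, ?_⟩
    · show _ ∈ conjBlock _ x⁻¹ (conjBlock Q x f)
      rw [conjBlock_eq_trSet, conjBlock_eq_trSet]
      exact trIrr_mem _ (trIrr_mem _ hξ0)
    · intro c c' hcc
      have h6 : centConjEquiv Q x (centConjEquiv _ x⁻¹ c) = c' := by
        apply Subtype.ext
        show x⁻¹ * (x⁻¹⁻¹ * (c : G) * x⁻¹) * x = c'
        rw [hcc]; group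
      show (ξ0 : _ → ℂ) (centConjEquiv Q x (centConjEquiv _ x⁻¹ c)) = _
      rw [h6]

theorem stab_defect_le [Fintype G] [Fact p.Prime] (hM : IsPModular p M) (P Q : Subgroup G)
    (e : Set (IrrCharacter (Subgroup.centralizer (P : Set G))))
    (f : Set (IrrCharacter (Subgroup.centralizer (Q : Set G)))) (hPe : IsBrauerPair p M P e)
    (hf : IsPBlock M f) (T : Subgroup G)
    (hT : ∀ y : G, y ∈ T ↔ y ∈ Subgroup.normalizer (Q : Set G) ∧
      StabilizesBlock (Subgroup.centralizer (Q : Set G)) f y)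
    (F : Set (IrrCharacter T)) (hFb : IsPBlock M F)
    (hFc : ∀ t : T, blockCoeff F t = subgroupBlockCoeff (Subgroup.centralizer (Q : Set G)) f (t : G))
    (x : G) (hle' : SubpairLE p M (Q.map (MulAut.conj x).toMonoidHom) (conjBlock Q x f) P e)
    (T' : Subgroup G)
    (hT' : ∀ y : G, y ∈ T' ↔ y ∈ Subgroup.normalizer ((Q.map (MulAut.conj x).toMonoidHom : Subgroup G) : Set G) ∧
      StabilizesBlock (Subgroup.centralizer ((Q.map (MulAut.conj x).toMonoidHom : Subgroup G) : Set G))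
        (conjBlock Q x f) y)
    (F' : Set (IrrCharacter T')) (hFb' : IsPBlock M F')
    (hFc' : ∀ t : T', blockCoeff F' t = subgroupBlockCoeff
      (Subgroup.centralizer ((Q.map (MulAut.conj x).toMonoidHom : Subgroup G) : Set G)) (conjBlock Q x f) (t : G)) :
    blockDefect p F' ≤ blockDefect p F := by
  classical
  haveI := Fintype.ofFinite T
  haveI := Fintype.ofFinite T'
  have hxQP : Q.map (MulAut.conj x).toMonoidHom ≤ P := (subpairLE_le _ _ hle').1
  have hf' : IsPBlock M (conjBlock Q x f) := by rw [conjBlock_eq_trSet]; exact isPBlock_trSet _ hf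
  obtain ⟨D2, g2, hD2max, hD2le, -⟩ := norm_pair_max hM P _ e _ hPe hxQP hf' hle' T' hT' F' hFb' hFc'
  have hD2def := maximal_pair_defect hM F' D2 g2 hD2max
  have hc2 := defect_group_card hM F' hFb' D2 hD2def
  have hQS2 : Q.map (MulAut.conj x).toMonoidHom ≤ D2.map T'.subtype := by
    intro q hq
    have hqT : q ∈ T' := (stab_facts _ _ T' hT').2.1 hq
    exact ⟨⟨q, hqT⟩, hD2le (by rw [Subgroup.mem_subgroupOf]; exact ⟨hxQP hq, Subgroup.le_normalizer hq⟩), rfl⟩
  have hS2p : IsPGroup p (D2.map T'.subtype) := hD2max.1.1.1.map _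
  have hgg := trSet_symm' (centSubEquiv T' _ D2 ((Subgroup.centralizer_le hQS2).trans (stab_facts _ _ T' hT').1)
    (tdict_h1 T' _ D2 rfl)) g2
  have hg : IsPBlock M (trSet (centSubEquiv T' _ D2 ((Subgroup.centralizer_le hQS2).trans
    (stab_facts _ _ T' hT').1) (tdict_h1 T' _ D2 rfl)).symm g2) := isPBlock_trSet _ hD2max.1.1.2
  have hn := (pair_tdict _ _ hf' T' hT' F' hFb' hFc' _ D2 rfl hQS2 hS2p _ hg).mp (by rw [hgg]; exact hD2max.1)
  have hn2 : NormalSubpairRel p M (conjPair x⁻¹ (conjPair x ⟨Q, f⟩)) (conjPair x⁻¹ ⟨_, _⟩) :=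
    isNormalSubpair_conj _ _ x⁻¹ _ _ hn
  rw [conjPair_inv hM x ⟨Q, f⟩ hf] at hn2
  have hn3 : IsNormalSubpair p M Q f ((D2.map T'.subtype).map (MulAut.conj x⁻¹).toMonoidHom) _ := hn2
  have hS3T : (D2.map T'.subtype).map (MulAut.conj x⁻¹).toMonoidHom ≤ T :=
    fun y hy => (hT y).mpr ⟨hn3.2.2.2.1 hy, hn3.2.2.2.2.1 y hy⟩
  have h4 := (pair_tdict Q f hf T hT F hFb hFc _
    (((D2.map T'.subtype).map (MulAut.conj x⁻¹).toMonoidHom).subgroupOf T)
    (Subgroup.map_subgroupOf_eq_of_le hS3T).symm hn3.2.2.1 hn3.2.1.1 _ hn3.2.1.2).mpr hn3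
  have h5 := pair_card_le hM F _ _ h4
  rw [Nat.card_congr (Subgroup.subgroupOfEquivOfLe hS3T).toEquiv,
    Nat.card_congr (Subgroup.equivMapOfInjective _ _ (MulAut.conj x⁻¹).injective).symm.toEquiv,
    Nat.card_congr (Subgroup.equivMapOfInjective _ _ (Subgroup.subtype_injective _)).symm.toEquiv, hc2] at h5
  exact (Nat.pow_le_pow_iff_right (Fact.out : p.Prime).one_lt).mp h5

theorem norm_defect_conj [Fintype G] [Fact p.Prime] (hM : IsPModular p M) (B : Set (IrrCharacter G))
    (P Q : Subgroup G) (e : Set (IrrCharacter (Subgroup.centralizer (P : Set G))))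
    (f : Set (IrrCharacter (Subgroup.centralizer (Q : Set G)))) (hmax : IsMaximalBrauerPair p M B P e)
    (hQP : Q ≤ P) (hf : IsPBlock M f) (hle : SubpairLE p M Q f P e) (T : Subgroup G)
    (hT : ∀ y : G, y ∈ T ↔ y ∈ Subgroup.normalizer (Q : Set G) ∧
      StabilizesBlock (Subgroup.centralizer (Q : Set G)) f y)
    (F : Set (IrrCharacter T)) (hFb : IsPBlock M F)
    (hFc : ∀ t : T, blockCoeff F t = subgroupBlockCoeff (Subgroup.centralizer (Q : Set G)) f (t : G)) :
    ∃ x : G, SubpairLE p M (Q.map (MulAut.conj x).toMonoidHom) (conjBlock Q x f) P e ∧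
      p ^ blockDefect p F ≤ Nat.card (P ⊓ Subgroup.normalizer
        ((Q.map (MulAut.conj x).toMonoidHom : Subgroup G) : Set G) : Subgroup G) ∧
      ∀ (T' : Subgroup G),
        (∀ y : G, y ∈ T' ↔ y ∈ Subgroup.normalizer ((Q.map (MulAut.conj x).toMonoidHom : Subgroup G) : Set G) ∧
        StabilizesBlock (Subgroup.centralizer ((Q.map (MulAut.conj x).toMonoidHom : Subgroup G) : Set G))
          (conjBlock Q x f) y) →
        ∀ F' : Set (IrrCharacter T'), IsPBlock M F' →
          (∀ t : T', blockCoeff F' t = subgroupBlockCoeff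
            (Subgroup.centralizer ((Q.map (MulAut.conj x).toMonoidHom : Subgroup G) : Set G))
            (conjBlock Q x f) (t : G)) →
          IsDefectGroup p M F' ((P ⊓ Subgroup.normalizer
            ((Q.map (MulAut.conj x).toMonoidHom : Subgroup G) : Set G)).subgroupOf T') := by
  classical
  haveI := Fintype.ofFinite T
  have hPe := hmax.1.1
  have hB := hmax.1.2.1
  obtain ⟨D, g', hDmax, hDle, -⟩ := norm_pair_max hM P Q e f hPe hQP hf hle T hT F hFb hFc
  have hDdef := maximal_pair_defect hM F D g' hDmax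
  have hc1 := defect_group_card hM F hFb D hDdef
  have hQS : Q ≤ D.map T.subtype := by
    intro q hq
    have hqT : q ∈ T := (stab_facts _ _ T hT).2.1 hq
    exact ⟨⟨q, hqT⟩, hDle (by rw [Subgroup.mem_subgroupOf]; exact ⟨hQP hq, Subgroup.le_normalizer hq⟩), rfl⟩
  have hSp : IsPGroup p (D.map T.subtype) := hDmax.1.1.1.map _
  have hgg := trSet_symm' (centSubEquiv T _ D ((Subgroup.centralizer_le hQS).trans (stab_facts _ _ T hT).1)
    (tdict_h1 T _ D rfl)) g'
  have hg : IsPBlock M (trSet (centSubEquiv T _ D ((Subgroup.centralizer_le hQS).trans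
    (stab_facts _ _ T hT).1) (tdict_h1 T _ D rfl)).symm g') := isPBlock_trSet _ hDmax.1.1.2
  have hn := (pair_tdict _ _ hf T hT F hFb hFc _ D rfl hQS hSp _ hg).mp (by rw [hgg]; exact hDmax.1)
  have hQB : IsBrauerPairOf p M B Q f := (brauerPairOf_subpairLE hM B hB ⟨Q, f⟩ ⟨P, e⟩ hle).mp hmax.1
  have hSB := (brauerPairOf_normal_step hM Q _ f _ hn B hB).mpr hQB
  obtain ⟨x, hx⟩ := pair_conj_into_maximal hM B P _ e _ hmax hSB
  have hn' := isNormalSubpair_conj Q _ x f _ hn
  have hle' : SubpairLE p M (Q.map (MulAut.conj x).toMonoidHom) (conjBlock Q x f) P e :=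
    Relation.ReflTransGen.head (show NormalSubpairRel p M ⟨_, _⟩ ⟨_, _⟩ from hn') hx
  have hsub : (D.map T.subtype).map (MulAut.conj x).toMonoidHom
      ≤ P ⊓ Subgroup.normalizer ((Q.map (MulAut.conj x).toMonoidHom : Subgroup G) : Set G) :=
    le_inf (subpairLE_le _ _ hx).1 hn'.2.2.2.1
  have hcard : p ^ blockDefect p F ≤ Nat.card (P ⊓ Subgroup.normalizer
        ((Q.map (MulAut.conj x).toMonoidHom : Subgroup G) : Set G) : Subgroup G) := by
    refine le_trans (le_of_eq ?_) (Subgroup.card_le_of_le hsub)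
    rw [Nat.card_congr (Subgroup.equivMapOfInjective _ _ (MulAut.conj x).injective).symm.toEquiv,
      Nat.card_congr (Subgroup.equivMapOfInjective _ _ (Subgroup.subtype_injective _)).symm.toEquiv, hc1]
  refine ⟨x, hle', hcard, ?_⟩
  intro T' hT' F' hFb' hFc'
  haveI := Fintype.ofFinite T'
  have hxQP : Q.map (MulAut.conj x).toMonoidHom ≤ P := (subpairLE_le _ _ hle').1
  have hf' : IsPBlock M (conjBlock Q x f) := by rw [conjBlock_eq_trSet]; exact isPBlock_trSet _ hf
  obtain ⟨D2, g2, hD2max, hD2le, hNT'⟩ := norm_pair_max hM P _ e _ hPe hxQP hf' hle' T' hT' F' hFb' hFc'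
  have hD2def := maximal_pair_defect hM F' D2 g2 hD2max
  have hc2 := defect_group_card hM F' hFb' D2 hD2def
  have hdle := stab_defect_le hM P Q e f hPe hf T hT F hFb hFc x hle' T' hT' F' hFb' hFc'
  have heq : (P ⊓ Subgroup.normalizer ((Q.map (MulAut.conj x).toMonoidHom : Subgroup G) : Set G)).subgroupOf T'
      = D2 := by
    apply Subgroup.eq_of_le_of_card_ge hD2le
    rw [hc2, Nat.card_congr (Subgroup.subgroupOfEquivOfLe hNT').toEquiv]
    exact (Nat.pow_le_pow_right (Fact.out : p.Prime).pos hdle).trans hcard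
  rw [heq]; exact hD2def

end BrauerT
end Cfsg.Agent.H4
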