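import Cfsg.Agent.Lib_helper4_BlkBD

set_option autoImplicit false
set_option linter.style.haveILetI false
set_option linter.unusedSectionVars false
namespace Cfsg.Agent.H4
open Module
open scoped ComplexConjugate
universe u v w

section BrauerS
variable {p : ℕ} {M : Ideal AlgInt} {G : Type u} [Group G]

theorem trSet_eq_of_stabilizes [Finite G] (hM : IsPModular p M) (L : Subgroup G) (f : Set (IrrCharacter L))
    (hf : IsPBlock M f) (u : G) (h : StabilizesBlock L f u) : trSet (conjInvEquiv L u h.1) f = f := by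
  obtain ⟨η, hη⟩ := IsPBlock.nonempty hM hf
  have h1 := stab_trIrr L f u h η hη
  have h2 := trIrr_mem (conjInvEquiv L u h.1) hη
  rw [IsPBlock.eq_blockOf hM (isPBlock_trSet _ hf) h2, ← IsPBlock.eq_blockOf hM hf h1]

theorem exists_stab [Finite G] (hM : IsPModular p M) (Q : Subgroup G)
    (f : Set (IrrCharacter (Subgroup.centralizer (Q : Set G)))) (hf : IsPBlock M f) :
    ∃ T : Subgroup G, ∀ y : G, y ∈ T ↔ y ∈ Subgroup.normalizer (Q : Set G) ∧
      StabilizesBlock (Subgroup.centralizer (Q : Set G)) f y := by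
  letI := blkAction (Subgroup.normalizer (Q : Set G)) (Subgroup.centralizer (Q : Set G))
    (normalizer_le_normalizer_centralizer Q)
  refine ⟨(MulAction.stabilizer (Subgroup.normalizer (Q : Set G)) f).map (Subgroup.normalizer (Q : Set G)).subtype, ?_⟩
  intro y
  constructor
  · rintro ⟨k, hk, rfl⟩
    exact ⟨k.2, stabilizes_of_trSet _ f k _ hk⟩
  · rintro ⟨hy, hst⟩
    exact ⟨⟨y, hy⟩, trSet_eq_of_stabilizes hM _ f hf y hst, rfl⟩

theorem fully_normalized_iff [Fintype G] [Fact p.Prime] (hM : IsPModular p M) (B : Set (IrrCharacter G))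
    (P : Subgroup G) (e : Set (IrrCharacter (Subgroup.centralizer (P : Set G))))
    (hmax : IsMaximalBrauerPair p M B P e) (F : FusionSystem P)
    (hF : IsBlockFusionSystemOn p M B P e F) (Q : Subgroup G)
    (f : Set (IrrCharacter (Subgroup.centralizer (Q : Set G)))) (hQP : Q ≤ P) (hf : IsPBlock M f)
    (hle : SubpairLE p M Q f P e) (T : Subgroup G)
    (hT : ∀ y : G, y ∈ T ↔ y ∈ Subgroup.normalizer (Q : Set G) ∧
      StabilizesBlock (Subgroup.centralizer (Q : Set G)) f y) :
    F.IsFullyNormalized Q ↔ ∃ F' : Set (IrrCharacter T), IsPBlock M F' ∧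
      (∀ t : T, blockCoeff F' t = subgroupBlockCoeff (Subgroup.centralizer (Q : Set G)) f (t : G)) ∧
      IsDefectGroup p M F' ((P ⊓ Subgroup.normalizer (Q : Set G)).subgroupOf T) := by
  classical
  haveI := Fintype.ofFinite T
  have hPe := hmax.1.1
  have hQp : IsPGroup p Q := hPe.1.to_le hQP
  constructor
  · rintro ⟨-, h⟩
    obtain ⟨F0, hFb, hFc⟩ := stab_block_exists hM Q hQp f hf T hT
    refine ⟨F0, hFb, hFc, ?_⟩
    obtain ⟨x, hx, hcard, -⟩ := norm_defect_conj hM B P Q e f hmax hQP hf hle T hT F0 hFb hFc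
    have h3 := h _ ((fusion_conj_iff hM B P e F hF Q f hQP hle _).mpr ⟨x, rfl, hx⟩)
    unfold FusionSystem.normalizerIn at h3
    obtain ⟨D, g', hDmax, hDle, hNT⟩ := norm_pair_max hM P Q e f hPe hQP hf hle T hT F0 hFb hFc
    have hDdef := maximal_pair_defect hM F0 D g' hDmax
    have hc1 := defect_group_card hM F0 hFb D hDdef
    have heq : (P ⊓ Subgroup.normalizer (Q : Set G)).subgroupOf T = D := by
      apply Subgroup.eq_of_le_of_card_ge hDle
      rw [hc1, Nat.card_congr (Subgroup.subgroupOfEquivOfLe hNT).toEquiv]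
      exact hcard.trans h3
    rw [heq]; exact hDdef
  · rintro ⟨F0, hFb, hFc, hdef⟩
    refine ⟨hQP, ?_⟩
    intro Q2 hQ2
    obtain ⟨g, rfl, hg⟩ := (fusion_conj_iff hM B P e F hF Q f hQP hle _).mp hQ2
    have hf' : IsPBlock M (conjBlock Q g f) := (isBrauerPair_conj Q g f ⟨hQp, hf⟩).2
    have hgP := (subpairLE_le _ _ hg).1
    obtain ⟨T', hT'⟩ := exists_stab hM _ (conjBlock Q g f) hf'
    haveI := Fintype.ofFinite T'
    obtain ⟨F', hFb', hFc'⟩ := stab_block_exists hM _ (hQp.map _) (conjBlock Q g f) hf' T' hT'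
    obtain ⟨D2, g2, hD2max, hD2le, hNT'⟩ := norm_pair_max hM P _ e _ hPe hgP hf' hg T' hT' F' hFb' hFc'
    have hD2def := maximal_pair_defect hM F' D2 g2 hD2max
    have hc2 := defect_group_card hM F' hFb' D2 hD2def
    have hdle := stab_defect_le hM P Q e f hPe hf T hT F0 hFb hFc g hg T' hT' F' hFb' hFc'
    obtain ⟨-, -, -, -, hNT⟩ := norm_pair_max hM P Q e f hPe hQP hf hle T hT F0 hFb hFc
    have hc0 := defect_group_card hM F0 hFb _ hdef
    rw [Nat.card_congr (Subgroup.subgroupOfEquivOfLe hNT).toEquiv] at hc0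
    unfold FusionSystem.normalizerIn
    rw [hc0]
    have h7 := Subgroup.card_le_of_le hD2le
    rw [hc2, Nat.card_congr (Subgroup.subgroupOfEquivOfLe hNT').toEquiv] at h7
    exact h7.trans (Nat.pow_le_pow_right (Fact.out : p.Prime).pos hdle)

end BrauerS
end Cfsg.Agent.H4
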