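import Cfsg.Agent.Lib_helper4_BlkBE

set_option autoImplicit false
set_option linter.style.haveILetI false
set_option linter.unusedSectionVars false
namespace Cfsg.Agent.H4
open Module
open scoped ComplexConjugate
universe u v w

section BrauerA
variable {p : ℕ} {M : Ideal AlgInt} {G : Type u} [Group G]

theorem pair_eq_pointwise (a b : BrauerPairIdx G) (h : a = b) (ξ : IrrCharacter (Subgroup.centralizer (a.1 : Set G)))
    (hξ : ξ ∈ a.2) : ∃ ξ' ∈ b.2, ∀ (c : Subgroup.centralizer (a.1 : Set G)) (c' : Subgroup.centralizer (b.1 : Set G)),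
      (c : G) = c' → (ξ : _ → ℂ) c = (ξ' : _ → ℂ) c' := by
  subst h
  exact ⟨ξ, hξ, fun c c' hc => by rw [Subtype.ext hc]⟩

theorem map_conj_eq_of_mem_normalizer (Q : Subgroup G) (x : G) (hx : x ∈ Subgroup.normalizer (Q : Set G)) :
    Q.map (MulAut.conj x).toMonoidHom = Q := by
  ext h
  rw [mem_map_conj_iff]
  have h1 := Subgroup.mem_normalizer_iff.mp hx (x⁻¹ * h * x)
  have e1 : x * (x⁻¹ * h * x) * x⁻¹ = h := by group
  rw [e1] at h1
  exact h1

theorem mem_normalizer_of_map_conj_eq (Q : Subgroup G) (x : G) (hx : Q.map (MulAut.conj x).toMonoidHom = Q) :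
    x ∈ Subgroup.normalizer (Q : Set G) := by
  rw [Subgroup.mem_normalizer_iff]
  intro h
  have h1 := mem_map_conj_iff Q x (x * h * x⁻¹)
  rw [hx] at h1
  have e1 : x⁻¹ * (x * h * x⁻¹) * x = h := by group
  rw [e1] at h1
  exact h1.symm

theorem conjPair_fix [Finite G] (hM : IsPModular p M) (Q : Subgroup G)
    (f : Set (IrrCharacter (Subgroup.centralizer (Q : Set G)))) (hf : IsPBlock M f) (x : G)
    (hxN : x ∈ Subgroup.normalizer (Q : Set G)) (hxs : StabilizesBlock (Subgroup.centralizer (Q : Set G)) f x) :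
    conjPair x ⟨Q, f⟩ = ⟨Q, f⟩ := by
  apply pair_eq_of hM
  · exact map_conj_eq_of_mem_normalizer Q x hxN
  · show IsPBlock M (conjBlock Q x f)
    rw [conjBlock_eq_trSet]; exact isPBlock_trSet _ hf
  · exact hf
  · obtain ⟨η, hη⟩ := IsPBlock.nonempty hM hf
    refine ⟨trIrr (centConjEquiv Q x) η, ?_, _, stab_trIrr _ f x hxs η hη, ?_⟩
    · show _ ∈ conjBlock Q x f
      rw [conjBlock_eq_trSet]; exact trIrr_mem _ hη
    · intro c c' hcc
      have h6 : centConjEquiv Q x c = conjInvEquiv _ x hxs.1 c' := by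
        apply Subtype.ext
        show x⁻¹ * (c : G) * x = x⁻¹ * (c' : G) * x
        rw [hcc]
      show (η : _ → ℂ) (centConjEquiv Q x c) = (η : _ → ℂ) (conjInvEquiv _ x hxs.1 c')
      rw [h6]

theorem le_centralizer_of_abelian (P Q : Subgroup G) (hab : ∀ x ∈ P, ∀ y ∈ P, x * y = y * x) (hQP : Q ≤ P) :
    P ≤ Subgroup.centralizer (Q : Set G) := fun y hy =>
  Subgroup.mem_centralizer_iff.mpr (fun q hq => hab q (hQP hq) y hy)

theorem sup_map_subgroupOf (Q S L : Subgroup G) (hQS : Q ≤ S) (hSL : S ≤ L) :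
    S = Q ⊔ (S.subgroupOf L).map L.subtype := by
  rw [Subgroup.map_subgroupOf_eq_of_le hSL, sup_eq_right.mpr hQS]

theorem abelian_control [Fintype G] [Fact p.Prime] (hM : IsPModular p M) (B : Set (IrrCharacter G))
    (P : Subgroup G) (e : Set (IrrCharacter (Subgroup.centralizer (P : Set G))))
    (hmax : IsMaximalBrauerPair p M B P e) (hab : ∀ x ∈ P, ∀ y ∈ P, x * y = y * x) (Q : Subgroup G)
    (f : Set (IrrCharacter (Subgroup.centralizer (Q : Set G)))) (hQP : Q ≤ P) (hf : IsPBlock M f)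
    (hle : SubpairLE p M Q f P e) (x : G) (hxN : x ∈ Subgroup.normalizer (Q : Set G))
    (hxs : StabilizesBlock (Subgroup.centralizer (Q : Set G)) f x) :
    ∃ c ∈ Subgroup.centralizer (Q : Set G), c * x ∈ Subgroup.normalizer (P : Set G) ∧
      StabilizesBlock (Subgroup.centralizer (P : Set G)) e (c * x) := by
  classical
  haveI := Fintype.ofFinite (Subgroup.centralizer (Q : Set G))
  have hPe := hmax.1.1
  have hQp : IsPGroup p Q := hPe.1.to_le hQP
  have hPL := le_centralizer_of_abelian P Q hab hQP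
  -- `(Q, f)` is normal in `(P, e)`
  obtain ⟨f1, hf1⟩ := normalSubpair_exists hM Q P e hPe hQP (hPL.trans (centralizer_le_normalizer' Q))
  have hff : f1 = f := subpair_unique hM P e hPe _ Q f1 f rfl (Relation.ReflTransGen.single hf1) hle
  subst hff
  have hn2 : NormalSubpairRel p M (conjPair x ⟨Q, f1⟩) (conjPair x ⟨P, e⟩) := isNormalSubpair_conj _ _ x _ _ hf1
  rw [conjPair_fix hM Q f1 hf x hxN hxs] at hn2
  have hn3 : IsNormalSubpair p M Q f1 (P.map (MulAut.conj x).toMonoidHom) (conjBlock P x e) := hn2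
  have hab2 : ∀ a ∈ P.map (MulAut.conj x).toMonoidHom, ∀ b ∈ P.map (MulAut.conj x).toMonoidHom, a * b = b * a := by
    rintro _ ⟨v, hv, rfl⟩ _ ⟨w, hw, rfl⟩
    rw [← map_mul, ← map_mul, hab v hv w hw]
  have hP2L := le_centralizer_of_abelian _ Q hab2 hn3.2.2.1
  have hP' := (pair_dict Q P _ (sup_map_subgroupOf Q P _ hQP hPL) hQP hPe.1 f1 hf e hPe.2).mpr hf1
  have hP2' := (pair_dict Q _ _ (sup_map_subgroupOf Q _ _ hn3.2.2.1 hP2L) hn3.2.2.1 hn3.2.1.1 f1 hf _ hn3.2.1.2).mpr hn3
  -- cardinalities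
  have hcP : Nat.card (P.subgroupOf (Subgroup.centralizer (Q : Set G))) = Nat.card P :=
    Nat.card_congr (Subgroup.subgroupOfEquivOfLe hPL).toEquiv
  have hdP : p ^ blockDefect p f1 ≤ Nat.card P := by
    obtain ⟨z, -, hzd⟩ := cent_defect_conj hM B P Q e f1 hmax hQP hf hle
    have hf' : IsPBlock M (conjBlock Q z f1) := (isBrauerPair_conj Q z f1 ⟨hQp, hf⟩).2
    have h4 := defect_group_card hM _ hf' _ hzd
    rw [card_subgroupOf_inf, conjBlock_eq_trSet, blockDefect_trSet] at h4
    rw [← h4]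
    exact Subgroup.card_le_of_le inf_le_left
  have hmaxL : IsMaximalBrauerPair p M f1 _ _ := ⟨hP', fun R g hRg hleR => by
    have h1 := (subpairLE_le _ _ hleR).1
    exact (Subgroup.eq_of_le_of_card_ge h1 (by
      rw [hcP]; exact (pair_card_le hM f1 R g hRg).trans hdP)).symm⟩
  obtain ⟨c, hc⟩ := pair_conj_into_maximal hM f1 _ _ _ _ hmaxL hP2'
  have heq1 : ((P.map (MulAut.conj x).toMonoidHom).subgroupOf (Subgroup.centralizer (Q : Set G))).map
      (MulAut.conj c).toMonoidHom = P.subgroupOf (Subgroup.centralizer (Q : Set G)) := by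
    apply Subgroup.eq_of_le_of_card_ge (subpairLE_le _ _ hc).1
    rw [hcP, Nat.card_congr (Subgroup.equivMapOfInjective _ _ (MulAut.conj c).injective).symm.toEquiv,
      Nat.card_congr (Subgroup.subgroupOfEquivOfLe hP2L).toEquiv,
      Nat.card_congr (Subgroup.equivMapOfInjective _ _ (MulAut.conj x).injective).symm.toEquiv]
  have heq2 := subpairLE_same hM _ _ hc heq1
  refine ⟨c, c.2, ?_⟩
  have hyP : P.map (MulAut.conj ((c : G) * x)).toMonoidHom = P := by
    apply Subgroup.eq_of_le_of_card_ge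
    · rintro _ ⟨v, hv, rfl⟩
      have h1 : x * v * x⁻¹ ∈ P.map (MulAut.conj x).toMonoidHom := ⟨v, hv, by simp⟩
      have h2 : (⟨x * v * x⁻¹, hP2L h1⟩ : Subgroup.centralizer (Q : Set G)) ∈
          (P.map (MulAut.conj x).toMonoidHom).subgroupOf (Subgroup.centralizer (Q : Set G)) := by
        rw [Subgroup.mem_subgroupOf]; exact h1
      have h3 : (MulAut.conj c).toMonoidHom (⟨x * v * x⁻¹, hP2L h1⟩ : Subgroup.centralizer (Q : Set G)) ∈
          P.subgroupOf (Subgroup.centralizer (Q : Set G)) := heq1 ▸ ⟨_, h2, rfl⟩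
      rw [Subgroup.mem_subgroupOf] at h3
      have e1 : (MulAut.conj ((c : G) * x)).toMonoidHom v
          = (((MulAut.conj c).toMonoidHom (⟨x * v * x⁻¹, hP2L h1⟩ : Subgroup.centralizer (Q : Set G)) :
            Subgroup.centralizer (Q : Set G)) : G) := by
        simp [mul_assoc]
      rw [e1]; exact h3
    · exact (Nat.card_congr (Subgroup.equivMapOfInjective _ _ (MulAut.conj ((c : G) * x)).injective).toEquiv).le
  have hyN := mem_normalizer_of_map_conj_eq P _ hyP
  refine ⟨hyN, ?_⟩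
  obtain ⟨ξ0, hξ0⟩ := IsPBlock.nonempty hM hPe.2
  have hyC := normalizer_le_normalizer_centralizer P hyN
  obtain ⟨ξ', hξ', hpt⟩ := pair_eq_pointwise _ _ heq2
    (trIrr (centConjEquiv _ c) (trIrr (centSubEquiv _ _ _ (dict_h2 Q _ hn3.2.2.1)
      (dict_h1 Q _ _ (sup_map_subgroupOf Q _ _ hn3.2.2.1 hP2L))) (trIrr (centConjEquiv P x) ξ0))) (by
      show _ ∈ conjBlock _ c _
      rw [conjBlock_eq_trSet]
      refine trIrr_mem _ (trIrr_mem _ ?_)
      rw [conjBlock_eq_trSet]; exact trIrr_mem _ hξ0)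
  obtain ⟨ξ1, hξ1, rfl⟩ := hξ'
  have key : ξ1 = trIrr (conjInvEquiv _ ((c : G) * x) hyC) ξ0 := by
    apply Subtype.ext
    funext d1
    have hd' : (⟨d1, dict_h2 Q P hQP d1.2⟩ : Subgroup.centralizer (Q : Set G)) ∈
        Subgroup.centralizer ((P.subgroupOf (Subgroup.centralizer (Q : Set G)) :
          Subgroup (Subgroup.centralizer (Q : Set G))) : Set (Subgroup.centralizer (Q : Set G))) :=
      (dict_h1 Q P _ (sup_map_subgroupOf Q P _ hQP hPL) _).mpr d1.2
    have hd : (⟨d1, dict_h2 Q P hQP d1.2⟩ : Subgroup.centralizer (Q : Set G)) ∈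
        Subgroup.centralizer (((((P.map (MulAut.conj x).toMonoidHom).subgroupOf
          (Subgroup.centralizer (Q : Set G))).map (MulAut.conj c).toMonoidHom :
          Subgroup (Subgroup.centralizer (Q : Set G)))) : Set (Subgroup.centralizer (Q : Set G))) := by
      rw [heq1]; exact hd'
    have h := hpt ⟨_, hd⟩ ⟨_, hd'⟩ rfl
    have e0 : x⁻¹ * ((c : G)⁻¹ * (d1 : G) * c) * x = ((c : G) * x)⁻¹ * d1 * ((c : G) * x) := by group
    have hmem : x⁻¹ * ((c : G)⁻¹ * (d1 : G) * c) * x ∈ Subgroup.centralizer (P : Set G) :=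
      e0 ▸ (conjInvEquiv _ ((c : G) * x) hyC d1).2
    have h' : (ξ0 : Subgroup.centralizer (P : Set G) → ℂ) ⟨_, hmem⟩
        = (ξ1 : Subgroup.centralizer (P : Set G) → ℂ) d1 := h
    rw [← h', trIrr_apply]
    have e2 : (⟨_, hmem⟩ : Subgroup.centralizer (P : Set G)) = conjInvEquiv _ ((c : G) * x) hyC d1 :=
      Subtype.ext e0
    rw [e2]
  have hmem1 : ξ1 ∈ trSet (conjInvEquiv _ ((c : G) * x) hyC) e := by rw [key]; exact trIrr_mem _ hξ0
  apply stabilizes_of_trSet _ e _ hyC
  rw [IsPBlock.eq_blockOf hM (isPBlock_trSet _ hPe.2) hmem1, ← IsPBlock.eq_blockOf hM hPe.2 hξ1]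

theorem stabilizes_conj (Q : Subgroup G) (z v : G) (f : Set (IrrCharacter (Subgroup.centralizer (Q : Set G))))
    (hvN : v ∈ Subgroup.normalizer (Q : Set G)) (hv : StabilizesBlock (Subgroup.centralizer (Q : Set G)) f v) :
    StabilizesBlock (Subgroup.centralizer ((Q.map (MulAut.conj z).toMonoidHom : Subgroup G) : Set G))
      (conjBlock Q z f) (z * v * z⁻¹) := by
  refine ⟨normalizer_le_normalizer_centralizer _ (conj_mem_normalizer Q z v hvN), ?_⟩
  intro χ hχ
  rw [conjBlock_eq_trSet] at hχ ⊢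
  obtain ⟨χ0, hχ0, rfl⟩ := hχ
  obtain ⟨χ1, hχ1, hc⟩ := hv.2 χ0 hχ0
  refine ⟨trIrr (centConjEquiv Q z) χ1, trIrr_mem _ hχ1, ?_⟩
  intro k k' hk
  rw [trIrr_apply, trIrr_apply]
  apply hc
  show z⁻¹ * (k' : G) * z = v * (z⁻¹ * (k : G) * z) * v⁻¹
  rw [hk]
  group

theorem mem_of_pow_mem_coprime (H : Subgroup G) (x : G) (i j : ℕ) (hij : Nat.Coprime i j) (hi : x ^ i ∈ H)
    (hj : x ^ j ∈ H) : x ∈ H := by
  have h := Nat.gcd_eq_gcd_ab i j
  rw [hij.gcd_eq_one] at h
  have : x = (x ^ i) ^ (Nat.gcdA i j) * (x ^ j) ^ (Nat.gcdB i j) := by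
    rw [← zpow_natCast, ← zpow_natCast, ← zpow_mul, ← zpow_mul, ← zpow_add, ← h]; simp
  rw [this]; exact H.mul_mem (H.zpow_mem hi _) (H.zpow_mem hj _)

theorem abelian_nilpotent_iff [Fintype G] [Fact p.Prime] (hM : IsPModular p M) (B : Set (IrrCharacter G))
    (P : Subgroup G) (e : Set (IrrCharacter (Subgroup.centralizer (P : Set G))))
    (hmax : IsMaximalBrauerPair p M B P e) (hab : ∀ x ∈ P, ∀ y ∈ P, x * y = y * x) :
    IsNilpotentBlock p M B ↔ ∀ x : G, x ∈ Subgroup.normalizer (P : Set G) →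
      StabilizesBlock (Subgroup.centralizer (P : Set G)) e x → x ∈ Subgroup.centralizer (P : Set G) := by
  classical
  have hPe := hmax.1.1
  have hB := hmax.1.2.1
  have hp : p.Prime := Fact.out
  constructor
  · intro hnil x hxN hxs
    have hPC : P ≤ Subgroup.centralizer (P : Set G) := le_centralizer_of_abelian P P hab le_rfl
    have hH : Subgroup.centralizer (P : Set G) = P ⊔ Subgroup.centralizer (P : Set G) := (sup_eq_right.mpr hPC).symm
    have hPD := maximal_pair_defect hM B P e hmax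
    have hind := (isBrauerPairOf_iff_induced hM P hPe.1 e hPe.2 B).mp hmax.1
    have hPn : (P.subgroupOf (Subgroup.centralizer (P : Set G))).Normal :=
      (Subgroup.normal_subgroupOf_iff_le_normalizer hPC).mpr (centralizer_le_normalizer' P)
    have hbP := defect_eq_of_normal_of_induced hM _ e B hind P hPD hPC hPn
    obtain ⟨T, hT⟩ := exists_stab hM P e hPe.2
    have hT2 : ∀ g : G, g ∈ T ↔ (g ∈ Subgroup.normalizer (P : Set G) ∧ ∀ θ ∈ e,
        ∀ θ' : IrrCharacter (Subgroup.centralizer (P : Set G)),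
        (∀ h h' : Subgroup.centralizer (P : Set G), (h' : G) = g * h * g⁻¹ →
          (θ' : Subgroup.centralizer (P : Set G) → ℂ) h' = (θ : Subgroup.centralizer (P : Set G) → ℂ) h) → θ' ∈ e) := by
      intro g
      rw [hT]
      constructor
      · rintro ⟨hN, hst⟩
        refine ⟨hN, ?_⟩
        intro θ hθ θ' hθ'
        obtain ⟨χ', hχ', hc⟩ := hst.2 θ hθ
        have : θ' = χ' := by
          apply Subtype.ext
          funext h'
          have e1 : (h' : G) = g * (conjInvEquiv _ g hst.1 h' : Subgroup.centralizer (P : Set G)) * g⁻¹ := by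
            show (h' : G) = g * (g⁻¹ * (h' : G) * g) * g⁻¹
            group
          rw [hθ' _ h' e1, hc _ h' e1]
        rw [this]; exact hχ'
      · rintro ⟨hN, h⟩
        have hNC := normalizer_le_normalizer_centralizer P hN
        refine ⟨hN, hNC, ?_⟩
        intro χ hχ
        have hconj : ∀ k k' : Subgroup.centralizer (P : Set G), (k' : G) = g * k * g⁻¹ →
            (trIrr (conjInvEquiv _ g hNC) χ : Subgroup.centralizer (P : Set G) → ℂ) k'
              = (χ : Subgroup.centralizer (P : Set G) → ℂ) k := by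
          intro k k' hk
          rw [trIrr_apply]
          have : conjInvEquiv _ g hNC k' = k := by
            apply Subtype.ext
            show g⁻¹ * (k' : G) * g = k
            rw [hk]; group
          rw [this]
        exact ⟨_, h χ hχ _ hconj, hconj⟩
    have hnd := (ext_fmt_defect hM P hPe.1 _ hH e hPe.2 hbP B hind T hT2).mp hPD
    have hxT : x ∈ T := (hT x).mpr ⟨hxN, hxs⟩
    obtain ⟨hCT, -, hTN⟩ := stab_facts P e T hT
    haveI hCn : ((Subgroup.centralizer (P : Set G)).subgroupOf T).Normal :=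
      (Subgroup.normal_subgroupOf_iff_le_normalizer hCT).mpr (hTN.trans (normalizer_le_normalizer_centralizer P))
    have h1 : x ^ ((Subgroup.centralizer (P : Set G)).relIndex T) ∈ Subgroup.centralizer (P : Set G) := by
      have := Subgroup.pow_index_mem ((Subgroup.centralizer (P : Set G)).subgroupOf T) ⟨x, hxT⟩
      rw [Subgroup.mem_subgroupOf] at this
      exact this
    have ho : orderOf x ≠ 0 := (orderOf_pos x).ne'
    have h2 : x ^ (p ^ (orderOf x).factorization p) ∈ Subgroup.centralizer (P : Set G) := by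
      have hyT : x ^ (p ^ (orderOf x).factorization p) ∈ T := T.pow_mem hxT _
      obtain ⟨hyN, hys⟩ := (hT _).mp hyT
      apply hnil.2 P e hmax.1 _ hyN hys
      unfold IsPRegular
      rw [orderOf_pow_of_dvd (pow_ne_zero _ hp.ne_zero) (Nat.ordProj_dvd _ _)]
      exact Nat.not_dvd_ordCompl hp ho
    exact mem_of_pow_mem_coprime _ x _ _ (Nat.Coprime.pow_left _ ((Nat.Prime.coprime_iff_not_dvd hp).mpr hnd)) h2 h1
  · intro hC
    refine ⟨hB, ?_⟩
    intro Q f hQf x hxN hxs _
    obtain ⟨z, hz⟩ := pair_conj_into_maximal hM B P Q e f hmax hQf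
    have hzP := (subpairLE_le _ _ hz).1
    have hf' : IsPBlock M (conjBlock Q z f) := (isBrauerPair_conj Q z f hQf.1).2
    obtain ⟨c, hc, hcN, hcs⟩ := abelian_control hM B P e hmax hab _ _ hzP hf' hz (z * x * z⁻¹)
      (conj_mem_normalizer Q z x hxN) (stabilizes_conj Q z x f hxN hxs)
    have h1 := Subgroup.centralizer_le hzP (hC _ hcN hcs)
    have h2 : z * x * z⁻¹ ∈ Subgroup.centralizer ((Q.map (MulAut.conj z).toMonoidHom : Subgroup G) : Set G) := by
      have := Subgroup.mul_mem _ (Subgroup.inv_mem _ hc) h1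
      rwa [inv_mul_cancel_left] at this
    rw [mem_centralizer_map_conj_iff] at h2
    have e1 : z⁻¹ * (z * x * z⁻¹) * z = x := by group
    rwa [e1] at h2

end BrauerA
end Cfsg.Agent.H4
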