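import Cfsg.Agent.Lib_helper4_BlkBF

set_option autoImplicit false
set_option linter.style.haveILetI false
set_option linter.unusedSectionVars false
namespace Cfsg.Agent.H4
open Module
open scoped ComplexConjugate
universe u v w

section BrauerB
variable {p : ℕ} {M : Ideal AlgInt} {G : Type u} [Group G]

/-- an element stabilizing `(P, e)` and normalizing `Q` stabilizes the subpair at `Q` -/
theorem stabilizes_subpair [Fintype G] [Fact p.Prime] (hM : IsPModular p M)
    (P : Subgroup G) (e : Set (IrrCharacter (Subgroup.centralizer (P : Set G)))) (hPe : IsBrauerPair p M P e)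
    (Q : Subgroup G) (f : Set (IrrCharacter (Subgroup.centralizer (Q : Set G)))) (hf : IsPBlock M f)
    (hle : SubpairLE p M Q f P e) (y : G) (hyP : y ∈ Subgroup.normalizer (P : Set G))
    (hys : StabilizesBlock (Subgroup.centralizer (P : Set G)) e y) (hyQ : y ∈ Subgroup.normalizer (Q : Set G)) :
    StabilizesBlock (Subgroup.centralizer (Q : Set G)) f y := by
  have hyL := normalizer_le_normalizer_centralizer Q hyQ
  have h1 := subpairLE_conj y _ _ hle
  rw [conjPair_fix hM P e hPe.2 y hyP hys] at h1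
  have h2 : conjPair y ⟨Q, f⟩ = ⟨Q, trSet (conjInvEquiv _ y hyL) f⟩ := by
    apply pair_eq_of hM
    · exact map_conj_eq_of_mem_normalizer Q y hyQ
    · show IsPBlock M (conjBlock Q y f)
      rw [conjBlock_eq_trSet]; exact isPBlock_trSet _ hf
    · exact isPBlock_trSet _ hf
    · obtain ⟨η, hη⟩ := IsPBlock.nonempty hM hf
      refine ⟨trIrr (centConjEquiv Q y) η, ?_, _, trIrr_mem _ hη, ?_⟩
      · show _ ∈ conjBlock Q y f
        rw [conjBlock_eq_trSet]; exact trIrr_mem _ hη
      · intro c c' hcc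
        have h6 : centConjEquiv Q y c = conjInvEquiv _ y hyL c' := by
          apply Subtype.ext
          show y⁻¹ * (c : G) * y = y⁻¹ * (c' : G) * y
          rw [hcc]
        show (η : _ → ℂ) (centConjEquiv Q y c) = (η : _ → ℂ) (conjInvEquiv _ y hyL c')
        rw [h6]
  rw [h2] at h1
  exact stabilizes_of_trSet _ f y hyL (subpair_unique hM P e hPe _ Q _ f rfl h1 hle)

theorem abelian_inertial [Fintype G] [Fact p.Prime] (hM : IsPModular p M) (B : Set (IrrCharacter G))
    (P : Subgroup G) (e : Set (IrrCharacter (Subgroup.centralizer (P : Set G))))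
    (hmax : IsMaximalBrauerPair p M B P e) (hab : ∀ x ∈ P, ∀ y ∈ P, x * y = y * x) (Q : Subgroup G)
    (f : Set (IrrCharacter (Subgroup.centralizer (Q : Set G)))) (hQP : Q ≤ P) (hf : IsPBlock M f)
    (hle : SubpairLE p M Q f P e) (TQ : Subgroup G)
    (hTQ : ∀ y : G, y ∈ TQ ↔ y ∈ Subgroup.normalizer (Q : Set G) ∧
      StabilizesBlock (Subgroup.centralizer (Q : Set G)) f y) (TP : Subgroup G)
    (hTP : ∀ y : G, y ∈ TP ↔ y ∈ Subgroup.normalizer (P : Set G) ∧
      StabilizesBlock (Subgroup.centralizer (P : Set G)) e y) :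
    (∀ x ∈ TQ, ∃ y ∈ TP, ∃ c ∈ Subgroup.centralizer (Q : Set G), x = y * c) ∧
    ((Subgroup.centralizer (Q : Set G)).subgroupOf TQ).index
      = ((TP ⊓ Subgroup.centralizer (Q : Set G)).subgroupOf (TP ⊓ Subgroup.normalizer (Q : Set G))).index := by
  classical
  have hPe := hmax.1.1
  obtain ⟨hCT, -, hTN⟩ := stab_facts Q f TQ hTQ
  have part1 : ∀ x ∈ TQ, ∃ y ∈ TP, ∃ c ∈ Subgroup.centralizer (Q : Set G), x = y * c := by
    intro x hx
    obtain ⟨hxN, hxs⟩ := (hTQ x).mp hx
    obtain ⟨c0, hc0, hyN, hys⟩ := abelian_control hM B P e hmax hab Q f hQP hf hle x hxN hxs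
    refine ⟨c0 * x, (hTP _).mpr ⟨hyN, hys⟩, (c0 * x)⁻¹ * c0⁻¹ * (c0 * x), ?_, by group⟩
    have hyQ : c0 * x ∈ Subgroup.normalizer (Q : Set G) :=
      Subgroup.mul_mem _ (centralizer_le_normalizer' Q hc0) hxN
    have h1 := Subgroup.mem_normalizer_iff.mp
      (normalizer_le_normalizer_centralizer Q (Subgroup.inv_mem _ hyQ)) c0⁻¹
    have h2 := h1.mp (Subgroup.inv_mem _ hc0)
    rwa [inv_inv] at h2
  refine ⟨part1, ?_⟩
  have hAT : TP ⊓ Subgroup.normalizer (Q : Set G) ≤ TQ := by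
    intro y hy
    obtain ⟨hyP, hys⟩ := (hTP y).mp hy.1
    exact (hTQ y).mpr ⟨hy.2, stabilizes_subpair hM P e hPe Q f hf hle y hyP hys hy.2⟩
  haveI hCn : ((Subgroup.centralizer (Q : Set G)).subgroupOf TQ).Normal :=
    (Subgroup.normal_subgroupOf_iff_le_normalizer hCT).mpr (hTN.trans (normalizer_le_normalizer_centralizer Q))
  have htop : (TP ⊓ Subgroup.normalizer (Q : Set G)).subgroupOf TQ ⊔ (Subgroup.centralizer (Q : Set G)).subgroupOf TQ
      = ⊤ := by
    rw [eq_top_iff]
    intro t _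
    obtain ⟨y, hy, c, hc, hyc⟩ := part1 t t.2
    have hyN : y ∈ Subgroup.normalizer (Q : Set G) := by
      have : y = t * c⁻¹ := by rw [hyc]; group
      rw [this]
      exact Subgroup.mul_mem _ (hTN t.2) (Subgroup.inv_mem _ (centralizer_le_normalizer' Q hc))
    have hyT : y ∈ TQ := hAT ⟨hy, hyN⟩
    have e1 : t = (⟨y, hyT⟩ : TQ) * ⟨c, hCT hc⟩ := Subtype.ext hyc
    rw [e1]
    exact Subgroup.mul_mem_sup (by rw [Subgroup.mem_subgroupOf]; exact ⟨hy, hyN⟩)
      (by rw [Subgroup.mem_subgroupOf]; exact hc)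
  have h1 := Subgroup.relIndex_sup_right ((TP ⊓ Subgroup.normalizer (Q : Set G)).subgroupOf TQ)
    ((Subgroup.centralizer (Q : Set G)).subgroupOf TQ)
  rw [htop, Subgroup.relIndex_top_right, Subgroup.relIndex_subgroupOf hAT] at h1
  rw [h1]
  have h2 : TP ⊓ Subgroup.centralizer (Q : Set G)
      = Subgroup.centralizer (Q : Set G) ⊓ (TP ⊓ Subgroup.normalizer (Q : Set G)) := by
    ext g
    simp only [Subgroup.mem_inf]
    constructor
    · rintro ⟨h3, h4⟩; exact ⟨h4, h3, centralizer_le_normalizer' Q h4⟩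
    · rintro ⟨h3, h4, -⟩; exact ⟨h4, h3⟩
  rw [h2]
  exact (Subgroup.inf_relIndex_right _ _).symm

end BrauerB
end Cfsg.Agent.H4
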