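import Cfsg.Agent.Lib_helper4_BlkBG

set_option autoImplicit false
set_option linter.style.haveILetI false
set_option linter.unusedSectionVars false
namespace Cfsg.Agent.H4
open Module
open scoped ComplexConjugate
universe u v w

section BrauerC
variable {p : ℕ} {M : Ideal AlgInt} {G : Type u} [Group G]

theorem stab_block_exists' [Fintype G] (hM : IsPModular p M) (Q : Subgroup G) (hQ : IsPGroup p Q)
    (f : Set (IrrCharacter (Subgroup.centralizer (Q : Set G)))) (hf : IsPBlock M f) (T : Subgroup G)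
    (hLT : Subgroup.centralizer (Q : Set G) ≤ T) (hQT : Q ≤ T)
    (hTs : ∀ y ∈ T, y ∈ Subgroup.normalizer (Q : Set G) ∧
      StabilizesBlock (Subgroup.centralizer (Q : Set G)) f y) :
    ∃ F : Set (IrrCharacter T), IsPBlock M F ∧
      ∀ t : T, blockCoeff F t = subgroupBlockCoeff (Subgroup.centralizer (Q : Set G)) f (t : G) := by
  classical
  have hTN : T ≤ Subgroup.normalizer (Q : Set G) := fun y hy => (hTs y hy).1
  haveI := Fintype.ofFinite T
  haveI := Fintype.ofFinite (IrrCharacter T)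
  haveI := Fintype.ofFinite ((Subgroup.centralizer (Q : Set G)).subgroupOf T)
  haveI := Fintype.ofFinite (IrrCharacter ((Subgroup.centralizer (Q : Set G)).subgroupOf T))
  haveI hLn : ((Subgroup.centralizer (Q : Set G)).subgroupOf T).Normal :=
    (Subgroup.normal_subgroupOf_iff_le_normalizer hLT).mpr (hTN.trans (normalizer_le_normalizer_centralizer Q))
  haveI hQn : (Q.subgroupOf T).Normal := (Subgroup.normal_subgroupOf_iff_le_normalizer hQT).mpr hTN
  have hQ' : IsPGroup p (Q.subgroupOf T) := hQ.comap_subtype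
  have hCN : Subgroup.centralizer ((Q.subgroupOf T : Subgroup T) : Set T)
      ≤ (Subgroup.centralizer (Q : Set G)).subgroupOf T := by
    intro c hc
    rw [Subgroup.mem_subgroupOf, Subgroup.mem_centralizer_iff]
    intro q hq
    have := (Subgroup.mem_centralizer_iff.mp hc) ⟨q, hQT hq⟩ (by
      show (⟨q, hQT hq⟩ : T) ∈ Q.subgroupOf _
      rw [Subgroup.mem_subgroupOf]; exact hq)
    exact congrArg Subtype.val this
  obtain ⟨θ, hθ⟩ := IsPBlock.nonempty hM hf
  obtain ⟨ζ, hζ⟩ := exists_over ((Subgroup.centralizer (Q : Set G)).subgroupOf T)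
    (trIrr (Subgroup.subgroupOfEquivOfLe hLT) θ)
  have hb := isPBlock_trSet (M := M) (Subgroup.subgroupOfEquivOfLe hLT) hf
  have hcov := cover_eq_cov hM (Q.subgroupOf T) hQ' _ hCN _ hb (blockOf M (ζ : T → ℂ)) ⟨ζ, rfl⟩
    ⟨ζ, SameBlock.refl hM _, _, trIrr_mem _ hθ, hζ⟩
  have horb : orbB hLn (trSet (Subgroup.subgroupOfEquivOfLe hLT) f) = trSet (Subgroup.subgroupOfEquivOfLe hLT) f := by
    ext ψ
    constructor
    · rintro ⟨t, _, ⟨η, hη, rfl⟩, h⟩
      have hst := (hTs _ (T.inv_mem t.2)).2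
      refine ⟨_, stab_trIrr _ f _ hst η hη, ?_⟩
      apply Subtype.ext
      rw [h]
      funext n
      rw [conjFun_apply, trIrr_apply, trIrr_apply, trIrr_apply]
      have h5 : (Subgroup.subgroupOfEquivOfLe hLT) ⟨t * (n : T) * t⁻¹, hLn.conj_mem n n.2 t⟩
          = conjInvEquiv (Subgroup.centralizer (Q : Set G)) (t : G)⁻¹ hst.1 ((Subgroup.subgroupOfEquivOfLe hLT) n) := by
        apply Subtype.ext
        show (t : G) * (n : G) * (t : G)⁻¹ = (t : G)⁻¹⁻¹ * (n : G) * (t : G)⁻¹
        group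
      rw [h5]
    · intro hψ
      exact ⟨1, ψ, hψ, (conjFun_one hLn _).symm⟩
  refine ⟨blockOf M (ζ : T → ℂ), ⟨ζ, rfl⟩, ?_⟩
  intro t
  rw [blockCoeff_eq_coef, hcov, coef_cov _ _ (orbB_stable hLn _), horb]
  by_cases ht : (t : G) ∈ Subgroup.centralizer (Q : Set G)
  · have ht' : t ∈ (Subgroup.centralizer (Q : Set G)).subgroupOf T := by
      rw [Subgroup.mem_subgroupOf]; exact ht
    rw [extendByZero_mem _ _ ht', ← blockCoeff_eq_coef, blockCoeff_trSet, subgroupBlockCoeff_mem _ f _ ht]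
    rfl
  · have ht' : t ∉ (Subgroup.centralizer (Q : Set G)).subgroupOf T := by
      rw [Subgroup.mem_subgroupOf]; exact ht
    rw [extendByZero_not_mem _ _ ht']
    unfold subgroupBlockCoeff
    rw [dif_neg ht]

theorem pair_tdict' [Fintype G] (Q : Subgroup G) (f : Set (IrrCharacter (Subgroup.centralizer (Q : Set G))))
    (hf : IsPBlock M f) (T : Subgroup G)
    (hLT : Subgroup.centralizer (Q : Set G) ≤ T)
    (hTs : ∀ y ∈ T, y ∈ Subgroup.normalizer (Q : Set G) ∧
      StabilizesBlock (Subgroup.centralizer (Q : Set G)) f y)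
    (F : Set (IrrCharacter T)) (hFb : IsPBlock M F)
    (hFc : ∀ t : T, blockCoeff F t = subgroupBlockCoeff (Subgroup.centralizer (Q : Set G)) f (t : G))
    (S : Subgroup G) (R' : Subgroup T) (hS : S = R'.map T.subtype) (hQS : Q ≤ S) (hSp : IsPGroup p S)
    (g : Set (IrrCharacter (Subgroup.centralizer (S : Set G)))) (hg : IsPBlock M g) :
    IsBrauerPairOf p M F R' (trSet (centSubEquiv T S R'
      ((Subgroup.centralizer_le hQS).trans hLT) (tdict_h1 T S R' hS)) g)
      ↔ IsNormalSubpair p M Q f S g := by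
  have hST : S ≤ T := by rw [hS]; exact Subgroup.map_subtype_le _
  have hR'p : IsPGroup p R' := by
    subst hS
    exact hSp.of_equiv (Subgroup.equivMapOfInjective _ _ (Subgroup.subtype_injective _)).symm
  constructor
  · rintro ⟨-, -, h⟩
    refine ⟨⟨hSp.to_le hQS, hf⟩, ⟨hSp, hg⟩, hQS, fun y hy => (hTs y (hST hy)).1,
      fun y hy => (hTs y (hST hy)).2, ?_⟩
    intro ξ hξ
    rw [← brauerOmega_tdict T S R' ((Subgroup.centralizer_le hQS).trans hLT)
      (tdict_h1 T S R' hS) F _ hFc]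
    exact h _ (trIrr_mem _ hξ)
  · rintro ⟨-, -, -, -, -, h⟩
    refine ⟨⟨hR'p, isPBlock_trSet _ hg⟩, hFb, ?_⟩
    rintro _ ⟨ξ, hξ, rfl⟩
    rw [brauerOmega_tdict T S R' ((Subgroup.centralizer_le hQS).trans hLT)
      (tdict_h1 T S R' hS) F _ hFc]
    exact h ξ hξ


theorem centric_normal_pair [Fintype G] [Fact p.Prime] (hM : IsPModular p M) (B : Set (IrrCharacter G))
    (P : Subgroup G) (e : Set (IrrCharacter (Subgroup.centralizer (P : Set G))))
    (hmax : IsMaximalBrauerPair p M B P e) (F : FusionSystem P)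
    (hF : IsBlockFusionSystemOn p M B P e F) (Q : Subgroup G)
    (f : Set (IrrCharacter (Subgroup.centralizer (Q : Set G)))) (hQP : Q ≤ P) (hf : IsPBlock M f)
    (hle : SubpairLE p M Q f P e) (hcen : F.IsCentric Q)
    (hG : ∀ x : G, x ∈ Subgroup.normalizer (Q : Set G) ∧ StabilizesBlock (Subgroup.centralizer (Q : Set G)) f x) :
    (∀ g : G, MemLocalIdeal M (blockCoeff B g - subgroupBlockCoeff (Subgroup.centralizer (Q : Set G)) f g)) ∧
    ∃ F' : Set (IrrCharacter ↥(Q ⊔ Subgroup.centralizer (Q : Set G))), IsPBlock M F' ∧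
      (∀ t : ↥(Q ⊔ Subgroup.centralizer (Q : Set G)),
        blockCoeff F' t = subgroupBlockCoeff (Subgroup.centralizer (Q : Set G)) f (t : G)) ∧
      IsNilpotentBlock p M F' := by
  classical
  have hp : p.Prime := Fact.out
  have hPe := hmax.1.1
  have hB := hmax.1.2.1
  have hQp : IsPGroup p Q := hPe.1.to_le hQP
  have hQB : IsBrauerPairOf p M B Q f := (brauerPairOf_subpairLE hM B hB ⟨Q, f⟩ ⟨P, e⟩ hle).mp hmax.1
  constructor
  · haveI := Fintype.ofFinite (Subgroup.centralizer (Q : Set G))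
    haveI := Fintype.ofFinite (IrrCharacter (Subgroup.centralizer (Q : Set G)))
    haveI := Fintype.ofFinite (IrrCharacter G)
    haveI hQn : Q.Normal := ⟨fun n hn g => (Subgroup.mem_normalizer_iff.mp (hG g).1 n).mp hn⟩
    haveI hLn : (Subgroup.centralizer (Q : Set G)).Normal :=
      ⟨fun n hn g => (Subgroup.mem_normalizer_iff.mp (normalizer_le_normalizer_centralizer Q (hG g).1) n).mp hn⟩
    have hind := (isBrauerPairOf_iff_induced hM Q hQp f hf B).mp hQB
    obtain ⟨θ, hθ⟩ := IsPBlock.nonempty hM hf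
    obtain ⟨χ, hχ⟩ := exists_over (Subgroup.centralizer (Q : Set G)) θ
    have h2 := induced_of_cover_centralizer hM Q hQp _ le_rfl f hf (blockOf M (χ : G → ℂ)) ⟨χ, rfl⟩
      ⟨χ, SameBlock.refl hM _, θ, hθ, hχ⟩
    have hBχ : B = blockOf M (χ : G → ℂ) := sameBlock_of_induced hM _ f _ _ hind h2
    have hcov := cover_eq_cov hM Q hQp _ le_rfl f hf B hB ⟨χ, by rw [hBχ]; exact SameBlock.refl hM _, θ, hθ, hχ⟩
    have horb : orbB hLn f = f := by
      ext ψ
      constructor
      · rintro ⟨t, η, hη, h⟩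
        have hst := (hG t⁻¹).2
        have : ψ = trIrr (conjInvEquiv _ t⁻¹ hst.1) η := by
          apply Subtype.ext
          rw [h]
          funext n
          rw [conjFun_apply, trIrr_apply]
          have h5 : (⟨t * (n : G) * t⁻¹, hLn.conj_mem n n.2 t⟩ : Subgroup.centralizer (Q : Set G))
              = conjInvEquiv _ t⁻¹ hst.1 n := by
            apply Subtype.ext
            show t * (n : G) * t⁻¹ = t⁻¹⁻¹ * (n : G) * t⁻¹
            group
          rw [h5]
        rw [this]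
        exact stab_trIrr _ f _ hst η hη
      · intro hψ
        exact ⟨1, ψ, hψ, (conjFun_one hLn _).symm⟩
    intro g
    rw [blockCoeff_eq_coef, hcov, coef_cov _ _ (orbB_stable hLn _), horb, subgroupBlockCoeff_eq, sub_self]
    exact MemLocalIdeal.zero hM
  · have hLT : Subgroup.centralizer (Q : Set G) ≤ Q ⊔ Subgroup.centralizer (Q : Set G) := le_sup_right
    have hQT : Q ≤ Q ⊔ Subgroup.centralizer (Q : Set G) := le_sup_left
    have hTs : ∀ y ∈ Q ⊔ Subgroup.centralizer (Q : Set G), y ∈ Subgroup.normalizer (Q : Set G) ∧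
        StabilizesBlock (Subgroup.centralizer (Q : Set G)) f y := fun y _ => hG y
    haveI := Fintype.ofFinite ↥(Q ⊔ Subgroup.centralizer (Q : Set G))
    obtain ⟨F', hFb, hFc⟩ := stab_block_exists' hM Q hQp f hf _ hLT hQT hTs
    refine ⟨F', hFb, hFc, hFb, ?_⟩
    intro R' g' hpair x _ _ hreg
    -- `x` lies in the centralizer of `Q`
    have hxL : (x : G) ∈ Subgroup.centralizer (Q : Set G) := by
      obtain ⟨q, hq, l, hl, hx⟩ := mem_sup_centralizing Q _ le_rfl (x : G) x.2
      have hcomm : Commute q l := (Subgroup.mem_centralizer_iff.mp hl) q hq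
      obtain ⟨k, hk⟩ := IsPGroup.iff_card.mp hQp
      have hq1 : q ^ (Nat.card Q) = 1 := by
        have := pow_card_eq_one' (x := (⟨q, hq⟩ : Q))
        exact congrArg Subtype.val this
      have h1 : (x : G) ^ (Nat.card Q) ∈ Subgroup.centralizer (Q : Set G) := by
        rw [hx, hcomm.mul_pow, hq1, one_mul]
        exact Subgroup.pow_mem _ hl _
      have h2 : (x : G) ^ (orderOf (x : G)) ∈ Subgroup.centralizer (Q : Set G) := by
        rw [pow_orderOf_eq_one]; exact Subgroup.one_mem _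
      have hreg' : ¬ p ∣ orderOf (x : G) := by
        rw [Subgroup.orderOf_coe]; exact hreg
      apply mem_of_pow_mem_coprime _ _ _ _ _ h1 h2
      rw [hk]
      exact Nat.Coprime.pow_left _ ((Nat.Prime.coprime_iff_not_dvd hp).mpr hreg')
    -- `R'` lies in `Q`
    have hPL : P ⊓ Subgroup.centralizer (Q : Set G) ≤ Q := by
      have hd := (centric_iff hM B P e hmax F hF Q f hQP hf hle).mp hcen
      obtain ⟨h1, h2⟩ := cent_card hM P Q e f hPe hQP hf hle
      rw [← (h2 Q hQP).mpr hd] at h1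
      have h3 : Q ⊓ Subgroup.centralizer (Q : Set G) ≤ P ⊓ Subgroup.centralizer (Q : Set G) :=
        inf_le_inf_right _ hQP
      rw [← Subgroup.eq_of_le_of_card_ge h3 h1]
      exact inf_le_left
    obtain ⟨⟨D', g''⟩, hDmax, hleD⟩ := exists_maximal_above hM F' _ ⟨R', g'⟩ rfl hpair
    have hRD : R' ≤ D' := (subpairLE_le _ _ hleD).1
    have hDdef := maximal_pair_defect hM F' D' g'' hDmax
    haveI hQn' : (Q.subgroupOf (Q ⊔ Subgroup.centralizer (Q : Set G))).Normal :=
      (Subgroup.normal_subgroupOf_iff_le_normalizer hQT).mpr (fun y hy => (hTs y hy).1)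
    have hQD : Q.subgroupOf (Q ⊔ Subgroup.centralizer (Q : Set G)) ≤ D' :=
      normal_pSubgroup_le_defect hM F' hFb D' hDdef _ hQp.comap_subtype
    have hQS : Q ≤ D'.map (Q ⊔ Subgroup.centralizer (Q : Set G)).subtype := by
      intro q hq
      exact ⟨⟨q, hQT hq⟩, hQD (by rw [Subgroup.mem_subgroupOf]; exact hq), rfl⟩
    have hSp : IsPGroup p (D'.map (Q ⊔ Subgroup.centralizer (Q : Set G)).subtype) := hDmax.1.1.1.map _
    have hgg := trSet_symm' (centSubEquiv _ _ D' ((Subgroup.centralizer_le hQS).trans hLT)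
      (tdict_h1 _ _ D' rfl)) g''
    have hg : IsPBlock M (trSet (centSubEquiv _ _ D' ((Subgroup.centralizer_le hQS).trans hLT)
      (tdict_h1 _ _ D' rfl)).symm g'') := isPBlock_trSet _ hDmax.1.1.2
    have hn := (pair_tdict' _ _ hf _ hLT hTs F' hFb hFc _ D' rfl hQS hSp _ hg).mp (by rw [hgg]; exact hDmax.1)
    have hSB := (brauerPairOf_normal_step hM Q _ f _ hn B hB).mpr hQB
    obtain ⟨z, hz⟩ := pair_conj_into_maximal hM B P _ e _ hmax hSB
    have hzP := (subpairLE_le _ _ hz).1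
    have hSQ : ∀ d ∈ D', (d : G) ∈ Q := by
      intro d hd
      obtain ⟨q, hq, l, hl, hdql⟩ := mem_sup_centralizing Q _ le_rfl (d : G) d.2
      have h1 : z * (d : G) * z⁻¹ ∈ P := hzP ⟨d, ⟨d, hd, rfl⟩, by simp⟩
      have hq' : z * q * z⁻¹ ∈ Q := (Subgroup.mem_normalizer_iff.mp (hG z).1 q).mp hq
      have hl' : z * l * z⁻¹ ∈ Subgroup.centralizer (Q : Set G) :=
        (Subgroup.mem_normalizer_iff.mp (normalizer_le_normalizer_centralizer Q (hG z).1) l).mp hl
      have e1 : z * l * z⁻¹ = (z * q * z⁻¹)⁻¹ * (z * (d : G) * z⁻¹) := by rw [hdql]; group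
      have h2 : z * l * z⁻¹ ∈ P := by
        rw [e1]; exact P.mul_mem (P.inv_mem (hQP hq')) h1
      have h3 : z * l * z⁻¹ ∈ Q := hPL ⟨h2, hl'⟩
      have h4 : z * (d : G) * z⁻¹ ∈ Q := by
        have e2 : z * (d : G) * z⁻¹ = (z * q * z⁻¹) * (z * l * z⁻¹) := by rw [hdql]; group
        rw [e2]; exact Q.mul_mem hq' h3
      exact (Subgroup.mem_normalizer_iff.mp (hG z).1 _).mpr h4
    rw [Subgroup.mem_centralizer_iff]
    intro r hr
    apply Subtype.ext
    exact (Subgroup.mem_centralizer_iff.mp hxL) r (hSQ r (hRD hr))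

end BrauerC
end Cfsg.Agent.H4
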