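import Cfsg.Agent.Lib_helper4_BlkBH

set_option autoImplicit false
set_option linter.style.haveILetI false
set_option linter.unusedSectionVars false
namespace Cfsg.Agent.H4
open Module
open scoped ComplexConjugate
universe u v w

section BrauerD
variable {p : ℕ} {M : Ideal AlgInt} {G : Type u} [Group G]

/-- a Brauer pair of the subgroup `T` corresponds to a Brauer pair of `G` with the same centralizer -/
def TRel (T : Subgroup G) (a' : BrauerPairIdx T) (a : BrauerPairIdx G) : Prop :=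
  ∃ (hS : a.1 = a'.1.map T.subtype) (h2 : Subgroup.centralizer (a.1 : Set G) ≤ T),
    a'.2 = trSet (centSubEquiv T a.1 a'.1 h2 (tdict_h1 T a.1 a'.1 hS)) a.2

theorem trel_exists (T : Subgroup G) (a' : BrauerPairIdx T)
    (h2 : Subgroup.centralizer ((a'.1.map T.subtype : Subgroup G) : Set G) ≤ T) :
    TRel T a' ⟨a'.1.map T.subtype, trSet (centSubEquiv T _ a'.1 h2 (tdict_h1 T _ a'.1 rfl)).symm a'.2⟩ :=
  ⟨rfl, h2, (trSet_symm' _ _).symm⟩

theorem trel_unique (T : Subgroup G) (a' : BrauerPairIdx T) (a b : BrauerPairIdx G) (ha : TRel T a' a)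
    (hb : TRel T a' b) : a = b := by
  obtain ⟨S, g⟩ := a
  obtain ⟨S2, g2⟩ := b
  obtain ⟨hS, h2, hg⟩ := ha
  obtain ⟨hS2, h22, hg2⟩ := hb
  simp only at hS hS2 h2 h22 hg hg2
  subst hS
  subst hS2
  have h3 := congrArg (trSet (centSubEquiv T _ a'.1 h2 (tdict_h1 T _ a'.1 rfl)).symm) (hg.symm.trans hg2)
  rw [trSet_symm, trSet_symm] at h3
  rw [h3]

theorem brauerOmega_tdict' [Fintype G] (T S : Subgroup G) (R' : Subgroup T)
    (h2 : Subgroup.centralizer (S : Set G) ≤ T)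
    (h1 : ∀ c : T, c ∈ Subgroup.centralizer (R' : Set T) ↔ (c : G) ∈ Subgroup.centralizer (S : Set G))
    (β' : T → ℂ) (β : G → ℂ) (hF : ∀ t : T, β' t = β t)
    (ξ : IrrCharacter (Subgroup.centralizer (S : Set G))) :
    brauerOmega R' β' (trIrr (centSubEquiv T S R' h2 h1) ξ : _ → ℂ)
      = brauerOmega S β (ξ : Subgroup.centralizer (S : Set G) → ℂ) := by
  classical
  haveI := Fintype.ofFinite (Subgroup.centralizer (S : Set G))
  haveI := Fintype.ofFinite (Subgroup.centralizer (R' : Set T))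
  rw [brauerOmega_eq_spec, brauerOmega_eq_spec]
  unfold spec
  rw [trIrr_apply, map_one]
  congr 1
  rw [← Equiv.sum_comp (centSubEquiv T S R' h2 h1).toEquiv]
  apply Finset.sum_congr rfl; intro c _
  rw [trIrr_apply]
  congr 1
  exact hF c

theorem stab_transport (T S : Subgroup G) (R' : Subgroup T)
    (h2 : Subgroup.centralizer (S : Set G) ≤ T)
    (h1 : ∀ c : T, c ∈ Subgroup.centralizer (R' : Set T) ↔ (c : G) ∈ Subgroup.centralizer (S : Set G))
    (g : Set (IrrCharacter (Subgroup.centralizer (S : Set G)))) (y : T)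
    (hy : (y : G) ∈ Subgroup.normalizer (Subgroup.centralizer (S : Set G) : Set G))
    (h : StabilizesBlock (Subgroup.centralizer (R' : Set T)) (trSet (centSubEquiv T S R' h2 h1) g) y) :
    StabilizesBlock (Subgroup.centralizer (S : Set G)) g (y : G) := by
  refine ⟨hy, ?_⟩
  intro χ hχ
  obtain ⟨_, ⟨χ1, hχ1, rfl⟩, hc⟩ := h.2 _ (trIrr_mem (centSubEquiv T S R' h2 h1) hχ)
  refine ⟨χ1, hχ1, ?_⟩
  intro k k' hk
  exact hc ((centSubEquiv T S R' h2 h1).symm k) ((centSubEquiv T S R' h2 h1).symm k') (Subtype.ext hk)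

theorem map_subtype_normalizer (T : Subgroup G) (R1 : Subgroup T) (y : T)
    (hy : y ∈ Subgroup.normalizer (R1 : Set T)) :
    (y : G) ∈ Subgroup.normalizer ((R1.map T.subtype : Subgroup G) : Set G) := by
  rw [Subgroup.mem_normalizer_iff]
  intro h
  constructor
  · rintro ⟨h', hh', rfl⟩
    exact ⟨y * h' * y⁻¹, (Subgroup.mem_normalizer_iff.mp hy h').mp hh', rfl⟩
  · rintro ⟨k', hk', hk⟩
    have h3 := (Subgroup.mem_normalizer_iff.mp (Subgroup.inv_mem _ hy) k').mp hk'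
    refine ⟨_, h3, ?_⟩
    show ((y⁻¹ * k' * y⁻¹⁻¹ : T) : G) = h
    have e1 : ((y⁻¹ * k' * y⁻¹⁻¹ : T) : G) = (y : G)⁻¹ * (k' : G) * y := by simp
    have hk2 : (k' : G) = (y : G) * h * (y : G)⁻¹ := hk
    rw [e1, hk2]; group

theorem trel_step [Fintype G] (T : Subgroup G) (a' b' : BrauerPairIdx T) (a b : BrauerPairIdx G)
    (h : NormalSubpairRel p M a' b') (ha : TRel T a' a) (hb : TRel T b' b) : NormalSubpairRel p M a b := by
  obtain ⟨R1, g1'⟩ := a'
  obtain ⟨R2, g2'⟩ := b'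
  obtain ⟨S1, g1⟩ := a
  obtain ⟨S2, g2⟩ := b
  obtain ⟨hS1, h21, hg1⟩ := ha
  obtain ⟨hS2, h22, hg2⟩ := hb
  simp only at hS1 hS2 h21 h22 hg1 hg2
  subst hS1
  subst hS2
  have hg1' : g1' = trSet (centSubEquiv T _ R1 h21 (tdict_h1 T _ R1 rfl)) g1 := hg1
  have hg2' : g2' = trSet (centSubEquiv T _ R2 h22 (tdict_h1 T _ R2 rfl)) g2 := hg2
  clear hg1 hg2
  subst hg1'
  subst hg2'
  obtain ⟨hp1, hp2, hle, hN, hst, hbr⟩ := h
  simp only at hp1 hp2 hle hN hst hbr
  have hb1 : IsPBlock M g1 := by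
    have := isPBlock_trSet (M := M) (centSubEquiv T _ R1 h21 (tdict_h1 T _ R1 rfl)).symm hp1.2
    rwa [trSet_symm] at this
  have hb2 : IsPBlock M g2 := by
    have := isPBlock_trSet (M := M) (centSubEquiv T _ R2 h22 (tdict_h1 T _ R2 rfl)).symm hp2.2
    rwa [trSet_symm] at this
  have hNG : R2.map T.subtype ≤ Subgroup.normalizer ((R1.map T.subtype : Subgroup G) : Set G) := by
    rintro _ ⟨y, hy, rfl⟩
    exact map_subtype_normalizer T R1 y (hN hy)
  refine ⟨⟨hp1.1.map _, hb1⟩, ⟨hp2.1.map _, hb2⟩, Subgroup.map_mono hle, hNG, ?_, ?_⟩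
  · rintro _ ⟨y, hy, rfl⟩
    exact stab_transport T _ R1 h21 _ g1 y (normalizer_le_normalizer_centralizer _ (hNG ⟨y, hy, rfl⟩)) (hst y hy)
  · intro ξ hξ
    rw [← brauerOmega_tdict' T _ R2 h22 (tdict_h1 T _ R2 rfl)
      (subgroupBlockCoeff (Subgroup.centralizer (R1 : Set T))
        (trSet (centSubEquiv T _ R1 h21 (tdict_h1 T _ R1 rfl)) g1))]
    · exact hbr _ (trIrr_mem _ hξ)
    · intro t
      by_cases ht : t ∈ Subgroup.centralizer (R1 : Set T)
      · rw [subgroupBlockCoeff_mem _ _ _ ht, subgroupBlockCoeff_mem _ _ _ ((tdict_h1 T _ R1 rfl t).mp ht),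
          blockCoeff_trSet]
        rfl
      · unfold subgroupBlockCoeff
        rw [dif_neg ht, dif_neg (fun h => ht ((tdict_h1 T _ R1 rfl t).mpr h))]

theorem trel_chain [Fintype G] (T : Subgroup G) (a' b' : BrauerPairIdx T) (a : BrauerPairIdx G)
    (h : Relation.ReflTransGen (NormalSubpairRel p M) a' b') (ha : TRel T a' a) :
    ∃ b, TRel T b' b ∧ Relation.ReflTransGen (NormalSubpairRel p M) a b := by
  induction h with
  | refl => exact ⟨a, ha, Relation.ReflTransGen.refl⟩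
  | @tail c' d' _ hcd ih =>
    obtain ⟨c, hc, hac⟩ := ih
    have hle : c'.1 ≤ d'.1 := hcd.2.2.1
    have h2 : Subgroup.centralizer ((d'.1.map T.subtype : Subgroup G) : Set G) ≤ T := by
      obtain ⟨hS, h2c, -⟩ := hc
      refine le_trans (Subgroup.centralizer_le ?_) h2c
      rw [hS]
      exact Subgroup.map_mono hle
    exact ⟨_, trel_exists T d' h2, hac.tail (trel_step T c' d' c _ hcd hc (trel_exists T d' h2))⟩

theorem trel_conj (T : Subgroup G) (a' : BrauerPairIdx T) (a : BrauerPairIdx G) (ha : TRel T a' a) (t : T) :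
    TRel T (conjPair t a') (conjPair (t : G) a) := by
  obtain ⟨R1, g1'⟩ := a'
  obtain ⟨S1, g1⟩ := a
  obtain ⟨hS1, h21, hg1⟩ := ha
  simp only at hS1 h21 hg1
  subst hS1
  have hg1' : g1' = trSet (centSubEquiv T _ R1 h21 (tdict_h1 T _ R1 rfl)) g1 := hg1
  clear hg1
  subst hg1'
  have hS : (R1.map T.subtype).map (MulAut.conj (t : G)).toMonoidHom
      = (R1.map (MulAut.conj t).toMonoidHom).map T.subtype := by
    rw [Subgroup.map_map, Subgroup.map_map]; rfl
  have h2 : Subgroup.centralizer (((R1.map T.subtype).map (MulAut.conj (t : G)).toMonoidHom : Subgroup G) : Set G)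
      ≤ T := by
    intro h hh
    rw [mem_centralizer_map_conj_iff] at hh
    have h3 := T.mul_mem (T.mul_mem t.2 (h21 hh)) (T.inv_mem t.2)
    have e1 : (t : G) * ((t : G)⁻¹ * h * t) * (t : G)⁻¹ = h := by group
    rwa [e1] at h3
  refine ⟨hS, h2, ?_⟩
  show conjBlock R1 t _ = trSet (centSubEquiv T _ _ h2 _) (conjBlock (R1.map T.subtype) (t : G) g1)
  rw [conjBlock_eq_trSet, conjBlock_eq_trSet]
  ext θ; constructor
  · rintro ⟨_, ⟨θ0, h0, rfl⟩, rfl⟩
    exact ⟨_, ⟨θ0, h0, rfl⟩, rfl⟩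
  · rintro ⟨_, ⟨θ0, h0, rfl⟩, rfl⟩
    exact ⟨_, ⟨θ0, h0, rfl⟩, rfl⟩

theorem conjPair_mul [Finite G] (hM : IsPModular p M) (x y : G) (a : BrauerPairIdx G) (ha : IsPBlock M a.2) :
    conjPair x (conjPair y a) = conjPair (x * y) a := by
  obtain ⟨Q, f⟩ := a
  simp only at ha
  have hb1 : IsPBlock M (conjBlock Q y f) := by rw [conjBlock_eq_trSet]; exact isPBlock_trSet _ ha
  apply pair_eq_of hM
  · show (Q.map (MulAut.conj y).toMonoidHom).map (MulAut.conj x).toMonoidHom = Q.map (MulAut.conj (x * y)).toMonoidHom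
    ext h
    rw [mem_map_conj_iff, mem_map_conj_iff, mem_map_conj_iff]
    have : y⁻¹ * (x⁻¹ * h * x) * y = (x * y)⁻¹ * h * (x * y) := by group
    rw [this]
  · show IsPBlock M (conjBlock _ x (conjBlock Q y f))
    rw [conjBlock_eq_trSet]; exact isPBlock_trSet _ hb1
  · show IsPBlock M (conjBlock Q (x * y) f)
    rw [conjBlock_eq_trSet]; exact isPBlock_trSet _ ha
  · obtain ⟨ξ0, hξ0⟩ := IsPBlock.nonempty hM ha
    refine ⟨trIrr (centConjEquiv _ x) (trIrr (centConjEquiv Q y) ξ0), ?_, trIrr (centConjEquiv Q (x * y)) ξ0, ?_, ?_⟩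
    · show _ ∈ conjBlock _ x (conjBlock Q y f)
      rw [conjBlock_eq_trSet, conjBlock_eq_trSet]
      exact trIrr_mem _ (trIrr_mem _ hξ0)
    · show _ ∈ conjBlock Q (x * y) f
      rw [conjBlock_eq_trSet]
      exact trIrr_mem _ hξ0
    · intro c c' hcc
      have h6 : centConjEquiv Q y (centConjEquiv _ x c) = centConjEquiv Q (x * y) c' := by
        apply Subtype.ext
        show y⁻¹ * (x⁻¹ * (c : G) * x) * y = (x * y)⁻¹ * (c' : G) * (x * y)
        rw [hcc]; group
      show (ξ0 : _ → ℂ) (centConjEquiv Q y (centConjEquiv _ x c)) = (ξ0 : _ → ℂ) (centConjEquiv Q (x * y) c')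
      rw [h6]

theorem stab_block_data [Fintype G] (hM : IsPModular p M) (Q : Subgroup G) (hQ : IsPGroup p Q)
    (f : Set (IrrCharacter (Subgroup.centralizer (Q : Set G)))) (hf : IsPBlock M f) (T : Subgroup G)
    (hLT : Subgroup.centralizer (Q : Set G) ≤ T) (hQT : Q ≤ T)
    (hTs : ∀ y ∈ T, y ∈ Subgroup.normalizer (Q : Set G) ∧
      StabilizesBlock (Subgroup.centralizer (Q : Set G)) f y)
    [Fintype ((Subgroup.centralizer (Q : Set G)).subgroupOf T)] :
    ∃ ζ : IrrCharacter T,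
      (∃ θ ∈ f, classInner (fun n : (Subgroup.centralizer (Q : Set G)).subgroupOf T => (ζ : T → ℂ) n)
        (trIrr (Subgroup.subgroupOfEquivOfLe hLT) θ : (Subgroup.centralizer (Q : Set G)).subgroupOf T → ℂ) ≠ 0) ∧
      (∀ hLn : ((Subgroup.centralizer (Q : Set G)).subgroupOf T).Normal,
        orbB hLn (trSet (Subgroup.subgroupOfEquivOfLe hLT) f) = trSet (Subgroup.subgroupOfEquivOfLe hLT) f) ∧
      ∀ t : T, blockCoeff (blockOf M (ζ : T → ℂ)) t
        = subgroupBlockCoeff (Subgroup.centralizer (Q : Set G)) f (t : G) := by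
  classical
  have hTN : T ≤ Subgroup.normalizer (Q : Set G) := fun y hy => (hTs y hy).1
  haveI := Fintype.ofFinite T
  haveI := Fintype.ofFinite (IrrCharacter T)
  haveI := Fintype.ofFinite (IrrCharacter ((Subgroup.centralizer (Q : Set G)).subgroupOf T))
  haveI hLn : ((Subgroup.centralizer (Q : Set G)).subgroupOf T).Normal :=
    (Subgroup.normal_subgroupOf_iff_le_normalizer hLT).mpr (hTN.trans (normalizer_le_normalizer_centralizer Q))
  haveI hQn : (Q.subgroupOf T).Normal := (Subgroup.normal_subgroupOf_iff_le_normalizer hQT).mpr hTN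
  have hQ' : IsPGroup p (Q.subgroupOf T) := hQ.comap_subtype
  have hCN : Subgroup.centralizer ((Q.subgroupOf T : Subgroup T) : Set T)
      ≤ (Subgroup.centralizer (Q : Set G)).subgroupOf T := by
    intro c hc
    rw [Subgroup.mem_subgroupOf, Subgroup.mem_centralizer_iff]
    intro q hq
    have := (Subgroup.mem_centralizer_iff.mp hc) ⟨q, hQT hq⟩ (by
      show (⟨q, hQT hq⟩ : T) ∈ Q.subgroupOf _
      rw [Subgroup.mem_subgroupOf]; exact hq)
    exact congrArg Subtype.val this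
  obtain ⟨θ, hθ⟩ := IsPBlock.nonempty hM hf
  obtain ⟨ζ, hζ⟩ := exists_over ((Subgroup.centralizer (Q : Set G)).subgroupOf T)
    (trIrr (Subgroup.subgroupOfEquivOfLe hLT) θ)
  have hb := isPBlock_trSet (M := M) (Subgroup.subgroupOfEquivOfLe hLT) hf
  have hcov := cover_eq_cov hM (Q.subgroupOf T) hQ' _ hCN _ hb (blockOf M (ζ : T → ℂ)) ⟨ζ, rfl⟩
    ⟨ζ, SameBlock.refl hM _, _, trIrr_mem _ hθ, hζ⟩
  have horb : orbB hLn (trSet (Subgroup.subgroupOfEquivOfLe hLT) f) = trSet (Subgroup.subgroupOfEquivOfLe hLT) f := by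
    ext ψ
    constructor
    · rintro ⟨t, _, ⟨η, hη, rfl⟩, h⟩
      have hst := (hTs _ (T.inv_mem t.2)).2
      refine ⟨_, stab_trIrr _ f _ hst η hη, ?_⟩
      apply Subtype.ext
      rw [h]
      funext n
      rw [conjFun_apply, trIrr_apply, trIrr_apply, trIrr_apply]
      have h5 : (Subgroup.subgroupOfEquivOfLe hLT) ⟨t * (n : T) * t⁻¹, hLn.conj_mem n n.2 t⟩
          = conjInvEquiv (Subgroup.centralizer (Q : Set G)) (t : G)⁻¹ hst.1 ((Subgroup.subgroupOfEquivOfLe hLT) n) := by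
        apply Subtype.ext
        show (t : G) * (n : G) * (t : G)⁻¹ = (t : G)⁻¹⁻¹ * (n : G) * (t : G)⁻¹
        group
      rw [h5]
    · intro hψ
      exact ⟨1, ψ, hψ, (conjFun_one hLn _).symm⟩
  refine ⟨ζ, ⟨θ, hθ, hζ⟩, fun _ => horb, ?_⟩
  intro t
  rw [blockCoeff_eq_coef, hcov, coef_cov _ _ (orbB_stable hLn _), horb]
  by_cases ht : (t : G) ∈ Subgroup.centralizer (Q : Set G)
  · have ht' : t ∈ (Subgroup.centralizer (Q : Set G)).subgroupOf T := by
      rw [Subgroup.mem_subgroupOf]; exact ht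
    rw [extendByZero_mem _ _ ht', ← blockCoeff_eq_coef, blockCoeff_trSet, subgroupBlockCoeff_mem _ f _ ht]
    rfl
  · have ht' : t ∉ (Subgroup.centralizer (Q : Set G)).subgroupOf T := by
      rw [Subgroup.mem_subgroupOf]; exact ht
    rw [extendByZero_not_mem _ _ ht']
    unfold subgroupBlockCoeff
    rw [dif_neg ht]


theorem tdl [Fintype G] [Fact p.Prime] (hM : IsPModular p M) (Q : Subgroup G) (hQ : IsPGroup p Q)
    (f : Set (IrrCharacter (Subgroup.centralizer (Q : Set G)))) (hf : IsPBlock M f) (T : Subgroup G)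
    (hT : ∀ y : G, y ∈ T ↔ y ∈ Subgroup.normalizer (Q : Set G) ∧
      StabilizesBlock (Subgroup.centralizer (Q : Set G)) f y)
    (hreg : ∀ y ∈ T, IsPRegular p y → y ∈ Subgroup.centralizer (Q : Set G))
    (F : Set (IrrCharacter T)) (hFb : IsPBlock M F)
    (hFc : ∀ t : T, blockCoeff F t = subgroupBlockCoeff (Subgroup.centralizer (Q : Set G)) f (t : G))
    (D : Subgroup T) (hD : IsDefectGroup p M F D) :
    ∀ t : T, ∃ d ∈ D, ∃ c ∈ Subgroup.centralizer (Q : Set G), (t : G) = (d : G) * c := by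
  classical
  have hp : p.Prime := Fact.out
  obtain ⟨hLT, hQT, hTN⟩ := stab_facts Q f T hT
  haveI := Fintype.ofFinite T
  haveI := Fintype.ofFinite (IrrCharacter T)
  haveI := Fintype.ofFinite ((Subgroup.centralizer (Q : Set G)).subgroupOf T)
  haveI hLn : ((Subgroup.centralizer (Q : Set G)).subgroupOf T).Normal :=
    (Subgroup.normal_subgroupOf_iff_le_normalizer hLT).mpr (hTN.trans (normalizer_le_normalizer_centralizer Q))
  haveI hQn : (Q.subgroupOf T).Normal := (Subgroup.normal_subgroupOf_iff_le_normalizer hQT).mpr hTN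
  have hQ' : IsPGroup p (Q.subgroupOf T) := hQ.comap_subtype
  have hCN : Subgroup.centralizer ((Q.subgroupOf T : Subgroup T) : Set T)
      ≤ (Subgroup.centralizer (Q : Set G)).subgroupOf T := by
    intro c hc
    rw [Subgroup.mem_subgroupOf, Subgroup.mem_centralizer_iff]
    intro q hq
    have := (Subgroup.mem_centralizer_iff.mp hc) ⟨q, hQT hq⟩ (by
      show (⟨q, hQT hq⟩ : T) ∈ Q.subgroupOf _
      rw [Subgroup.mem_subgroupOf]; exact hq)
    exact congrArg Subtype.val this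
  obtain ⟨ζ, ⟨θ, hθ, hζ⟩, horb, hc0⟩ := stab_block_data hM Q hQ f hf T hLT hQT (fun y hy => (hT y).mp hy)
  have hFeq : F = blockOf M (ζ : T → ℂ) := indicator_eq_of_coef_eq F _ (fun t => by
    rw [← blockCoeff_eq_coef, ← blockCoeff_eq_coef, hFc, hc0])
  subst hFeq
  have hb := isPBlock_trSet (M := M) (Subgroup.subgroupOfEquivOfLe hLT) hf
  have hinv : ∀ θ' ∈ trSet (Subgroup.subgroupOfEquivOfLe hLT) f, ∀ g : T,
      (⟨conjFun hLn (θ' : _ → ℂ) g, conjFun_irr hLn θ'.2 g⟩ :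
        IrrCharacter ((Subgroup.centralizer (Q : Set G)).subgroupOf T)) ∈ trSet (Subgroup.subgroupOfEquivOfLe hLT) f := by
    intro θ' hθ' g
    have := orbB_stable hLn (trSet (Subgroup.subgroupOfEquivOfLe hLT) f) θ' (by rw [horb hLn]; exact hθ') g
    rwa [horb hLn] at this
  have hcovF : ∃ χ ∈ blockOf M (ζ : T → ℂ), ∃ θ' ∈ trSet (Subgroup.subgroupOfEquivOfLe hLT) f,
      classInner (fun n : (Subgroup.centralizer (Q : Set G)).subgroupOf T => (χ : T → ℂ) n) (θ' : _ → ℂ) ≠ 0 :=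
    ⟨ζ, SameBlock.refl hM _, _, trIrr_mem _ hθ, hζ⟩
  have hmaxd : ∀ B' : Set (IrrCharacter T), IsPBlock M B' →
      (∃ χ ∈ B', ∃ θ' ∈ trSet (Subgroup.subgroupOfEquivOfLe hLT) f,
        classInner (fun n : (Subgroup.centralizer (Q : Set G)).subgroupOf T => (χ : T → ℂ) n) (θ' : _ → ℂ) ≠ 0) →
      blockDefect p B' ≤ blockDefect p (blockOf M (ζ : T → ℂ)) := by
    intro B' hB' hcov'
    rw [cover_eq_cov hM (Q.subgroupOf T) hQ' _ hCN _ hb B' hB' hcov',
      ← cover_eq_cov hM (Q.subgroupOf T) hQ' _ hCN _ hb _ ⟨ζ, rfl⟩ hcovF]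
  obtain ⟨hnd, -, -⟩ := fong_theorem hM _ _ hb hinv _ hFb hcovF hmaxd D hD
  have hpq : IsPGroup p (T ⧸ (Subgroup.centralizer (Q : Set G)).subgroupOf T) := by
    intro g
    obtain ⟨t, rfl⟩ := QuotientGroup.mk_surjective g
    refine ⟨(orderOf t).factorization p, ?_⟩
    rw [← QuotientGroup.mk_pow, QuotientGroup.eq_one_iff, Subgroup.mem_subgroupOf]
    apply hreg _ (t ^ _).2
    unfold IsPRegular
    rw [Subgroup.orderOf_coe, orderOf_pow_of_dvd (pow_ne_zero _ hp.ne_zero) (Nat.ordProj_dvd _ _)]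
    exact Nat.not_dvd_ordCompl hp (orderOf_pos t).ne'
  obtain ⟨k, hk⟩ := IsPGroup.iff_card.mp hpq
  have hidx : ((Subgroup.centralizer (Q : Set G)).subgroupOf T).index = p ^ k := hk
  have hdvd : (D ⊔ (Subgroup.centralizer (Q : Set G)).subgroupOf T).index ∣ p ^ k :=
    hidx ▸ Subgroup.index_dvd_of_le le_sup_right
  obtain ⟨j, -, hj⟩ := (Nat.dvd_prime_pow hp).mp hdvd
  have hj0 : j = 0 := by
    by_contra h
    apply hnd
    rw [hj]; exact dvd_pow_self p h
  have htop : D ⊔ (Subgroup.centralizer (Q : Set G)).subgroupOf T = ⊤ := by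
    rw [← Subgroup.index_eq_one, hj, hj0, pow_zero]
  intro t
  have ht : t ∈ D ⊔ (Subgroup.centralizer (Q : Set G)).subgroupOf T := htop ▸ Subgroup.mem_top t
  rw [← SetLike.mem_coe, Subgroup.mul_normal] at ht
  obtain ⟨d, hd, n, hn, rfl⟩ := Set.mem_mul.mp ht
  exact ⟨d, hd, n, Subgroup.mem_subgroupOf.mp hn, rfl⟩

end BrauerD
end Cfsg.Agent.H4
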