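import Cfsg.Agent.Lib_helper4_BlkBI

set_option autoImplicit false
set_option linter.style.haveILetI false
set_option linter.unusedSectionVars false
namespace Cfsg.Agent.H4
open Module
open scoped ComplexConjugate
universe u v w

section BrauerE
variable {p : ℕ} {M : Ideal AlgInt} {G : Type u} [Group G]

theorem subpairLE_block (a b : BrauerPairIdx G) (h : Relation.ReflTransGen (NormalSubpairRel p M) a b)
    (hb : IsPBlock M b.2) : IsPBlock M a.2 := by
  rcases Relation.ReflTransGen.cases_head h with h1 | ⟨c, hac, -⟩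
  · rw [h1]; exact hb
  · exact hac.1.2

theorem trel_block (T : Subgroup G) (a' : BrauerPairIdx T) (a : BrauerPairIdx G) (h : TRel T a' a)
    (ha : IsPBlock M a'.2) : IsPBlock M a.2 := by
  obtain ⟨hS, h2, hg⟩ := h
  rw [hg] at ha
  have := isPBlock_trSet (M := M) (centSubEquiv T a.1 a'.1 h2 (tdict_h1 T a.1 a'.1 hS)).symm ha
  rwa [trSet_symm] at this

theorem stab_of_conjPair_eq [Finite G] (hM : IsPModular p M) (P : Subgroup G)
    (e : Set (IrrCharacter (Subgroup.centralizer (P : Set G)))) (he : IsPBlock M e) (x : G)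
    (h : conjPair x ⟨P, e⟩ = ⟨P, e⟩) :
    x ∈ Subgroup.normalizer (P : Set G) ∧ StabilizesBlock (Subgroup.centralizer (P : Set G)) e x := by
  have h1 : P.map (MulAut.conj x).toMonoidHom = P := congrArg Sigma.fst h
  have hxN := mem_normalizer_of_map_conj_eq P x h1
  have hxC := normalizer_le_normalizer_centralizer P hxN
  refine ⟨hxN, ?_⟩
  obtain ⟨ξ0, hξ0⟩ := IsPBlock.nonempty hM he
  obtain ⟨ξ1, hξ1, hpt⟩ := pair_eq_pointwise _ _ h (trIrr (centConjEquiv P x) ξ0) (by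
    show _ ∈ conjBlock P x e
    rw [conjBlock_eq_trSet]; exact trIrr_mem _ hξ0)
  have hξ1' : ξ1 ∈ e := hξ1
  have key : ξ1 = trIrr (conjInvEquiv _ x hxC) ξ0 := by
    apply Subtype.ext
    funext d1
    have hd : (d1 : G) ∈ Subgroup.centralizer ((P.map (MulAut.conj x).toMonoidHom : Subgroup G) : Set G) := by
      rw [h1]; exact d1.2
    have h2 := hpt ⟨d1, hd⟩ d1 rfl
    exact h2.symm
  have hmem1 : ξ1 ∈ trSet (conjInvEquiv _ x hxC) e := by rw [key]; exact trIrr_mem _ hξ0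
  apply stabilizes_of_trSet _ e _ hxC
  rw [IsPBlock.eq_blockOf hM (isPBlock_trSet _ he) hmem1, ← IsPBlock.eq_blockOf hM he hξ1']

theorem card_map_conj (Q : Subgroup G) (x : G) : Nat.card (Q.map (MulAut.conj x).toMonoidHom) = Nat.card Q :=
  Nat.card_congr (Subgroup.equivMapOfInjective _ _ (MulAut.conj x).injective).symm.toEquiv

theorem nilpotent_control_top [Fintype G] [Fact p.Prime] (hM : IsPModular p M) (B : Set (IrrCharacter G))
    (P : Subgroup G) (e : Set (IrrCharacter (Subgroup.centralizer (P : Set G))))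
    (hmax : IsMaximalBrauerPair p M B P e) (hnil : IsNilpotentBlock p M B) (x : G)
    (hx : SubpairLE p M (P.map (MulAut.conj x).toMonoidHom) (conjBlock P x e) P e) :
    ∃ u ∈ P, ∀ q ∈ P, x * q * x⁻¹ = u * q * u⁻¹ := by
  classical
  have hPe := hmax.1.1
  have hB := hmax.1.2.1
  have h1 : P.map (MulAut.conj x).toMonoidHom = P :=
    Subgroup.eq_of_le_of_card_ge (subpairLE_le _ _ hx).1 (card_map_conj P x).ge
  have h2 : conjPair x ⟨P, e⟩ = ⟨P, e⟩ := subpairLE_same hM _ _ hx h1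
  obtain ⟨hxN, hxs⟩ := stab_of_conjPair_eq hM P e hPe.2 x h2
  obtain ⟨T, hT⟩ := exists_stab hM P e hPe.2
  haveI := Fintype.ofFinite T
  obtain ⟨F, hFb, hFc⟩ := stab_block_exists hM P hPe.1 e hPe.2 T hT
  have hreg : ∀ y ∈ T, IsPRegular p y → y ∈ Subgroup.centralizer (P : Set G) :=
    fun y hy hr => hnil.2 P e hmax.1 y ((hT y).mp hy).1 ((hT y).mp hy).2 hr
  obtain ⟨D, g', hDmax, hDle, -⟩ := norm_pair_max hM P P e e hPe le_rfl hPe.2 Relation.ReflTransGen.refl T hT F hFb hFc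
  have hDdef := maximal_pair_defect hM F D g' hDmax
  have hQS : P ≤ D.map T.subtype := by
    intro q hq
    have hqT : q ∈ T := (stab_facts _ _ T hT).2.1 hq
    exact ⟨⟨q, hqT⟩, hDle (by rw [Subgroup.mem_subgroupOf]; exact ⟨hq, Subgroup.le_normalizer hq⟩), rfl⟩
  have hSp : IsPGroup p (D.map T.subtype) := hDmax.1.1.1.map _
  have hgg := trSet_symm' (centSubEquiv T _ D ((Subgroup.centralizer_le hQS).trans (stab_facts _ _ T hT).1)
    (tdict_h1 T _ D rfl)) g'
  have hg : IsPBlock M (trSet (centSubEquiv T _ D ((Subgroup.centralizer_le hQS).trans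
    (stab_facts _ _ T hT).1) (tdict_h1 T _ D rfl)).symm g') := isPBlock_trSet _ hDmax.1.1.2
  have hn := (pair_tdict _ _ hPe.2 T hT F hFb hFc _ D rfl hQS hSp _ hg).mp (by rw [hgg]; exact hDmax.1)
  have hSB := (brauerPairOf_normal_step hM P _ e _ hn B hB).mpr hmax.1
  have hSP := hmax.2 _ _ hSB (Relation.ReflTransGen.single hn)
  obtain ⟨d, hd, c, hc, hdc⟩ := tdl hM P hPe.1 e hPe.2 T hT hreg F hFb hFc D hDdef ⟨x, (hT x).mpr ⟨hxN, hxs⟩⟩
  refine ⟨d, hSP ▸ ⟨d, hd, rfl⟩, ?_⟩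
  intro q hq
  have h3 : q * c = c * q := (Subgroup.mem_centralizer_iff.mp hc) q hq
  have hdc' : x = (d : G) * c := hdc
  rw [hdc']
  calc (d : G) * c * q * ((d : G) * c)⁻¹ = (d : G) * (c * q) * c⁻¹ * (d : G)⁻¹ := by group
    _ = (d : G) * q * (d : G)⁻¹ := by rw [← h3]; group

theorem normalizer_subpair [Fintype G] [Fact p.Prime] (hM : IsPModular p M) (P Q : Subgroup G)
    (e : Set (IrrCharacter (Subgroup.centralizer (P : Set G))))
    (f : Set (IrrCharacter (Subgroup.centralizer (Q : Set G)))) (hPe : IsBrauerPair p M P e) (hQP : Q ≤ P)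
    (hle : SubpairLE p M Q f P e) :
    ∃ eR : Set (IrrCharacter (Subgroup.centralizer ((P ⊓ Subgroup.normalizer (Q : Set G) : Subgroup G) : Set G))),
      IsPBlock M eR ∧ SubpairLE p M (P ⊓ Subgroup.normalizer (Q : Set G)) eR P e ∧
      IsNormalSubpair p M Q f (P ⊓ Subgroup.normalizer (Q : Set G)) eR := by
  have hNP : P ⊓ Subgroup.normalizer (Q : Set G) ≤ P := inf_le_left
  have hQN : Q ≤ P ⊓ Subgroup.normalizer (Q : Set G) := le_inf hQP Subgroup.le_normalizer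
  have hNp := hPe.1.to_le hNP
  obtain ⟨eN, heN, hNle⟩ := subpair_exists hM P e hPe _ _ hNP rfl
  obtain ⟨f1, hf1⟩ := normalSubpair_exists hM Q _ eN ⟨hNp, heN⟩ hQN inf_le_right
  have hff : f1 = f := subpair_unique hM P e hPe _ Q f1 f rfl
    (Relation.ReflTransGen.head (show NormalSubpairRel p M ⟨Q, f1⟩ ⟨_, eN⟩ from hf1) hNle) hle
  subst hff
  exact ⟨eN, heN, hNle, hf1⟩

theorem card_lt_normalizer [Finite G] [Fact p.Prime] (P Q : Subgroup G) (hP : IsPGroup p P) (hQP : Q ≤ P)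
    (hne : Q ≠ P) : Nat.card Q < Nat.card (P ⊓ Subgroup.normalizer (Q : Set G) : Subgroup G) := by
  obtain ⟨x, hxS, hxN, hxQ⟩ := exists_normalizing P Q hP hQP hne
  exact card_lt_of_lt (le_inf hQP Subgroup.le_normalizer) (fun h => hxQ (h ▸ ⟨hxS, hxN⟩))

theorem trel_of_le (T R : Subgroup G) (hRT : R ≤ T) (h2 : Subgroup.centralizer (R : Set G) ≤ T)
    (g : Set (IrrCharacter (Subgroup.centralizer (R : Set G)))) :
    TRel T ⟨R.subgroupOf T, trSet (centSubEquiv T R (R.subgroupOf T) h2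
      (tdict_h1 T R _ (Subgroup.map_subgroupOf_eq_of_le hRT).symm)) g⟩ ⟨R, g⟩ :=
  ⟨(Subgroup.map_subgroupOf_eq_of_le hRT).symm, h2, rfl⟩

theorem nilpotent_control [Fintype G] [Fact p.Prime] (hM : IsPModular p M) (B : Set (IrrCharacter G))
    (P : Subgroup G) (e : Set (IrrCharacter (Subgroup.centralizer (P : Set G))))
    (hmax : IsMaximalBrauerPair p M B P e) (hnil : IsNilpotentBlock p M B) :
    ∀ (n : ℕ) (Q : Subgroup G) (f : Set (IrrCharacter (Subgroup.centralizer (Q : Set G)))) (x : G),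
      Nat.card P - Nat.card Q = n → SubpairLE p M Q f P e →
      SubpairLE p M (Q.map (MulAut.conj x).toMonoidHom) (conjBlock Q x f) P e →
      ∃ u ∈ P, ∀ q ∈ Q, x * q * x⁻¹ = u * q * u⁻¹ := by
  classical
  have hPe := hmax.1.1
  have hB := hmax.1.2.1
  intro n
  induction n using Nat.strong_induction_on with
  | _ n ih =>
    intro Q f x hn hle hx
    have hQP : Q ≤ P := (subpairLE_le _ _ hle).1
    by_cases hne : Q = P
    · subst hne
      have h1 := subpairLE_same hM _ _ hle rfl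
      have h2 : f = e := eq_of_heq (Sigma.mk.inj_iff.mp h1).2
      subst h2
      exact nilpotent_control_top hM B Q f hmax hnil x hx
    · have hf : IsPBlock M f := subpairLE_block _ _ hle hPe.2
      have hQp : IsPGroup p Q := hPe.1.to_le hQP
      have hQB : IsBrauerPairOf p M B Q f := (brauerPairOf_subpairLE hM B hB ⟨Q, f⟩ ⟨P, e⟩ hle).mp hmax.1
      obtain ⟨T, hT⟩ := exists_stab hM Q f hf
      haveI := Fintype.ofFinite T
      obtain ⟨F, hFb, hFc⟩ := stab_block_exists hM Q hQp f hf T hT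
      have hLT := (stab_facts Q f T hT).1
      have hreg : ∀ y ∈ T, IsPRegular p y → y ∈ Subgroup.centralizer (Q : Set G) :=
        fun y hy hr => hnil.2 Q f hQB y ((hT y).mp hy).1 ((hT y).mp hy).2 hr
      -- the pair at `R = N_P(Q)`
      obtain ⟨eR, heR, hRle, hfR⟩ := normalizer_subpair hM P Q e f hPe hQP hle
      have hQR : Q ≤ P ⊓ Subgroup.normalizer (Q : Set G) := hfR.2.2.1
      have hcR := card_lt_normalizer P Q hPe.1 hQP hne
      have hcRP : Nat.card (P ⊓ Subgroup.normalizer (Q : Set G) : Subgroup G) ≤ Nat.card P :=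
        Subgroup.card_le_of_le inf_le_left
      have hRT : P ⊓ Subgroup.normalizer (Q : Set G) ≤ T := fun y hy => (hT y).mpr ⟨hy.2, hfR.2.2.2.2.1 y hy⟩
      have haB := (pair_tdict Q f hf T hT F hFb hFc _ ((P ⊓ Subgroup.normalizer (Q : Set G)).subgroupOf T)
        (Subgroup.map_subgroupOf_eq_of_le hRT).symm hQR hfR.2.1.1 eR heR).mpr hfR
      have haRel := trel_of_le T _ hRT ((Subgroup.centralizer_le hQR).trans hLT) eR
      obtain ⟨⟨D1, g1'⟩, hD1max, hleT⟩ := exists_maximal_above hM F _ ⟨_, _⟩ rfl haB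
      obtain ⟨⟨S1, g1⟩, hbRel, hRS⟩ := trel_chain T _ _ _ hleT haRel
      have hg1b : IsPBlock M g1 := trel_block T _ _ hbRel hD1max.1.1.2
      obtain ⟨hS1, h2S1, hg1⟩ := id hbRel
      have hS1' : S1 = D1.map T.subtype := hS1
      have hg1' : g1' = trSet (centSubEquiv T S1 D1 h2S1 (tdict_h1 T S1 D1 hS1')) g1 := hg1
      have hQS1 : Q ≤ S1 := hQR.trans (subpairLE_le _ _ hRS).1
      have hS1p : IsPGroup p S1 := hS1' ▸ hD1max.1.1.1.map _
      have hn1 : IsNormalSubpair p M Q f S1 g1 :=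
        (pair_tdict Q f hf T hT F hFb hFc S1 D1 hS1' hQS1 hS1p g1 hg1b).mp (hg1' ▸ hD1max.1)
      -- the pair at `R2 = N_P(xQ)`
      have hxQP : Q.map (MulAut.conj x).toMonoidHom ≤ P := (subpairLE_le _ _ hx).1
      have hne2 : Q.map (MulAut.conj x).toMonoidHom ≠ P := by
        intro h
        apply hne
        apply Subgroup.eq_of_le_of_card_ge hQP
        rw [← card_map_conj Q x, h]
      obtain ⟨eR2, heR2, hR2le, hfR2⟩ := normalizer_subpair hM P _ e _ hPe hxQP hx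
      have hcR2 := card_lt_normalizer P _ hPe.1 hxQP hne2
      rw [card_map_conj] at hcR2
      have hcR2P : Nat.card (P ⊓ Subgroup.normalizer ((Q.map (MulAut.conj x).toMonoidHom : Subgroup G) : Set G) :
        Subgroup G) ≤ Nat.card P := Subgroup.card_le_of_le inf_le_left
      have hn2 : NormalSubpairRel p M (conjPair x⁻¹ (conjPair x ⟨Q, f⟩)) (conjPair x⁻¹ ⟨_, eR2⟩) :=
        isNormalSubpair_conj _ _ x⁻¹ _ _ hfR2
      rw [conjPair_inv hM x ⟨Q, f⟩ hf] at hn2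
      have hn3 : IsNormalSubpair p M Q f _ (conjBlock _ x⁻¹ eR2) := hn2
      have hR3T : (P ⊓ Subgroup.normalizer ((Q.map (MulAut.conj x).toMonoidHom : Subgroup G) : Set G)).map
          (MulAut.conj x⁻¹).toMonoidHom ≤ T := fun y hy => (hT y).mpr ⟨hn3.2.2.2.1 hy, hn3.2.2.2.2.1 y hy⟩
      have hcB := (pair_tdict Q f hf T hT F hFb hFc _ (Subgroup.subgroupOf _ T)
        (Subgroup.map_subgroupOf_eq_of_le hR3T).symm hn3.2.2.1 hn3.2.1.1 _ hn3.2.1.2).mpr hn3
      have hcRel := trel_of_le T _ hR3T ((Subgroup.centralizer_le hn3.2.2.1).trans hLT) (conjBlock _ x⁻¹ eR2)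
      obtain ⟨t, ht⟩ := pair_conj_into_maximal hM F D1 _ g1' _ hD1max hcB
      obtain ⟨b2, hb2Rel, hchain2⟩ := trel_chain T _ _ _ ht (trel_conj T _ _ hcRel t)
      have hb2 : b2 = ⟨S1, g1⟩ := trel_unique T _ _ _ hb2Rel hbRel
      rw [hb2] at hchain2
      -- back in `G`
      have hS1B : IsBrauerPairOf p M B S1 g1 := (brauerPairOf_normal_step hM Q S1 f g1 hn1 B hB).mpr hQB
      obtain ⟨z, hz⟩ := pair_conj_into_maximal hM B P S1 e g1 hmax hS1B
      have hz1 := (subpairLE_conj z _ _ hRS).trans hz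
      obtain ⟨u1, hu1, hu1c⟩ := ih _ (by omega) _ eR z rfl hRle hz1
      have hz2 : Relation.ReflTransGen (NormalSubpairRel p M)
          (conjPair z (conjPair (t : G) (conjPair x⁻¹ ⟨_, eR2⟩))) ⟨P, e⟩ := (subpairLE_conj z _ _ hchain2).trans hz
      rw [conjPair_mul hM (t : G) x⁻¹ _ heR2, conjPair_mul hM z _ _ heR2] at hz2
      obtain ⟨u2, hu2, hu2c⟩ := ih _ (by omega) _ eR2 (z * ((t : G) * x⁻¹)) rfl hR2le hz2
      obtain ⟨d, hd, c, hc, htdc⟩ := tdl hM Q hQp f hf T hT hreg F hFb hFc D1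
        (maximal_pair_defect hM F D1 g1' hD1max) t
      have hdS : (d : G) ∈ S1 := hS1' ▸ ⟨d, hd, rfl⟩
      have hzd : z * (d : G) * z⁻¹ ∈ P := (subpairLE_le _ _ hz).1 ⟨d, hdS, by simp⟩
      refine ⟨u2⁻¹ * (z * (d : G) * z⁻¹) * u1, P.mul_mem (P.mul_mem (P.inv_mem hu2) hzd) hu1, ?_⟩
      intro q hq
      have h1 := hu1c q (hQR hq)
      have hq2 : x * q * x⁻¹ ∈ Q.map (MulAut.conj x).toMonoidHom := ⟨q, hq, by simp⟩
      have h2 := hu2c (x * q * x⁻¹) ⟨hxQP hq2, Subgroup.le_normalizer hq2⟩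
      have h3 : q * c = c * q := (Subgroup.mem_centralizer_iff.mp hc) q hq
      calc x * q * x⁻¹ = u2⁻¹ * (u2 * (x * q * x⁻¹) * u2⁻¹) * u2 := by group
        _ = u2⁻¹ * (z * ((t : G) * x⁻¹) * (x * q * x⁻¹) * (z * ((t : G) * x⁻¹))⁻¹) * u2 := by rw [h2]
        _ = u2⁻¹ * (z * ((t : G) * q * (t : G)⁻¹) * z⁻¹) * u2 := by group
        _ = u2⁻¹ * (z * ((d : G) * (c * q) * c⁻¹ * (d : G)⁻¹) * z⁻¹) * u2 := by rw [htdc]; group
        _ = u2⁻¹ * (z * ((d : G) * q * (d : G)⁻¹) * z⁻¹) * u2 := by rw [← h3]; group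
        _ = u2⁻¹ * ((z * (d : G) * z⁻¹) * (z * q * z⁻¹) * (z * (d : G) * z⁻¹)⁻¹) * u2 := by group
        _ = u2⁻¹ * ((z * (d : G) * z⁻¹) * (u1 * q * u1⁻¹) * (z * (d : G) * z⁻¹)⁻¹) * u2 := by rw [h1]
        _ = u2⁻¹ * (z * (d : G) * z⁻¹) * u1 * q * (u2⁻¹ * (z * (d : G) * z⁻¹) * u1)⁻¹ := by group

end BrauerE
end Cfsg.Agent.H4
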