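import Cfsg.Agent.Lib_helper4_BlkBJ

set_option autoImplicit false
set_option linter.style.haveILetI false
set_option linter.unusedSectionVars false
namespace Cfsg.Agent.H4
open Module
open scoped ComplexConjugate
universe u v w

section BrauerF
variable {p : ℕ} {M : Ideal AlgInt} {G : Type u} [Group G]

theorem conj_pow_eq (Q : Subgroup G) (x u : G) (hx : x ∈ Subgroup.normalizer (Q : Set G))
    (h : ∀ q ∈ Q, x * q * x⁻¹ = u * q * u⁻¹) (n : ℕ) : ∀ q ∈ Q, x ^ n * q * (x ^ n)⁻¹ = u ^ n * q * (u ^ n)⁻¹ := by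
  induction n with
  | zero => intro q _; simp
  | succ k ih =>
    intro q hq
    have h1 : x ^ k * q * (x ^ k)⁻¹ ∈ Q :=
      (Subgroup.mem_normalizer_iff.mp (Subgroup.pow_mem _ hx k) q).mp hq
    calc x ^ (k + 1) * q * (x ^ (k + 1))⁻¹ = x * (x ^ k * q * (x ^ k)⁻¹) * x⁻¹ := by
          rw [pow_succ']; group
      _ = u * (x ^ k * q * (x ^ k)⁻¹) * u⁻¹ := h _ h1
      _ = u * (u ^ k * q * (u ^ k)⁻¹) * u⁻¹ := by rw [ih q hq]
      _ = u ^ (k + 1) * q * (u ^ (k + 1))⁻¹ := by rw [pow_succ']; group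

theorem nilpotent_iff_inner [Fintype G] [Fact p.Prime] (hM : IsPModular p M) (B : Set (IrrCharacter G))
    (P : Subgroup G) (e : Set (IrrCharacter (Subgroup.centralizer (P : Set G))))
    (hmax : IsMaximalBrauerPair p M B P e) (F : FusionSystem P)
    (hF : IsBlockFusionSystemOn p M B P e F) :
    IsNilpotentBlock p M B ↔ ∀ Q : Subgroup G, F.Hom Q = (innerFusionSystem P).Hom Q := by
  classical
  have hp : p.Prime := Fact.out
  have hPe := hmax.1.1
  have hB := hmax.1.2.1
  constructor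
  · intro hnil Q
    ext φ
    constructor
    · intro hφ
      obtain ⟨hQP, g, hg, -, f, hf, hgf⟩ := (hF.2 Q φ).mp hφ
      obtain ⟨u, hu, huc⟩ := nilpotent_control hM B P e hmax hnil _ Q f g rfl hf hgf
      exact ⟨hQP, u, hu, fun x => by rw [hg, huc x x.2]⟩
    · rintro ⟨hQP, g, hg, h⟩
      have h1 := F.conj_mem hQP hg
      have h2 : φ = conjHom Q g := by
        ext x
        rw [h]; rfl
      rw [h2]; exact h1
  · intro hin
    refine ⟨hB, ?_⟩
    intro Q f hQf x hxN hxs hreg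
    obtain ⟨z, hz⟩ := pair_conj_into_maximal hM B P Q e f hmax hQf
    have hzP := (subpairLE_le _ _ hz).1
    have hf' : IsPBlock M (conjBlock Q z f) := (isBrauerPair_conj Q z f hQf.1).2
    have hx'N := conj_mem_normalizer Q z x hxN
    have hx's := stabilizes_conj Q z x f hxN hxs
    have hfix := conjPair_fix hM _ _ hf' _ hx'N hx's
    have hmem : conjHom (Q.map (MulAut.conj z).toMonoidHom) (z * x * z⁻¹) ∈ F.Hom _ := by
      rw [hF.2]
      refine ⟨hzP, z * x * z⁻¹, fun u => rfl, ?_, conjBlock Q z f, hz, ?_⟩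
      · rw [map_conj_eq_of_mem_normalizer _ _ hx'N]; exact hzP
      · have : Relation.ReflTransGen (NormalSubpairRel p M)
            (conjPair (z * x * z⁻¹) ⟨Q.map (MulAut.conj z).toMonoidHom, conjBlock Q z f⟩) ⟨P, e⟩ := by
          rw [hfix]; exact hz
        exact this
    rw [hin] at hmem
    obtain ⟨-, u, hu, huc⟩ := hmem
    have huc' : ∀ q ∈ Q.map (MulAut.conj z).toMonoidHom, (z * x * z⁻¹) * q * (z * x * z⁻¹)⁻¹ = u * q * u⁻¹ :=
      fun q hq => huc ⟨q, hq⟩
    obtain ⟨k, hk⟩ := (IsPGroup.iff_orderOf.mp hPe.1) ⟨u, hu⟩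
    have huk : u ^ (p ^ k) = 1 := by
      have := pow_orderOf_eq_one (⟨u, hu⟩ : P)
      rw [hk] at this
      exact congrArg Subtype.val this
    have h1 : (z * x * z⁻¹) ^ (p ^ k) ∈
        Subgroup.centralizer ((Q.map (MulAut.conj z).toMonoidHom : Subgroup G) : Set G) := by
      rw [Subgroup.mem_centralizer_iff]
      intro q hq
      have h2 := conj_pow_eq _ _ u hx'N huc' (p ^ k) q hq
      rw [huk] at h2
      simp only [one_mul, inv_one, mul_one] at h2
      calc q * (z * x * z⁻¹) ^ (p ^ k)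
          = ((z * x * z⁻¹) ^ (p ^ k) * q * ((z * x * z⁻¹) ^ (p ^ k))⁻¹) * (z * x * z⁻¹) ^ (p ^ k) := by rw [h2]
        _ = (z * x * z⁻¹) ^ (p ^ k) * q := by group
    have h3 : (z * x * z⁻¹) ^ (orderOf (z * x * z⁻¹)) ∈
        Subgroup.centralizer ((Q.map (MulAut.conj z).toMonoidHom : Subgroup G) : Set G) := by
      rw [pow_orderOf_eq_one]; exact Subgroup.one_mem _
    have ho : orderOf (z * x * z⁻¹) = orderOf x := (MulAut.conj z).orderOf_eq x
    have h4 := mem_of_pow_mem_coprime _ _ _ _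
      (Nat.Coprime.pow_left k ((Nat.Prime.coprime_iff_not_dvd hp).mpr (by rw [ho]; exact hreg))) h1 h3
    rw [mem_centralizer_map_conj_iff] at h4
    have e1 : z⁻¹ * (z * x * z⁻¹) * z = x := by group
    rwa [e1] at h4

end BrauerF
end Cfsg.Agent.H4
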