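import Cfsg.Agent.Lib_helper4_BlkBK

set_option autoImplicit false
set_option linter.style.haveILetI false
set_option linter.unusedSectionVars false
namespace Cfsg.Agent.H4
open Module
open scoped ComplexConjugate
universe u v w

section BrauerG
variable {p : ℕ} {M : Ideal AlgInt} {G : Type u} [Group G]

theorem nilpotent_cent [Fintype G] [Fact p.Prime] (hM : IsPModular p M) (B : Set (IrrCharacter G))
    (hnil : IsNilpotentBlock p M B) (Q : Subgroup G)
    (f : Set (IrrCharacter (Subgroup.centralizer (Q : Set G)))) (hQf : IsBrauerPairOf p M B Q f) :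
    IsNilpotentBlock p M f := by
  refine ⟨hQf.1.2, ?_⟩
  intro R' g' hpair x hxN hxs hreg
  have hQS : Q ≤ Q ⊔ R'.map (Subgroup.centralizer (Q : Set G)).subtype := le_sup_left
  have hSp : IsPGroup p (Q ⊔ R'.map (Subgroup.centralizer (Q : Set G)).subtype : Subgroup G) :=
    IsPGroup.to_sup_of_normal_left' hQf.1.1 (hpair.1.1.map _)
      ((Subgroup.map_subtype_le _).trans (centralizer_le_normalizer' Q))
  have hgg := trSet_symm' (centSubEquiv _ _ R' (dict_h2 Q _ hQS) (dict_h1 Q _ R' rfl)) g'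
  have hg : IsPBlock M (trSet (centSubEquiv _ _ R' (dict_h2 Q _ hQS) (dict_h1 Q _ R' rfl)).symm g') :=
    isPBlock_trSet _ hpair.1.2
  have hn := (pair_dict Q _ R' rfl hQS hSp f hQf.1.2 _ hg).mp (by rw [hgg]; exact hpair)
  have hSB := (brauerPairOf_normal_step hM Q _ f _ hn B hQf.2.1).mpr hQf
  have hxNS : (x : G) ∈ Subgroup.normalizer
      ((Q ⊔ R'.map (Subgroup.centralizer (Q : Set G)).subtype : Subgroup G) : Set G) := by
    apply mem_normalizer_of_map_conj_eq
    rw [Subgroup.map_sup, map_conj_eq_of_mem_normalizer Q _ (centralizer_le_normalizer' Q x.2),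
      map_conj_eq_of_mem_normalizer _ _ (map_subtype_normalizer _ R' x hxN)]
  have hxsS := stab_transport _ _ R' (dict_h2 Q _ hQS) (dict_h1 Q _ R' rfl) _ x
    (normalizer_le_normalizer_centralizer _ hxNS) (by rw [hgg]; exact hxs)
  have hreg' : IsPRegular p (x : G) := by
    unfold IsPRegular; rw [Subgroup.orderOf_coe]; exact hreg
  exact (dict_h1 Q _ R' rfl x).mpr (hnil.2 _ _ hSB x hxNS hxsS hreg')

theorem nilpotent_cent_defect [Fintype G] [Fact p.Prime] (hM : IsPModular p M) (B : Set (IrrCharacter G))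
    (P : Subgroup G) (e : Set (IrrCharacter (Subgroup.centralizer (P : Set G))))
    (hmax : IsMaximalBrauerPair p M B P e) (hnil : IsNilpotentBlock p M B) (Q : Subgroup G)
    (f : Set (IrrCharacter (Subgroup.centralizer (Q : Set G)))) (hle : SubpairLE p M Q f P e) :
    IsDefectGroup p M f
      ((P ⊓ Subgroup.centralizer (Q : Set G)).subgroupOf (Subgroup.centralizer (Q : Set G))) := by
  have hPe := hmax.1.1
  have hQP : Q ≤ P := (subpairLE_le _ _ hle).1
  have hf : IsPBlock M f := subpairLE_block _ _ hle hPe.2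
  obtain ⟨x, hx, hxd⟩ := cent_defect_conj hM B P Q e f hmax hQP hf hle
  obtain ⟨u, hu, huc⟩ := nilpotent_control hM B P e hmax hnil _ Q f x rfl hle hx
  have hmapeq : Q.map (MulAut.conj x).toMonoidHom = Q.map (MulAut.conj u).toMonoidHom := by
    ext h
    constructor
    · rintro ⟨q, hq, rfl⟩
      exact ⟨q, hq, (huc q hq).symm⟩
    · rintro ⟨q, hq, rfl⟩
      exact ⟨q, hq, huc q hq⟩
  have hf' : IsPBlock M (conjBlock Q x f) := (isBrauerPair_conj Q x f ⟨hPe.1.to_le hQP, hf⟩).2
  have h4 := defect_group_card hM _ hf' _ hxd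
  rw [card_subgroupOf_inf, conjBlock_eq_trSet, blockDefect_trSet] at h4
  have h5 : (P ⊓ Subgroup.centralizer (Q : Set G)).map (MulAut.conj u).toMonoidHom
      = P ⊓ Subgroup.centralizer ((Q.map (MulAut.conj u).toMonoidHom : Subgroup G) : Set G) := by
    ext h
    rw [mem_map_conj_iff, Subgroup.mem_inf, Subgroup.mem_inf, mem_centralizer_map_conj_iff]
    constructor
    · rintro ⟨h6, h7⟩
      refine ⟨?_, h7⟩
      have := P.mul_mem (P.mul_mem hu h6) (P.inv_mem hu)
      have e1 : u * (u⁻¹ * h * u) * u⁻¹ = h := by group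
      rwa [e1] at this
    · rintro ⟨h6, h7⟩
      exact ⟨P.mul_mem (P.mul_mem (P.inv_mem hu) h6) hu, h7⟩
  rw [hmapeq, ← h5, card_map_conj] at h4
  exact ((cent_card hM P Q e f hPe hQP hf hle).2 P le_rfl).mp h4

end BrauerG
end Cfsg.Agent.H4
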