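import Cfsg.Agent.Lib_helper4_BlkBL

set_option autoImplicit false
set_option linter.style.haveILetI false
set_option linter.unusedSectionVars false
namespace Cfsg.Agent.H4
open Module
open scoped ComplexConjugate
universe u v w

section BrauerH
variable {p : ℕ} {M : Ideal AlgInt} {G : Type u} [Group G]

theorem pair_unique_sigma [Fintype G] [Fact p.Prime] (hM : IsPModular p M) (a b c : BrauerPairIdx G)
    (hc : IsBrauerPair p M c.1 c.2)
    (ha : Relation.ReflTransGen (NormalSubpairRel p M) a c)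
    (hb : Relation.ReflTransGen (NormalSubpairRel p M) b c) (h : a.1 = b.1) : a = b := by
  obtain ⟨Q, f⟩ := a
  obtain ⟨Q', f'⟩ := b
  obtain ⟨P, e⟩ := c
  have h' : Q = Q' := h
  subst h'
  have := subpair_unique hM P e hc _ Q f f' rfl ha hb
  rw [this]

theorem pair_le_of_le [Fintype G] [Fact p.Prime] (hM : IsPModular p M) (a b c : BrauerPairIdx G)
    (hc : IsBrauerPair p M c.1 c.2)
    (ha : Relation.ReflTransGen (NormalSubpairRel p M) a c)
    (hb : Relation.ReflTransGen (NormalSubpairRel p M) b c) (h : a.1 ≤ b.1) :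
    Relation.ReflTransGen (NormalSubpairRel p M) a b := by
  have hbb : IsBrauerPair p M b.1 b.2 := ⟨hc.1.to_le (subpairLE_le _ _ hb).1, subpairLE_block _ _ hb hc.2⟩
  obtain ⟨f, -, hf⟩ := subpair_exists hM b.1 b.2 hbb _ a.1 h rfl
  have h1 : Relation.ReflTransGen (NormalSubpairRel p M) ⟨a.1, f⟩ b := hf
  have h2 := pair_unique_sigma hM ⟨a.1, f⟩ a c hc (h1.trans hb) ha rfl
  rw [← h2]; exact h1

theorem conjPair_fix_mem [Finite G] (hM : IsPModular p M) (P : Subgroup G)
    (e : Set (IrrCharacter (Subgroup.centralizer (P : Set G)))) (he : IsPBlock M e) (g : G) (hg : g ∈ P) :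
    conjPair g ⟨P, e⟩ = ⟨P, e⟩ := by
  apply conjPair_fix hM P e he g (Subgroup.le_normalizer hg)
  have := stabilizes_of_mul P e g 1 hg (Subgroup.one_mem _)
  rwa [mul_one] at this

def blockFusion [Fintype G] [Fact p.Prime] (hM : IsPModular p M) (P : Subgroup G)
    (e : Set (IrrCharacter (Subgroup.centralizer (P : Set G)))) (hPe : IsBrauerPair p M P e) :
    FusionSystem P where
  Hom Q := {φ | Q ≤ P ∧ ∃ g : G, (∀ u : Q, φ u = g * (u : G) * g⁻¹) ∧
        Q.map (MulAut.conj g).toMonoidHom ≤ P ∧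
        ∃ f : Set (IrrCharacter (Subgroup.centralizer (Q : Set G))),
          SubpairLE p M Q f P e ∧
            SubpairLE p M (Q.map (MulAut.conj g).toMonoidHom) (conjBlock Q g f) P e}
  le_of_mem := by
    rintro Q φ ⟨hQ, g, hg, hgQ, -⟩
    exact ⟨hQ, fun x => hgQ ⟨x, x.2, by rw [hg]; simp⟩⟩
  injective_of_mem := by
    rintro Q φ ⟨hQ, g, hg, hgQ, -⟩ x y hxy
    rw [hg, hg] at hxy
    exact Subtype.ext (mul_left_cancel (mul_right_cancel hxy))
  conj_mem := by
    intro Q g hQ hg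
    obtain ⟨f, hf, hle⟩ := subpair_exists hM P e hPe _ Q hQ rfl
    have h1 := subpairLE_conj g _ _ hle
    rw [conjPair_fix_mem hM P e hPe.2 g hg] at h1
    exact ⟨hQ, g, fun u => by simp [conjHom], (subpairLE_le _ _ h1).1, f, hle, h1⟩
  comp_mem := by
    rintro Q R φ ψ ⟨hQ, g, hg, hgQ, f, hf, hgf⟩ ⟨hR, h, hh, hhR, f', hf', hhf'⟩ hQR
    have hfb : IsPBlock M f := subpairLE_block _ _ hf hPe.2
    have h1 : Relation.ReflTransGen (NormalSubpairRel p M) (conjPair g ⟨Q, f⟩) ⟨R, f'⟩ := by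
      apply pair_le_of_le hM _ _ ⟨P, e⟩ hPe hgf hf'
      rintro _ ⟨u, hu, rfl⟩
      have := hQR ⟨u, hu⟩
      rw [hg] at this
      simpa using this
    have h2 := (subpairLE_conj h _ _ h1).trans hhf'
    rw [conjPair_mul hM h g _ hfb] at h2
    refine ⟨hQ, h * g, fun u => ?_, (subpairLE_le _ _ h2).1, f, hf, h2⟩
    simp only [MonoidHom.comp_apply]
    rw [hh]
    simp only [MonoidHom.codRestrict_apply]
    rw [hg]; group
  inv_mem := by
    rintro Q φ ⟨hQ, g, hg, hgQ, f, hf, hgf⟩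
    have hfb : IsPBlock M f := subpairLE_block _ _ hf hPe.2
    have hr : φ.range = Q.map (MulAut.conj g).toMonoidHom := by
      ext x
      constructor
      · rintro ⟨u, rfl⟩
        exact ⟨u, u.2, by rw [hg]; simp⟩
      · rintro ⟨u, hu, rfl⟩
        exact ⟨⟨u, hu⟩, by rw [hg]; simp⟩
    have key : ∀ R : Subgroup G, R = Q.map (MulAut.conj g).toMonoidHom →
        (MulAut.conj g⁻¹).toMonoidHom.comp R.subtype ∈ {φ : R →* G | R ≤ P ∧ ∃ g : G, (∀ u : R, φ u = g * (u : G) * g⁻¹) ∧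
        R.map (MulAut.conj g).toMonoidHom ≤ P ∧
        ∃ f : Set (IrrCharacter (Subgroup.centralizer (R : Set G))),
          SubpairLE p M R f P e ∧
            SubpairLE p M (R.map (MulAut.conj g).toMonoidHom) (conjBlock R g f) P e} := by
      rintro R rfl
      have h3 : Relation.ReflTransGen (NormalSubpairRel p M) (conjPair g⁻¹ (conjPair g ⟨Q, f⟩)) ⟨P, e⟩ := by
        rw [conjPair_inv hM g _ hfb]; exact hf
      exact ⟨hgQ, g⁻¹, fun u => by
        show g⁻¹ * (u : G) * g⁻¹⁻¹ = _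
        rfl, (subpairLE_le _ _ h3).1, conjBlock Q g f, hgf, h3⟩
    refine ⟨_, key _ hr, fun x => ?_⟩
    simp only [MonoidHom.comp_apply, Subgroup.subtype_apply]
    rw [hg]; simp [mul_assoc]

theorem stab_index [Fintype G] [Fact p.Prime] (hM : IsPModular p M) (Q : Subgroup G) (hQ : IsPGroup p Q)
    (f : Set (IrrCharacter (Subgroup.centralizer (Q : Set G)))) (hf : IsPBlock M f) (T : Subgroup G)
    (hT : ∀ y : G, y ∈ T ↔ y ∈ Subgroup.normalizer (Q : Set G) ∧
      StabilizesBlock (Subgroup.centralizer (Q : Set G)) f y)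
    (F : Set (IrrCharacter T)) (hFb : IsPBlock M F)
    (hFc : ∀ t : T, blockCoeff F t = subgroupBlockCoeff (Subgroup.centralizer (Q : Set G)) f (t : G))
    (D : Subgroup T) (hD : IsDefectGroup p M F D) :
    ¬ p ∣ (D ⊔ (Subgroup.centralizer (Q : Set G)).subgroupOf T).index := by
  classical
  have hp : p.Prime := Fact.out
  obtain ⟨hLT, hQT, hTN⟩ := stab_facts Q f T hT
  haveI := Fintype.ofFinite T
  haveI := Fintype.ofFinite (IrrCharacter T)
  haveI := Fintype.ofFinite ((Subgroup.centralizer (Q : Set G)).subgroupOf T)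
  haveI hLn : ((Subgroup.centralizer (Q : Set G)).subgroupOf T).Normal :=
    (Subgroup.normal_subgroupOf_iff_le_normalizer hLT).mpr (hTN.trans (normalizer_le_normalizer_centralizer Q))
  haveI hQn : (Q.subgroupOf T).Normal := (Subgroup.normal_subgroupOf_iff_le_normalizer hQT).mpr hTN
  have hQ' : IsPGroup p (Q.subgroupOf T) := hQ.comap_subtype
  have hCN : Subgroup.centralizer ((Q.subgroupOf T : Subgroup T) : Set T)
      ≤ (Subgroup.centralizer (Q : Set G)).subgroupOf T := by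
    intro c hc
    rw [Subgroup.mem_subgroupOf, Subgroup.mem_centralizer_iff]
    intro q hq
    have := (Subgroup.mem_centralizer_iff.mp hc) ⟨q, hQT hq⟩ (by
      show (⟨q, hQT hq⟩ : T) ∈ Q.subgroupOf _
      rw [Subgroup.mem_subgroupOf]; exact hq)
    exact congrArg Subtype.val this
  obtain ⟨ζ, ⟨θ, hθ, hζ⟩, horb, hc0⟩ := stab_block_data hM Q hQ f hf T hLT hQT (fun y hy => (hT y).mp hy)
  have hFeq : F = blockOf M (ζ : T → ℂ) := indicator_eq_of_coef_eq F _ (fun t => by
    rw [← blockCoeff_eq_coef, ← blockCoeff_eq_coef, hFc, hc0])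
  subst hFeq
  have hb := isPBlock_trSet (M := M) (Subgroup.subgroupOfEquivOfLe hLT) hf
  have hinv : ∀ θ' ∈ trSet (Subgroup.subgroupOfEquivOfLe hLT) f, ∀ g : T,
      (⟨conjFun hLn (θ' : _ → ℂ) g, conjFun_irr hLn θ'.2 g⟩ :
        IrrCharacter ((Subgroup.centralizer (Q : Set G)).subgroupOf T)) ∈ trSet (Subgroup.subgroupOfEquivOfLe hLT) f := by
    intro θ' hθ' g
    have := orbB_stable hLn (trSet (Subgroup.subgroupOfEquivOfLe hLT) f) θ' (by rw [horb hLn]; exact hθ') g
    rwa [horb hLn] at this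
  have hcovF : ∃ χ ∈ blockOf M (ζ : T → ℂ), ∃ θ' ∈ trSet (Subgroup.subgroupOfEquivOfLe hLT) f,
      classInner (fun n : (Subgroup.centralizer (Q : Set G)).subgroupOf T => (χ : T → ℂ) n) (θ' : _ → ℂ) ≠ 0 :=
    ⟨ζ, SameBlock.refl hM _, _, trIrr_mem _ hθ, hζ⟩
  have hmaxd : ∀ B' : Set (IrrCharacter T), IsPBlock M B' →
      (∃ χ ∈ B', ∃ θ' ∈ trSet (Subgroup.subgroupOfEquivOfLe hLT) f,
        classInner (fun n : (Subgroup.centralizer (Q : Set G)).subgroupOf T => (χ : T → ℂ) n) (θ' : _ → ℂ) ≠ 0) →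
      blockDefect p B' ≤ blockDefect p (blockOf M (ζ : T → ℂ)) := by
    intro B' hB' hcov'
    rw [cover_eq_cov hM (Q.subgroupOf T) hQ' _ hCN _ hb B' hB' hcov',
      ← cover_eq_cov hM (Q.subgroupOf T) hQ' _ hCN _ hb _ ⟨ζ, rfl⟩ hcovF]
  exact (fong_theorem hM _ _ hb hinv _ hFb hcovF hmaxd D hD).1

theorem normal_of_subpairLE [Fintype G] [Fact p.Prime] (hM : IsPModular p M) (Q S : Subgroup G)
    (f : Set (IrrCharacter (Subgroup.centralizer (Q : Set G))))
    (g : Set (IrrCharacter (Subgroup.centralizer (S : Set G)))) (hS : IsBrauerPair p M S g)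
    (hle : SubpairLE p M Q f S g) (hN : S ≤ Subgroup.normalizer (Q : Set G)) :
    IsNormalSubpair p M Q f S g := by
  obtain ⟨f', hf'⟩ := normalSubpair_exists hM Q S g hS (subpairLE_le _ _ hle).1 hN
  have h1 : SubpairLE p M Q f' S g := Relation.ReflTransGen.single hf'
  have := subpair_unique hM S g hS _ Q f f' rfl hle h1
  rw [this]; exact hf'

end BrauerH
end Cfsg.Agent.H4
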