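import Cfsg.Agent.Lib_helper4_BlkBM

set_option autoImplicit false
set_option linter.style.haveILetI false
set_option linter.unusedSectionVars false
namespace Cfsg.Agent.H4
open Module
open scoped ComplexConjugate
universe u v w

section BrauerI
variable {p : ℕ} {M : Ideal AlgInt} {G : Type u} [Group G]

theorem receptive_core [Fintype G] [Fact p.Prime] (hM : IsPModular p M) (P Q : Subgroup G)
    (e : Set (IrrCharacter (Subgroup.centralizer (P : Set G))))
    (f : Set (IrrCharacter (Subgroup.centralizer (Q : Set G)))) (hPe : IsBrauerPair p M P e) (hQP : Q ≤ P)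
    (hf : IsPBlock M f) (hle : SubpairLE p M Q f P e) (T : Subgroup G)
    (hT : ∀ y : G, y ∈ T ↔ y ∈ Subgroup.normalizer (Q : Set G) ∧
      StabilizesBlock (Subgroup.centralizer (Q : Set G)) f y)
    (F : Set (IrrCharacter T)) (hFb : IsPBlock M F)
    (hFc : ∀ t : T, blockCoeff F t = subgroupBlockCoeff (Subgroup.centralizer (Q : Set G)) f (t : G))
    (hD : IsDefectGroup p M F ((P ⊓ Subgroup.normalizer (Q : Set G)).subgroupOf T))
    (c : BrauerPairIdx G) (hc : IsBrauerPair p M c.1 c.2)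
    (hQc : Relation.ReflTransGen (NormalSubpairRel p M) ⟨Q, f⟩ c)
    (hcX : c.1 ≤ (P ⊓ Subgroup.normalizer (Q : Set G)) ⊔ Subgroup.centralizer (Q : Set G)) :
    ∃ z ∈ Subgroup.centralizer (Q : Set G),
      Relation.ReflTransGen (NormalSubpairRel p M) (conjPair z c) ⟨P, e⟩ := by
  classical
  have hQp : IsPGroup p Q := hPe.1.to_le hQP
  obtain ⟨hLT, hQT, hTN⟩ := stab_facts Q f T hT
  obtain ⟨eR, heR, hRle, hfR⟩ := normalizer_subpair hM P Q e f hPe hQP hle
  have hQR : Q ≤ P ⊓ Subgroup.normalizer (Q : Set G) := hfR.2.2.1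
  have hRT : P ⊓ Subgroup.normalizer (Q : Set G) ≤ T := fun y hy => (hT y).mpr ⟨hy.2, hfR.2.2.2.2.1 y hy⟩
  obtain ⟨X, hX⟩ : ∃ X : Subgroup G,
    X = (P ⊓ Subgroup.normalizer (Q : Set G)) ⊔ Subgroup.centralizer (Q : Set G) := ⟨_, rfl⟩
  have hXT : X ≤ T := hX ▸ sup_le hRT hLT
  have hLX : Subgroup.centralizer (Q : Set G) ≤ X := hX ▸ le_sup_right
  have hRX : P ⊓ Subgroup.normalizer (Q : Set G) ≤ X := hX ▸ le_sup_left
  have hQX : Q ≤ X := hQR.trans hRX
  have hXs : ∀ y ∈ X, y ∈ Subgroup.normalizer (Q : Set G) ∧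
      StabilizesBlock (Subgroup.centralizer (Q : Set G)) f y := fun y hy => (hT y).mp (hXT hy)
  haveI := Fintype.ofFinite X
  haveI := Fintype.ofFinite T
  obtain ⟨FX, hFXb, hFXc⟩ := stab_block_exists' hM Q hQp f hf X hLX hQX hXs
  have haB := (pair_tdict' Q f hf X hLX hXs FX hFXb hFXc _
    ((P ⊓ Subgroup.normalizer (Q : Set G)).subgroupOf X)
    (Subgroup.map_subgroupOf_eq_of_le hRX).symm hQR hfR.2.1.1 eR heR).mpr hfR
  have haRel := trel_of_le X _ hRX ((Subgroup.centralizer_le hQR).trans hLX) eR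
  obtain ⟨⟨D1, g1'⟩, hD1max, hleX⟩ := exists_maximal_above hM FX _ ⟨_, _⟩ rfl haB
  obtain ⟨⟨S1, g1⟩, hbRel, hRS⟩ := trel_chain X _ _ _ hleX haRel
  have hg1b : IsPBlock M g1 := trel_block X _ _ hbRel hD1max.1.1.2
  obtain ⟨hS1, h2S1, hg1⟩ := id hbRel
  have hS1' : S1 = D1.map X.subtype := hS1
  have hg1' : g1' = trSet (centSubEquiv X S1 D1 h2S1 (tdict_h1 X S1 D1 hS1')) g1 := hg1
  have hQS1 : Q ≤ S1 := hQR.trans (subpairLE_le _ _ hRS).1
  have hS1p : IsPGroup p S1 := hS1' ▸ hD1max.1.1.1.map _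
  have hn1 : IsNormalSubpair p M Q f S1 g1 :=
    (pair_tdict' Q f hf X hLX hXs FX hFXb hFXc S1 D1 hS1' hQS1 hS1p g1 hg1b).mp (hg1' ▸ hD1max.1)
  have hS1T : S1 ≤ T := fun y hy => (hT y).mpr ⟨hn1.2.2.2.1 hy, hn1.2.2.2.2.1 y hy⟩
  have hS1F := (pair_tdict Q f hf T hT F hFb hFc S1 (S1.subgroupOf T)
    (Subgroup.map_subgroupOf_eq_of_le hS1T).symm hQS1 hS1p g1 hg1b).mpr hn1
  have hcard := pair_card_le hM F _ _ hS1F
  have hDc := defect_group_card hM F hFb _ hD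
  rw [← hDc, Nat.card_congr (Subgroup.subgroupOfEquivOfLe hS1T).toEquiv,
    Nat.card_congr (Subgroup.subgroupOfEquivOfLe hRT).toEquiv] at hcard
  have hS1R : (P ⊓ Subgroup.normalizer (Q : Set G)) = S1 :=
    Subgroup.eq_of_le_of_card_ge (subpairLE_le _ _ hRS).1 hcard
  have hpair : (⟨P ⊓ Subgroup.normalizer (Q : Set G), eR⟩ : BrauerPairIdx G) = ⟨S1, g1⟩ :=
    subpairLE_same hM _ _ hRS hS1R
  obtain ⟨C1, c2⟩ := c
  have hcX' : C1 ≤ X := hX ▸ hcX
  have hn3 : IsNormalSubpair p M Q f C1 c2 :=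
    normal_of_subpairLE hM Q C1 f c2 hc hQc (hcX'.trans (hXT.trans hTN))
  have hcB := (pair_tdict' Q f hf X hLX hXs FX hFXb hFXc _ (C1.subgroupOf X)
    (Subgroup.map_subgroupOf_eq_of_le hcX').symm hn3.2.2.1 hn3.2.1.1 _ hn3.2.1.2).mpr hn3
  have hcRel := trel_of_le X _ hcX' ((Subgroup.centralizer_le hn3.2.2.1).trans hLX) c2
  obtain ⟨t, ht⟩ := pair_conj_into_maximal hM FX D1 _ g1' _ hD1max hcB
  obtain ⟨b2, hb2Rel, hchain2⟩ := trel_chain X _ _ _ ht (trel_conj X _ _ hcRel t)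
  have hb2 : b2 = ⟨S1, g1⟩ := trel_unique X _ _ _ hb2Rel hbRel
  rw [hb2, ← hpair] at hchain2
  have h5 := hchain2.trans hRle
  have ht' : (t : G) ∈ (P ⊓ Subgroup.normalizer (Q : Set G)) ⊔ Subgroup.centralizer (Q : Set G) := hX ▸ t.2
  rw [← SetLike.mem_coe, Subgroup.coe_mul_of_left_le_normalizer_right _ _
    (inf_le_right.trans (normalizer_le_normalizer_centralizer Q))] at ht'
  obtain ⟨n, hn, z, hz, hnz⟩ := Set.mem_mul.mp ht'
  refine ⟨z, hz, ?_⟩
  have h6 := subpairLE_conj n⁻¹ _ _ h5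
  rw [conjPair_fix_mem hM P e hPe.2 n⁻¹ (P.inv_mem hn.1), conjPair_mul hM _ _ _ hc.2] at h6
  have h7 : n⁻¹ * (t : G) = z := by rw [← hnz]; group
  rwa [h7] at h6

theorem blockFusion_receptive [Fintype G] [Fact p.Prime] (hM : IsPModular p M) (P Q : Subgroup G)
    (e : Set (IrrCharacter (Subgroup.centralizer (P : Set G))))
    (f : Set (IrrCharacter (Subgroup.centralizer (Q : Set G)))) (hPe : IsBrauerPair p M P e) (hQP : Q ≤ P)
    (hf : IsPBlock M f) (hle : SubpairLE p M Q f P e) (T : Subgroup G)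
    (hT : ∀ y : G, y ∈ T ↔ y ∈ Subgroup.normalizer (Q : Set G) ∧
      StabilizesBlock (Subgroup.centralizer (Q : Set G)) f y)
    (F : Set (IrrCharacter T)) (hFb : IsPBlock M F)
    (hFc : ∀ t : T, blockCoeff F t = subgroupBlockCoeff (Subgroup.centralizer (Q : Set G)) f (t : G))
    (hD : IsDefectGroup p M F ((P ⊓ Subgroup.normalizer (Q : Set G)).subgroupOf T)) :
    (blockFusion hM P e hPe).IsReceptive Q := by
  refine ⟨hQP, ?_⟩
  rintro R φ ⟨hRP, g, hg, hgR, fR, hfR, hgfR⟩ hrange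
  have hQeq : R.map (MulAut.conj g).toMonoidHom = Q := by
    rw [← hrange]
    ext x
    constructor
    · rintro ⟨u, hu, rfl⟩
      exact ⟨⟨u, hu⟩, by rw [hg]; simp⟩
    · rintro ⟨u, rfl⟩
      exact ⟨u, u.2, by rw [hg]; simp⟩
  have hpair : conjPair g ⟨R, fR⟩ = ⟨Q, f⟩ := pair_unique_sigma hM _ _ ⟨P, e⟩ hPe hgfR hle hQeq
  have hNle : FusionSystem.extender P R φ ≤ (P ⊓ Subgroup.normalizer (R : Set G)) ⊓
      (((P ⊓ Subgroup.normalizer (Q : Set G)) ⊔ Subgroup.centralizer (Q : Set G)).comap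
        (MulAut.conj g).toMonoidHom) := by
    unfold FusionSystem.extender
    rw [Subgroup.closure_le]
    rintro y ⟨hyP, hyN, h, hhP, hh⟩
    refine ⟨⟨hyP, hyN⟩, ?_⟩
    show g * y * g⁻¹ ∈ (P ⊓ Subgroup.normalizer (Q : Set G)) ⊔ Subgroup.centralizer (Q : Set G)
    have key : ∀ x ∈ R, g * (y * x * y⁻¹) * g⁻¹ = h * (g * x * g⁻¹) * h⁻¹ := by
      intro x hx
      have hx' : y * x * y⁻¹ ∈ R := (Subgroup.mem_normalizer_iff.mp hyN x).mp hx
      have := hh ⟨x, hx⟩ hx'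
      rw [hg, hg] at this
      exact this
    have hhN : h ∈ Subgroup.normalizer (Q : Set G) := by
      apply mem_normalizer_of_map_conj_eq
      apply Subgroup.eq_of_le_of_card_ge
      · rintro _ ⟨q, hq, rfl⟩
        rw [← hQeq] at hq ⊢
        obtain ⟨x, hx, rfl⟩ := hq
        exact ⟨y * x * y⁻¹, (Subgroup.mem_normalizer_iff.mp hyN x).mp hx, key x hx⟩
      · rw [card_map_conj]
    have hcen : h⁻¹ * (g * y * g⁻¹) ∈ Subgroup.centralizer (Q : Set G) := by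
      rw [Subgroup.mem_centralizer_iff]
      intro q hq
      rw [← hQeq] at hq
      obtain ⟨x, hx, rfl⟩ := hq
      show g * x * g⁻¹ * (h⁻¹ * (g * y * g⁻¹)) = h⁻¹ * (g * y * g⁻¹) * (g * x * g⁻¹)
      symm
      calc h⁻¹ * (g * y * g⁻¹) * (g * x * g⁻¹)
          = h⁻¹ * (g * (y * x * y⁻¹) * g⁻¹) * (g * y * g⁻¹) := by group
        _ = h⁻¹ * (h * (g * x * g⁻¹) * h⁻¹) * (g * y * g⁻¹) := by rw [key x hx]
        _ = g * x * g⁻¹ * (h⁻¹ * (g * y * g⁻¹)) := by group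
    have h8 : g * y * g⁻¹ = h * (h⁻¹ * (g * y * g⁻¹)) := by group
    rw [h8]; exact Subgroup.mul_mem_sup ⟨hhP, hhN⟩ hcen
  have hNP : FusionSystem.extender P R φ ≤ P := fun y hy => (hNle hy).1.1
  have hRN : R ≤ FusionSystem.extender P R φ := by
    intro y hy
    apply Subgroup.subset_closure
    refine ⟨hRP hy, Subgroup.le_normalizer hy, g * y * g⁻¹, hgR ⟨y, hy, rfl⟩, fun x hx => ?_⟩
    rw [hg, hg]
    show g * (y * x * y⁻¹) * g⁻¹ = _
    group
  obtain ⟨eN, heN, hNle'⟩ := subpair_exists hM P e hPe _ (FusionSystem.extender P R φ) hNP rfl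
  have h1 := pair_le_of_le hM ⟨R, fR⟩ ⟨_, eN⟩ ⟨P, e⟩ hPe hfR hNle' hRN
  have h2 := subpairLE_conj g _ _ h1
  rw [hpair] at h2
  obtain ⟨z, hz, hzc⟩ := receptive_core hM P Q e f hPe hQP hf hle T hT F hFb hFc hD
    (conjPair g ⟨_, eN⟩) (isBrauerPair_conj _ g eN ⟨hPe.1.to_le hNP, heN⟩) h2 (by
      rintro _ ⟨y, hy, rfl⟩
      exact (hNle hy).2)
  rw [conjPair_mul hM _ _ _ heN] at hzc
  refine ⟨(MulAut.conj (z * g)).toMonoidHom.comp (Subgroup.subtype _),
    ⟨hNP, z * g, fun u => rfl, (subpairLE_le _ _ hzc).1, eN, hNle', hzc⟩, ?_⟩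
  intro x hxR hxN
  show z * g * x * (z * g)⁻¹ = φ ⟨x, hxR⟩
  rw [hg]
  have hq : g * x * g⁻¹ ∈ Q := hQeq ▸ ⟨x, hxR, rfl⟩
  have h9 := (Subgroup.mem_centralizer_iff.mp hz) _ hq
  calc z * g * x * (z * g)⁻¹ = z * (g * x * g⁻¹) * z⁻¹ := by group
    _ = g * x * g⁻¹ := by rw [← h9]; group

theorem mem_normalizer_of_conj_le [Finite G] (Q : Subgroup G) (g : G) (h : ∀ q ∈ Q, g * q * g⁻¹ ∈ Q) :
    g ∈ Subgroup.normalizer (Q : Set G) := by
  apply mem_normalizer_of_map_conj_eq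
  apply Subgroup.eq_of_le_of_card_ge
  · rintro _ ⟨q, hq, rfl⟩
    exact h q hq
  · rw [card_map_conj]

theorem blockFusion_automized [Fintype G] [Fact p.Prime] (hM : IsPModular p M) (P Q : Subgroup G)
    (e : Set (IrrCharacter (Subgroup.centralizer (P : Set G))))
    (f : Set (IrrCharacter (Subgroup.centralizer (Q : Set G)))) (hPe : IsBrauerPair p M P e) (hQP : Q ≤ P)
    (hf : IsPBlock M f) (hle : SubpairLE p M Q f P e) (T : Subgroup G)
    (hT : ∀ y : G, y ∈ T ↔ y ∈ Subgroup.normalizer (Q : Set G) ∧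
      StabilizesBlock (Subgroup.centralizer (Q : Set G)) f y)
    (F : Set (IrrCharacter T)) (hFb : IsPBlock M F)
    (hFc : ∀ t : T, blockCoeff F t = subgroupBlockCoeff (Subgroup.centralizer (Q : Set G)) f (t : G))
    (hD : IsDefectGroup p M F ((P ⊓ Subgroup.normalizer (Q : Set G)).subgroupOf T)) :
    (blockFusion hM P e hPe).IsFullyAutomized p Q := by
  refine ⟨hQP, ?_⟩
  have hQp : IsPGroup p Q := hPe.1.to_le hQP
  obtain ⟨hLT, hQT, hTN⟩ := stab_facts Q f T hT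
  obtain ⟨eR, heR, hRle, hfR⟩ := normalizer_subpair hM P Q e f hPe hQP hle
  have hRT : P ⊓ Subgroup.normalizer (Q : Set G) ≤ T := fun y hy => (hT y).mpr ⟨hy.2, hfR.2.2.2.2.1 y hy⟩
  obtain ⟨κ, hκ⟩ : ∃ κ : T →* MulAut Q, ∀ (t : T) (x : Q), ((κ t x : Q) : G) = (t : G) * x * (t : G)⁻¹ :=
    ⟨Q.normalizerMonoidHom.comp (Subgroup.inclusion hTN), fun t x => rfl⟩
  have hA : (blockFusion hM P e hPe).autGroup Q = (⊤ : Subgroup T).map κ := by
    apply le_antisymm
    · unfold FusionSystem.autGroup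
      rw [Subgroup.closure_le]
      rintro α ⟨-, g, hg, hgQ, f', hf', hgf'⟩
      have hg' : ∀ u : Q, ((α u : Q) : G) = g * (u : G) * g⁻¹ := hg
      have hgN : g ∈ Subgroup.normalizer (Q : Set G) :=
        mem_normalizer_of_conj_le Q g (fun q hq => by rw [← hg' ⟨q, hq⟩]; exact (α _).2)
      have hff : f' = f := subpair_unique hM P e hPe _ Q f' f rfl hf' hle
      subst hff
      have hfix : conjPair g ⟨Q, f'⟩ = ⟨Q, f'⟩ :=
        pair_unique_sigma hM _ _ ⟨P, e⟩ hPe hgf' hle (map_conj_eq_of_mem_normalizer Q g hgN)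
      have hgT : g ∈ T := (hT g).mpr (stab_of_conjPair_eq hM Q f' hf g hfix)
      refine ⟨⟨g, hgT⟩, Subgroup.mem_top _, ?_⟩
      ext u
      rw [hκ, hg']
    · rintro _ ⟨t, -, rfl⟩
      apply Subgroup.subset_closure
      have hfix : conjPair (t : G) ⟨Q, f⟩ = ⟨Q, f⟩ :=
        conjPair_fix hM Q f hf t ((hT t).mp t.2).1 ((hT t).mp t.2).2
      have h1 : Relation.ReflTransGen (NormalSubpairRel p M) (conjPair (t : G) ⟨Q, f⟩) ⟨P, e⟩ := by
        rw [hfix]; exact hle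
      exact ⟨hQP, t, fun u => hκ t u, (subpairLE_le _ _ h1).1, f, hle, h1⟩
  have hI : autInducedBy P Q = ((P ⊓ Subgroup.normalizer (Q : Set G)).subgroupOf T).map κ := by
    apply le_antisymm
    · unfold autInducedBy
      rw [Subgroup.closure_le]
      rintro α ⟨g, hgP, hg⟩
      have hgN : g ∈ Subgroup.normalizer (Q : Set G) :=
        mem_normalizer_of_conj_le Q g (fun q hq => by rw [← hg ⟨q, hq⟩]; exact (α _).2)
      refine ⟨⟨g, hRT ⟨hgP, hgN⟩⟩, Subgroup.mem_subgroupOf.mpr ⟨hgP, hgN⟩, ?_⟩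
      ext u
      rw [hκ, hg]
    · rintro _ ⟨t, ht, rfl⟩
      apply Subgroup.subset_closure
      exact ⟨t, (Subgroup.mem_subgroupOf.mp ht).1, fun x => hκ t x⟩
  have hker : κ.ker = (Subgroup.centralizer (Q : Set G)).subgroupOf T := by
    ext t
    rw [MonoidHom.mem_ker, Subgroup.mem_subgroupOf, Subgroup.mem_centralizer_iff]
    constructor
    · intro h q hq
      have h1 := hκ t ⟨q, hq⟩
      rw [h] at h1
      have h2 : q = (t : G) * q * (t : G)⁻¹ := h1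
      calc q * (t : G) = ((t : G) * q * (t : G)⁻¹) * t := by rw [← h2]
        _ = t * q := by group
    · intro h
      ext u
      rw [hκ]
      have := h u u.2
      show (t : G) * u * (t : G)⁻¹ = u
      rw [← this]; group
  have hidx : ((autInducedBy P Q).subgroupOf ((blockFusion hM P e hPe).autGroup Q)).index
      = ((P ⊓ Subgroup.normalizer (Q : Set G)).subgroupOf T ⊔
        (Subgroup.centralizer (Q : Set G)).subgroupOf T).index := by
    show (autInducedBy P Q).relIndex _ = _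
    rw [hA, hI, Subgroup.relIndex_map_map, hker, top_sup_eq, Subgroup.relIndex_top_right]
  have hpg : IsPGroup p ((autInducedBy P Q).subgroupOf ((blockFusion hM P e hPe).autGroup Q)) := by
    apply IsPGroup.comap_subtype
    rw [hI]
    exact ((hPe.1.to_le inf_le_left).comap_subtype).map κ
  exact ⟨hpg.toSylow (hidx ▸ stab_index hM Q hQp f hf T hT F hFb hFc _ hD), IsPGroup.toSylow_coe _ _⟩

theorem blockFusion_saturated [Fintype G] [Fact p.Prime] (hM : IsPModular p M) (B : Set (IrrCharacter G))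
    (P : Subgroup G) (e : Set (IrrCharacter (Subgroup.centralizer (P : Set G))))
    (hmax : IsMaximalBrauerPair p M B P e) :
    ∃ F : FusionSystem P, IsBlockFusionSystemOn p M B P e F ∧ F.IsSaturated p := by
  have hPe := hmax.1.1
  have hF : IsBlockFusionSystemOn p M B P e (blockFusion hM P e hPe) := ⟨hmax, fun Q φ => Iff.rfl⟩
  refine ⟨blockFusion hM P e hPe, hF, ?_⟩
  intro Q hQP
  obtain ⟨f, hf, hle⟩ := subpair_exists hM P e hPe _ Q hQP rfl
  have hQp : IsPGroup p Q := hPe.1.to_le hQP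
  obtain ⟨T, hT⟩ := exists_stab hM Q f hf
  obtain ⟨F, hFb, hFc⟩ := stab_block_exists hM Q hQp f hf T hT
  obtain ⟨x, hx, -, hxd⟩ := norm_defect_conj hM B P Q e f hmax hQP hf hle T hT F hFb hFc
  have hxQP := (subpairLE_le _ _ hx).1
  have hf' : IsPBlock M (conjBlock Q x f) := (isBrauerPair_conj Q x f ⟨hQp, hf⟩).2
  obtain ⟨T', hT'⟩ := exists_stab hM _ (conjBlock Q x f) hf'
  obtain ⟨F', hFb', hFc'⟩ := stab_block_exists hM _ (hPe.1.to_le hxQP) _ hf' T' hT'
  have hD := hxd T' hT' F' hFb' hFc'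
  exact ⟨_, (fusion_conj_iff hM B P e _ hF Q f hQP hle _).mpr ⟨x, rfl, hx⟩,
    blockFusion_automized hM P _ e _ hPe hxQP hf' hx T' hT' F' hFb' hFc' hD,
    blockFusion_receptive hM P _ e _ hPe hxQP hf' hx T' hT' F' hFb' hFc' hD⟩

end BrauerI
end Cfsg.Agent.H4
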