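import Cfsg.Agent.Lib_helper4_BlkBN

set_option autoImplicit false
set_option linter.style.haveILetI false
set_option linter.unusedSectionVars false
namespace Cfsg.Agent.H4
open Module
open scoped ComplexConjugate
universe u v w

section Dom
variable {p : ℕ} {M : Ideal AlgInt} {G : Type u} [Group G]

theorem sameBlock_infl [Finite G] (hM : IsPModular p M) (N : Subgroup G) [hN : N.Normal]
    (χ ψ : IrrCharacter (G ⧸ N)) (h : SameBlock M (χ : G ⧸ N → ℂ) (ψ : G ⧸ N → ℂ)) :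
    SameBlock M (infl N χ : G → ℂ) (infl N ψ : G → ℂ) := by
  classical
  haveI := Fintype.ofFinite G
  haveI := Fintype.ofFinite (IrrCharacter G)
  haveI := Fintype.ofFinite (G ⧸ N)
  haveI := Fintype.ofFinite (IrrCharacter (G ⧸ N))
  intro g
  exact InZ.congr hM (inZ_quot hM N (InZ.central hM g)) h

/-- a `p`-regular representative in a coset of a normal `p`-subgroup -/
theorem exists_regular_rep [Finite G] (P : Subgroup G) [hN : P.Normal] (hP : IsPGroup p P) (y : G)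
    (hy : ¬ p ∣ orderOf (y : G ⧸ P)) [Fact p.Prime] :
    ∃ n ∈ P, ¬ p ∣ orderOf (n * y) := by
  have hp : p.Prime := Fact.out
  have hu : y ^ orderOf (y : G ⧸ P) ∈ P := by
    rw [← QuotientGroup.eq_one_iff, QuotientGroup.mk_pow, pow_orderOf_eq_one]
  obtain ⟨s, hs⟩ := hP ⟨_, hu⟩
  have hs' : (y ^ orderOf (y : G ⧸ P)) ^ p ^ s = 1 := congrArg Subtype.val hs
  have hcop : (orderOf (y : G ⧸ P)).Coprime (orderOf (y ^ orderOf (y : G ⧸ P))) := by
    obtain ⟨j, -, hj⟩ := (Nat.dvd_prime_pow hp).mp (orderOf_dvd_of_pow_eq_one hs')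
    rw [hj]
    exact Nat.Coprime.pow_right _ ((Nat.Prime.coprime_iff_not_dvd hp).mpr hy).symm
  obtain ⟨r, hr⟩ := exists_pow_eq_self_of_coprime hcop
  refine ⟨((y ^ orderOf (y : G ⧸ P)) ^ r)⁻¹, P.inv_mem (P.pow_mem hu r), ?_⟩
  intro hdvd
  apply hy
  apply hdvd.trans
  apply orderOf_dvd_of_pow_eq_one
  have hc : Commute ((y ^ orderOf (y : G ⧸ P)) ^ r)⁻¹ y :=
    (((Commute.refl y).pow_left _).pow_left _).inv_left
  rw [hc.mul_pow, inv_pow, ← pow_mul (y ^ orderOf (y : G ⧸ P)) r, mul_comm r, pow_mul, hr]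
  group

theorem sameBlock_of_infl [Finite G] [Fact p.Prime] (hM : IsPModular p M) (P : Subgroup G) [hN : P.Normal]
    (hP : IsPGroup p P) (hreg : ∀ y : G, ¬ p ∣ orderOf y → y ∈ Subgroup.centralizer (P : Set G))
    (χ ψ : IrrCharacter (G ⧸ P)) (h : SameBlock M (infl P χ : G → ℂ) (infl P ψ : G → ℂ)) :
    SameBlock M (χ : G ⧸ P → ℂ) (ψ : G ⧸ P → ℂ) := by
  classical
  have hp : p.Prime := Fact.out
  haveI := Fintype.ofFinite G
  haveI := Fintype.ofFinite (IrrCharacter G)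
  haveI := Fintype.ofFinite (G ⧸ P)
  haveI := Fintype.ofFinite (IrrCharacter (G ⧸ P))
  haveI := Fintype.ofFinite P
  obtain ⟨w, hw⟩ : ∃ w : IrrCharacter (G ⧸ P) → ℂ,
    w = Set.indicator (blockOf M (χ : G ⧸ P → ℂ)) (1 : IrrCharacter (G ⧸ P) → ℂ) := ⟨_, rfl⟩
  have hwZ : InZ M w := hw ▸ inZ_indicator_block hM χ
  have hwi : w * w = w := hw ▸ indicator_mul_self _
  obtain ⟨a, ha⟩ : ∃ a : G → ℂ, a = fun g : G => if p ∣ orderOf g then 0 else coef w (g : G ⧸ P) := ⟨_, rfl⟩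
  have hacl : IsClassFunction G a := by
    intro x g
    rw [ha]
    simp only
    have h1 : orderOf (g * x * g⁻¹) = orderOf x := by
      have := orderOf_eq_of_isConj (isConj_iff.mpr ⟨g, rfl⟩ : IsConj x (g * x * g⁻¹))
      exact this.symm
    rw [h1]
    have h2 : coef w ((g * x * g⁻¹ : G) : G ⧸ P) = coef w (x : G ⧸ P) := by
      have := coef_isClassFunction w (x : G ⧸ P) (g : G ⧸ P)
      rw [← this]; rfl
    rw [h2]
  have hcv : coef (spec a) = a := coef_spec a hacl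
  have hvZ : InZ M (spec a) := by
    intro g
    rw [hcv, ha]
    simp only
    split_ifs
    · exact MemLocalRing.zero hM
    · exact hwZ _
  have hkey : (fun χ' : IrrCharacter (G ⧸ P) => spec a (infl P χ')) = w := by
    rw [← spec_coef (fun χ' : IrrCharacter (G ⧸ P) => spec a (infl P χ')), ← spec_coef w]
    congr 1
    funext q
    obtain ⟨y, rfl⟩ := QuotientGroup.mk_surjective q
    show coef _ (y : G ⧸ P) = _
    rw [coef_quot, hcv]
    by_cases hy : p ∣ orderOf (y : G ⧸ P)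
    · rw [coef_vanish_of_idem hM w hwZ hwi _ hy]
      apply Finset.sum_eq_zero
      intro n _
      rw [ha]
      simp only
      rw [if_pos]
      apply hy.trans
      have h3 : ((n : G) * y : G) = (y : G ⧸ P) := by
        rw [QuotientGroup.mk_mul, (QuotientGroup.eq_one_iff (n : G)).mpr n.2, one_mul]
      rw [← h3]
      exact orderOf_map_dvd (QuotientGroup.mk' P) _
    · obtain ⟨n0, hn0, hreg0⟩ := exists_regular_rep P hP y hy
      rw [← Equiv.sum_comp (Equiv.mulRight (⟨n0, hn0⟩ : P))]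
      rw [Finset.sum_eq_single (1 : P)]
      · simp only [Equiv.coe_mulRight, one_mul]
        rw [ha]
        simp only
        rw [if_neg hreg0]
        congr 1
        rw [QuotientGroup.mk_mul, (QuotientGroup.eq_one_iff n0).mpr hn0, one_mul]
      · intro n _ hn1
        simp only [Equiv.coe_mulRight]
        rw [ha]
        simp only
        rw [if_pos]
        have h4 : ((n * ⟨n0, hn0⟩ : P) : G) * y = (n : G) * (n0 * y) := by
          simp [mul_assoc]
        rw [h4]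
        apply dvd_orderOf_mul_of_pGroup hp hP n.2 (fun h => hn1 (Subtype.ext h)) hreg0
        exact ((Subgroup.mem_centralizer_iff.mp (hreg _ hreg0)) n n.2)
      · intro h; exact absurd (Finset.mem_univ _) h
  have h5 := InZ.congr hM hvZ h
  have h6 : spec a (infl P χ) = w χ := congrFun hkey χ
  have h7 : spec a (infl P ψ) = w ψ := congrFun hkey ψ
  rw [h6, h7, hw, Set.indicator_of_mem (show χ ∈ blockOf M (χ : G ⧸ P → ℂ) from SameBlock.refl hM _)] at h5
  by_contra hcon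
  rw [Set.indicator_of_notMem (show ψ ∉ blockOf M (χ : G ⧸ P → ℂ) from hcon)] at h5
  simp only [Pi.one_apply, sub_zero] at h5
  exact not_memLocalIdeal_one hM h5

theorem mem_of_regular_of_index [Finite G] [Fact p.Prime] (C : Subgroup G) [C.Normal] (k : ℕ) (hC : C.index = p ^ k)
    (y : G) (hy : ¬ p ∣ orderOf y) : y ∈ C := by
  have hp : p.Prime := Fact.out
  rw [← QuotientGroup.eq_one_iff, ← orderOf_eq_one_iff]
  have h1 : orderOf (y : G ⧸ C) ∣ orderOf y := orderOf_map_dvd (QuotientGroup.mk' C) y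
  have h2 : orderOf (y : G ⧸ C) ∣ p ^ k := by
    rw [← hC]; exact orderOf_dvd_natCard _
  obtain ⟨j, -, hj⟩ := (Nat.dvd_prime_pow hp).mp h2
  rcases Nat.eq_zero_or_pos j with h0 | h0
  · rw [hj, h0, pow_zero]
  · exact absurd ((dvd_pow_self p h0.ne').trans (hj ▸ h1)) hy

theorem dom_bijection [Finite G] [Fact p.Prime] (hM : IsPModular p M) (P : Subgroup G) [hN : P.Normal]
    (hP : IsPGroup p P) (hC : ∃ k : ℕ, (Subgroup.centralizer (P : Set G)).index = p ^ k) :
    (∀ χ ψ : IrrCharacter (G ⧸ P), SameBlock M (χ : G ⧸ P → ℂ) (ψ : G ⧸ P → ℂ) ↔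
      SameBlock M ((χ : G ⧸ P → ℂ) ∘ QuotientGroup.mk) ((ψ : G ⧸ P → ℂ) ∘ QuotientGroup.mk)) ∧
    ∀ B : Set (IrrCharacter G), IsPBlock M B → ∃ χ : IrrCharacter (G ⧸ P), ∃ θ ∈ B,
      (θ : G → ℂ) = (χ : G ⧸ P → ℂ) ∘ QuotientGroup.mk := by
  obtain ⟨k, hk⟩ := hC
  refine ⟨fun χ ψ => ⟨fun h => sameBlock_infl hM P χ ψ h, fun h => sameBlock_of_infl hM P hP
    (fun y hy => mem_of_regular_of_index _ k hk y hy) χ ψ h⟩, ?_⟩
  rintro B ⟨χ, rfl⟩
  obtain ⟨ψ, hψ⟩ := exists_infl_mem_block hM P hP χ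
  exact ⟨ψ, infl P ψ, hψ, rfl⟩

end Dom
end Cfsg.Agent.H4
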