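import Cfsg.Agent.Lib_helper4_BlkBO

set_option autoImplicit false
set_option linter.style.haveILetI false
set_option linter.unusedSectionVars false
namespace Cfsg.Agent.H4
open Module
open scoped ComplexConjugate
universe u v w

section Dom2
variable {p : ℕ} {M : Ideal AlgInt} {G : Type u} [Group G]

theorem charDegree_infl (N : Subgroup G) [N.Normal] (χ : IrrCharacter (G ⧸ N)) :
    charDegree (infl N χ : G → ℂ) = charDegree (χ : G ⧸ N → ℂ) := rfl

theorem card_val_quot [Finite G] [Fact p.Prime] (Z : Subgroup G) [Z.Normal] :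
    (Nat.card G).factorization p = (Nat.card (G ⧸ Z)).factorization p + (Nat.card Z).factorization p := by
  rw [Subgroup.card_eq_card_quotient_mul_card_subgroup Z,
    Nat.factorization_mul Nat.card_pos.ne' Nat.card_pos.ne']
  rfl

theorem degree_val_ge [Finite G] (B : Set (IrrCharacter G)) (χ : IrrCharacter G) (hχ : χ ∈ B) :
    (Nat.card G).factorization p ≤ blockDefect p B + (charDegree (χ : G → ℂ)).factorization p := by
  unfold blockDefect
  have : sInf ((fun χ : IrrCharacter G => (charDegree (χ : G → ℂ)).factorization p) '' B)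
      ≤ (charDegree (χ : G → ℂ)).factorization p := Nat.sInf_le ⟨χ, hχ, rfl⟩
  omega

theorem degree_val_le [Finite G] (χ : IrrCharacter G) :
    (charDegree (χ : G → ℂ)).factorization p ≤ (Nat.card G).factorization p := by
  obtain ⟨n, hn0, hn, h1⟩ := IsIrrCharacter.exists_degree χ.2
  rw [charDegree_eq h1]
  exact (Nat.factorization_le_iff_dvd hn0.ne' Nat.card_pos.ne').mpr hn p

theorem exists_char_of_normal_defect [Finite G] [Fact p.Prime] (hM : IsPModular p M) (Z : Subgroup G) [hN : Z.Normal]
    (e : Set (IrrCharacter G)) (he : IsPBlock M e) (hD : IsDefectGroup p M e Z) :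
    ∃ θ ∈ e, (∀ z ∈ Z, (θ : G → ℂ) z = (θ : G → ℂ) 1) ∧
      (charDegree (θ : G → ℂ)).factorization p + (Nat.card Z).factorization p = (Nat.card G).factorization p := by
  have hp : p.Prime := Fact.out
  have hcard := defect_group_card hM e he Z hD
  have hZ : IsPGroup p Z := IsPGroup.of_card hcard
  obtain ⟨χ0, rfl⟩ := he
  obtain ⟨ψ, hψ⟩ := exists_infl_mem_block hM Z hZ χ0
  refine ⟨infl Z ψ, hψ, infl_ker Z ψ, ?_⟩
  have h1 := degree_val_ge (p := p) _ _ hψ
  have h2 := degree_val_le (p := p) ψ
  rw [← charDegree_infl] at h2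
  have h3 := card_val_quot (p := p) Z
  have h4 : (Nat.card Z).factorization p = blockDefect p (blockOf M (χ0 : G → ℂ)) := by
    rw [hcard, Nat.Prime.factorization_pow hp]; simp
  omega

theorem central_defect_of_char [Finite G] [Fact p.Prime] (hM : IsPModular p M) (Z : Subgroup G) [hN : Z.Normal]
    (hZ : IsPGroup p Z) (hZc : Z ≤ Subgroup.center G)
    (e : Set (IrrCharacter G)) (he : IsPBlock M e) (θ : IrrCharacter G) (hθ : θ ∈ e)
    (hker : ∀ z ∈ Z, (θ : G → ℂ) z = (θ : G → ℂ) 1)
    (hdeg : (charDegree (θ : G → ℂ)).factorization p + (Nat.card Z).factorization p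
      = (Nat.card G).factorization p) :
    IsDefectGroup p M e Z := by
  classical
  have hp : p.Prime := Fact.out
  haveI := Fintype.ofFinite G
  haveI := Fintype.ofFinite (IrrCharacter G)
  haveI := Fintype.ofFinite (G ⧸ Z)
  haveI := Fintype.ofFinite (IrrCharacter (G ⧸ Z))
  haveI := Fintype.ofFinite Z
  obtain ⟨θ', rfl⟩ := exists_infl Z θ hker
  have hreg : ∀ y : G, ¬ p ∣ orderOf y → y ∈ Subgroup.centralizer (Z : Set G) := by
    intro y _
    rw [Subgroup.mem_centralizer_iff]
    intro z hz
    exact ((Subgroup.mem_center_iff.mp (hZc hz)) y).symm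
  have h3 := card_val_quot (p := p) Z
  rw [charDegree_infl] at hdeg
  -- `θ'` has defect zero
  have hsing : blockOf M (θ' : G ⧸ Z → ℂ) = {θ'} := by
    rw [← defect_zero_iff_singleton hM]
    obtain ⟨n, hn0, ⟨c, hc⟩, h1⟩ := IsIrrCharacter.exists_degree θ'.2
    rw [charDegree_eq h1] at hdeg ⊢
    rw [hc, Nat.mul_div_cancel_left _ hn0]
    intro hpc
    have hc0 : c ≠ 0 := by
      rintro rfl
      rw [mul_zero] at hc
      exact Nat.card_pos.ne' hc
    have h5 : (Nat.card (G ⧸ Z)).factorization p = n.factorization p + c.factorization p := by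
      rw [hc, Nat.factorization_mul hn0.ne' hc0]; rfl
    have h6 : 0 < c.factorization p := hp.factorization_pos_of_dvd hc0 hpc
    omega
  have heq := IsPBlock.eq_blockOf hM he hθ
  have hind : (fun χ' : IrrCharacter (G ⧸ Z) => Set.indicator e (1 : IrrCharacter G → ℂ) (infl Z χ'))
      = Set.indicator {θ'} (1 : IrrCharacter (G ⧸ Z) → ℂ) := by
    funext χ'
    by_cases hχ' : χ' = θ'
    · rw [hχ', Set.indicator_of_mem hθ, Set.indicator_of_mem (Set.mem_singleton θ')]
      rfl
    · rw [Set.indicator_of_notMem (show χ' ∉ ({θ'} : Set _) from hχ'), Set.indicator_of_notMem]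
      intro hmem
      rw [heq] at hmem
      have := sameBlock_of_infl hM Z hZ hreg θ' χ' hmem
      have h7 : χ' ∈ blockOf M (θ' : G ⧸ Z → ℂ) := this
      rw [hsing] at h7
      exact hχ' h7
  obtain ⟨g, hg⟩ := exists_defect_class' hM e he
  have hgreg : ¬ p ∣ orderOf g := by
    intro h
    apply hg.2.1
    rw [blockCoeff_vanish hM e he g h]
    exact MemLocalIdeal.zero hM
  have hd := defect_eq_of_defectClass hM e he g hg
  have hcq := coef_quot Z (Set.indicator e (1 : IrrCharacter G → ℂ)) g
  rw [hind, Finset.sum_eq_single (1 : Z)] at hcq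
  · simp only [Subgroup.coe_one, one_mul] at hcq
    rw [← blockCoeff_eq_coef e] at hcq
    have hZ1 : InZ M (Set.indicator {θ'} (1 : IrrCharacter (G ⧸ Z) → ℂ)) := by
      rw [← hsing]; exact inZ_indicator_block hM θ'
    have h8 := exists_degree_val_le_class_val hM {θ'} hZ1 (g : G ⧸ Z) (by rw [hcq]; exact hg.2.1)
      ((charDegree (θ' : G ⧸ Z → ℂ)).factorization p) (by
        intro χ hχ
        rw [Set.mem_singleton_iff.mp hχ])
    have h9 : (Subgroup.centralizer ({(g : G ⧸ Z)} : Set (G ⧸ Z))).index ∣
        (Subgroup.centralizer ({g} : Set G)).index := by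
      rw [← Subgroup.index_comap_of_surjective _ (QuotientGroup.mk'_surjective Z)]
      apply Subgroup.index_dvd_of_le
      intro x hx
      rw [Subgroup.mem_comap, Subgroup.mem_centralizer_singleton_iff]
      have := Subgroup.mem_centralizer_singleton_iff.mp hx
      show (x : G ⧸ Z) * (g : G ⧸ Z) = (g : G ⧸ Z) * (x : G ⧸ Z)
      rw [← QuotientGroup.mk_mul, ← QuotientGroup.mk_mul, this]
    have h10 : ((Subgroup.centralizer ({(g : G ⧸ Z)} : Set (G ⧸ Z))).index).factorization p ≤
        ((Subgroup.centralizer ({g} : Set G)).index).factorization p :=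
      (Nat.factorization_le_iff_dvd Subgroup.index_ne_zero_of_finite Subgroup.index_ne_zero_of_finite).mpr h9 p
    have hack : (Nat.card G).factorization p = ((Subgroup.centralizer ({g} : Set G)).index).factorization p
        + (Nat.card (Subgroup.centralizer ({g} : Set G))).factorization p := by
      rw [← Subgroup.index_mul_card (Subgroup.centralizer ({g} : Set G)),
        Nat.factorization_mul Subgroup.index_ne_zero_of_finite Nat.card_pos.ne']
      rfl
    obtain ⟨D, hD⟩ := exists_defectGroup hM e he
    have hZD := normal_pSubgroup_le_defect hM e he D hD Z hZ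
    have hDc := defect_group_card hM e he D hD
    obtain ⟨k, hk⟩ := IsPGroup.iff_card.mp hZ
    have hk' : (Nat.card Z).factorization p = k := by
      rw [hk, Nat.Prime.factorization_pow hp]; simp
    have hle : blockDefect p e ≤ k := by omega
    have : Z = D := by
      apply Subgroup.eq_of_le_of_card_ge hZD
      rw [hDc, hk]
      exact Nat.pow_le_pow_right hp.pos hle
    rw [this]; exact hD
  · intro n _ hn1
    rw [← blockCoeff_eq_coef]
    apply blockCoeff_vanish hM e he
    apply dvd_orderOf_mul_of_pGroup hp hZ n.2 (fun h => hn1 (Subtype.ext h)) hgreg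
    exact ((Subgroup.mem_center_iff.mp (hZc n.2)) g).symm
  · intro h; exact absurd (Finset.mem_univ _) h

end Dom2
end Cfsg.Agent.H4
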