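import Cfsg.Agent.Lib_helper4_BlkBP

set_option autoImplicit false
set_option linter.style.haveILetI false
set_option linter.unusedSectionVars false
namespace Cfsg.Agent.H4
open Module
open scoped ComplexConjugate
universe u v w

section Canon
variable {p : ℕ} {M : Ideal AlgInt} {G : Type u} [Group G]

theorem exists_block_of_pair [Fintype G] (hM : IsPModular p M) (Q : Subgroup G)
    (e : Set (IrrCharacter (Subgroup.centralizer (Q : Set G)))) (he : IsBrauerPair p M Q e) :
    ∃ B : Set (IrrCharacter G), IsBrauerPairOf p M B Q e := by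
  classical
  haveI := Fintype.ofFinite (⊤ : Subgroup G)
  haveI := Fintype.ofFinite (IrrCharacter (⊤ : Subgroup G))
  haveI := Fintype.ofFinite (Subgroup.centralizer (Q : Set G))
  haveI := Fintype.ofFinite (IrrCharacter (Subgroup.centralizer (Q : Set G)))
  obtain ⟨ξ0, hξ0⟩ := IsPBlock.nonempty hM he.2
  have hPL : Q ≤ Subgroup.normalizer ((⊤ : Subgroup G) : Set G) := by
    intro x _
    rw [Subgroup.mem_normalizer_iff]
    intro h
    simp
  obtain ⟨f, hf, -, h1⟩ := exists_stable_block hM Q ⊤ he.1 hPL le_top ξ0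
  refine ⟨trSet Subgroup.topEquiv.symm f, he, isPBlock_trSet _ hf, ?_⟩
  intro ξ hξ
  have hb : brauerOmega Q (blockCoeff (trSet Subgroup.topEquiv.symm f))
      (ξ : Subgroup.centralizer (Q : Set G) → ℂ) = trunc ⊤ _ le_top (Set.indicator f 1) ξ := by
    rw [brauerOmega_eq_spec]
    unfold trunc
    congr 1
    funext c
    rw [blockCoeff_trSet, blockCoeff_eq_coef]
    rfl
  rw [hb]
  have hZ : InZ M (Set.indicator f (1 : IrrCharacter (⊤ : Subgroup G) → ℂ)) := by
    obtain ⟨η', rfl⟩ := hf; exact inZ_indicator_block hM η'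
  have hs : SameBlock M (ξ : Subgroup.centralizer (Q : Set G) → ℂ) (ξ0 : Subgroup.centralizer (Q : Set G) → ℂ) := by
    have := hξ0
    rw [IsPBlock.eq_blockOf hM he.2 hξ] at this
    exact this
  have h2 := InZ.congr hM (inZ_trunc _ _ le_top hZ) hs
  have := MemLocalIdeal.add hM h2 h1
  rwa [sub_add_sub_cancel] at this

theorem zq_le_center (Q : Subgroup G) :
    (Q ⊓ Subgroup.centralizer (Q : Set G)).subgroupOf (Subgroup.centralizer (Q : Set G))
      ≤ Subgroup.center (Subgroup.centralizer (Q : Set G)) := by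
  intro z hz
  rw [Subgroup.mem_center_iff]
  intro c
  apply Subtype.ext
  exact ((Subgroup.mem_centralizer_iff.mp c.2) z (Subgroup.mem_subgroupOf.mp hz).1).symm

theorem zq_normal (Q : Subgroup G) :
    ((Q ⊓ Subgroup.centralizer (Q : Set G)).subgroupOf (Subgroup.centralizer (Q : Set G))).Normal := by
  constructor
  intro n hn g
  have := (Subgroup.mem_center_iff.mp (zq_le_center Q hn)) g
  rw [this, mul_assoc, mul_inv_cancel, mul_one]
  exact hn

theorem conj_top_eq [Fintype G] [Fact p.Prime] (hM : IsPModular p M) (B : Set (IrrCharacter G))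
    (Q : Subgroup G) (e : Set (IrrCharacter (Subgroup.centralizer (Q : Set G))))
    (hmax : IsMaximalBrauerPair p M B Q e) (F : FusionSystem Q) (hF : IsBlockFusionSystemOn p M B Q e F)
    (Q2 : Subgroup G) (h : F.IsConj Q Q2) : Q2 = Q := by
  obtain ⟨g, rfl, hg⟩ := (fusion_conj_iff hM B Q e F hF Q e le_rfl Relation.ReflTransGen.refl _).mp h
  apply Subgroup.eq_of_le_of_card_ge (subpairLE_le _ _ hg).1
  rw [card_map_conj]

theorem canonical_of_maximal [Fintype G] [Fact p.Prime] (hM : IsPModular p M) (B : Set (IrrCharacter G))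
    (Q : Subgroup G) (e : Set (IrrCharacter (Subgroup.centralizer (Q : Set G))))
    (hmax : IsMaximalBrauerPair p M B Q e) :
    ∃ θ ∈ e, (∀ z : Subgroup.centralizer (Q : Set G), (z : G) ∈ Q →
        (θ : Subgroup.centralizer (Q : Set G) → ℂ) z = (θ : Subgroup.centralizer (Q : Set G) → ℂ) 1) ∧
      (charDegree (θ : Subgroup.centralizer (Q : Set G) → ℂ)).factorization p
        + (Nat.card ↥(Q ⊓ Subgroup.centralizer (Q : Set G))).factorization p
        = (Nat.card (Subgroup.centralizer (Q : Set G))).factorization p ∧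
      (∀ g : G, g ∈ Subgroup.normalizer (Q : Set G) → StabilizesBlock (Subgroup.centralizer (Q : Set G)) e g →
        (∃ k : ℕ, orderOf g = p ^ k) → g ∈ Q ⊔ Subgroup.centralizer (Q : Set G)) := by
  classical
  have hp : p.Prime := Fact.out
  have he := hmax.1.1
  have hF : IsBlockFusionSystemOn p M B Q e (blockFusion hM Q e he) := ⟨hmax, fun _ _ => Iff.rfl⟩
  have hcen : (blockFusion hM Q e he).IsCentric Q := by
    refine ⟨le_rfl, fun Q2 hQ2 => ?_⟩
    rw [conj_top_eq hM B Q e hmax _ hF Q2 hQ2]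
    exact inf_le_left
  have hZD := (centric_iff hM B Q e hmax _ hF Q e le_rfl he.2 Relation.ReflTransGen.refl).mp hcen
  haveI := zq_normal Q
  obtain ⟨θ, hθ, hker, hdeg⟩ := exists_char_of_normal_defect hM _ e he.2 hZD
  rw [card_subgroupOf_inf] at hdeg
  refine ⟨θ, hθ, fun z hz => hker z (Subgroup.mem_subgroupOf.mpr ⟨hz, z.2⟩), hdeg, ?_⟩
  intro g hgN hgs ⟨k, hk⟩
  obtain ⟨T, hT⟩ := exists_stab hM Q e he.2
  obtain ⟨hLT, hQT, hTN⟩ := stab_facts Q e T hT
  have hfn : (blockFusion hM Q e he).IsFullyNormalized Q := by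
    refine ⟨le_rfl, fun Q2 hQ2 => ?_⟩
    rw [conj_top_eq hM B Q e hmax _ hF Q2 hQ2]
  obtain ⟨F', hF'b, hF'c, hF'D⟩ := (fully_normalized_iff hM B Q e hmax _ hF Q e le_rfl he.2
    Relation.ReflTransGen.refl T hT).mp hfn
  have hidx := stab_index hM Q he.1 e he.2 T hT F' hF'b hF'c _ hF'D
  have hQN : Q ⊓ Subgroup.normalizer (Q : Set G) = Q := inf_eq_left.mpr Subgroup.le_normalizer
  rw [hQN] at hidx
  haveI hLn : ((Subgroup.centralizer (Q : Set G)).subgroupOf T).Normal :=
    (Subgroup.normal_subgroupOf_iff_le_normalizer hLT).mpr (hTN.trans (normalizer_le_normalizer_centralizer Q))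
  haveI hQn : (Q.subgroupOf T).Normal := (Subgroup.normal_subgroupOf_iff_le_normalizer hQT).mpr hTN
  have hgT : g ∈ T := (hT g).mpr ⟨hgN, hgs⟩
  have hmem : (⟨g, hgT⟩ : T) ∈ Q.subgroupOf T ⊔ (Subgroup.centralizer (Q : Set G)).subgroupOf T := by
    rw [← QuotientGroup.eq_one_iff, ← orderOf_eq_one_iff]
    have h1 : orderOf ((⟨g, hgT⟩ : T) : T ⧸ (Q.subgroupOf T ⊔ (Subgroup.centralizer (Q : Set G)).subgroupOf T))
        ∣ p ^ k := by
      rw [← hk, ← Subgroup.orderOf_mk g hgT]
      exact orderOf_map_dvd (QuotientGroup.mk' _) _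
    have h2 : orderOf ((⟨g, hgT⟩ : T) : T ⧸ (Q.subgroupOf T ⊔ (Subgroup.centralizer (Q : Set G)).subgroupOf T))
        ∣ (Q.subgroupOf T ⊔ (Subgroup.centralizer (Q : Set G)).subgroupOf T).index := orderOf_dvd_natCard _
    obtain ⟨j, -, hj⟩ := (Nat.dvd_prime_pow hp).mp h1
    rcases Nat.eq_zero_or_pos j with h0 | h0
    · rw [hj, h0, pow_zero]
    · exact absurd ((dvd_pow_self p h0.ne').trans (hj ▸ h2)) hidx
  rw [← SetLike.mem_coe, Subgroup.mul_normal] at hmem
  obtain ⟨a, ha, b, hb, hab⟩ := Set.mem_mul.mp hmem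
  have hab' : (a : G) * (b : G) = g := congrArg Subtype.val hab
  rw [← hab']
  exact Subgroup.mul_mem_sup (Subgroup.mem_subgroupOf.mp ha) (Subgroup.mem_subgroupOf.mp hb)

theorem maximal_of_canonical [Fintype G] [Fact p.Prime] (hM : IsPModular p M)
    (Q : Subgroup G) (e : Set (IrrCharacter (Subgroup.centralizer (Q : Set G))))
    (he : IsBrauerPair p M Q e) (θ : IrrCharacter (Subgroup.centralizer (Q : Set G))) (hθ : θ ∈ e)
    (hker : ∀ z : Subgroup.centralizer (Q : Set G), (z : G) ∈ Q →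
        (θ : Subgroup.centralizer (Q : Set G) → ℂ) z = (θ : Subgroup.centralizer (Q : Set G) → ℂ) 1)
    (hdeg : (charDegree (θ : Subgroup.centralizer (Q : Set G) → ℂ)).factorization p
        + (Nat.card ↥(Q ⊓ Subgroup.centralizer (Q : Set G))).factorization p
        = (Nat.card (Subgroup.centralizer (Q : Set G))).factorization p)
    (hpel : ∀ g : G, g ∈ Subgroup.normalizer (Q : Set G) → StabilizesBlock (Subgroup.centralizer (Q : Set G)) e g →
        (∃ k : ℕ, orderOf g = p ^ k) → g ∈ Q ⊔ Subgroup.centralizer (Q : Set G)) :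
    ∃ B : Set (IrrCharacter G), IsMaximalBrauerPair p M B Q e := by
  classical
  haveI := zq_normal Q
  haveI := Fintype.ofFinite (Subgroup.centralizer (Q : Set G))
  have hZp : IsPGroup p ((Q ⊓ Subgroup.centralizer (Q : Set G)).subgroupOf (Subgroup.centralizer (Q : Set G))) :=
    (he.1.to_le inf_le_left).comap_subtype
  have hZD := central_defect_of_char hM _ hZp (zq_le_center Q) e he.2 θ hθ
    (fun z hz => hker z (Subgroup.mem_subgroupOf.mp hz).1) (by rw [card_subgroupOf_inf]; exact hdeg)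
  obtain ⟨B, hB⟩ := exists_block_of_pair hM Q e he
  refine ⟨B, hB, ?_⟩
  intro R g _ hle
  by_contra hne
  obtain ⟨⟨R1, g1⟩, hn, -, hne1⟩ := first_proper_step hM ⟨Q, e⟩ ⟨R, g⟩ hle (fun h => hne h.symm)
  have hn' : IsNormalSubpair p M Q e R1 g1 := hn
  have hQR : Q ≤ R1 := hn'.2.2.1
  have hRle : R1 ≤ Q ⊔ Subgroup.centralizer (Q : Set G) := by
    intro y hy
    apply hpel y (hn'.2.2.2.1 hy) (hn'.2.2.2.2.1 y hy)
    obtain ⟨k, hk⟩ := IsPGroup.iff_orderOf.mp hn'.2.1.1 ⟨y, hy⟩
    exact ⟨k, by rw [← hk, Subgroup.orderOf_mk]⟩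
  have hmap : ((R1 ⊓ Subgroup.centralizer (Q : Set G)).subgroupOf (Subgroup.centralizer (Q : Set G))).map
      (Subgroup.centralizer (Q : Set G)).subtype = R1 ⊓ Subgroup.centralizer (Q : Set G) :=
    Subgroup.map_subgroupOf_eq_of_le inf_le_right
  have hS : R1 = Q ⊔ ((R1 ⊓ Subgroup.centralizer (Q : Set G)).subgroupOf
      (Subgroup.centralizer (Q : Set G))).map (Subgroup.centralizer (Q : Set G)).subtype := by
    rw [hmap]
    apply le_antisymm
    · intro y hy
      obtain ⟨q, hq, c, hc, rfl⟩ := mem_sup_centralizing Q _ le_rfl y (hRle hy)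
      apply Subgroup.mul_mem_sup hq
      refine ⟨?_, hc⟩
      have : c = q⁻¹ * (q * c) := by group
      rw [this]
      exact R1.mul_mem (R1.inv_mem (hQR hq)) hy
    · exact sup_le hQR inf_le_left
  have hpair := (pair_dict Q R1 _ hS hQR hn'.2.1.1 e he.2 g1 hn'.2.1.2).mpr hn'
  have hcard := pair_card_le hM e _ _ hpair
  rw [← defect_group_card hM e he.2 _ hZD, card_subgroupOf_inf, card_subgroupOf_inf] at hcard
  have heq : Q ⊓ Subgroup.centralizer (Q : Set G) = R1 ⊓ Subgroup.centralizer (Q : Set G) :=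
    Subgroup.eq_of_le_of_card_ge (inf_le_inf_right _ hQR) hcard
  apply hne1
  show Q = R1
  rw [hS, hmap, ← heq]
  exact (sup_eq_left.mpr inf_le_left).symm

theorem maximal_iff_canonical [Finite G] [Fact p.Prime] (hM : IsPModular p M)
    (Q : Subgroup G) (e : Set (IrrCharacter (Subgroup.centralizer (Q : Set G))))
    (he : IsBrauerPair p M Q e) :
    (∃ B : Set (IrrCharacter G), IsMaximalBrauerPair p M B Q e) ↔
    ∃ θ ∈ e, (∀ z : Subgroup.centralizer (Q : Set G), (z : G) ∈ Q →
        (θ : Subgroup.centralizer (Q : Set G) → ℂ) z = (θ : Subgroup.centralizer (Q : Set G) → ℂ) 1) ∧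
      (charDegree (θ : Subgroup.centralizer (Q : Set G) → ℂ)).factorization p
        + (Nat.card ↥(Q ⊓ Subgroup.centralizer (Q : Set G))).factorization p
        = (Nat.card (Subgroup.centralizer (Q : Set G))).factorization p ∧
      (∀ g : G, g ∈ Subgroup.normalizer (Q : Set G) → StabilizesBlock (Subgroup.centralizer (Q : Set G)) e g →
        (∃ k : ℕ, orderOf g = p ^ k) → g ∈ Q ⊔ Subgroup.centralizer (Q : Set G)) := by
  haveI := Fintype.ofFinite G
  constructor
  · rintro ⟨B, hB⟩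
    exact canonical_of_maximal hM B Q e hB
  · rintro ⟨θ, hθ, h1, h2, h3⟩
    exact maximal_of_canonical hM Q e he θ hθ h1 h2 h3

end Canon
end Cfsg.Agent.H4
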