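import Cfsg.Agent.Lib_helper4_BlkBQ

set_option autoImplicit false
set_option linter.style.haveILetI false
set_option linter.unusedSectionVars false
namespace Cfsg.Agent.H4
open Module
open scoped ComplexConjugate
universe u v w

section Field
variable {p : ℕ} {M : Ideal AlgInt} {G : Type u} [Group G]

theorem IsCharacter.exists_eigen_order [Finite G] {χ : G → ℂ} (hχ : IsCharacter G χ) (g : G) :
    ∃ (d : ℕ) (μ : Fin d → ℂ), (∀ i, μ i ^ orderOf g = 1) ∧ χ g = ∑ i, μ i := by
  obtain ⟨k, ρ, rfl⟩ := hχ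
  obtain ⟨b, μ, h1, h2⟩ := rep_eigenbasis ρ g
  exact ⟨_, μ, h2, trace_of_eigenbasis b μ _ h1⟩

theorem blockCoeff_mem_adjoin [Finite G] [Fact p.Prime] (hM : IsPModular p M) (B : Set (IrrCharacter G))
    (hB : IsPBlock M B) (g : G) :
    blockCoeff B g ∈ IntermediateField.adjoin ℚ ({Complex.exp (2 * Real.pi * Complex.I /
      ((Nat.card G / p ^ (Nat.card G).factorization p : ℕ) : ℂ))} : Set ℂ) := by
  have hp : p.Prime := Fact.out
  haveI := Fintype.ofFinite G
  by_cases hg : p ∣ orderOf g
  · rw [blockCoeff_vanish hM B hB g hg]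
    exact zero_mem _
  have hm0 : Nat.card G / p ^ (Nat.card G).factorization p ≠ 0 :=
    (Nat.div_pos (Nat.le_of_dvd Nat.card_pos (Nat.ordProj_dvd _ _)) (pow_pos hp.pos _)).ne'
  have hprim := Complex.isPrimitiveRoot_exp _ hm0
  have hdvd : orderOf g ∣ Nat.card G / p ^ (Nat.card G).factorization p := by
    have h1 : orderOf g ∣ p ^ (Nat.card G).factorization p * (Nat.card G / p ^ (Nat.card G).factorization p) := by
      rw [Nat.mul_div_cancel' (Nat.ordProj_dvd _ _)]
      exact orderOf_dvd_natCard g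
    exact Nat.Coprime.dvd_of_dvd_mul_left
      (Nat.Coprime.pow_right _ ((Nat.Prime.coprime_iff_not_dvd hp).mpr hg).symm) h1
  unfold blockCoeff
  apply mul_mem
  · exact inv_mem (natCast_mem _ _)
  · apply finsum_mem_induction (fun z => z ∈ IntermediateField.adjoin ℚ ({Complex.exp (2 * Real.pi * Complex.I /
      ((Nat.card G / p ^ (Nat.card G).factorization p : ℕ) : ℂ))} : Set ℂ))
    · exact zero_mem _
    · intro x y hx hy; exact add_mem hx hy
    · intro χ _
      apply mul_mem
      · obtain ⟨n, -, -, h1⟩ := IsIrrCharacter.exists_degree χ.2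
        rw [h1]; exact natCast_mem _ _
      · rw [← IsCharacter.inv_eq_conj (IsIrrCharacter.isCharacter χ.2)]
        obtain ⟨d, μ, hμ, hs⟩ := IsCharacter.exists_eigen_order (IsIrrCharacter.isCharacter χ.2) g⁻¹
        rw [hs]
        apply sum_mem
        intro i _
        have h2 : μ i ^ (Nat.card G / p ^ (Nat.card G).factorization p) = 1 := by
          obtain ⟨c, hc⟩ := hdvd
          rw [hc, pow_mul, ← orderOf_inv g, hμ i, one_pow]
        haveI : NeZero (Nat.card G / p ^ (Nat.card G).factorization p) := ⟨hm0⟩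
        obtain ⟨k, -, hk⟩ := hprim.eq_pow_of_pow_eq_one h2
        rw [← hk]
        exact pow_mem (IntermediateField.subset_adjoin ℚ _ (Set.mem_singleton _)) k

end Field
end Cfsg.Agent.H4
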