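import Cfsg.Agent.Lib_helper4_BlkBR

set_option autoImplicit false
set_option linter.style.haveILetI false
set_option linter.unusedSectionVars false
namespace Cfsg.Agent.H4
open Module
open scoped ComplexConjugate
universe u v w

section Cyc
variable {p : ℕ} {M : Ideal AlgInt} {G : Type u} [Group G]

theorem conj_pow_pow (g x : G) (k : ℕ) (h : g * x * g⁻¹ = x ^ k) (i : ℕ) :
    g ^ i * x * (g ^ i)⁻¹ = x ^ k ^ i := by
  induction i with
  | zero => simp
  | succ i ih =>
    calc g ^ (i + 1) * x * (g ^ (i + 1))⁻¹ = g * (g ^ i * x * (g ^ i)⁻¹) * g⁻¹ := by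
          rw [pow_succ']; group
      _ = g * (x ^ k ^ i) * g⁻¹ := by rw [ih]
      _ = (g * x * g⁻¹) ^ k ^ i := (conj_pow).symm
      _ = x ^ k ^ (i + 1) := by rw [h, ← pow_mul, pow_succ']

theorem cyc_free [Fact p.Prime] (x0 g : G) (a : ℕ) (ho : orderOf x0 = p ^ (a + 1)) (k : ℕ)
    (hk : g * x0 * g⁻¹ = x0 ^ k) (j : ℕ) (hj : x0 ^ j ≠ 1) (hfix : g * x0 ^ j * g⁻¹ = x0 ^ j) :
    g ^ p ^ a * x0 * (g ^ p ^ a)⁻¹ = x0 := by
  have hp : p.Prime := Fact.out
  have h1 : x0 ^ (k * j) = x0 ^ j := by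
    rw [pow_mul, ← hk, conj_pow]; exact hfix
  have h2 : (k * j) ≡ j [MOD p ^ (a + 1)] := by
    rw [← ho]; exact pow_eq_pow_iff_modEq.mp h1
  have h3 : ((p ^ (a + 1) : ℕ) : ℤ) ∣ (j : ℤ) * ((k : ℤ) - 1) := by
    have := (Nat.modEq_iff_dvd.mp h2.symm)
    have h4 : ((k * j : ℕ) : ℤ) - (j : ℤ) = (j : ℤ) * ((k : ℤ) - 1) := by push_cast; ring
    rwa [h4] at this
  have hnj : ¬ ((p ^ (a + 1) : ℕ) : ℤ) ∣ (j : ℤ) := by
    intro h
    apply hj
    rw [← orderOf_dvd_iff_pow_eq_one, ho]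
    exact Int.natCast_dvd_natCast.mp h
  have h5 : (p : ℤ) ∣ (k : ℤ) - 1 := by
    by_contra hcon
    apply hnj
    have hcop : IsCoprime ((p ^ (a + 1) : ℕ) : ℤ) ((k : ℤ) - 1) := by
      push_cast
      apply IsCoprime.pow_left
      exact (Prime.coprime_iff_not_dvd (Nat.prime_iff_prime_int.mp hp)).mpr hcon
    exact hcop.dvd_of_dvd_mul_right h3
  have h6 := dvd_sub_pow_of_dvd_sub h5 a
  rw [one_pow] at h6
  rw [conj_pow_pow g x0 k hk]
  conv_rhs => rw [← pow_one x0]
  rw [pow_eq_pow_iff_modEq, ho]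
  apply (Nat.modEq_iff_dvd.mpr _).symm
  push_cast
  exact h6

theorem inertial_index [Fintype G] [Fact p.Prime] (hM : IsPModular p M) (B : Set (IrrCharacter G))
    (Q : Subgroup G) (e : Set (IrrCharacter (Subgroup.centralizer (Q : Set G))))
    (hmax : IsMaximalBrauerPair p M B Q e) (T : Subgroup G)
    (hT : ∀ y : G, y ∈ T ↔ y ∈ Subgroup.normalizer (Q : Set G) ∧
      StabilizesBlock (Subgroup.centralizer (Q : Set G)) e y) :
    ¬ p ∣ (Q.subgroupOf T ⊔ (Subgroup.centralizer (Q : Set G)).subgroupOf T).index := by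
  have he := hmax.1.1
  have hF : IsBlockFusionSystemOn p M B Q e (blockFusion hM Q e he) := ⟨hmax, fun _ _ => Iff.rfl⟩
  have hfn : (blockFusion hM Q e he).IsFullyNormalized Q := by
    refine ⟨le_rfl, fun Q2 hQ2 => ?_⟩
    rw [conj_top_eq hM B Q e hmax _ hF Q2 hQ2]
  obtain ⟨F', hF'b, hF'c, hF'D⟩ := (fully_normalized_iff hM B Q e hmax _ hF Q e le_rfl he.2
    Relation.ReflTransGen.refl T hT).mp hfn
  have hidx := stab_index hM Q he.1 e he.2 T hT F' hF'b hF'c _ hF'D
  have hQN : Q ⊓ Subgroup.normalizer (Q : Set G) = Q := inf_eq_left.mpr Subgroup.le_normalizer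
  rwa [hQN] at hidx

theorem maximal_of_defect [Fintype G] [Fact p.Prime] (hM : IsPModular p M) (B : Set (IrrCharacter G))
    (hB : IsPBlock M B) (P : Subgroup G) (hPD : IsDefectGroup p M B P)
    (c : Set (IrrCharacter (Subgroup.centralizer (P : Set G))))
    (hc : IsInducedBlock M (Subgroup.centralizer (P : Set G)) c B) : IsMaximalBrauerPair p M B P c := by
  have hPp := isPGroup_of_defectGroup hM B hB P hPD
  have hBP := (isBrauerPairOf_iff_induced hM P hPp c hc.1 B).mpr hc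
  refine ⟨hBP, fun R g hR hle => ?_⟩
  symm
  apply Subgroup.eq_of_le_of_card_ge (subpairLE_le _ _ hle).1
  rw [defect_group_card hM B hB P hPD]
  exact pair_card_le hM B R g hR

theorem cyclic_inertial [Finite G] [Fact p.Prime] (hM : IsPModular p M) (B : Set (IrrCharacter G))
    (hB : IsPBlock M B) (P : Subgroup G) (hPD : IsDefectGroup p M B P) (hP1 : P ≠ ⊥) (hcyc : IsCyclic P)
    (c : Set (IrrCharacter (Subgroup.centralizer (P : Set G))))
    (hc : IsInducedBlock M (Subgroup.centralizer (P : Set G)) c B) (T : Subgroup G)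
    (hT : ∀ g : G, g ∈ T ↔ (g ∈ Subgroup.normalizer (P : Set G) ∧
      StabilizesBlock (Subgroup.centralizer (P : Set G)) c g))
    [hn : ((Subgroup.centralizer (P : Set G)).subgroupOf T).Normal] :
    IsCyclic (T ⧸ (Subgroup.centralizer (P : Set G)).subgroupOf T) ∧
      (Subgroup.centralizer (P : Set G)).relIndex T ∣ p - 1 ∧
      ∀ g ∈ T, ∀ x ∈ P, x ≠ 1 → g * x * g⁻¹ = x → g ∈ Subgroup.centralizer (P : Set G) := by
  classical
  have hp : p.Prime := Fact.out
  haveI := Fintype.ofFinite G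
  have hmax := maximal_of_defect hM B hB P hPD c hc
  have hPp := hmax.1.1.1
  obtain ⟨hLT, hQT, hTN⟩ := stab_facts P c T hT
  obtain ⟨⟨x0, hx0P⟩, hgen⟩ := hcyc.exists_generator
  have hgen' : ∀ y ∈ P, ∃ i : ℕ, y = x0 ^ i := by
    intro y hy
    have h1 := hgen ⟨y, hy⟩
    rw [← mem_powers_iff_mem_zpowers] at h1
    obtain ⟨i, hi⟩ := h1
    exact ⟨i, (congrArg Subtype.val hi).symm⟩
  have hab : ∀ x ∈ P, ∀ y ∈ P, x * y = y * x := by
    intro x hx y hy
    obtain ⟨i, rfl⟩ := hgen' x hx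
    obtain ⟨j, rfl⟩ := hgen' y hy
    rw [← pow_add, ← pow_add, add_comm]
  have hPC : P ≤ Subgroup.centralizer (P : Set G) := le_centralizer_of_abelian P P hab le_rfl
  have hidx := inertial_index hM B P c hmax T hT
  have hsup : P.subgroupOf T ⊔ (Subgroup.centralizer (P : Set G)).subgroupOf T
      = (Subgroup.centralizer (P : Set G)).subgroupOf T := by
    apply sup_eq_right.mpr
    intro t ht
    exact Subgroup.mem_subgroupOf.mpr (hPC (Subgroup.mem_subgroupOf.mp ht))
  rw [hsup] at hidx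
  -- the order of the generator
  have hx01 : x0 ≠ 1 := by
    rintro rfl
    apply hP1
    rw [Subgroup.eq_bot_iff_forall]
    intro y hy
    obtain ⟨i, rfl⟩ := hgen' y hy
    simp
  obtain ⟨a', ha'⟩ := IsPGroup.iff_orderOf.mp hPp ⟨x0, hx0P⟩
  rw [Subgroup.orderOf_mk] at ha'
  obtain ⟨a, rfl⟩ : ∃ a, a' = a + 1 := by
    rcases a' with _ | a
    · exfalso
      apply hx01
      rw [pow_zero, orderOf_eq_one_iff] at ha'
      exact ha'
    · exact ⟨a, rfl⟩
  have hconj : ∀ g ∈ T, ∃ k : ℕ, g * x0 * g⁻¹ = x0 ^ k := by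
    intro g hg
    exact hgen' _ ((Subgroup.mem_normalizer_iff.mp (hTN hg) x0).mp hx0P)
  have hfree : ∀ g ∈ T, ∀ x ∈ P, x ≠ 1 → g * x * g⁻¹ = x → g ∈ Subgroup.centralizer (P : Set G) := by
    intro g hg x hx hx1 hfix
    obtain ⟨k, hk⟩ := hconj g hg
    obtain ⟨j, rfl⟩ := hgen' x hx
    have h1 := cyc_free x0 g a ha' k hk j hx1 hfix
    have h2 : g ^ p ^ a ∈ Subgroup.centralizer (P : Set G) := by
      rw [Subgroup.mem_centralizer_iff]
      intro y hy
      obtain ⟨i, rfl⟩ := hgen' y hy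
      have h3 : g ^ p ^ a * x0 = x0 * g ^ p ^ a := by
        calc g ^ p ^ a * x0 = (g ^ p ^ a * x0 * (g ^ p ^ a)⁻¹) * g ^ p ^ a := by group
          _ = x0 * g ^ p ^ a := by rw [h1]
      exact ((Commute.pow_right (show Commute (g ^ p ^ a) x0 from h3) i)).symm
    have h4 : g ^ ((Subgroup.centralizer (P : Set G)).subgroupOf T).index
        ∈ Subgroup.centralizer (P : Set G) := by
      have h5 : ((⟨g, hg⟩ : T) : T ⧸ (Subgroup.centralizer (P : Set G)).subgroupOf T)
          ^ ((Subgroup.centralizer (P : Set G)).subgroupOf T).index = 1 := pow_card_eq_one'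
      rw [← QuotientGroup.mk_pow, QuotientGroup.eq_one_iff, Subgroup.mem_subgroupOf] at h5
      exact h5
    exact mem_of_pow_mem_coprime _ g _ _
      (Nat.Coprime.pow_left _ ((Nat.Prime.coprime_iff_not_dvd hp).mpr hidx)) h2 h4
  refine ⟨?_, ?_, hfree⟩ <;>
  · -- the subgroup of order `p`
    have hy0P : x0 ^ p ^ a ∈ P := P.pow_mem hx0P _
    have hoy : orderOf (x0 ^ p ^ a) = p := by
      rw [orderOf_pow_of_dvd (pow_ne_zero _ hp.ne_zero) (ha' ▸ pow_dvd_pow p (Nat.le_succ a)), ha', pow_succ,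
        Nat.mul_div_cancel_left _ (pow_pos hp.pos a)]
    have hy01 : x0 ^ p ^ a ≠ 1 := by
      intro h
      rw [h, orderOf_one] at hoy
      exact hp.one_lt.ne hoy
    have hTΩ : T ≤ Subgroup.normalizer ((Subgroup.zpowers (x0 ^ p ^ a) : Subgroup G) : Set G) := by
      intro g hg
      apply mem_normalizer_of_conj_le
      intro q hq
      obtain ⟨i, rfl⟩ := Subgroup.mem_zpowers_iff.mp hq
      obtain ⟨k, hk⟩ := hconj g hg
      have h1 : g * (x0 ^ p ^ a) ^ i * g⁻¹ = ((x0 ^ p ^ a) ^ k) ^ i := by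
        rw [← conj_zpow, ← conj_pow, hk, ← pow_mul, ← pow_mul, mul_comm]
      rw [h1]
      exact Subgroup.zpow_mem _ (Subgroup.pow_mem _ (Subgroup.mem_zpowers _) _) _
    obtain ⟨f, hf⟩ : ∃ f : T →* MulAut (Subgroup.zpowers (x0 ^ p ^ a)),
        ∀ (t : T) (x : Subgroup.zpowers (x0 ^ p ^ a)), ((f t x : Subgroup.zpowers (x0 ^ p ^ a)) : G)
          = (t : G) * x * (t : G)⁻¹ :=
      ⟨(Subgroup.zpowers (x0 ^ p ^ a)).normalizerMonoidHom.comp (Subgroup.inclusion hTΩ), fun t x => rfl⟩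
    have hΩP : Subgroup.zpowers (x0 ^ p ^ a) ≤ P := by
      rw [Subgroup.zpowers_le]; exact hy0P
    have hker : ∀ t : T, f t = 1 ↔ t ∈ (Subgroup.centralizer (P : Set G)).subgroupOf T := by
      intro t
      rw [Subgroup.mem_subgroupOf]
      constructor
      · intro h
        apply hfree t t.2 _ hy0P hy01
        have h1 := hf t ⟨_, Subgroup.mem_zpowers _⟩
        rw [h] at h1
        exact h1.symm
      · intro h
        ext x
        rw [hf]
        have h2 := (Subgroup.mem_centralizer_iff.mp h) x (hΩP x.2)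
        show (t : G) * x * (t : G)⁻¹ = x
        rw [← h2]; group
    have hinj : Function.Injective (QuotientGroup.lift ((Subgroup.centralizer (P : Set G)).subgroupOf T) f
        (fun t ht => MonoidHom.mem_ker.mpr ((hker t).mpr ht))) := by
      rw [injective_iff_map_eq_one]
      intro q hq
      obtain ⟨t, rfl⟩ := QuotientGroup.mk_surjective q
      have hq' : f t = 1 := hq
      exact (QuotientGroup.eq_one_iff t).mpr ((hker t).mp hq')
    have hcard : Nat.card (Subgroup.zpowers (x0 ^ p ^ a)) = p := by rw [Nat.card_zpowers, hoy]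
    first
    | · haveI : IsCyclic (ZMod (Nat.card (Subgroup.zpowers (x0 ^ p ^ a))))ˣ := by
          rw [hcard]; infer_instance
        exact isCyclic_of_injective ((IsCyclic.mulAutMulEquiv (Subgroup.zpowers (x0 ^ p ^ a))).toMonoidHom.comp
          (QuotientGroup.lift _ f (fun t ht => MonoidHom.mem_ker.mpr ((hker t).mpr ht))))
          ((IsCyclic.mulAutMulEquiv _).injective.comp hinj)
    | · have h1 := Subgroup.card_dvd_of_injective _ hinj
        rw [IsCyclic.card_mulAut, hcard, Nat.totient_prime hp] at h1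
        exact h1

end Cyc
end Cfsg.Agent.H4
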