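import Cfsg.Agent.Lib_helper4_BlkBS
import Cfsg.Agent.Lib_helper2_Proj2

set_option autoImplicit false
set_option linter.style.haveILetI false
set_option linter.unusedSectionVars false
namespace Cfsg.Agent.H4
open Module
open scoped ComplexConjugate
universe u v w

section Weight
variable {p : ℕ} {M : Ideal AlgInt} {G : Type u} [Group G]

theorem sum_comp_surj {A : Type v} {A₂ : Type w} [Group A] [Group A₂] [Fintype A] [Fintype A₂]
    (π : A →* A₂) (hπ : Function.Surjective π) (F : A₂ → ℂ) :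
    ∃ c : ℕ, 0 < c ∧ ∑ a : A, F (π a) = (c : ℂ) * ∑ b : A₂, F b := by
  classical
  refine ⟨(Finset.univ.filter (fun a : A => π a = 1)).card,
    Finset.card_pos.mpr ⟨1, by simp⟩, ?_⟩
  rw [← Finset.sum_fiberwise Finset.univ π, Finset.mul_sum]
  apply Finset.sum_congr rfl
  intro b _
  rw [Finset.sum_congr rfl (g := fun _ => F b) (by
    intro a ha
    rw [(Finset.mem_filter.mp ha).2]), Finset.sum_const, nsmul_eq_mul]
  congr 2
  exact MonoidHom.card_fiber_eq_of_mem_range π (hπ b) (hπ 1)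

theorem singleton_of_full_degree [Finite G] [Fact p.Prime] (hM : IsPModular p M) (χ : IrrCharacter G)
    (hdeg : (charDegree (χ : G → ℂ)).factorization p = (Nat.card G).factorization p) :
    blockOf M (χ : G → ℂ) = {χ} := by
  have hp : p.Prime := Fact.out
  rw [← defect_zero_iff_singleton hM]
  obtain ⟨n, hn0, ⟨c, hc⟩, h1⟩ := IsIrrCharacter.exists_degree χ.2
  rw [charDegree_eq h1] at hdeg ⊢
  rw [hc, Nat.mul_div_cancel_left _ hn0]
  intro hpc
  have hc0 : c ≠ 0 := by
    rintro rfl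
    rw [mul_zero] at hc
    exact Nat.card_pos.ne' hc
  have h5 : (Nat.card G).factorization p = n.factorization p + c.factorization p := by
    rw [hc, Nat.factorization_mul hn0.ne' hc0]; rfl
  have h6 : 0 < c.factorization p := hp.factorization_pos_of_dvd hc0 hpc
  omega

theorem no_normal_p_of_defect_zero [Finite G] [Fact p.Prime] (hM : IsPModular p M) (χ : IrrCharacter G)
    (hdeg : (charDegree (χ : G → ℂ)).factorization p = (Nat.card G).factorization p)
    (R : Subgroup G) [R.Normal] (hR : IsPGroup p R) : R = ⊥ := by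
  have hs := singleton_of_full_degree hM χ hdeg
  obtain ⟨D, hD⟩ := exists_defectGroup (p := p) hM (blockOf M (χ : G → ℂ)) ⟨χ, rfl⟩
  have hle := normal_pSubgroup_le_defect hM _ ⟨χ, rfl⟩ D hD R hR
  have hc := defect_group_card hM _ ⟨χ, rfl⟩ D hD
  have hd0 : blockDefect p (blockOf M (χ : G → ℂ)) = 0 := by
    rw [hs]
    unfold blockDefect
    rw [Set.image_singleton, csInf_singleton, hdeg, Nat.sub_self]
  rw [hd0, pow_zero] at hc
  rw [Subgroup.card_eq_one.mp hc] at hle
  exact le_bot_iff.mp hle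

theorem weight_pair [Fintype G] [Fact p.Prime] (hM : IsPModular p M) (B : Set (IrrCharacter G)) (Q : Subgroup G)
    (e : Set (IrrCharacter (Subgroup.centralizer (Q : Set G)))) (hQe : IsBrauerPairOf p M B Q e) (T : Subgroup G)
    (hT : ∀ y : G, y ∈ T ↔ y ∈ Subgroup.normalizer (Q : Set G) ∧
      StabilizesBlock (Subgroup.centralizer (Q : Set G)) e y)
    (F' : Set (IrrCharacter T)) (hF' : IsPBlock M F')
    (hF'e : ∀ t : T, blockCoeff F' t = subgroupBlockCoeff (Subgroup.centralizer (Q : Set G)) e (t : G))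
    (χ : IrrCharacter T) (hχ : χ ∈ F')
    (hχQ : ∀ q : G, q ∈ Q → ∀ t : T, ∀ t' : T, (t' : G) = q * (t : G) → (χ : T → ℂ) t' = (χ : T → ℂ) t)
    (hdeg : (charDegree (χ : T → ℂ)).factorization p + (Nat.card Q).factorization p
      = (Nat.card T).factorization p) :
    IsDefectGroup p M e ((Q ⊓ Subgroup.centralizer (Q : Set G)).subgroupOf (Subgroup.centralizer (Q : Set G))) ∧
      ∀ R : Subgroup G, R ≤ T → IsPGroup p R → (∀ t ∈ T, t ∈ Subgroup.normalizer (R : Set G)) → R ≤ Q := by
  classical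
  have hp : p.Prime := Fact.out
  have he := hQe.1
  obtain ⟨hLT, hQT, hTN⟩ := stab_facts Q e T hT
  haveI := Fintype.ofFinite T
  haveI := Fintype.ofFinite (IrrCharacter T)
  haveI := Fintype.ofFinite (Subgroup.centralizer (Q : Set G))
  haveI := Fintype.ofFinite ((Subgroup.centralizer (Q : Set G)).subgroupOf T)
  haveI hLn : ((Subgroup.centralizer (Q : Set G)).subgroupOf T).Normal :=
    (Subgroup.normal_subgroupOf_iff_le_normalizer hLT).mpr (hTN.trans (normalizer_le_normalizer_centralizer Q))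
  haveI hQn : (Q.subgroupOf T).Normal := (Subgroup.normal_subgroupOf_iff_le_normalizer hQT).mpr hTN
  have hker : ∀ n ∈ Q.subgroupOf T, (χ : T → ℂ) n = (χ : T → ℂ) 1 := by
    intro n hn
    exact hχQ n (Subgroup.mem_subgroupOf.mp hn) 1 n (by simp)
  obtain ⟨χ', rfl⟩ := exists_infl (Q.subgroupOf T) χ hker
  have h3 := card_val_quot (p := p) (Q.subgroupOf T)
  rw [Nat.card_congr (Subgroup.subgroupOfEquivOfLe hQT).toEquiv] at h3
  rw [charDegree_infl] at hdeg
  have hfull : (charDegree (χ' : T ⧸ Q.subgroupOf T → ℂ)).factorization p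
      = (Nat.card (T ⧸ Q.subgroupOf T)).factorization p := by omega
  constructor
  swap
  · intro R hRT hRp hRN
    haveI hRn : (R.subgroupOf T).Normal :=
      (Subgroup.normal_subgroupOf_iff_le_normalizer hRT).mpr (fun t ht => hRN t ht)
    haveI : ((R.subgroupOf T).map (QuotientGroup.mk' (Q.subgroupOf T))).Normal :=
      Subgroup.Normal.map hRn _ (QuotientGroup.mk'_surjective _)
    have hbot := no_normal_p_of_defect_zero hM χ' hfull ((R.subgroupOf T).map (QuotientGroup.mk' (Q.subgroupOf T)))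
      ((hRp.comap_subtype).map _)
    intro r hr
    have h1 : QuotientGroup.mk' (Q.subgroupOf T) ⟨r, hRT hr⟩ ∈
        (R.subgroupOf T).map (QuotientGroup.mk' (Q.subgroupOf T)) :=
      ⟨⟨r, hRT hr⟩, Subgroup.mem_subgroupOf.mpr hr, rfl⟩
    rw [hbot, Subgroup.mem_bot] at h1
    exact Subgroup.mem_subgroupOf.mp ((QuotientGroup.eq_one_iff _).mp h1)
  · -- the image of the centralizer in the quotient
    obtain ⟨Nb, hNb⟩ : ∃ Nb : Subgroup (T ⧸ Q.subgroupOf T),
      Nb = ((Subgroup.centralizer (Q : Set G)).subgroupOf T).map (QuotientGroup.mk' (Q.subgroupOf T)) := ⟨_, rfl⟩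
    haveI hNbn : Nb.Normal := hNb ▸ Subgroup.Normal.map hLn _ (QuotientGroup.mk'_surjective _)
    haveI := Fintype.ofFinite (T ⧸ Q.subgroupOf T)
    haveI := Fintype.ofFinite Nb
    obtain ⟨η, hη⟩ := exists_under Nb χ'
    obtain ⟨k, hk1, hk2⟩ := Cfsg.Agent.H2.degree_ratio Nb (η : Nb → ℂ) η.2 (χ' : T ⧸ Q.subgroupOf T → ℂ) χ'.2 hη
    -- the surjection from the centralizer
    have hπmem : ∀ n : (Subgroup.centralizer (Q : Set G)).subgroupOf T,
        QuotientGroup.mk' (Q.subgroupOf T) (n : T) ∈ Nb := fun n => hNb ▸ ⟨n, n.2, rfl⟩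
    obtain ⟨π, hπ⟩ : ∃ π : (Subgroup.centralizer (Q : Set G)).subgroupOf T →* Nb,
        ∀ n, ((π n : Nb) : T ⧸ Q.subgroupOf T) = QuotientGroup.mk' (Q.subgroupOf T) (n : T) :=
      ⟨((QuotientGroup.mk' (Q.subgroupOf T)).comp (Subgroup.subtype _)).codRestrict Nb hπmem, fun n => rfl⟩
    have hπs : Function.Surjective π := by
      rintro ⟨q, hq⟩
      rw [hNb] at hq
      obtain ⟨t, ht, rfl⟩ := hq
      exact ⟨⟨t, ht⟩, Subtype.ext (hπ _)⟩
    obtain ⟨ψ, hψ⟩ : ∃ ψ : IrrCharacter ((Subgroup.centralizer (Q : Set G)).subgroupOf T),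
        ∀ n, (ψ : _ → ℂ) n = (η : Nb → ℂ) (π n) := ⟨⟨_, IsIrrCharacter.comp_surj π hπs η.2⟩, fun n => rfl⟩
    have hψover : classInner (fun n : (Subgroup.centralizer (Q : Set G)).subgroupOf T =>
        (infl (Q.subgroupOf T) χ' : T → ℂ) n) (ψ : _ → ℂ) ≠ 0 := by
      obtain ⟨c, hc0, hc⟩ := sum_comp_surj π hπs
        (fun b : Nb => (χ' : T ⧸ Q.subgroupOf T → ℂ) b * conj ((η : Nb → ℂ) b))
      unfold classInner at hη ⊢
      have h1 : ∑ g : (Subgroup.centralizer (Q : Set G)).subgroupOf T,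
          (infl (Q.subgroupOf T) χ' : T → ℂ) g * conj ((ψ : _ → ℂ) g)
          = ∑ a, (χ' : T ⧸ Q.subgroupOf T → ℂ) (π a) * conj ((η : Nb → ℂ) (π a)) := by
        apply Finset.sum_congr rfl
        intro g _
        rw [hψ, hπ]; rfl
      rw [h1, hc]
      have h2 : (∑ b : Nb, (χ' : T ⧸ Q.subgroupOf T → ℂ) b * conj ((η : Nb → ℂ) b)) ≠ 0 :=
        fun h => hη (by rw [h, mul_zero])
      exact mul_ne_zero (inv_ne_zero card_ne_zero_C) (mul_ne_zero (by exact_mod_cast hc0.ne') h2)
    -- `ψ` belongs to the block `e`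
    obtain ⟨ζ, ⟨θ0, hθ0, hζ⟩, horb, hc0⟩ := stab_block_data hM Q he.1 e he.2 T hLT hQT (fun y hy => (hT y).mp hy)
    have hFeq : F' = blockOf M (ζ : T → ℂ) := indicator_eq_of_coef_eq F' _ (fun t => by
      rw [← blockCoeff_eq_coef, ← blockCoeff_eq_coef, hF'e, hc0])
    have hb := isPBlock_trSet (M := M) (Subgroup.subgroupOfEquivOfLe hLT) he.2
    obtain ⟨g, θ', hθ', hgθ⟩ := block_constituents_conj hM _ _ hb ζ (infl (Q.subgroupOf T) χ')
      ⟨_, trIrr_mem _ hθ0, hζ⟩ (by rw [hFeq] at hχ; exact hχ) ψ hψover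
    have hψmem : ψ ∈ trSet (Subgroup.subgroupOfEquivOfLe hLT) e := by
      have h1 := orbB_stable hLn (trSet (Subgroup.subgroupOfEquivOfLe hLT) e) θ' (by rw [horb hLn]; exact hθ') g
      rw [horb hLn] at h1
      have h2 : ψ = ⟨conjFun hLn (θ' : _ → ℂ) g, conjFun_irr hLn θ'.2 g⟩ := Subtype.ext hgθ
      rw [h2]; exact h1
    obtain ⟨θ, hθ, hψθ⟩ := hψmem
    have hθv : ∀ c : Subgroup.centralizer (Q : Set G), (θ : _ → ℂ) c
        = (η : Nb → ℂ) (π ((Subgroup.subgroupOfEquivOfLe hLT).symm c)) := by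
      intro c
      rw [← hψ, hψθ, trIrr_apply, MulEquiv.apply_symm_apply]
    haveI := zq_normal Q
    have hZp : IsPGroup p ((Q ⊓ Subgroup.centralizer (Q : Set G)).subgroupOf (Subgroup.centralizer (Q : Set G))) :=
      (he.1.to_le inf_le_left).comap_subtype
    have hπ1 : ∀ c : Subgroup.centralizer (Q : Set G), π ((Subgroup.subgroupOfEquivOfLe hLT).symm c) = 1 ↔
        (c : G) ∈ Q := by
      intro c
      rw [← Subtype.coe_inj, hπ]
      show QuotientGroup.mk' (Q.subgroupOf T) _ = 1 ↔ _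
      rw [QuotientGroup.mk'_apply, QuotientGroup.eq_one_iff, Subgroup.mem_subgroupOf]
      rfl
    apply central_defect_of_char hM _ hZp (zq_le_center Q) e he.2 θ hθ
    · intro z hz
      rw [hθv, hθv, (hπ1 z).mpr (Subgroup.mem_subgroupOf.mp hz).1, map_one, map_one]
    · -- degrees
      have hθ1 : (θ : Subgroup.centralizer (Q : Set G) → ℂ) 1 = (η : Nb → ℂ) 1 := by rw [hθv, map_one, map_one]
      obtain ⟨dη, hdη0, -, hdη⟩ := IsIrrCharacter.exists_degree η.2
      obtain ⟨dχ, hdχ0, -, hdχ⟩ := IsIrrCharacter.exists_degree χ'.2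
      rw [charDegree_eq (hθ1.trans hdη)]
      rw [charDegree_eq hdχ] at hfull
      have hmul : dχ = k * dη := by
        rw [hdχ, hdη] at hk1
        exact_mod_cast hk1
      have hk0 : k ≠ 0 := by
        rintro rfl
        rw [zero_mul] at hmul
        exact hdχ0.ne' hmul
      have hv1 : dχ.factorization p = k.factorization p + dη.factorization p := by
        rw [hmul, Nat.factorization_mul hk0 hdη0.ne']; rfl
      have hv2 : k.factorization p ≤ Nb.index.factorization p :=
        (Nat.factorization_le_iff_dvd hk0 Subgroup.index_ne_zero_of_finite).mpr hk2 p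
      have hv3 : (Nat.card (T ⧸ Q.subgroupOf T)).factorization p
          = Nb.index.factorization p + (Nat.card Nb).factorization p := by
        rw [← Subgroup.index_mul_card Nb, Nat.factorization_mul Subgroup.index_ne_zero_of_finite Nat.card_pos.ne']
        rfl
      have hv4 := degree_val_le (p := p) η
      rw [charDegree_eq hdη] at hv4
      -- the kernel of the surjection
      obtain ⟨π2, hπ2⟩ : ∃ π2 : Subgroup.centralizer (Q : Set G) →* Nb,
          ∀ c, π2 c = π ((Subgroup.subgroupOfEquivOfLe hLT).symm c) :=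
        ⟨π.comp (Subgroup.subgroupOfEquivOfLe hLT).symm.toMonoidHom, fun c => rfl⟩
      have hπ2s : Function.Surjective π2 := by
        intro b
        obtain ⟨n, rfl⟩ := hπs b
        exact ⟨Subgroup.subgroupOfEquivOfLe hLT n, by rw [hπ2, MulEquiv.symm_apply_apply]⟩
      have hkerπ : π2.ker = (Q ⊓ Subgroup.centralizer (Q : Set G)).subgroupOf (Subgroup.centralizer (Q : Set G)) := by
        ext c
        rw [MonoidHom.mem_ker, hπ2, hπ1, Subgroup.mem_subgroupOf]
        exact ⟨fun h => ⟨h, c.2⟩, fun h => h.1⟩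
      have hv5 : (Nat.card (Subgroup.centralizer (Q : Set G))).factorization p
          = (Nat.card Nb).factorization p + (Nat.card ((Q ⊓ Subgroup.centralizer (Q : Set G)).subgroupOf
            (Subgroup.centralizer (Q : Set G)))).factorization p := by
        rw [← hkerπ, ← Subgroup.index_mul_card π2.ker, Subgroup.index_ker, MonoidHom.range_eq_top.mpr hπ2s,
          Nat.factorization_mul Nat.card_pos.ne' Nat.card_pos.ne',
          Nat.card_congr (Subgroup.topEquiv (G := Nb)).toEquiv]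
        rfl
      omega

end Weight
end Cfsg.Agent.H4
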