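import Cfsg.Agent.Lib_helper4_BlkBT

set_option autoImplicit false
set_option linter.style.haveILetI false
set_option linter.unusedSectionVars false
namespace Cfsg.Agent.H4
open Module
open scoped ComplexConjugate
universe u v w

section Orb
variable {p : ℕ} {M : Ideal AlgInt} {G : Type u} [Group G]

theorem block_eq_of_mem [Finite G] (hM : IsPModular p M) {A B : Set (IrrCharacter G)} (hA : IsPBlock M A)
    (hB : IsPBlock M B) (χ : IrrCharacter G) (h1 : χ ∈ A) (h2 : χ ∈ B) : A = B := by
  rw [IsPBlock.eq_blockOf hM hA h1, IsPBlock.eq_blockOf hM hB h2]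

theorem normal_pair_idempotent [Fintype G] [Fact p.Prime] (hM : IsPModular p M) (P : Subgroup G) [hPn : P.Normal]
    (hP : IsPGroup p P) (B : Set (IrrCharacter G))
    (e : Set (IrrCharacter (Subgroup.centralizer (P : Set G)))) (hBe : IsBrauerPairOf p M B P e) (T : Subgroup G)
    (hT : ∀ x : G, x ∈ T ↔ StabilizesBlock (Subgroup.centralizer (P : Set G)) e x) :
    (∃ E : Set (IrrCharacter T), IsPBlock M E ∧ ∀ t : T, blockCoeff E t
      = subgroupBlockCoeff (Subgroup.centralizer (P : Set G)) e (t : G)) ∧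
    ∀ g : G, blockCoeff B g = (Nat.card T : ℂ)⁻¹ *
      ∑ x : G, subgroupBlockCoeff (Subgroup.centralizer (P : Set G)) e (x⁻¹ * g * x) := by
  classical
  have he := hBe.1.2
  have hB := hBe.2.1
  have hNtop : ∀ x : G, x ∈ Subgroup.normalizer (P : Set G) := fun x => by
    rw [Subgroup.normalizer_eq_top P]; exact Subgroup.mem_top x
  refine ⟨stab_block_exists hM P hP e he T (fun y => ⟨fun h => ⟨hNtop y, (hT y).mp h⟩, fun h => (hT y).mpr h.2⟩), ?_⟩
  haveI := Fintype.ofFinite (IrrCharacter G)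
  haveI := Fintype.ofFinite (Subgroup.centralizer (P : Set G))
  haveI := Fintype.ofFinite (IrrCharacter (Subgroup.centralizer (P : Set G)))
  have hCn : (Subgroup.centralizer (P : Set G)).Normal := inferInstance
  have hNC : ∀ x : G, x ∈ Subgroup.normalizer ((Subgroup.centralizer (P : Set G) : Subgroup G) : Set G) :=
    fun x => normalizer_le_normalizer_centralizer P (hNtop x)
  have hind := (isBrauerPairOf_iff_induced hM P hP e he B).mp hBe
  have hcov : ∃ χ ∈ B, ∃ θ ∈ e, classInner (fun n : Subgroup.centralizer (P : Set G) => (χ : G → ℂ) n)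
      (θ : Subgroup.centralizer (P : Set G) → ℂ) ≠ 0 := by
    rw [passman hM _ B hB e he]
    intro χ hχ θ hθ n
    have := MemLocalIdeal.neg (hind.2.2 θ hθ χ hχ n)
    rwa [neg_sub] at this
  have hBcov := cover_eq_cov hM P hP _ le_rfl e he B hB hcov
  -- conjugates
  have htr : ∀ (x : G) (φ : IrrCharacter (Subgroup.centralizer (P : Set G))),
      (trIrr (conjInvEquiv _ x (hNC x)).symm φ : Subgroup.centralizer (P : Set G) → ℂ)
        = conjFun hCn (φ : _ → ℂ) x := by
    intro x φ
    funext k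
    rw [trIrr_apply, conjFun_apply]
    rfl
  have hmemT : ∀ θ0 ∈ e, ∀ y : G, trIrr (conjInvEquiv _ y (hNC y)).symm θ0 ∈ e ↔ y ∈ T := by
    intro θ0 hθ0 y
    have hsymm : ∀ θ : IrrCharacter (Subgroup.centralizer (P : Set G)),
        trIrr (conjInvEquiv _ y (hNC y)).symm θ = trIrr (conjInvEquiv _ y⁻¹ (hNC y⁻¹)) θ := by
      intro θ
      apply Subtype.ext
      funext k
      rw [trIrr_apply, trIrr_apply]
      have h0 : (conjInvEquiv _ y (hNC y)).symm k = (conjInvEquiv _ y⁻¹ (hNC y⁻¹)) k := by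
        apply Subtype.ext
        show y * (k : G) * y⁻¹ = y⁻¹⁻¹ * (k : G) * y⁻¹
        rw [inv_inv]
      rw [h0]
    rw [hsymm]
    constructor
    · intro h
      have h1 := block_eq_of_mem hM (isPBlock_trSet (conjInvEquiv _ y⁻¹ (hNC y⁻¹)) he) he _ (trIrr_mem _ hθ0) h
      have h2 := stabilizes_of_trSet _ e y⁻¹ (hNC y⁻¹) h1
      have h3 := T.inv_mem ((hT _).mpr h2)
      rwa [inv_inv] at h3
    · intro h
      exact stab_trIrr _ e y⁻¹ ((hT _).mp (T.inv_mem h)) θ0 hθ0
  have hsum : (∑ x : G, fun φ : IrrCharacter (Subgroup.centralizer (P : Set G)) =>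
      Set.indicator e (1 : IrrCharacter (Subgroup.centralizer (P : Set G)) → ℂ)
        (trIrr (conjInvEquiv _ x (hNC x)).symm φ))
      = (Nat.card T : ℂ) • Set.indicator (orbB hCn e) (1 : IrrCharacter (Subgroup.centralizer (P : Set G)) → ℂ) := by
    funext φ
    rw [Finset.sum_apply, Pi.smul_apply, smul_eq_mul]
    by_cases hφ : φ ∈ orbB hCn e
    · rw [Set.indicator_of_mem hφ, Pi.one_apply, mul_one]
      obtain ⟨g0, θ0, hθ0, hg0⟩ := hφ
      have h1 : ∀ x : G, trIrr (conjInvEquiv _ x (hNC x)).symm φ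
          = trIrr (conjInvEquiv _ (g0 * x) (hNC (g0 * x))).symm θ0 := by
        intro x
        apply Subtype.ext
        rw [htr, htr, hg0]
        funext k
        rw [conjFun_apply, conjFun_apply, conjFun_apply]
        have h0 : (⟨g0 * ((⟨x * (k : G) * x⁻¹, hCn.conj_mem k k.2 x⟩ : Subgroup.centralizer (P : Set G)) : G) * g0⁻¹,
            hCn.conj_mem _ (Subtype.prop _) g0⟩ : Subgroup.centralizer (P : Set G))
            = ⟨g0 * x * (k : G) * (g0 * x)⁻¹, hCn.conj_mem k k.2 (g0 * x)⟩ := by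
          apply Subtype.ext
          show g0 * (x * (k : G) * x⁻¹) * g0⁻¹ = g0 * x * (k : G) * (g0 * x)⁻¹
          group
        rw [h0]
      have h2 : ∀ x : G, Set.indicator e (1 : IrrCharacter (Subgroup.centralizer (P : Set G)) → ℂ)
          (trIrr (conjInvEquiv _ x (hNC x)).symm φ) = if g0 * x ∈ T then 1 else 0 := by
        intro x
        rw [h1]
        by_cases hx : g0 * x ∈ T
        · rw [if_pos hx, Set.indicator_of_mem ((hmemT θ0 hθ0 _).mpr hx)]; rfl
        · rw [if_neg hx, Set.indicator_of_notMem (fun h => hx ((hmemT θ0 hθ0 _).mp h))]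
      rw [Finset.sum_congr rfl (fun x _ => h2 x)]
      have h3 := Equiv.sum_comp (Equiv.mulLeft g0) (fun y : G => if y ∈ T then (1 : ℂ) else 0)
      simp only [Equiv.coe_mulLeft] at h3
      refine h3.trans ?_
      rw [Finset.sum_boole]
      congr 1
      rw [Nat.card_eq_fintype_card, Fintype.card_subtype]
    · rw [Set.indicator_of_notMem hφ, mul_zero]
      apply Finset.sum_eq_zero
      intro x _
      rw [Set.indicator_of_notMem]
      intro h
      apply hφ
      refine ⟨x⁻¹, _, h, ?_⟩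
      rw [htr]
      funext k
      rw [conjFun_apply, conjFun_apply]
      have h0 : k = (⟨x * ((⟨x⁻¹ * (k : G) * x⁻¹⁻¹, hCn.conj_mem k k.2 x⁻¹⟩ : Subgroup.centralizer (P : Set G)) : G) * x⁻¹,
          hCn.conj_mem _ (Subtype.prop _) x⟩ : Subgroup.centralizer (P : Set G)) := by
        apply Subtype.ext
        show (k : G) = x * (x⁻¹ * (k : G) * x⁻¹⁻¹) * x⁻¹
        group
      rw [← h0]
  have hTC : (Nat.card T : ℂ) ≠ 0 := card_ne_zero_C
  have hcoef : ∀ a : Subgroup.centralizer (P : Set G),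
      coef (Set.indicator (orbB hCn e) (1 : IrrCharacter (Subgroup.centralizer (P : Set G)) → ℂ)) a
        = (Nat.card T : ℂ)⁻¹ * ∑ x : G, subgroupBlockCoeff (Subgroup.centralizer (P : Set G)) e (x⁻¹ * (a : G) * x) := by
    intro a
    have h1 := congrArg (fun v => coef v a) hsum
    beta_reduce at h1
    rw [coef_finset_sum, coef_smul] at h1
    rw [eq_inv_mul_iff_mul_eq₀ hTC, ← h1]
    apply Finset.sum_congr rfl
    intro x _
    rw [coef_trIrr, ← blockCoeff_eq_coef]
    exact (subgroupBlockCoeff_mem _ e _ ((conjInvEquiv _ x (hNC x)) a).2).symm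
  intro g
  rw [blockCoeff_eq_coef, hBcov, coef_cov _ _ (orbB_stable hCn _)]
  by_cases hg : g ∈ Subgroup.centralizer (P : Set G)
  · rw [extendByZero_mem _ _ hg, hcoef]
  · rw [extendByZero_not_mem _ _ hg]
    symm
    apply mul_eq_zero_of_right
    apply Finset.sum_eq_zero
    intro x _
    unfold subgroupBlockCoeff
    rw [dif_neg]
    intro h
    apply hg
    have := hCn.conj_mem _ h x
    have h2 : x * (x⁻¹ * g * x) * x⁻¹ = g := by group
    rwa [h2] at this

end Orb
end Cfsg.Agent.H4
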