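import Cfsg.Agent.Lib_helper4_BlkBU

set_option autoImplicit false
set_option linter.style.haveILetI false
set_option linter.unusedSectionVars false
namespace Cfsg.Agent.H4
open Module
open scoped ComplexConjugate
universe u v w

section INB
variable {p : ℕ} {M : Ideal AlgInt} {G : Type u} [Group G]

theorem inducedCentralCharIn_eq (H K : Subgroup G) (K' : Subgroup H) (α : K' ≃* K)
    (hα : ∀ k' : K', ((α k' : K) : G) = ((k' : H) : G)) (ξ : IrrCharacter K) (h : H) :
    inducedCentralChar K' (trIrr α ξ : K' → ℂ) h = inducedCentralCharIn H K (ξ : K → ℂ) (h : G) := by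
  unfold inducedCentralChar inducedCentralCharIn
  apply finsum_mem_eq_of_bijOn (fun k' => α k')
  · apply Equiv.bijOn α.toEquiv
    intro k'
    constructor
    · rintro ⟨x, hx⟩
      show IsConj h (k' : H)
      rw [isConj_iff]
      refine ⟨x⁻¹, ?_⟩
      apply Subtype.ext
      have h1 : ((α.toEquiv k' : K) : G) = ((k' : H) : G) := hα k'
      rw [h1] at hx
      show (x : G)⁻¹ * (h : G) * ((x⁻¹ : H)⁻¹ : H) = ((k' : H) : G)
      rw [← hx]; simp [mul_assoc]
    · intro hc
      have hc' : IsConj h (k' : H) := hc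
      rw [isConj_iff] at hc'
      obtain ⟨c, hc2⟩ := hc'
      refine ⟨c⁻¹, ?_⟩
      have h1 : ((α.toEquiv k' : K) : G) = ((k' : H) : G) := hα k'
      rw [h1, ← hc2]; simp [mul_assoc]
  · intro k' _
    rw [trIrr_apply, trIrr_apply, map_one]

theorem inducedIn_iff (H K : Subgroup G) (K' : Subgroup H) (α : K' ≃* K)
    (hα : ∀ k' : K', ((α k' : K) : G) = ((k' : H) : G)) (c : Set (IrrCharacter K)) (hc : IsPBlock M c)
    (f : Set (IrrCharacter H)) :
    IsInducedBlockIn M H K c f ↔ IsInducedBlock M K' (trSet α c) f := by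
  constructor
  · rintro ⟨-, hf, h⟩
    refine ⟨isPBlock_trSet α hc, hf, ?_⟩
    rintro _ ⟨ξ, hξ, rfl⟩ χ hχ g
    rw [inducedCentralCharIn_eq H K K' α hα]
    exact h ξ hξ χ hχ g
  · rintro ⟨-, hf, h⟩
    refine ⟨hc, hf, ?_⟩
    intro ξ hξ χ hχ g
    rw [← inducedCentralCharIn_eq H K K' α hα]
    exact h _ (trIrr_mem α hξ) χ hχ g

theorem stab_transport' (T S : Subgroup G) (R' : Subgroup T)
    (h2 : Subgroup.centralizer (S : Set G) ≤ T)
    (h1 : ∀ c : T, c ∈ Subgroup.centralizer (R' : Set T) ↔ (c : G) ∈ Subgroup.centralizer (S : Set G))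
    (g : Set (IrrCharacter (Subgroup.centralizer (S : Set G)))) (y : T)
    (hy : y ∈ Subgroup.normalizer (Subgroup.centralizer (R' : Set T) : Set T))
    (h : StabilizesBlock (Subgroup.centralizer (S : Set G)) g (y : G)) :
    StabilizesBlock (Subgroup.centralizer (R' : Set T)) (trSet (centSubEquiv T S R' h2 h1) g) y := by
  refine ⟨hy, ?_⟩
  rintro _ ⟨χ, hχ, rfl⟩
  obtain ⟨χ1, hχ1, hc⟩ := h.2 χ hχ
  refine ⟨_, trIrr_mem _ hχ1, ?_⟩
  intro k k' hk
  rw [trIrr_apply, trIrr_apply]
  exact hc _ _ (congrArg Subtype.val hk)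

theorem abelian_local_nilpotent [Fintype G] [Fact p.Prime] (hM : IsPModular p M) (B : Set (IrrCharacter G))
    (P : Subgroup G) (e : Set (IrrCharacter (Subgroup.centralizer (P : Set G))))
    (hmax : IsMaximalBrauerPair p M B P e) (hab : ∀ x ∈ P, ∀ y ∈ P, x * y = y * x) (Q : Subgroup G)
    (hQP : Q ≤ P) :
    ∃ f1 : Set (IrrCharacter (Subgroup.centralizer (Q : Set G))),
      IsInducedBlockIn M (Subgroup.centralizer (Q : Set G)) (Subgroup.centralizer (P : Set G)) e f1 ∧
      (∀ f, IsInducedBlockIn M (Subgroup.centralizer (Q : Set G)) (Subgroup.centralizer (P : Set G)) e f → f = f1) ∧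
      (IsNilpotentBlock p M f1 ↔ ∀ x ∈ Subgroup.centralizer (Q : Set G), x ∈ Subgroup.normalizer (P : Set G) →
        StabilizesBlock (Subgroup.centralizer (P : Set G)) e x → x ∈ Subgroup.centralizer (P : Set G)) := by
  classical
  haveI := Fintype.ofFinite (Subgroup.centralizer (Q : Set G))
  have hPe := hmax.1.1
  have hQp : IsPGroup p Q := hPe.1.to_le hQP
  have hPL := le_centralizer_of_abelian P Q hab hQP
  obtain ⟨f1, hf1⟩ := normalSubpair_exists hM Q P e hPe hQP (hPL.trans (centralizer_le_normalizer' Q))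
  have hf : IsPBlock M f1 := hf1.1.2
  have hle : SubpairLE p M Q f1 P e := Relation.ReflTransGen.single hf1
  have hP' := (pair_dict Q P _ (sup_map_subgroupOf Q P _ hQP hPL) hQP hPe.1 f1 hf e hPe.2).mpr hf1
  have hcP : Nat.card (P.subgroupOf (Subgroup.centralizer (Q : Set G))) = Nat.card P :=
    Nat.card_congr (Subgroup.subgroupOfEquivOfLe hPL).toEquiv
  have hdP : p ^ blockDefect p f1 ≤ Nat.card P := by
    obtain ⟨z, -, hzd⟩ := cent_defect_conj hM B P Q e f1 hmax hQP hf hle
    have hf' : IsPBlock M (conjBlock Q z f1) := (isBrauerPair_conj Q z f1 ⟨hQp, hf⟩).2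
    have h4 := defect_group_card hM _ hf' _ hzd
    rw [card_subgroupOf_inf, conjBlock_eq_trSet, blockDefect_trSet] at h4
    rw [← h4]
    exact Subgroup.card_le_of_le inf_le_left
  have hmaxL : IsMaximalBrauerPair p M f1 _ _ := ⟨hP', fun R g hRg hleR => by
    have h1 := (subpairLE_le _ _ hleR).1
    exact (Subgroup.eq_of_le_of_card_ge h1 (by
      rw [hcP]; exact (pair_card_le hM f1 R g hRg).trans hdP)).symm⟩
  have hind := (isBrauerPairOf_iff_induced hM _ hP'.1.1 _ hP'.1.2 f1).mp hP'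
  have hαv : ∀ k', (((centSubEquiv _ P (P.subgroupOf (Subgroup.centralizer (Q : Set G))) (dict_h2 Q P hQP)
      (dict_h1 Q P _ (sup_map_subgroupOf Q P _ hQP hPL))) k' : Subgroup.centralizer (P : Set G)) : G)
      = ((k' : Subgroup.centralizer (Q : Set G)) : G) := fun k' => rfl
  refine ⟨f1, (inducedIn_iff _ _ _ _ hαv e hPe.2 f1).mpr hind, ?_, ?_⟩
  · intro f hfi
    exact sameBlock_of_induced hM _ _ _ _ ((inducedIn_iff _ _ _ _ hαv e hPe.2 f).mp hfi) hind
  · have hab' : ∀ x ∈ P.subgroupOf (Subgroup.centralizer (Q : Set G)),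
        ∀ y ∈ P.subgroupOf (Subgroup.centralizer (Q : Set G)), x * y = y * x := by
      intro x hx y hy
      exact Subtype.ext (hab x (Subgroup.mem_subgroupOf.mp hx) y (Subgroup.mem_subgroupOf.mp hy))
    rw [abelian_nilpotent_iff hM f1 _ _ hmaxL hab']
    have hmapP : (P.subgroupOf (Subgroup.centralizer (Q : Set G))).map (Subgroup.centralizer (Q : Set G)).subtype = P :=
      Subgroup.map_subgroupOf_eq_of_le hPL
    constructor
    · intro h x hxQ hxN hxs
      have hxN' : (⟨x, hxQ⟩ : Subgroup.centralizer (Q : Set G)) ∈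
          Subgroup.normalizer ((P.subgroupOf (Subgroup.centralizer (Q : Set G)) :
            Subgroup (Subgroup.centralizer (Q : Set G))) : Set (Subgroup.centralizer (Q : Set G))) := by
        rw [Subgroup.mem_normalizer_iff]
        intro y
        rw [Subgroup.mem_subgroupOf, Subgroup.mem_subgroupOf]
        exact Subgroup.mem_normalizer_iff.mp hxN y
      have := h ⟨x, hxQ⟩ hxN' (stab_transport' _ P _ _ _ e ⟨x, hxQ⟩
        (normalizer_le_normalizer_centralizer _ hxN') hxs)
      exact (dict_h1 Q P _ (sup_map_subgroupOf Q P _ hQP hPL) ⟨x, hxQ⟩).mp this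
    · intro h x hxN hxs
      have hxN' : (x : G) ∈ Subgroup.normalizer (P : Set G) := by
        have := map_subtype_normalizer _ _ x hxN
        rwa [hmapP] at this
      exact (dict_h1 Q P _ (sup_map_subgroupOf Q P _ hQP hPL) x).mpr
        (h x x.2 hxN' (stab_transport _ P _ _ _ e x (normalizer_le_normalizer_centralizer _ hxN') hxs))

theorem abelian_free_iff [Finite G] [Fact p.Prime] (hM : IsPModular p M) (B : Set (IrrCharacter G))
    (hB : IsPBlock M B) (P : Subgroup G) (hPD : IsDefectGroup p M B P)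
    (hPab : ∀ x ∈ P, ∀ y ∈ P, x * y = y * x)
    (c : Set (IrrCharacter (Subgroup.centralizer (P : Set G))))
    (hc : IsInducedBlock M (Subgroup.centralizer (P : Set G)) c B) (T : Subgroup G)
    (hT : ∀ g : G, g ∈ T ↔ (g ∈ Subgroup.normalizer (P : Set G) ∧
      StabilizesBlock (Subgroup.centralizer (P : Set G)) c g)) :
    (∀ g ∈ T, ∀ x ∈ P, x ≠ 1 → g * x * g⁻¹ = x → g ∈ Subgroup.centralizer (P : Set G)) ↔
      ∀ Q : Subgroup G, Q ≤ P → Q ≠ ⊥ → ∀ f : Set (IrrCharacter (Subgroup.centralizer (Q : Set G))),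
        IsInducedBlockIn M (Subgroup.centralizer (Q : Set G)) (Subgroup.centralizer (P : Set G)) c f →
          IsNilpotentBlock p M f := by
  classical
  haveI := Fintype.ofFinite G
  have hmax := maximal_of_defect hM B hB P hPD c hc
  constructor
  · intro h Q hQP hQ1 f hf
    obtain ⟨f1, -, huniq, hnil⟩ := abelian_local_nilpotent hM B P c hmax hPab Q hQP
    rw [huniq f hf, hnil]
    intro x hxQ hxN hxs
    obtain ⟨q, hq, hq1⟩ := (Subgroup.ne_bot_iff_exists_ne_one).mp hQ1 |>.imp (fun q hq => hq) |> fun ⟨q, hq⟩ =>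
      (⟨(q : G), q.2, fun h0 => hq (Subtype.ext h0)⟩ : ∃ q : G, q ∈ Q ∧ q ≠ 1)
    refine h x ((hT x).mpr ⟨hxN, hxs⟩) q (hQP hq) hq1 ?_
    rw [← Subgroup.mem_centralizer_iff.mp hxQ q hq, mul_inv_cancel_right]
  · intro h g hg x hx hx1 hfix
    obtain ⟨f1, hind, -, hnil⟩ := abelian_local_nilpotent hM B P c hmax hPab (Subgroup.zpowers x)
      (by rw [Subgroup.zpowers_le]; exact hx)
    have hn := h (Subgroup.zpowers x) (by rw [Subgroup.zpowers_le]; exact hx)
      (by rw [Ne, Subgroup.zpowers_eq_bot]; exact hx1) f1 hind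
    refine hnil.mp hn g ?_ ((hT g).mp hg).1 ((hT g).mp hg).2
    rw [Subgroup.mem_centralizer_iff]
    rintro _ ⟨k, rfl⟩
    have hcm : Commute g x := by
      show g * x = x * g
      calc g * x = g * x * g⁻¹ * g := by group
        _ = x * g := by rw [hfix]
    exact ((hcm.zpow_right k).eq).symm

end INB
end Cfsg.Agent.H4
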