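import Cfsg.Agent.Lib_helper4_BlkBW

set_option autoImplicit false
set_option linter.style.haveILetI false
set_option linter.unusedSectionVars false
namespace Cfsg.Agent.H4
open Module
open scoped ComplexConjugate
universe u v w

section CP
variable {p : ℕ} {M : Ideal AlgInt} {G : Type u} [Group G]

/-- principal block criterion -/
theorem mem_principal_iff_regsum [Fintype G] [Fact p.Prime] (hM : IsPModular p M) (ψ : IrrCharacter G) :
    ψ ∈ principalBlock M G ↔ ∑ g : G, regInd p G g * (ψ : G → ℂ) g ≠ 0 := by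
  classical
  haveI := Fintype.ofFinite (IrrCharacter G)
  have h1 : regPair p (trivIrr G : G → ℂ) (ψ : G → ℂ) = ∑ g : G, regInd p G g * (ψ : G → ℂ) g := by
    unfold regPair
    apply Finset.sum_congr rfl; intro g _
    show regInd p G g * 1 * _ = _
    rw [mul_one]
  rw [← h1]
  constructor
  · intro h
    have h0 : blockHeight p (principalBlock M G) (trivIrr G : G → ℂ) = 0 := by
      unfold blockHeight
      have h5 : charDegree (trivIrr G : G → ℂ) = 1 := charDegree_eq (by show (1 : ℂ) = ((1 : ℕ) : ℂ); simp)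
      rw [h5]; simp
    have h2 := rN_not_dvd hM (principalBlock M G) ⟨trivIrr G, rfl⟩ (trivIrr G) (SameBlock.refl hM _) h0 ψ h
    rw [regPair_eq_rN]
    apply mul_ne_zero
    · exact_mod_cast (Nat.ordCompl_pos p Nat.card_pos.ne').ne'
    · intro h3
      apply h2
      have h4 : rN p (trivIrr G) ψ = 0 := by exact_mod_cast h3
      rw [h4]; exact dvd_zero _
  · intro h
    by_contra hcon
    exact h (regPair_eq_zero hM (trivIrr G) ψ hcon)

theorem cp_dec (U₁ U₂ : Subgroup G) (hcomm : ∀ u ∈ U₁, ∀ v ∈ U₂, u * v = v * u) (hgen : U₁ ⊔ U₂ = ⊤) (t : G) :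
    ∃ a ∈ U₁, ∃ b ∈ U₂, t = a * b :=
  mem_sup_centralizing U₁ U₂ (fun v hv => Subgroup.mem_centralizer_iff.mpr (fun u hu => hcomm u hu v hv)) t
    (hgen ▸ Subgroup.mem_top t)

theorem cp_conj (U₁ U₂ : Subgroup G) (hcomm : ∀ u ∈ U₁, ∀ v ∈ U₂, u * v = v * u) (a b u₁ : G)
    (hb : b ∈ U₂) (h₁ : u₁ ∈ U₁) : a * b * u₁ * (a * b)⁻¹ = a * u₁ * a⁻¹ := by
  have h : b * u₁ * b⁻¹ = u₁ := by rw [← hcomm u₁ h₁ b hb, mul_inv_cancel_right]
  calc a * b * u₁ * (a * b)⁻¹ = a * (b * u₁ * b⁻¹) * a⁻¹ := by group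
    _ = a * u₁ * a⁻¹ := by rw [h]

theorem cp_char_mul [Fintype G] (U₁ U₂ : Subgroup G) (hcomm : ∀ u ∈ U₁, ∀ v ∈ U₂, u * v = v * u)
    (hgen : U₁ ⊔ U₂ = ⊤) (χ : IrrCharacter G) (u₁ : G) (h₁ : u₁ ∈ U₁) (u₂ : G) (h₂ : u₂ ∈ U₂) :
    (χ : G → ℂ) (u₁ * u₂) * (χ : G → ℂ) 1 = (χ : G → ℂ) u₁ * (χ : G → ℂ) u₂ := by
  classical
  set c : G → ℂ := fun g => if IsConj u₁ g then 1 else 0 with hc
  have hcl : IsClassFunction G c := by
    intro g h
    have h3 : IsConj u₁ (h * g * h⁻¹) ↔ IsConj u₁ g := by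
      constructor
      · intro h1; exact h1.trans (isConj_iff.mpr ⟨h⁻¹, by group⟩)
      · intro h1; exact h1.trans (isConj_iff.mpr ⟨h, rfl⟩)
    simp only [hc, h3]
  have key := sum_class_mul χ.2 c hcl u₂
  have hdec : ∀ g, IsConj u₁ g → (χ : G → ℂ) (g * u₂) = (χ : G → ℂ) (u₁ * u₂) ∧
      (χ : G → ℂ) g = (χ : G → ℂ) u₁ := by
    intro g hg
    obtain ⟨t, ht⟩ := isConj_iff.mp hg
    obtain ⟨a, ha, b, hb, rfl⟩ := cp_dec U₁ U₂ hcomm hgen t
    have e1 : g = a * u₁ * a⁻¹ := by rw [← ht]; exact cp_conj U₁ U₂ hcomm a b u₁ hb h₁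
    constructor
    · have e2 : g * u₂ = a * (u₁ * u₂) * a⁻¹ := by
        rw [e1]
        have h4 : a⁻¹ * u₂ = u₂ * a⁻¹ := hcomm a⁻¹ (inv_mem ha) u₂ h₂
        calc a * u₁ * a⁻¹ * u₂ = a * u₁ * (a⁻¹ * u₂) := by group
          _ = a * u₁ * (u₂ * a⁻¹) := by rw [h4]
          _ = a * (u₁ * u₂) * a⁻¹ := by group
      rw [e2]; exact IrrCharacter.isClassFunction χ _ _
    · rw [e1]; exact IrrCharacter.isClassFunction χ _ _
  have hL : ∑ g, c g * (χ : G → ℂ) (g * u₂) = (∑ g, c g) * (χ : G → ℂ) (u₁ * u₂) := by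
    rw [Finset.sum_mul]; apply Finset.sum_congr rfl; intro g _
    by_cases hg : IsConj u₁ g
    · rw [(hdec g hg).1]
    · have hc0 : c g = 0 := if_neg hg
      rw [hc0, zero_mul, zero_mul]
  have hR' : ∑ g, c g * (χ : G → ℂ) g = (∑ g, c g) * (χ : G → ℂ) u₁ := by
    rw [Finset.sum_mul]; apply Finset.sum_congr rfl; intro g _
    by_cases hg : IsConj u₁ g
    · rw [(hdec g hg).2]
    · have hc0 : c g = 0 := if_neg hg
      rw [hc0, zero_mul, zero_mul]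
  have hN : (∑ g, c g) ≠ 0 := by
    simp only [hc, Finset.sum_boole]
    exact Nat.cast_ne_zero.mpr (Finset.card_ne_zero_of_mem
      (Finset.mem_filter.mpr ⟨Finset.mem_univ u₁, IsConj.refl u₁⟩))
  rw [hL, hR'] at key
  have hχ1 := IsIrrCharacter.apply_one_ne_zero χ.2
  have h5 : (χ : G → ℂ) (u₁ * u₂) = (χ : G → ℂ) u₁ * (χ : G → ℂ) u₂ / (χ : G → ℂ) 1 :=
    mul_left_cancel₀ hN (key.trans (by ring))
  rw [h5, div_mul_cancel₀ _ hχ1]

theorem cp_normal (U₁ U₂ : Subgroup G) (hcomm : ∀ u ∈ U₁, ∀ v ∈ U₂, u * v = v * u) (hgen : U₁ ⊔ U₂ = ⊤) :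
    U₁.Normal := by
  constructor
  intro n hn g
  obtain ⟨a, ha, b, hb, rfl⟩ := cp_dec U₁ U₂ hcomm hgen g
  rw [cp_conj U₁ U₂ hcomm a b n hb hn]
  exact mul_mem (mul_mem ha hn) (inv_mem ha)

theorem cp_restrict [Fintype G] (U₁ U₂ : Subgroup G) [hN : U₁.Normal] [Fintype U₁]
    (hcomm : ∀ u ∈ U₁, ∀ v ∈ U₂, u * v = v * u) (hgen : U₁ ⊔ U₂ = ⊤) (χ : IrrCharacter G) (ψ₁ : IrrCharacter U₁)
    (h : classInner (fun u : U₁ => (χ : G → ℂ) u) (ψ₁ : U₁ → ℂ) ≠ 0) (u : U₁) :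
    (χ : G → ℂ) u = classInner (fun u : U₁ => (χ : G → ℂ) u) (ψ₁ : U₁ → ℂ) * (ψ₁ : U₁ → ℂ) u := by
  have h1 := clifford U₁ hN _ χ.2 _ ψ₁.2 h
  have hS : {ψ : U₁ → ℂ | ∃ g : G, ψ = fun n : U₁ => (ψ₁ : U₁ → ℂ) ⟨g * n * g⁻¹, hN.conj_mem n n.2 g⟩}
      = {(ψ₁ : U₁ → ℂ)} := by
    ext ψ; constructor
    · rintro ⟨g, rfl⟩
      obtain ⟨a, ha, b, hb, rfl⟩ := cp_dec U₁ U₂ hcomm hgen g
      rw [Set.mem_singleton_iff]
      funext n
      have e : (⟨a * b * n * (a * b)⁻¹, hN.conj_mem n n.2 (a * b)⟩ : U₁)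
          = (⟨a, ha⟩ : U₁) * n * (⟨a, ha⟩ : U₁)⁻¹ := Subtype.ext (cp_conj U₁ U₂ hcomm a b n hb n.2)
      rw [e]; exact IrrCharacter.isClassFunction ψ₁ n _
    · intro hψ
      rw [Set.mem_singleton_iff] at hψ
      subst hψ
      refine ⟨1, ?_⟩
      funext n
      have e : (⟨1 * (n : G) * 1⁻¹, hN.conj_mem n n.2 1⟩ : U₁) = n := Subtype.ext (by simp)
      rw [e]
  rw [hS, finsum_mem_singleton] at h1
  have h2 := congrFun h1 u
  simpa using h2

theorem eq_one_of_p_and_reg [Fact p.Prime] (z : G) (k : ℕ) (hz : z ^ p ^ k = 1) (hreg : ¬ p ∣ orderOf z) :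
    z = 1 := by
  obtain ⟨j, -, hj⟩ := (Nat.dvd_prime_pow (Fact.out : p.Prime)).mp (orderOf_dvd_of_pow_eq_one hz)
  cases j with
  | zero => rw [pow_zero] at hj; exact orderOf_eq_one_iff.mp hj
  | succ j => exact absurd (hj ▸ dvd_pow_self p (Nat.succ_ne_zero j)) hreg

theorem cp_regsum [Fintype G] [Fact p.Prime] (U₁ U₂ : Subgroup G) [Fintype U₁] [Fintype U₂]
    (hcomm : ∀ u ∈ U₁, ∀ v ∈ U₂, u * v = v * u) (hgen : U₁ ⊔ U₂ = ⊤) (hZ : IsPGroup p ↥(U₁ ⊓ U₂)) (F : G → ℂ) :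
    ∑ g : G, regInd p G g * F g
      = ∑ u : U₁, ∑ v : U₂, regInd p U₁ u * regInd p U₂ v * F ((u : G) * (v : G)) := by
  classical
  have hp : p.Prime := Fact.out
  have hbij : ∑ x ∈ (Finset.univ : Finset (U₁ × U₂)).filter (fun x => ¬ p ∣ orderOf x.1 ∧ ¬ p ∣ orderOf x.2),
      F ((x.1 : G) * (x.2 : G)) = ∑ g ∈ (Finset.univ : Finset G).filter (fun g => ¬ p ∣ orderOf g), F g := by
    apply Finset.sum_bij (fun x _ => (x.1 : G) * (x.2 : G))
    · intro x hx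
      obtain ⟨-, hx1, hx2⟩ := Finset.mem_filter.mp hx
      refine Finset.mem_filter.mpr ⟨Finset.mem_univ _, ?_⟩
      intro hd
      have h1 : Commute (x.1 : G) (x.2 : G) := hcomm _ x.1.2 _ x.2.2
      have h2 := hd.trans h1.orderOf_mul_dvd_lcm
      rcases (Nat.Prime.dvd_mul hp).mp (h2.trans (Nat.lcm_dvd_mul _ _)) with h3 | h3
      · exact hx1 (by rwa [Subgroup.orderOf_coe] at h3)
      · exact hx2 (by rwa [Subgroup.orderOf_coe] at h3)
    · intro x hx y hy hxy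
      obtain ⟨-, hx1, hx2⟩ := Finset.mem_filter.mp hx
      obtain ⟨-, hy1, hy2⟩ := Finset.mem_filter.mp hy
      have hxy' : (x.1 : G) * (x.2 : G) = (y.1 : G) * (y.2 : G) := hxy
      have hz12 : (y.1 : G)⁻¹ * (x.1 : G) = (y.2 : G) * (x.2 : G)⁻¹ := by
        have e1 : (x.1 : G) = (y.1 : G) * (y.2 : G) * (x.2 : G)⁻¹ := by rw [← hxy']; group
        rw [e1]; group
      have hz1 : (y.1 : G)⁻¹ * (x.1 : G) ∈ U₁ := mul_mem (inv_mem y.1.2) x.1.2
      have hz2 : (y.1 : G)⁻¹ * (x.1 : G) ∈ U₂ := by rw [hz12]; exact mul_mem y.2.2 (inv_mem x.2.2)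
      obtain ⟨k, hk⟩ := hZ ⟨_, Subgroup.mem_inf.mpr ⟨hz1, hz2⟩⟩
      have hk' : ((y.1 : G)⁻¹ * (x.1 : G)) ^ p ^ k = 1 := by simpa using congrArg Subtype.val hk
      have hcm : Commute ((y.1 : G)⁻¹) (x.1 : G) := by
        have h3 : Commute (y.1 : G) ((y.1 : G)⁻¹ * (x.1 : G)) := hcomm _ y.1.2 _ hz2
        have h4 : (x.1 : G) = (y.1 : G) * ((y.1 : G)⁻¹ * (x.1 : G)) := by group
        have h5 : Commute (y.1 : G) (x.1 : G) := by
          rw [h4]; exact (Commute.refl _).mul_right h3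
        exact h5.inv_left
      have hreg : ¬ p ∣ orderOf ((y.1 : G)⁻¹ * (x.1 : G)) := by
        intro hd
        have h2 := hd.trans hcm.orderOf_mul_dvd_lcm
        rcases (Nat.Prime.dvd_mul hp).mp (h2.trans (Nat.lcm_dvd_mul _ _)) with h3 | h3
        · exact hy1 (by rwa [orderOf_inv, Subgroup.orderOf_coe] at h3)
        · exact hx1 (by rwa [Subgroup.orderOf_coe] at h3)
      have hz : (y.1 : G)⁻¹ * (x.1 : G) = 1 := eq_one_of_p_and_reg _ k hk' hreg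
      have hx1y1 : (x.1 : G) = (y.1 : G) := (inv_mul_eq_one.mp hz).symm
      have hx2y2 : (x.2 : G) = (y.2 : G) := by
        rw [hx1y1] at hxy'; exact mul_left_cancel hxy'
      exact Prod.ext (Subtype.ext hx1y1) (Subtype.ext hx2y2)
    · intro g hg
      have hg' : ¬ p ∣ orderOf g := (Finset.mem_filter.mp hg).2
      obtain ⟨a, ha, b, hb, rfl⟩ := cp_dec U₁ U₂ hcomm hgen g
      have hcop : Nat.Coprime (p ^ (Nat.card G).factorization p) (orderOf (a * b)) :=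
        Nat.Coprime.pow_left _ ((Nat.Prime.coprime_iff_not_dvd hp).mpr hg')
      obtain ⟨m', hm'⟩ := exists_pow_eq_self_of_coprime hcop
      have hregpow : ∀ t : G, ¬ p ∣ orderOf ((t ^ p ^ (Nat.card G).factorization p) ^ m') := by
        intro t hd
        have h1 : ((t ^ p ^ (Nat.card G).factorization p) ^ m') ^ (Nat.card G / p ^ (Nat.card G).factorization p) = 1 := by
          rw [← pow_mul, ← pow_mul, mul_left_comm, Nat.ordProj_mul_ordCompl_eq_self, mul_comm, pow_mul,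
            pow_card_eq_one', one_pow]
        exact Nat.not_dvd_ordCompl hp Nat.card_pos.ne' (hd.trans (orderOf_dvd_of_pow_eq_one h1))
      refine ⟨(⟨(a ^ p ^ (Nat.card G).factorization p) ^ m', pow_mem (pow_mem ha _) _⟩,
        ⟨(b ^ p ^ (Nat.card G).factorization p) ^ m', pow_mem (pow_mem hb _) _⟩), ?_, ?_⟩
      · refine Finset.mem_filter.mpr ⟨Finset.mem_univ _, ?_, ?_⟩
        · rw [Subgroup.orderOf_mk]; exact hregpow a
        · rw [Subgroup.orderOf_mk]; exact hregpow b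
      · show (a ^ p ^ (Nat.card G).factorization p) ^ m' * (b ^ p ^ (Nat.card G).factorization p) ^ m' = a * b
        have hab : Commute a b := hcomm a ha b hb
        rw [← ((hab.pow_pow _ _).mul_pow m'), ← hab.mul_pow]
        exact hm'
    · intro x _; rfl
  have hLHS : ∑ g : G, regInd p G g * F g
      = ∑ g ∈ (Finset.univ : Finset G).filter (fun g => ¬ p ∣ orderOf g), F g := by
    rw [Finset.sum_filter]
    apply Finset.sum_congr rfl; intro g _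
    unfold regInd
    by_cases h : p ∣ orderOf g
    · simp [h]
    · simp [h]
  have hRHS : ∑ u : U₁, ∑ v : U₂, regInd p U₁ u * regInd p U₂ v * F ((u : G) * (v : G))
      = ∑ x ∈ (Finset.univ : Finset (U₁ × U₂)).filter (fun x => ¬ p ∣ orderOf x.1 ∧ ¬ p ∣ orderOf x.2),
      F ((x.1 : G) * (x.2 : G)) := by
    rw [Finset.sum_filter, ← Finset.univ_product_univ, Finset.sum_product]
    apply Finset.sum_congr rfl; intro u _
    apply Finset.sum_congr rfl; intro v _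
    unfold regInd
    by_cases h1 : p ∣ orderOf u <;> by_cases h2 : p ∣ orderOf v <;> simp [h1, h2]
  rw [hLHS, hRHS, hbij]

theorem cp_principal [Fintype G] [Fact p.Prime] (hM : IsPModular p M) (U₁ U₂ : Subgroup G) [Fintype U₁] [Fintype U₂]
    (hcomm : ∀ u ∈ U₁, ∀ v ∈ U₂, u * v = v * u) (hgen : U₁ ⊔ U₂ = ⊤) (hZ : IsPGroup p ↥(U₁ ⊓ U₂))
    (χ : IrrCharacter G) (ψ₁ : IrrCharacter U₁) (ψ₂ : IrrCharacter U₂)
    (h₁ : classInner (fun u : U₁ => (χ : G → ℂ) u) (ψ₁ : U₁ → ℂ) ≠ 0)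
    (h₂ : classInner (fun u : U₂ => (χ : G → ℂ) u) (ψ₂ : U₂ → ℂ) ≠ 0) :
    χ ∈ principalBlock M G ↔ (ψ₁ ∈ principalBlock M U₁ ∧ ψ₂ ∈ principalBlock M U₂) := by
  haveI := cp_normal U₁ U₂ hcomm hgen
  have hcomm' : ∀ u ∈ U₂, ∀ v ∈ U₁, u * v = v * u := fun u hu v hv => (hcomm v hv u hu).symm
  have hgen' : U₂ ⊔ U₁ = ⊤ := by rw [sup_comm]; exact hgen
  haveI := cp_normal U₂ U₁ hcomm' hgen'
  rw [mem_principal_iff_regsum hM, mem_principal_iff_regsum hM, mem_principal_iff_regsum hM,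
    cp_regsum U₁ U₂ hcomm hgen hZ]
  have hχ1 := IsIrrCharacter.apply_one_ne_zero χ.2
  have hfac : ∑ u : U₁, ∑ v : U₂, regInd p U₁ u * regInd p U₂ v * (χ : G → ℂ) ((u : G) * (v : G))
      = (classInner (fun u : U₁ => (χ : G → ℂ) u) (ψ₁ : U₁ → ℂ) *
          classInner (fun u : U₂ => (χ : G → ℂ) u) (ψ₂ : U₂ → ℂ) / (χ : G → ℂ) 1) *
        ((∑ u, regInd p U₁ u * (ψ₁ : U₁ → ℂ) u) * (∑ v, regInd p U₂ v * (ψ₂ : U₂ → ℂ) v)) := by
    rw [Finset.sum_mul_sum, Finset.mul_sum]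
    apply Finset.sum_congr rfl; intro u _
    rw [Finset.mul_sum]
    apply Finset.sum_congr rfl; intro v _
    have h5 := cp_char_mul U₁ U₂ hcomm hgen χ u u.2 v v.2
    have h6 : (χ : G → ℂ) ((u : G) * (v : G)) = (χ : G → ℂ) u * (χ : G → ℂ) v / (χ : G → ℂ) 1 := by
      rw [← h5, mul_div_cancel_right₀ _ hχ1]
    rw [h6, cp_restrict U₁ U₂ hcomm hgen χ ψ₁ h₁ u, cp_restrict U₂ U₁ hcomm' hgen' χ ψ₂ h₂ v]
    ring
  rw [hfac]
  constructor
  · intro h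
    exact ⟨fun h0 => h (by rw [h0]; ring), fun h0 => h (by rw [h0]; ring)⟩
  · rintro ⟨ha, hb⟩
    exact mul_ne_zero (div_ne_zero (mul_ne_zero h₁ h₂) hχ1) (mul_ne_zero ha hb)

end CP
end Cfsg.Agent.H4
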