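import Cfsg.Agent.Lib_helper4_BlkL

set_option autoImplicit false
set_option linter.style.haveILetI false
set_option linter.unusedSectionVars false
namespace Cfsg.Agent.H4
open Module
open scoped ComplexConjugate
universe u v w

section Knorr
variable {p : ℕ} {M : Ideal AlgInt} {G : Type u} [Group G]

/-- a nontrivial `p`-subgroup has a central element of order `p` -/
theorem exists_central_order_p [Finite G] [Fact p.Prime] (D : Subgroup G) (hD : IsPGroup p D) (hne : D ≠ ⊥) :
    ∃ z : G, z ∈ D ∧ (∀ w ∈ D, z * w = w * z) ∧ orderOf z = p := by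
  haveI : Nontrivial D := (Subgroup.nontrivial_iff_ne_bot D).mpr hne
  haveI := hD.center_nontrivial
  have hZ : IsPGroup p (Subgroup.center D) := hD.to_subgroup _
  obtain ⟨n, hn⟩ := hZ.exists_card_eq
  have hn0 : n ≠ 0 := by
    rintro rfl
    have : Nat.card (Subgroup.center D) = 1 := by simpa using hn
    have h1 := Finite.one_lt_card (α := Subgroup.center D)
    omega
  have hdvd : p ∣ Nat.card (Subgroup.center D) := by rw [hn]; exact dvd_pow_self p hn0
  obtain ⟨z, hz⟩ := exists_prime_orderOf_dvd_card' p hdvd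
  refine ⟨((z : D) : G), (z : D).2, ?_, ?_⟩
  · intro w hw
    have := (Subgroup.mem_center_iff.mp z.2) ⟨w, hw⟩
    have := congrArg (fun t : D => (t : G)) this
    simpa using this.symm
  · rw [Subgroup.orderOf_coe, Subgroup.orderOf_coe]; exact hz

theorem knorr_aux [Finite G] [Fact p.Prime] (hM : IsPModular p M) (χ : IrrCharacter G)
    (hvan : ∀ g : G, orderOf g = p → (χ : G → ℂ) g = 0) (D : Subgroup G)
    (hD : IsDefectGroup p M (blockOf M (χ : G → ℂ)) D) : D = ⊥ := by
  classical
  by_contra hne
  haveI := Fintype.ofFinite G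
  haveI := Fintype.ofFinite (IrrCharacter G)
  have hp : p.Prime := hM.1
  have hB : IsPBlock M (blockOf M (χ : G → ℂ)) := ⟨χ, rfl⟩
  have hDp : IsPGroup p D := by
    have := defect_group_card hM _ hB D hD
    exact IsPGroup.of_card this
  obtain ⟨z, hzD, hzc, hzo⟩ := exists_central_order_p D hDp hne
  obtain ⟨b, hb, -, hind⟩ := fmt_B_exists hM D hDp _ hB hD
  set H := Subgroup.normalizer (D : Set G) with hH
  haveI := Fintype.ofFinite H
  haveI := Fintype.ofFinite (IrrCharacter H)
  have hDH : D ≤ H := Subgroup.le_normalizer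
  -- the central element
  let a : G → ℂ := fun g => if g ^ p = 1 then 1 else 0
  have ha : IsClassFunction G a := by
    intro g h
    have : (h * g * h⁻¹) ^ p = 1 ↔ g ^ p = 1 := by
      rw [conj_pow]
      constructor
      · intro e
        have : g ^ p = h⁻¹ * (h * g ^ p * h⁻¹) * h := by group
        rw [this, e]; group
      · intro e
        rw [e]; group
    simp only [a, this]
  set v : IrrCharacter G → ℂ := spec a with hv
  have hcoef : coef v = a := coef_spec a ha
  have hvZ : InZ M v := by
    intro g
    rw [hcoef]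
    simp only [a]
    split_ifs
    · exact MemLocalRing.one hM
    · exact MemLocalRing.zero hM
  have hχ1 : (χ : G → ℂ) 1 ≠ 0 := IsIrrCharacter.apply_one_ne_zero χ.2
  have hvχ : v χ = 1 := by
    rw [hv]
    unfold spec
    have : ∑ g, a g * (χ : G → ℂ) g = (χ : G → ℂ) 1 := by
      rw [Finset.sum_eq_single 1]
      · simp [a]
      · intro g _ hg
        simp only [a]
        split_ifs with h
        · have : orderOf g = p := orderOf_eq_prime h hg
          rw [hvan g this]; simp
        · simp
      · intro h; exact absurd (Finset.mem_univ _) h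
    rw [this, div_self hχ1]
  obtain ⟨ξ0, rfl⟩ := hb
  haveI hNn : (D.subgroupOf H).Normal := Subgroup.normal_in_normalizer
  have hNp : IsPGroup p (D.subgroupOf H) := hDp.comap_subtype
  obtain ⟨ψ, hψ⟩ := exists_infl_mem_block hM (D.subgroupOf H) hNp ξ0
  have hχB : χ ∈ blockOf M (χ : G → ℂ) := SameBlock.refl hM _
  have h1 := lamInd_congr hM H (infl (D.subgroupOf H) ψ : H → ℂ) χ (hind.2.2 _ hψ χ hχB) v hvZ
  have h2 := lamInd_sub_Br_mem hM D H hDp hDH le_rfl (infl (D.subgroupOf H) ψ) hvZ
  haveI := Fintype.ofFinite (H ⧸ D.subgroupOf H)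
  haveI := Fintype.ofFinite (IrrCharacter (H ⧸ D.subgroupOf H))
  haveI := Fintype.ofFinite (D.subgroupOf H)
  have h3 : InP M (fun ψ : IrrCharacter (H ⧸ D.subgroupOf H) => Br D H v (infl (D.subgroupOf H) ψ)) := by
    intro q
    obtain ⟨y, rfl⟩ := QuotientGroup.mk_surjective q
    rw [coef_quot, coef_Br D H le_rfl]
    let z' : D.subgroupOf H := ⟨⟨z, hDH hzD⟩, by rw [Subgroup.mem_subgroupOf]; exact hzD⟩
    have hzC : z ∈ Subgroup.centralizer (D : Set G) := by
      rw [Subgroup.mem_centralizer_iff]
      intro w hw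
      exact (hzc w hw).symm
    have hzp : z ^ p = 1 := by rw [← hzo]; exact pow_orderOf_eq_one z
    have hz1 : z ≠ 1 := by
      intro h
      rw [h, orderOf_one] at hzo
      exact hp.one_lt.ne hzo
    have hW : ∀ t : D.subgroupOf H, brCoef D H v (((Equiv.mulLeft z') t : D.subgroupOf H) * y) = brCoef D H v (↑t * y) := by
      intro t
      unfold brCoef
      rw [hcoef]
      have e : (((((Equiv.mulLeft z') t : D.subgroupOf H) : H) * y : H) : G) = z * ((((t : H) * y : H)) : G) := by
        simp [z', mul_assoc]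
      rw [e]
      have hiff : z * ((((t : H) * y : H)) : G) ∈ Subgroup.centralizer (D : Set G) ↔
          ((((t : H) * y : H)) : G) ∈ Subgroup.centralizer (D : Set G) :=
        Subgroup.mul_mem_cancel_left _ hzC
      by_cases hc : ((((t : H) * y : H)) : G) ∈ Subgroup.centralizer (D : Set G)
      · rw [if_pos hc, if_pos (hiff.mpr hc)]
        have hcm : Commute z ((((t : H) * y : H)) : G) := by
          rw [Subgroup.mem_centralizer_iff] at hc
          exact hc z hzD
        simp only [a]
        rw [hcm.mul_pow, hzp, one_mul]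
      · rw [if_neg hc, if_neg (fun h => hc (hiff.mp h))]
    have hWR : ∀ t : D.subgroupOf H, MemLocalRing M (brCoef D H v (↑t * y)) := by
      intro t
      unfold brCoef
      split_ifs
      · exact hvZ _
      · exact MemLocalRing.zero hM
    have hσ : (Equiv.mulLeft z') ^ (p ^ 1) = 1 := by
      ext t
      have : ∀ n : ℕ, ((Equiv.mulLeft z') ^ n) t = z' ^ n * t := by
        intro n
        induction n with
        | zero => simp
        | succ n ih => rw [pow_succ', Equiv.Perm.mul_apply, ih, pow_succ', mul_assoc]; rfl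
      rw [this]
      have : z' ^ (p ^ 1) = 1 := by
        apply Subtype.ext; apply Subtype.ext
        simpa [z'] using hzp
      rw [this]; simp
    have hfix : ∀ t : D.subgroupOf H, ((Equiv.mulLeft z') ^ (p ^ 0)) t = t → brCoef D H v (↑t * y) = 0 := by
      intro t ht
      exfalso
      apply hz1
      have : z' * t = t := by simpa using ht
      have : z' = 1 := by simpa using this
      have := congrArg (fun u : D.subgroupOf H => ((u : H) : G)) this
      simpa [z'] using this
    have := sum_div_of_perm hM (Equiv.mulLeft z') (fun t : D.subgroupOf H => brCoef D H v (↑t * y)) hW hWR 1 0 hσ hfix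
    have h5 := memLocalIdeal_pow_mul hM (j := 1) one_pos this
    have hp0 : (p : ℂ) ≠ 0 := by exact_mod_cast hp.ne_zero
    have e : (p : ℂ) ^ 1 * ((∑ t : D.subgroupOf H, brCoef D H v (↑t * y)) / (p : ℂ) ^ (0 + 1)) =
        ∑ t : D.subgroupOf H, brCoef D H v (↑t * y) := by
      rw [zero_add, pow_one]
      field_simp
    rw [e] at h5
    exact h5
  have h4 := InP.eval hM h3 ψ
  apply not_memLocalIdeal_one hM
  rw [hvχ] at h1
  have := MemLocalIdeal.add hM (MemLocalIdeal.sub hM h2 h1) h4
  simpa using this

theorem knorr [Finite G] [Fact p.Prime] (χ : IrrCharacter G)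
    (hvan : ∀ g : G, orderOf g = p → (χ : G → ℂ) g = 0) :
    (charDegree (χ : G → ℂ)).factorization p = (Nat.card G).factorization p := by
  haveI := Fintype.ofFinite G
  haveI := Fintype.ofFinite (IrrCharacter G)
  have hp : p.Prime := Fact.out
  obtain ⟨M, hM⟩ := exists_pModular hp
  have hB : IsPBlock M (blockOf M (χ : G → ℂ)) := ⟨χ, rfl⟩
  obtain ⟨D, hD⟩ := exists_defectGroup hM _ hB
  have hbot := knorr_aux hM χ hvan D hD
  have hcard := defect_group_card hM _ hB D hD
  rw [hbot] at hcard
  have hd0 : blockDefect p (blockOf M (χ : G → ℂ)) = 0 := by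
    by_contra h
    have : 1 < p ^ blockDefect p (blockOf M (χ : G → ℂ)) := Nat.one_lt_pow h hp.one_lt
    rw [← hcard] at this
    simp at this
  unfold blockDefect at hd0
  have h1 : sInf ((fun χ : IrrCharacter G => (charDegree (χ : G → ℂ)).factorization p) '' (blockOf M (χ : G → ℂ)))
      ≤ (charDegree (χ : G → ℂ)).factorization p := Nat.sInf_le ⟨χ, SameBlock.refl hM _, rfl⟩
  obtain ⟨n, hn0, hn1, hn2⟩ := IsIrrCharacter.exists_degree χ.2
  have h2 : (charDegree (χ : G → ℂ)).factorization p ≤ (Nat.card G).factorization p := by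
    rw [charDegree_eq hn2]
    exact (Nat.factorization_le_iff_dvd hn0.ne' Nat.card_pos.ne').mpr hn1 p
  omega

end Knorr
end Cfsg.Agent.H4
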