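import Cfsg.Agent.Lib_helper4_BlkM

set_option autoImplicit false
set_option linter.style.haveILetI false
set_option linter.unusedSectionVars false
namespace Cfsg.Agent.H4
open Module
open scoped ComplexConjugate
universe u v w

section Third
variable {p : ℕ} {M : Ideal AlgInt} {G : Type u} [Group G]

theorem tprod_const (q : ℕ) (g : G) : tprod q (fun _ : ZMod q => g) = g ^ q := by
  unfold tprod
  simp

/-- Frobenius-type congruence: the sum of the coefficients of `f^{*q}` over a conjugation-closed set `S`
is congruent to the sum of `f(g)^q` over `g` with `g^q ∈ S`. -/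
theorem trace_pow_congr [Fintype G] [DecidableEq G] (hM : IsPModular p M) (f : G → ℂ)
    (hfR : ∀ g, MemLocalRing M (f g)) (S : G → Prop) [DecidablePred S]
    (hS : ∀ g h : G, S (h * g * h⁻¹) ↔ S g) (n : ℕ) :
    MemLocalIdeal M ((∑ x : G, if S x then pw f (p ^ n) x else 0) -
      ∑ g : G, if S (g ^ (p ^ n)) then f g ^ (p ^ n) else 0) := by
  set q := p ^ n with hq
  have hqpos : 0 < q := pow_pos hM.1.pos _
  haveI : NeZero q := ⟨hqpos.ne'⟩
  set W0 : (ZMod q → G) → ℂ := fun t => if S (tprod q t) then ∏ i, f (t i) else 0 with hW0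
  set W : (ZMod q → G) → ℂ := fun t => if (∀ i, t i = t 0) then 0 else W0 t with hW
  have hsum : ∑ x : G, (if S x then pw f q x else 0) = ∑ t, W0 t := by
    simp_rw [pw_eq_sum_zmod f q]
    have : ∀ x : G, (if S x then ∑ t : ZMod q → G, if tprod q t = x then ∏ i, f (t i) else 0 else 0)
        = ∑ t : ZMod q → G, if tprod q t = x then W0 t else 0 := by
      intro x
      by_cases hx : S x
      · rw [if_pos hx]
        apply Finset.sum_congr rfl; intro t _
        by_cases ht : tprod q t = x
        · rw [if_pos ht, if_pos ht, hW0]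
          simp only
          rw [if_pos (ht ▸ hx)]
        · rw [if_neg ht, if_neg ht]
      · rw [if_neg hx]
        symm
        apply Finset.sum_eq_zero; intro t _
        by_cases ht : tprod q t = x
        · rw [if_pos ht, hW0]
          simp only
          rw [if_neg (ht ▸ hx)]
        · rw [if_neg ht]
    simp_rw [this]
    rw [Finset.sum_comm]
    apply Finset.sum_congr rfl; intro t _
    simp
  have hsplit : ∑ t, W0 t = ∑ t, W t + ∑ g : G, if S (g ^ q) then f g ^ q else 0 := by
    have h1 : ∀ t, W0 t = W t + (if (∀ i, t i = t 0) then W0 t else 0) := by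
      intro t
      rw [hW]
      simp only
      split_ifs <;> simp
    rw [Finset.sum_congr rfl (fun t _ => h1 t), Finset.sum_add_distrib]
    congr 1
    -- constant tuples
    rw [← Finset.sum_filter]
    symm
    apply Finset.sum_bij (fun (g : G) _ => (fun _ : ZMod q => g))
    · intro g _
      simp
    · intro g _ g' _ h
      exact congrFun h 0
    · intro t ht
      rw [Finset.mem_filter] at ht
      exact ⟨t 0, Finset.mem_univ _, by funext i; exact (ht.2 i).symm⟩
    · intro g _
      rw [hW0]
      simp only
      rw [tprod_const]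
      have : ∏ _i : ZMod q, f g = f g ^ q := by
        rw [Finset.prod_const, Finset.card_univ, ZMod.card]
      rw [this]
  rw [hsum, hsplit, add_sub_cancel_right]
  have hW0rot : ∀ t, W0 (rotE q G t) = W0 t := by
    intro t
    rw [hW0]
    simp only
    have h1 : S (tprod q (rotE q G t)) ↔ S (tprod q t) := by
      rw [tprod_rotE]
      have := hS (tprod q t) (t 0)⁻¹
      rwa [inv_inv] at this
    have h2 : ∏ i, f (rotE q G t i) = ∏ i, f (t i) :=
      Equiv.prod_comp (Equiv.addRight (1 : ZMod q)) (fun i => f (t i))
    simp only [h1, h2]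
  have hconst : ∀ t : ZMod q → G, (∀ i, rotE q G t i = rotE q G t 0) ↔ (∀ i, t i = t 0) := by
    intro t
    constructor
    · intro h i
      have h1 := h (i - 1)
      have h2 := h (0 - 1)
      rw [rotE_apply] at h1 h2
      rw [sub_add_cancel] at h1 h2
      rw [h1, h2]
    · intro h i
      rw [rotE_apply, rotE_apply, h (i + 1), h (0 + 1)]
  have key := sum_div_of_perm hM (rotE q G) W ?_ ?_ n 0 ?_ ?_
  · have h5 := memLocalIdeal_pow_mul hM (j := 1) one_pos key
    have hp0 : (p : ℂ) ≠ 0 := by exact_mod_cast hM.1.ne_zero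
    have e : (p : ℂ) ^ 1 * ((∑ t, W t) / (p : ℂ) ^ (0 + 1)) = ∑ t, W t := by
      rw [zero_add, pow_one]
      field_simp
    rw [e] at h5
    exact h5
  · intro t
    rw [hW]
    simp only
    by_cases hc : ∀ i, t i = t 0
    · rw [if_pos hc, if_pos ((hconst t).mpr hc)]
    · rw [if_neg hc, if_neg (fun h => hc ((hconst t).mp h)), hW0rot]
  · intro t
    rw [hW, hW0]
    simp only
    split_ifs
    · exact MemLocalRing.zero hM
    · exact MemLocalRing.prod hM _ _ (fun i _ => hfR _)
    · exact MemLocalRing.zero hM
  · ext t i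
    rw [← hq, rotE_pow_apply]
    simp
  · intro t ht
    rw [hW]
    simp only
    rw [if_pos]
    rw [pow_zero, pow_one] at ht
    have h1 : ∀ j : ℕ, t (j : ZMod q) = t 0 := by
      intro j
      induction j with
      | zero => simp
      | succ j ih =>
        have := congrFun ht (j : ZMod q)
        rw [rotE_apply] at this
        push_cast
        rw [this, ih]
    intro i
    have := h1 i.val
    rwa [ZMod.natCast_zmod_val] at this

theorem coef_pow_eq_pw [Fintype G] [Fintype (IrrCharacter G)] [DecidableEq G] (v : IrrCharacter G → ℂ) (n : ℕ) :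
    coef (v ^ n) = pw (coef v) n := by
  induction n with
  | zero =>
    funext x
    rw [pow_zero, coef_one]
    rfl
  | succ n ih =>
    funext x
    rw [pow_succ', coef_mul, ih]
    rfl

/-- indicator of the `p`-regular elements -/
noncomputable def regInd (p : ℕ) (G : Type u) [Group G] : G → ℂ := by
  classical exact fun g => if p ∣ orderOf g then 0 else 1

theorem regInd_isClassFunction : IsClassFunction G (regInd p G) := by
  intro g h
  unfold regInd
  have : orderOf (h * g * h⁻¹) = orderOf g := (MulAut.conj h).orderOf_eq g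
  simp only [this]

theorem regInd_mem (hM : IsPModular p M) (g : G) : MemLocalRing M (regInd p G g) := by
  unfold regInd
  split_ifs
  · exact MemLocalRing.zero hM
  · exact MemLocalRing.one hM

theorem inZ_spec_regInd [Fintype G] [Fintype (IrrCharacter G)] (hM : IsPModular p M) :
    InZ M (spec (regInd p G)) := by
  intro g
  rw [coef_spec _ regInd_isClassFunction]
  exact regInd_mem hM g

theorem spec_regInd_eq_zero [Fintype G] [Fintype (IrrCharacter G)] (hM : IsPModular p M) (χ : IrrCharacter G)
    (h : ¬ SameBlock M (χ : G → ℂ) (trivIrr G : G → ℂ)) : spec (regInd p G) χ = 0 := by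
  classical
  have h1 := diff_block_reg_orth hM χ (trivIrr G) h
  unfold spec
  have : ∑ g, regInd p G g * (χ : G → ℂ) g = 0 := by
    rw [← h1, finsum_mem_eq_finite_toFinset_sum _ (Set.toFinite _)]
    rw [← Finset.sum_filter_add_sum_filter_not Finset.univ (fun g : G => ¬ p ∣ orderOf g)]
    have e2 : ∑ g ∈ Finset.univ.filter (fun g : G => ¬ ¬ p ∣ orderOf g), regInd p G g * (χ : G → ℂ) g = 0 := by
      apply Finset.sum_eq_zero
      intro g hg
      rw [Finset.mem_filter] at hg
      unfold regInd
      rw [if_pos (not_not.mp hg.2), zero_mul]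
    rw [e2, add_zero]
    apply Finset.sum_congr
    · ext g; simp
    · intro g hg
      have hg' : ¬ p ∣ orderOf g := by simpa using hg
      unfold regInd
      rw [if_neg hg', one_mul]
      show _ = _ * conj (1 : ℂ)
      simp
  rw [this, zero_div]

theorem spec_regInd_triv [Fintype G] [Fintype (IrrCharacter G)] :
    spec (regInd p G) (trivIrr G) = ∑ g, regInd p G g := by
  unfold spec
  show (∑ g, regInd p G g * (1 : ℂ)) / (1 : ℂ) = _
  simp

/-- the number of `p`-regular elements is prime to `p` -/
theorem sum_regInd_not_mem [Fintype G] [Fintype (IrrCharacter G)] (hM : IsPModular p M) :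
    ¬ MemLocalIdeal M (∑ g, regInd p G g) := by
  classical
  intro hmem
  set v := spec (regInd p G) with hv
  have hvZ : InZ M v := inZ_spec_regInd hM
  have hall : ∀ χ, MemLocalIdeal M (v χ) := by
    intro χ
    by_cases h : SameBlock M (χ : G → ℂ) (trivIrr G : G → ℂ)
    · have h1 := InZ.congr hM hvZ h
      rw [hv, spec_regInd_triv, ← hv] at h1
      have := MemLocalIdeal.add hM h1 hmem
      simpa using this
    · rw [hv, spec_regInd_eq_zero hM χ h]
      exact MemLocalIdeal.zero hM
  have h1 := InP.pow_of_eval hM hvZ hall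
  set k := Fintype.card (IrrCharacter G) with hk
  have hkq : k ≤ p ^ k := (Nat.lt_pow_self hM.1.one_lt).le
  have h2 : InP M (v ^ (p ^ k)) := by
    have : v ^ (p ^ k) = v ^ k * v ^ (p ^ k - k) := by rw [← pow_add]; congr 1; omega
    rw [this]
    exact InP.mul_right hM h1 (InZ.pow hM hvZ _)
  have h3 := h2 1
  rw [coef_pow_eq_pw, hv, coef_spec _ regInd_isClassFunction] at h3
  have h4 := trace_pow_congr hM (regInd p G) (regInd_mem hM) (fun x => x = 1) (by
    intro g h
    constructor
    · intro e
      have : g = h⁻¹ * (h * g * h⁻¹) * h := by group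
      rw [this, e]; group
    · intro e
      rw [e]; group) k
  have e1 : (∑ x : G, if x = 1 then pw (regInd p G) (p ^ k) x else 0) = pw (regInd p G) (p ^ k) 1 := by
    simp
  have e2 : (∑ g : G, if g ^ (p ^ k) = 1 then regInd p G g ^ (p ^ k) else 0) = 1 := by
    rw [Finset.sum_eq_single 1]
    · simp [regInd, hM.1.one_lt.ne']
    · intro g _ hg
      split_ifs with h
      · have hd : orderOf g ∣ p ^ k := orderOf_dvd_of_pow_eq_one h
        obtain ⟨j, _, hj⟩ := (Nat.dvd_prime_pow hM.1).mp hd
        have hj0 : j ≠ 0 := by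
          rintro rfl
          apply hg
          rw [pow_zero] at hj
          exact orderOf_eq_one_iff.mp hj
        unfold regInd
        rw [if_pos (by rw [hj]; exact dvd_pow_self p hj0)]
        exact zero_pow (pow_pos hM.1.pos k).ne'
      · rfl
    · intro h; exact absurd (Finset.mem_univ _) h
  rw [e1, e2] at h4
  apply not_memLocalIdeal_one hM
  have := MemLocalIdeal.sub hM h3 h4
  simpa using this

/-- the sum of the `p`-regular elements detects the principal block -/
theorem spec_regInd_not_mem_iff [Fintype G] [Fintype (IrrCharacter G)] (hM : IsPModular p M) (χ : IrrCharacter G) :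
    ¬ MemLocalIdeal M (spec (regInd p G) χ) ↔ SameBlock M (trivIrr G : G → ℂ) (χ : G → ℂ) := by
  constructor
  · intro h
    by_contra hc
    apply h
    rw [spec_regInd_eq_zero hM χ (fun h' => hc (SameBlock.symm h'))]
    exact MemLocalIdeal.zero hM
  · intro h hmem
    apply sum_regInd_not_mem (G := G) hM
    have h1 := InZ.congr hM (inZ_spec_regInd (G := G) hM) h
    rw [spec_regInd_triv] at h1
    have := MemLocalIdeal.add hM h1 hmem
    simpa using this

theorem lamInd_spec_regInd [Fintype G] [Fintype (IrrCharacter G)] (H : Subgroup G) [Fintype H]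
    (ξ : IrrCharacter H) : lamInd H (ξ : H → ℂ) (spec (regInd p G)) = spec (regInd p H) ξ := by
  unfold lamInd
  rw [coef_spec _ regInd_isClassFunction]
  unfold spec
  rw [Finset.sum_div]
  apply Finset.sum_congr rfl
  intro h _
  have : regInd p G (h : G) = regInd p H h := by
    unfold regInd
    rw [Subgroup.orderOf_coe]
  rw [this, mul_div_assoc]

theorem principalBlock_eq [Finite G] : principalBlock M G = blockOf M (trivIrr G : G → ℂ) := rfl

/-- Brauer's third main theorem -/
theorem third_main [Finite G] (hM : IsPModular p M) (H : Subgroup G) (b : Set (IrrCharacter H))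
    (hdef : InducedBlockDefined M H b) :
    IsInducedBlock M H b (principalBlock M G) ↔ b = principalBlock M H := by
  haveI := Fintype.ofFinite G
  haveI := Fintype.ofFinite (IrrCharacter G)
  haveI := Fintype.ofFinite H
  haveI := Fintype.ofFinite (IrrCharacter H)
  obtain ⟨B, hB⟩ := hdef
  obtain ⟨ξ, rfl⟩ := hB.1
  obtain ⟨χ, rfl⟩ := hB.2.1
  have hξ : ξ ∈ blockOf M (ξ : H → ℂ) := SameBlock.refl hM _
  have hχ : χ ∈ blockOf M (χ : G → ℂ) := SameBlock.refl hM _
  have h1 := lamInd_congr hM H (ξ : H → ℂ) χ (hB.2.2 ξ hξ χ hχ) _ (inZ_spec_regInd (p := p) (G := G) hM)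
  rw [lamInd_spec_regInd] at h1
  have hiff : SameBlock M (trivIrr H : H → ℂ) (ξ : H → ℂ) ↔ SameBlock M (trivIrr G : G → ℂ) (χ : G → ℂ) := by
    rw [← spec_regInd_not_mem_iff hM, ← spec_regInd_not_mem_iff hM]
    constructor
    · intro h hc
      apply h
      have := MemLocalIdeal.add hM h1 hc
      simpa using this
    · intro h hc
      apply h
      have := MemLocalIdeal.sub hM hc h1
      simpa using this
  rw [principalBlock_eq, principalBlock_eq]
  constructor
  · intro hind
    -- the two induced blocks agree
    have hsb : SameBlock M (trivIrr G : G → ℂ) (χ : G → ℂ) := by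
      intro g
      have a1 := hind.2.2 ξ hξ (trivIrr G) (SameBlock.refl hM _) g
      have a2 := hB.2.2 ξ hξ χ hχ g
      have := MemLocalIdeal.sub hM a2 a1
      simpa using this
    have := hiff.mpr hsb
    exact (IsPBlock.eq_blockOf hM ⟨trivIrr H, rfl⟩ this).symm
  · intro hb
    have hs : SameBlock M (trivIrr H : H → ℂ) (ξ : H → ℂ) := by
      have : ξ ∈ blockOf M (trivIrr H : H → ℂ) := by rw [← hb]; exact hξ
      exact this
    have := hiff.mp hs
    have e : blockOf M (trivIrr G : G → ℂ) = blockOf M (χ : G → ℂ) :=
      IsPBlock.eq_blockOf hM ⟨trivIrr G, rfl⟩ this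
    rw [e]
    exact hB

end Third
end Cfsg.Agent.H4
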