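import Cfsg.Agent.Lib_helper4_BlkN
import Cfsg.Prelude.Def_Local

set_option autoImplicit false
set_option linter.style.haveILetI false
set_option linter.unusedSectionVars false
namespace Cfsg.Agent.H4
open Module
open scoped ComplexConjugate
universe u v w

section SecNorm
variable {p : ℕ} {M : Ideal AlgInt} {G : Type u} [Group G]

/-- second main theorem, summed form: the part of `c ↦ ζ (z c)` in the blocks of `C(z)` inducing `B`
is everything or nothing on `p`-regular elements. -/
theorem section_part [Fintype G] [Fintype (IrrCharacter G)] (hM : IsPModular p M) (z : G)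
    (hz : ∃ k : ℕ, orderOf z = p ^ k) [Fintype (Subgroup.centralizer ({z} : Set G))]
    [Fintype (IrrCharacter (Subgroup.centralizer ({z} : Set G)))]
    (B : Set (IrrCharacter G)) (hB : IsPBlock M B)
    (𝔟 : Set (IrrCharacter (Subgroup.centralizer ({z} : Set G))))
    (h𝔟 : ∀ η, η ∈ 𝔟 ↔ IsInducedBlock M (Subgroup.centralizer ({z} : Set G))
      (blockOf M (η : Subgroup.centralizer ({z} : Set G) → ℂ)) B)
    (y : Subgroup.centralizer ({z} : Set G)) (hy : ¬ p ∣ orderOf y) (ζ : IrrCharacter G) :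
    ∑ η : IrrCharacter (Subgroup.centralizer ({z} : Set G)), 𝔟.indicator 1 η *
      (classInner (fun c : Subgroup.centralizer ({z} : Set G) => (ζ : G → ℂ) (z * (c : G)))
        (η : Subgroup.centralizer ({z} : Set G) → ℂ) * (η : Subgroup.centralizer ({z} : Set G) → ℂ) y)
      = B.indicator 1 ζ * (ζ : G → ℂ) (z * (y : G)) := by
  classical
  set ϑ : Subgroup.centralizer ({z} : Set G) → ℂ := fun c => (ζ : G → ℂ) (z * (c : G)) with hϑ
  have hϑcl := translate_isClassFunction z _ (IrrCharacter.isClassFunction ζ)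
  have h1 : (ζ : G → ℂ) (z * (y : G)) = ∑ η : IrrCharacter (Subgroup.centralizer ({z} : Set G)),
      classInner ϑ (η : Subgroup.centralizer ({z} : Set G) → ℂ) * (η : Subgroup.centralizer ({z} : Set G) → ℂ) y := by
    have h := congrFun (classFunction_expansion' ϑ hϑcl) y
    simp only [Finset.sum_apply, Pi.smul_apply, smul_eq_mul] at h
    rw [← h]
  have key : ∑ η : IrrCharacter (Subgroup.centralizer ({z} : Set G)),
      (B.indicator 1 ζ - 𝔟.indicator 1 η) *
      (classInner ϑ (η : Subgroup.centralizer ({z} : Set G) → ℂ) * (η : Subgroup.centralizer ({z} : Set G) → ℂ) y) = 0 := by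
    apply sum_eq_zero_of_blockwise hM
    intro η0
    have hconst : ∀ η ∈ blockOf M (η0 : Subgroup.centralizer ({z} : Set G) → ℂ),
        (𝔟.indicator 1 η : ℂ) = 𝔟.indicator 1 η0 := by
      intro η hη
      have e := IsPBlock.eq_blockOf hM ⟨η0, rfl⟩ hη
      have : η ∈ 𝔟 ↔ η0 ∈ 𝔟 := by rw [h𝔟, h𝔟, e]
      by_cases h0 : η0 ∈ 𝔟
      · rw [Set.indicator_of_mem h0, Set.indicator_of_mem (this.mpr h0)]; rfl
      · rw [Set.indicator_of_notMem h0, Set.indicator_of_notMem (fun h => h0 (this.mp h))]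
    have e1 : ∑ η, Set.indicator (blockOf M (η0 : Subgroup.centralizer ({z} : Set G) → ℂ)) 1 η *
        ((B.indicator 1 ζ - 𝔟.indicator 1 η) *
        (classInner ϑ (η : Subgroup.centralizer ({z} : Set G) → ℂ) * (η : Subgroup.centralizer ({z} : Set G) → ℂ) y))
        = (B.indicator 1 ζ - 𝔟.indicator 1 η0) *
          ∑ η, Set.indicator (blockOf M (η0 : Subgroup.centralizer ({z} : Set G) → ℂ)) 1 η *
          (classInner ϑ (η : Subgroup.centralizer ({z} : Set G) → ℂ) * (η : Subgroup.centralizer ({z} : Set G) → ℂ) y) := by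
      rw [Finset.mul_sum]
      apply Finset.sum_congr rfl; intro η _
      by_cases hη : η ∈ blockOf M (η0 : Subgroup.centralizer ({z} : Set G) → ℂ)
      · rw [hconst η hη]; ring
      · rw [Set.indicator_of_notMem hη]; ring
    rw [e1, ← finsum_mem_eq_sum_indicator, ← blockPart_eq]
    by_cases hζ : ζ ∈ B
    · by_cases h0 : η0 ∈ 𝔟
      · rw [Set.indicator_of_mem hζ, Set.indicator_of_mem h0]; simp
      · rw [second_main hM z hz B hB ζ hζ _ ⟨η0, rfl⟩ (fun h => h0 ((h𝔟 η0).mpr h)) y hy, mul_zero]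
    · by_cases h0 : η0 ∈ 𝔟
      · rw [second_main hM z hz _ ⟨ζ, rfl⟩ ζ (SameBlock.refl hM _) _ ⟨η0, rfl⟩ (fun h => by
          have := sameBlock_of_induced hM _ _ _ _ h ((h𝔟 η0).mp h0)
          apply hζ
          rw [← this]
          exact SameBlock.refl hM _) y hy, mul_zero]
      · rw [Set.indicator_of_notMem hζ, Set.indicator_of_notMem h0]; simp
  rw [h1, Finset.mul_sum, ← sub_eq_zero, ← Finset.sum_sub_distrib, ← neg_eq_zero, ← Finset.sum_neg_distrib, ← key]
  apply Finset.sum_congr rfl; intro η _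
  ring

theorem section_norm_sum [Fintype G] [Fintype (IrrCharacter G)] (hM : IsPModular p M) (z : G)
    (hz : ∃ k : ℕ, orderOf z = p ^ k) [Fintype (Subgroup.centralizer ({z} : Set G))]
    [Fintype (IrrCharacter (Subgroup.centralizer ({z} : Set G)))]
    (B : Set (IrrCharacter G)) (hB : IsPBlock M B)
    (𝔟 : Set (IrrCharacter (Subgroup.centralizer ({z} : Set G))))
    (h𝔟 : ∀ η, η ∈ 𝔟 ↔ IsInducedBlock M (Subgroup.centralizer ({z} : Set G))
      (blockOf M (η : Subgroup.centralizer ({z} : Set G) → ℂ)) B)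
    (y : Subgroup.centralizer ({z} : Set G)) (hy : ¬ p ∣ orderOf y) :
    ∑ ζ : IrrCharacter G, B.indicator 1 ζ * ((ζ : G → ℂ) (z * (y : G)) * conj ((ζ : G → ℂ) (z * (y : G))))
      = ∑ η : IrrCharacter (Subgroup.centralizer ({z} : Set G)), 𝔟.indicator 1 η *
        ((η : Subgroup.centralizer ({z} : Set G) → ℂ) y * conj ((η : Subgroup.centralizer ({z} : Set G) → ℂ) y)) := by
  classical
  have hcl : ∀ η ∈ 𝔟, blockOf M (η : (Subgroup.centralizer ({z} : Set G)) → ℂ) ⊆ 𝔟 := by
    intro η hη η' hη'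
    have e := IsPBlock.eq_blockOf hM ⟨η, rfl⟩ hη'
    rw [h𝔟, ← e, ← h𝔟]; exact hη
  have hvZ : InZ M (𝔟.indicator 1) := inZ_indicator_of_closed hM 𝔟 hcl
  set T : (Subgroup.centralizer ({z} : Set G)) → ℂ := fun c => ∑ η : IrrCharacter (Subgroup.centralizer ({z} : Set G)), 𝔟.indicator 1 η * (η : (Subgroup.centralizer ({z} : Set G)) → ℂ) y * conj ((η : (Subgroup.centralizer ({z} : Set G)) → ℂ) c) with hT
  have hT0 : ∀ c : (Subgroup.centralizer ({z} : Set G)), p ∣ orderOf c → T c = 0 := fun c hc =>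
    wbo hM _ hvZ (indicator_mul_self _) y c hy hc
  have hTconj : ∀ x : (Subgroup.centralizer ({z} : Set G)), T (x * y * x⁻¹) = T y := by
    intro x
    rw [hT]
    simp only
    apply Finset.sum_congr rfl; intro η _
    rw [IrrCharacter.isClassFunction η y x]
  have hHc : (Nat.card (Subgroup.centralizer ({z} : Set G)) : ℂ) ≠ 0 := card_ne_zero_C
  have hzH : ∀ x : G, x ∈ (Subgroup.centralizer ({z} : Set G)) ↔ z * x = x * z := fun x => mem_centralizer_singleton_iff z x
  have hyo : ¬ p ∣ orderOf (y : G) := by rw [Subgroup.orderOf_coe]; exact hy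
  have hycomm : Commute z (y : G) := (hzH y).mp y.2
  have hpp : IsPPart p (z * (y : G)) z := ⟨y, rfl, hycomm, hz, hyo⟩
  -- step 1
  have s1 : ∑ ζ : IrrCharacter G, B.indicator 1 ζ * ((ζ : G → ℂ) (z * (y : G)) * conj ((ζ : G → ℂ) (z * (y : G))))
      = (Nat.card (Subgroup.centralizer ({z} : Set G)) : ℂ)⁻¹ * ∑ c : (Subgroup.centralizer ({z} : Set G)), (Nat.card {x : G // x * (z * (y : G)) * x⁻¹ = z * (c : G)} : ℂ) * T c := by
    have a1 : ∀ ζ : IrrCharacter G, B.indicator 1 ζ * ((ζ : G → ℂ) (z * (y : G)) * conj ((ζ : G → ℂ) (z * (y : G))))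
        = ∑ η : IrrCharacter (Subgroup.centralizer ({z} : Set G)), ∑ c : (Subgroup.centralizer ({z} : Set G)), (Nat.card (Subgroup.centralizer ({z} : Set G)) : ℂ)⁻¹ * (𝔟.indicator 1 η * (η : (Subgroup.centralizer ({z} : Set G)) → ℂ) y * conj ((η : (Subgroup.centralizer ({z} : Set G)) → ℂ) c)) *
          ((ζ : G → ℂ) (z * (c : G)) * conj ((ζ : G → ℂ) (z * (y : G)))) := by
      intro ζ
      rw [← mul_assoc, ← section_part hM z hz B hB 𝔟 h𝔟 y hy ζ, Finset.sum_mul]
      apply Finset.sum_congr rfl; intro η _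
      unfold classInner
      rw [Finset.mul_sum, Finset.sum_mul, Finset.mul_sum, Finset.sum_mul]
      apply Finset.sum_congr rfl; intro c _
      ring
    rw [Finset.sum_congr rfl (fun ζ _ => a1 ζ), Finset.sum_comm]
    simp_rw [Finset.sum_comm (s := (Finset.univ : Finset (IrrCharacter G)))]
    rw [Finset.sum_comm, Finset.mul_sum]
    apply Finset.sum_congr rfl; intro c _
    rw [← column_orthogonality' (z * (c : G)) (z * (y : G)), hT]
    simp only
    rw [Finset.mul_sum, Finset.mul_sum]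
    apply Finset.sum_congr rfl; intro η _
    rw [← Finset.mul_sum]
    ring
  rw [s1]
  -- step 2
  have s2 : ∑ c : (Subgroup.centralizer ({z} : Set G)), (Nat.card {x : G // x * (z * (y : G)) * x⁻¹ = z * (c : G)} : ℂ) * T c
      = ∑ x : G, ∑ c : (Subgroup.centralizer ({z} : Set G)), if x * (z * (y : G)) * x⁻¹ = z * (c : G) then T c else 0 := by
    rw [Finset.sum_comm]
    apply Finset.sum_congr rfl; intro c _
    rw [Nat.card_eq_fintype_card, Fintype.card_subtype, Finset.card_eq_sum_ones, Finset.sum_filter]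
    push_cast
    rw [Finset.sum_mul]
    apply Finset.sum_congr rfl; intro x _
    split_ifs <;> simp
  have s3 : ∀ x : G, (∑ c : (Subgroup.centralizer ({z} : Set G)), if x * (z * (y : G)) * x⁻¹ = z * (c : G) then T c else 0) = if x ∈ (Subgroup.centralizer ({z} : Set G)) then T y else 0 := by
    intro x
    by_cases hx : x ∈ (Subgroup.centralizer ({z} : Set G))
    · rw [if_pos hx, Finset.sum_eq_single ((⟨x, hx⟩ : (Subgroup.centralizer ({z} : Set G))) * y * (⟨x, hx⟩ : (Subgroup.centralizer ({z} : Set G)))⁻¹)]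
      · rw [if_pos, hTconj]
        have := (hzH x).mp hx
        show x * (z * (y : G)) * x⁻¹ = z * (x * (y : G) * x⁻¹)
        rw [← mul_assoc, ← this]; group
      · intro c _ hc
        rw [if_neg]
        intro h
        apply hc
        apply Subtype.ext
        have := (hzH x).mp hx
        show (c : G) = x * (y : G) * x⁻¹
        have h2 : z * (c : G) = z * (x * (y : G) * x⁻¹) := by
          rw [← h, ← mul_assoc, ← this]; group
        exact mul_left_cancel h2
      · intro h; exact absurd (Finset.mem_univ _) h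
    · rw [if_neg hx]
      apply Finset.sum_eq_zero
      intro c _
      split_ifs with h
      · apply hT0
        by_contra hc
        apply hx
        have hco : ¬ p ∣ orderOf (c : G) := by rw [Subgroup.orderOf_coe]; exact hc
        have hp1 : IsPPart p (z * (c : G)) z := ⟨c, rfl, (hzH c).mp c.2, hz, hco⟩
        have hp2 : IsPPart p (z * (c : G)) (x * z * x⁻¹) := by
          rw [← h]; exact isPPart_conj hpp x
        have := isPPart_unique hM.1 hp1 hp2
        rw [hzH]
        calc z * x = (x * z * x⁻¹) * x := by rw [← this]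
          _ = x * z := by group
      · rfl
  rw [s2, Finset.sum_congr rfl (fun x _ => s3 x), ← Finset.sum_filter, Finset.sum_const]
  have hcard : (Finset.univ.filter (fun x : G => x ∈ (Subgroup.centralizer ({z} : Set G)))).card = Nat.card (Subgroup.centralizer ({z} : Set G)) := by
    rw [Nat.card_eq_fintype_card, Fintype.card_subtype]
  rw [hcard, nsmul_eq_mul, ← mul_assoc, inv_mul_cancel₀ hHc, one_mul, hT]
  simp only
  apply Finset.sum_congr rfl; intro η _
  ring

theorem ofReal_finsum_mem_norm_sq {α : Type*} [Fintype α] (B : Set α) (f : α → ℂ) :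
    ((∑ᶠ a ∈ B, ‖f a‖ ^ 2 : ℝ) : ℂ) = ∑ a, B.indicator 1 a * (f a * conj (f a)) := by
  classical
  rw [finsum_mem_eq_finite_toFinset_sum _ (Set.toFinite B)]
  push_cast
  rw [← Finset.sum_filter_add_sum_filter_not Finset.univ (fun a => a ∈ B)]
  have e2 : ∑ a ∈ Finset.univ.filter (fun a => ¬ a ∈ B), B.indicator 1 a * (f a * conj (f a)) = 0 := by
    apply Finset.sum_eq_zero
    intro a ha
    rw [Finset.mem_filter] at ha
    rw [Set.indicator_of_notMem ha.2, zero_mul]
  rw [e2, add_zero]
  apply Finset.sum_congr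
  · ext a; simp
  · intro a ha
    have ha' : a ∈ B := by simpa using ha
    rw [Set.indicator_of_mem ha', Complex.mul_conj, Complex.normSq_eq_norm_sq]
    simp

theorem mem_principalBlock_iff [Finite G] (hM : IsPModular p M) (η : IrrCharacter G) :
    η ∈ principalBlock M G ↔ blockOf M (η : G → ℂ) = principalBlock M G := by
  haveI := Fintype.ofFinite G
  haveI := Fintype.ofFinite (IrrCharacter G)
  constructor
  · intro h
    exact (IsPBlock.eq_blockOf hM ⟨trivIrr G, rfl⟩ h).symm
  · intro h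
    rw [← h]; exact SameBlock.refl hM _

theorem principalBlock_of_npc [Finite G] [Fact p.Prime] (hM : IsPModular p M)
    (hnc : ∃ k : ℕ, (pPrimeCore p G).index = p ^ k) :
    principalBlock M G = {χ : IrrCharacter G | ∀ n ∈ pPrimeCore p G, (χ : G → ℂ) n = (χ : G → ℂ) 1} := by
  classical
  haveI := Fintype.ofFinite G
  haveI := pPrimeCore_normal' (G := G) p
  have hp : ¬ p ∣ Nat.card (pPrimeCore p G) := by
    intro hd
    have h1 := card_pPrimeCore_coprime' (G := G) p
    have h2 := Nat.dvd_gcd hd (dvd_refl p)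
    rw [Nat.Coprime] at h1
    rw [h1] at h2
    exact (Fact.out : p.Prime).one_lt.ne' (Nat.dvd_one.mp h2)
  have h0 : classInner (fun n : pPrimeCore p G => ((trivIrr G : IrrCharacter G) : G → ℂ) n)
      ((trivIrr (pPrimeCore p G) : IrrCharacter (pPrimeCore p G)) : pPrimeCore p G → ℂ) ≠ 0 := by
    have := norm_triv (pPrimeCore p G)
    show classInner (fun _ : pPrimeCore p G => (1 : ℂ)) (fun _ => 1) ≠ 0
    rw [this]; exact one_ne_zero
  ext χ
  constructor
  · intro h
    have h1 : SameBlock M ((trivIrr G : IrrCharacter G) : G → ℂ) (χ : G → ℂ) := h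
    have h3 := same_constituent_of_p'normal hM _ hp _ χ h1 (trivIrr _) h0
    exact (ker_iff_classInner_one _ χ.2).mpr h3
  · intro h
    have h3 := (ker_iff_classInner_one _ χ.2).mp h
    exact (blocks_normal_p_complement hM _ hp hnc (trivIrr G) χ).mpr ⟨trivIrr _, h0, h3⟩

theorem principal_norm_sum_npc [Fintype G] [Fintype (IrrCharacter G)] [Fact p.Prime] (hM : IsPModular p M)
    (hnc : ∃ k : ℕ, (pPrimeCore p G).index = p ^ k) (y : G) (hy : ¬ p ∣ orderOf y) :
    ∑ χ : IrrCharacter G, (principalBlock M G).indicator 1 χ * ((χ : G → ℂ) y * conj ((χ : G → ℂ) y))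
      = ((p ^ (Nat.card G).factorization p : ℕ) : ℂ) := by
  classical
  have hp : p.Prime := hM.1
  haveI hKn := pPrimeCore_normal' (G := G) p
  haveI := Fintype.ofFinite (G ⧸ pPrimeCore p G)
  haveI := Fintype.ofFinite (IrrCharacter (G ⧸ pPrimeCore p G))
  have hpb := principalBlock_of_npc hM hnc
  obtain ⟨k, hk⟩ := hnc
  have hyK : y ∈ pPrimeCore p G := by
    rw [← QuotientGroup.eq_one_iff]
    have h1 : orderOf (y : G ⧸ pPrimeCore p G) ∣ orderOf y := orderOf_map_dvd (QuotientGroup.mk' _) y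
    have h2 : orderOf (y : G ⧸ pPrimeCore p G) ∣ p ^ k := by
      rw [← hk, Subgroup.index_eq_card]; exact orderOf_dvd_natCard _
    obtain ⟨j, _, hj⟩ := (Nat.dvd_prime_pow hp).mp h2
    rcases Nat.eq_zero_or_pos j with rfl | hj0
    · rw [pow_zero] at hj; exact orderOf_eq_one_iff.mp hj
    · exfalso; apply hy
      exact (dvd_pow_self p hj0.ne').trans (hj ▸ h1)
  have e1 : ∀ χ : IrrCharacter G, (principalBlock M G).indicator 1 χ * ((χ : G → ℂ) y * conj ((χ : G → ℂ) y))
      = if (∀ n ∈ pPrimeCore p G, (χ : G → ℂ) n = (χ : G → ℂ) 1) then (χ : G → ℂ) 1 * conj ((χ : G → ℂ) 1) else 0 := by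
    intro χ
    by_cases h : ∀ n ∈ pPrimeCore p G, (χ : G → ℂ) n = (χ : G → ℂ) 1
    · rw [if_pos h, Set.indicator_of_mem (show χ ∈ principalBlock M G by rw [hpb]; exact h), h y hyK]
      simp
    · rw [if_neg h, Set.indicator_of_notMem (show χ ∉ principalBlock M G by rw [hpb]; exact h), zero_mul]
  rw [Finset.sum_congr rfl (fun χ _ => e1 χ),
    ← sum_infl (pPrimeCore p G) (fun χ : IrrCharacter G => (χ : G → ℂ) 1 * conj ((χ : G → ℂ) 1))]
  have e2 : ∀ χ : IrrCharacter (G ⧸ pPrimeCore p G), (infl (pPrimeCore p G) χ : G → ℂ) 1 * conj ((infl (pPrimeCore p G) χ : G → ℂ) 1)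
      = (χ : G ⧸ pPrimeCore p G → ℂ) 1 ^ 2 := by
    intro χ
    show (χ : G ⧸ pPrimeCore p G → ℂ) 1 * conj ((χ : G ⧸ pPrimeCore p G → ℂ) 1) = _
    obtain ⟨d, _, hd, _⟩ := IrrCharacter.exists_degree χ
    rw [hd]; simp [sq]
  rw [Finset.sum_congr rfl (fun χ _ => e2 χ), sum_sq_degrees', ← Subgroup.index_eq_card, hk]
  have hcop := card_pPrimeCore_coprime' (G := G) p
  have hfac : (Nat.card G).factorization p = k := by
    rw [← Subgroup.index_mul_card (pPrimeCore p G), hk,
      Nat.factorization_mul (pow_ne_zero _ hp.ne_zero) Nat.card_pos.ne']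
    have h1 : (Nat.card (pPrimeCore p G)).factorization p = 0 := by
      apply Nat.factorization_eq_zero_of_not_dvd
      intro hd
      have h2 := Nat.dvd_gcd hd (dvd_refl p)
      rw [Nat.Coprime] at hcop
      rw [hcop] at h2
      exact hp.one_lt.ne' (Nat.dvd_one.mp h2)
    rw [Finsupp.add_apply, h1, Nat.factorization_pow, Finsupp.smul_apply, hp.factorization_self]
    simp
  rw [hfac]

theorem principal_section_norm [Finite G] [Fact p.Prime] (hM : IsPModular p M) (z : G)
    (hz : ∃ k : ℕ, orderOf z = p ^ k) (y : Subgroup.centralizer ({z} : Set G)) (hy : ¬ p ∣ orderOf y) :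
    (∑ᶠ ζ ∈ principalBlock M G, ‖(ζ : G → ℂ) (z * (y : G))‖ ^ 2 =
      ∑ᶠ χ ∈ principalBlock M (Subgroup.centralizer ({z} : Set G)), ‖(χ : Subgroup.centralizer ({z} : Set G) → ℂ) y‖ ^ 2) ∧
    ((∃ k : ℕ, (pPrimeCore p (Subgroup.centralizer ({z} : Set G))).index = p ^ k) →
      ∑ᶠ ζ ∈ principalBlock M G, ‖(ζ : G → ℂ) (z * (y : G))‖ ^ 2 =
        ((p ^ (Nat.card (Subgroup.centralizer ({z} : Set G))).factorization p : ℕ) : ℝ)) := by
  haveI := Fintype.ofFinite G
  haveI := Fintype.ofFinite (IrrCharacter G)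
  haveI := Fintype.ofFinite (Subgroup.centralizer ({z} : Set G))
  haveI := Fintype.ofFinite (IrrCharacter (Subgroup.centralizer ({z} : Set G)))
  have h1 : (∑ᶠ ζ ∈ principalBlock M G, ‖(ζ : G → ℂ) (z * (y : G))‖ ^ 2 =
      ∑ᶠ χ ∈ principalBlock M (Subgroup.centralizer ({z} : Set G)), ‖(χ : Subgroup.centralizer ({z} : Set G) → ℂ) y‖ ^ 2) := by
    apply Complex.ofReal_injective
    rw [ofReal_finsum_mem_norm_sq, ofReal_finsum_mem_norm_sq]
    apply section_norm_sum hM z hz _ ⟨trivIrr G, rfl⟩ _ _ y hy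
    intro η
    rw [← principalBlock_eq, third_main hM _ _ (induced_defined_centralizer hM z hz _ ⟨η, rfl⟩)]
    exact mem_principalBlock_iff hM η
  refine ⟨h1, ?_⟩
  intro hnc
  rw [h1]
  apply Complex.ofReal_injective
  rw [ofReal_finsum_mem_norm_sq, principal_norm_sum_npc hM hnc y hy]
  simp

theorem not_dvd_card_pPrimeCore [Finite G] (hp : p.Prime) : ¬ p ∣ Nat.card (pPrimeCore p G) := by
  intro hd
  have h1 := card_pPrimeCore_coprime' (G := G) p
  have h2 := Nat.dvd_gcd hd (dvd_refl p)
  rw [Nat.Coprime] at h1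
  rw [h1] at h2
  exact hp.one_lt.ne' (Nat.dvd_one.mp h2)

theorem principal_ker [Finite G] (hM : IsPModular p M) (χ : IrrCharacter G) (h : χ ∈ principalBlock M G) :
    ∀ n ∈ pPrimeCore p G, (χ : G → ℂ) n = (χ : G → ℂ) 1 := by
  classical
  haveI := Fintype.ofFinite G
  haveI := pPrimeCore_normal' (G := G) p
  have hp := not_dvd_card_pPrimeCore (G := G) hM.1
  have h0 : classInner (fun n : pPrimeCore p G => ((trivIrr G : IrrCharacter G) : G → ℂ) n)
      ((trivIrr (pPrimeCore p G) : IrrCharacter (pPrimeCore p G)) : pPrimeCore p G → ℂ) ≠ 0 := by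
    have := norm_triv (pPrimeCore p G)
    show classInner (fun _ : pPrimeCore p G => (1 : ℂ)) (fun _ => 1) ≠ 0
    rw [this]; exact one_ne_zero
  have h1 : SameBlock M ((trivIrr G : IrrCharacter G) : G → ℂ) (χ : G → ℂ) := h
  have h3 := same_constituent_of_p'normal hM _ hp _ χ h1 (trivIrr _) h0
  exact (ker_iff_classInner_one _ χ.2).mpr h3

theorem principal_const_on_core [Finite G] (hM : IsPModular p M) (u : G) (hu : ∃ k : ℕ, orderOf u = p ^ k)
    (v : G) (hv : v ∈ centralizerPPrimeCore p u) (χ : IrrCharacter G) (hχ : χ ∈ principalBlock M G) :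
    (χ : G → ℂ) (u * v) = (χ : G → ℂ) u := by
  haveI := Fintype.ofFinite G
  haveI := Fintype.ofFinite (IrrCharacter G)
  haveI := Fintype.ofFinite (Subgroup.centralizer ({u} : Set G))
  haveI := Fintype.ofFinite (IrrCharacter (Subgroup.centralizer ({u} : Set G)))
  obtain ⟨v', hv', rfl⟩ := hv
  have h𝔟 : ∀ η : IrrCharacter (Subgroup.centralizer ({u} : Set G)),
      η ∈ principalBlock M (Subgroup.centralizer ({u} : Set G)) ↔
      IsInducedBlock M (Subgroup.centralizer ({u} : Set G))
        (blockOf M (η : Subgroup.centralizer ({u} : Set G) → ℂ)) (principalBlock M G) := by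
    intro η
    rw [third_main hM _ _ (induced_defined_centralizer hM u hu _ ⟨η, rfl⟩)]
    exact mem_principalBlock_iff hM η
  have hvo : ¬ p ∣ orderOf v' := by
    intro hd
    apply not_dvd_card_pPrimeCore (G := Subgroup.centralizer ({u} : Set G)) hM.1
    have : orderOf (⟨v', hv'⟩ : pPrimeCore p (Subgroup.centralizer ({u} : Set G))) = orderOf v' := by
      rw [← Subgroup.orderOf_coe]
    rw [← this] at hd
    exact hd.trans (orderOf_dvd_natCard _)
  have h1o : ¬ p ∣ orderOf (1 : Subgroup.centralizer ({u} : Set G)) := by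
    rw [orderOf_one]; exact hM.1.one_lt.ne' ∘ Nat.dvd_one.mp
  have a1 := section_part hM u hu (principalBlock M G) ⟨trivIrr G, rfl⟩ _ h𝔟 v' hvo χ
  have a2 := section_part hM u hu (principalBlock M G) ⟨trivIrr G, rfl⟩ _ h𝔟 1 h1o χ
  rw [Set.indicator_of_mem hχ] at a1 a2
  have e : ∀ η : IrrCharacter (Subgroup.centralizer ({u} : Set G)),
      (principalBlock M (Subgroup.centralizer ({u} : Set G))).indicator 1 η *
      (classInner (fun c : Subgroup.centralizer ({u} : Set G) => (χ : G → ℂ) (u * (c : G)))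
        (η : Subgroup.centralizer ({u} : Set G) → ℂ) * (η : Subgroup.centralizer ({u} : Set G) → ℂ) v') =
      (principalBlock M (Subgroup.centralizer ({u} : Set G))).indicator 1 η *
      (classInner (fun c : Subgroup.centralizer ({u} : Set G) => (χ : G → ℂ) (u * (c : G)))
        (η : Subgroup.centralizer ({u} : Set G) → ℂ) * (η : Subgroup.centralizer ({u} : Set G) → ℂ) 1) := by
    intro η
    by_cases hη : η ∈ principalBlock M (Subgroup.centralizer ({u} : Set G))
    · rw [principal_ker hM η hη v' hv']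
    · rw [Set.indicator_of_notMem hη, zero_mul, zero_mul]
  rw [Finset.sum_congr rfl (fun η _ => e η), a2] at a1
  simpa using a1.symm

end SecNorm
end Cfsg.Agent.H4
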