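import Cfsg.Agent.Lib_helper4_BlkO
import Cfsg.Prelude.Def_BrauerPairs

set_option autoImplicit false
set_option linter.style.haveILetI false
set_option linter.unusedSectionVars false
namespace Cfsg.Agent.H4
open Module
open scoped ComplexConjugate
universe u v w

section BPairs
variable {p : ℕ} {M : Ideal AlgInt} {G : Type u} [Group G]

theorem lamInd_eq_Br_centralizer [Fintype G] [Fintype (IrrCharacter G)] (Q : Subgroup G)
    [Fintype (Subgroup.centralizer (Q : Set G))] (ξ : IrrCharacter (Subgroup.centralizer (Q : Set G)))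
    (v : IrrCharacter G → ℂ) :
    lamInd (Subgroup.centralizer (Q : Set G)) (ξ : Subgroup.centralizer (Q : Set G) → ℂ) v
      = Br Q (Subgroup.centralizer (Q : Set G)) v ξ := by
  unfold lamInd Br spec brCoef
  rw [Finset.sum_div]
  apply Finset.sum_congr rfl; intro h _
  rw [if_pos h.2, mul_div_assoc]

theorem centralizer_le_normalizer' (Q : Subgroup G) :
    Subgroup.centralizer (Q : Set G) ≤ Subgroup.normalizer (Q : Set G) := by
  intro x hx
  rw [Subgroup.mem_normalizer_iff]
  intro h
  rw [Subgroup.mem_centralizer_iff] at hx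
  constructor
  · intro hh
    have : x * h * x⁻¹ = h := by rw [← hx h hh]; group
    rw [this]; exact hh
  · intro hh
    have h1 := hx _ hh
    have : h = x * h * x⁻¹ := by
      have : x * h * x⁻¹ * x = x * (x * h * x⁻¹) := h1
      have h2 : x * h = x * (x * h * x⁻¹) := by rw [← this]; group
      exact mul_left_cancel h2
    rw [this]; exact hh

theorem isMultFun_lamInd_centralizer [Fintype G] [Fintype (IrrCharacter G)] (hM : IsPModular p M) (Q : Subgroup G)
    [Fintype (Subgroup.centralizer (Q : Set G))] [Fintype (IrrCharacter (Subgroup.centralizer (Q : Set G)))]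
    (hQ : IsPGroup p Q) (ξ : IrrCharacter (Subgroup.centralizer (Q : Set G))) :
    IsMultFun M (lamInd (Subgroup.centralizer (Q : Set G)) (ξ : Subgroup.centralizer (Q : Set G) → ℂ)) := by
  classical
  haveI := Fintype.ofFinite (ConjClasses G)
  have hmem : ∀ v, InZ M v → MemLocalRing M (lamInd (Subgroup.centralizer (Q : Set G)) (ξ : Subgroup.centralizer (Q : Set G) → ℂ) v) := by
    intro v hv
    rw [lamInd_eq_sum_classes]
    exact MemLocalRing.sum hM _ _ (fun C _ => MemLocalRing.mul hM (hv _) (icc_memLocalRing hM _ ξ _))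
  refine ⟨hmem, ?_, ?_, ?_, ?_⟩
  · intro v w
    unfold lamInd
    rw [← Finset.sum_sub_distrib]
    apply Finset.sum_congr rfl; intro h _
    rw [coef_sub]; ring
  · intro c v
    unfold lamInd
    rw [Finset.mul_sum]
    apply Finset.sum_congr rfl; intro h _
    rw [coef_smul]; ring
  · unfold lamInd
    rw [Finset.sum_eq_single (1 : Subgroup.centralizer (Q : Set G))]
    · rw [coef_one]
      simp [IsIrrCharacter.apply_one_ne_zero ξ.2]
    · intro h _ hh
      have hh' : (h : G) ≠ 1 := fun h1 => hh (Subtype.ext h1)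
      rw [coef_one, if_neg hh', zero_mul]
    · intro h; exact absurd (Finset.mem_univ _) h
  · intro v w hv hw
    have h2 := InP.eval hM (inP_Br_mul hM Q _ hQ le_rfl (centralizer_le_normalizer' Q) hv hw) ξ
    rw [lamInd_eq_Br_centralizer, lamInd_eq_Br_centralizer, lamInd_eq_Br_centralizer]
    exact h2

theorem exists_induced_block_centralizer [Fintype G] [Fintype (IrrCharacter G)] (hM : IsPModular p M) (Q : Subgroup G)
    [Fintype (Subgroup.centralizer (Q : Set G))] [Fintype (IrrCharacter (Subgroup.centralizer (Q : Set G)))]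
    (hQ : IsPGroup p Q) (ξ : IrrCharacter (Subgroup.centralizer (Q : Set G))) :
    ∃ χ : IrrCharacter G, IsInducedBlock M (Subgroup.centralizer (Q : Set G))
        (blockOf M (ξ : Subgroup.centralizer (Q : Set G) → ℂ)) (blockOf M (χ : G → ℂ)) ∧
      ∀ v, InZ M v → MemLocalIdeal M (lamInd (Subgroup.centralizer (Q : Set G)) (ξ : Subgroup.centralizer (Q : Set G) → ℂ) v - v χ) := by
  obtain ⟨χ, hχ⟩ := (isMultFun_lamInd_centralizer hM Q hQ ξ).exists_block hM
  refine ⟨χ, ⟨⟨ξ, rfl⟩, ⟨χ, rfl⟩, ?_⟩, hχ⟩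
  intro ξ' hξ' χ' hχ' g
  have h1 := hχ _ (InZ.central hM g)
  rw [lamInd_central] at h1
  have h2 := icc_congr hM _ (SameBlock.symm hξ') g
  have h3 : MemLocalIdeal M (centralChar (χ : G → ℂ) g - centralChar (χ' : G → ℂ) g) := hχ' g
  have := MemLocalIdeal.add hM (MemLocalIdeal.add hM h2 h1) h3
  simpa using this

theorem brauerOmega_eq_lamInd [Fintype G] [Fintype (IrrCharacter G)] (Q : Subgroup G)
    [Fintype (Subgroup.centralizer (Q : Set G))] (B : Set (IrrCharacter G))
    (ξ : Subgroup.centralizer (Q : Set G) → ℂ) :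
    brauerOmega Q (blockCoeff B) ξ = lamInd (Subgroup.centralizer (Q : Set G)) ξ (B.indicator 1) := by
  unfold brauerOmega lamInd
  rw [finsum_eq_sum_of_fintype]
  apply Finset.sum_congr rfl; intro h _
  rw [blockCoeff_eq_coef, mul_div_assoc]

/-- `(Q,e)` is a Brauer pair of `B` iff `e` induces `B` -/
theorem isBrauerPairOf_iff_induced [Finite G] (hM : IsPModular p M) (Q : Subgroup G) (hQ : IsPGroup p Q)
    (e : Set (IrrCharacter (Subgroup.centralizer (Q : Set G)))) (he : IsPBlock M e) (B : Set (IrrCharacter G)) :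
    IsBrauerPairOf p M B Q e ↔ IsInducedBlock M (Subgroup.centralizer (Q : Set G)) e B := by
  haveI := Fintype.ofFinite G
  haveI := Fintype.ofFinite (IrrCharacter G)
  haveI := Fintype.ofFinite (Subgroup.centralizer (Q : Set G))
  haveI := Fintype.ofFinite (IrrCharacter (Subgroup.centralizer (Q : Set G)))
  obtain ⟨ξ0, rfl⟩ := he
  obtain ⟨χ, hind, hχ⟩ := exists_induced_block_centralizer hM Q hQ ξ0
  have hξ0 : ξ0 ∈ blockOf M (ξ0 : Subgroup.centralizer (Q : Set G) → ℂ) := SameBlock.refl hM _
  constructor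
  · rintro ⟨_, hB, h⟩
    have h1 := h ξ0 hξ0
    rw [brauerOmega_eq_lamInd] at h1
    obtain ⟨χ1, rfl⟩ := hB
    have h2 := hχ _ (inZ_indicator_block hM χ1)
    have hmem : χ ∈ blockOf M (χ1 : G → ℂ) := by
      by_contra hc
      rw [Set.indicator_of_notMem hc] at h2
      apply not_memLocalIdeal_one hM
      have := MemLocalIdeal.sub hM h2 h1
      simpa using this
    rw [IsPBlock.eq_blockOf hM ⟨χ1, rfl⟩ hmem]
    exact hind
  · intro h
    refine ⟨⟨hQ, ⟨ξ0, rfl⟩⟩, h.2.1, ?_⟩
    intro ξ hξ
    rw [brauerOmega_eq_lamInd]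
    obtain ⟨χ1, rfl⟩ := h.2.1
    have hχ1 : χ1 ∈ blockOf M (χ1 : G → ℂ) := SameBlock.refl hM _
    have := lamInd_congr hM _ (ξ : Subgroup.centralizer (Q : Set G) → ℂ) χ1 (h.2.2 ξ hξ χ1 hχ1) _
      (inZ_indicator_block hM χ1)
    rw [Set.indicator_of_mem hχ1] at this
    exact this

theorem induced_defined_centralizer_subgroup [Finite G] (hM : IsPModular p M) (Q : Subgroup G) (hQ : IsPGroup p Q)
    (e : Set (IrrCharacter (Subgroup.centralizer (Q : Set G)))) (he : IsPBlock M e) :
    InducedBlockDefined M (Subgroup.centralizer (Q : Set G)) e := by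
  haveI := Fintype.ofFinite G
  haveI := Fintype.ofFinite (IrrCharacter G)
  haveI := Fintype.ofFinite (Subgroup.centralizer (Q : Set G))
  haveI := Fintype.ofFinite (IrrCharacter (Subgroup.centralizer (Q : Set G)))
  obtain ⟨ξ0, rfl⟩ := he
  obtain ⟨χ, hind, _⟩ := exists_induced_block_centralizer hM Q hQ ξ0
  exact ⟨_, hind⟩

end BPairs
end Cfsg.Agent.H4
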