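import Cfsg.Agent.Lib_helper4_BlkP

set_option autoImplicit false
set_option linter.style.haveILetI false
set_option linter.unusedSectionVars false
namespace Cfsg.Agent.H4
open Module
open scoped ComplexConjugate
universe u v w

section RealBlk
variable {p : ℕ} {M : Ideal AlgInt} {G : Type u} [Group G]

theorem sum_involution_mem (hM : IsPModular p M) {α : Type*} [Fintype α] [DecidableEq α] (σ : α → α)
    (hσ : ∀ a, σ (σ a) = a) (f : α → ℂ) (h : ∀ a, σ a ≠ a → MemLocalIdeal M (f a + f (σ a))) :
    MemLocalIdeal M (∑ a, f a - ∑ a, if σ a = a then f a else 0) := by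
  let e := Fintype.equivFin α
  have h1 : ∀ a, f a = (if σ a = a then f a else 0) + ((if e a < e (σ a) then f a else 0) +
      (if e (σ a) < e a then f a else 0)) := by
    intro a
    by_cases ha : σ a = a
    · rw [if_pos ha, ha]; simp
    · rw [if_neg ha]
      have hne : e a ≠ e (σ a) := fun h' => ha (e.injective h').symm
      rcases lt_or_gt_of_ne hne with hlt | hgt
      · rw [if_pos hlt, if_neg (not_lt.mpr hlt.le)]; simp
      · rw [if_neg (not_lt.mpr hgt.le), if_pos hgt]; simp
  have h2 : ∑ a, (if e (σ a) < e a then f a else 0) = ∑ a, (if e a < e (σ a) then f (σ a) else 0) := by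
    have hinv : Function.Involutive σ := hσ
    rw [← Equiv.sum_comp hinv.toPerm (fun a => if e (σ a) < e a then f a else 0)]
    apply Finset.sum_congr rfl; intro a _
    show (if e (σ (σ a)) < e (σ a) then f (σ a) else 0) = _
    rw [hσ]
  have h3 : ∑ a, f a - ∑ a, (if σ a = a then f a else 0) = ∑ a, (if e a < e (σ a) then f a + f (σ a) else 0) := by
    conv_lhs => rw [Finset.sum_congr rfl (fun a _ => h1 a)]
    rw [Finset.sum_add_distrib, Finset.sum_add_distrib, h2, add_sub_cancel_left, ← Finset.sum_add_distrib]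
    apply Finset.sum_congr rfl; intro a _
    split_ifs <;> simp
  rw [h3]
  apply MemLocalIdeal.sum hM
  intro a _
  split_ifs with hlt
  · apply h
    intro ha
    rw [ha] at hlt
    exact lt_irrefl _ hlt
  · exact MemLocalIdeal.zero hM

/-- a `2`-block containing an odd degree character `χ` together with a character agreeing with `g ↦ χ g⁻¹`
on odd order elements is the principal block -/
theorem principal_of_real_like [Finite G] (hM : IsPModular 2 M) (χ ψ : IrrCharacter G)
    (hsb : SameBlock M (χ : G → ℂ) (ψ : G → ℂ)) (hodd : ¬ 2 ∣ charDegree (χ : G → ℂ))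
    (hψ : ∀ g : G, ¬ 2 ∣ orderOf g → (ψ : G → ℂ) g = (χ : G → ℂ) g⁻¹) :
    SameBlock M (trivIrr G : G → ℂ) (χ : G → ℂ) := by
  classical
  haveI := Fintype.ofFinite G
  haveI := Fintype.ofFinite (IrrCharacter G)
  haveI : Fact (Nat.Prime 2) := ⟨Nat.prime_two⟩
  rw [← spec_regInd_not_mem_iff hM]
  obtain ⟨d, hd0, hd1, hd2⟩ := IrrCharacter.exists_degree χ
  rw [hd2] at hodd
  have hχc : IsCharacter G (χ : G → ℂ) := IsIrrCharacter.isCharacter χ.2
  have hχR : ∀ g, MemLocalRing M ((χ : G → ℂ) g) := fun g => memLocalRing_of_isIntegral hM (IsCharacter.isIntegral hχc g)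
  obtain ⟨Q⟩ : Nonempty (Sylow 2 G) := inferInstance
  set F : G → ℂ := fun g => regInd 2 G g * (χ : G → ℂ) g with hF
  have hFcl : ∀ q g : G, F (q * g * q⁻¹) = F g := by
    intro q g
    rw [hF]; simp only
    rw [regInd_isClassFunction g q, IrrCharacter.isClassFunction χ g q]
  have hFR : ∀ g, MemLocalRing M (F g) := fun g => MemLocalRing.mul hM (regInd_mem hM g) (hχR g)
  -- step 1
  have s1 : MemLocalIdeal M (∑ g, (if g ∈ Subgroup.centralizer ((Q : Subgroup G) : Set G) then 0 else F g)) := by
    apply conj_orbit_sum hM (Q : Subgroup G) Q.2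
    · intro q hq g
      have : q * g * q⁻¹ ∈ Subgroup.centralizer ((Q : Subgroup G) : Set G) ↔ g ∈ Subgroup.centralizer ((Q : Subgroup G) : Set G) :=
        mem_centralizer_conj_iff (Q : Subgroup G) (Subgroup.le_normalizer hq) g
      simp only [this, hFcl]
    · intro g
      split_ifs
      · exact MemLocalRing.zero hM
      · exact hFR g
    · intro g hg
      rw [if_pos hg]
  -- step 2
  set f : G → ℂ := fun g => if g ∈ Subgroup.centralizer ((Q : Subgroup G) : Set G) then F g else 0 with hf
  have hψ1 : (ψ : G → ℂ) 1 = d := by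
    rw [hψ 1 (by rw [orderOf_one]; norm_num), inv_one, hd1]
  have hd0' : (d : ℂ) ≠ 0 := by exact_mod_cast hd0.ne'
  have hdiff : ∀ g ∈ Subgroup.centralizer ((Q : Subgroup G) : Set G), ¬ 2 ∣ orderOf g →
      MemLocalIdeal M ((χ : G → ℂ) g⁻¹ - (χ : G → ℂ) g) := by
    intro g hg hgo
    have hle : (Q : Subgroup G) ≤ Subgroup.centralizer ({g} : Set G) := by
      intro q hq
      rw [mem_centralizer_singleton_iff]
      rw [Subgroup.mem_centralizer_iff] at hg
      exact (hg q hq).symm
    have hidx : ¬ 2 ∣ (Subgroup.centralizer ({g} : Set G)).index := by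
      intro h2
      apply Q.not_dvd_index
      exact h2.trans (Subgroup.index_dvd_of_le hle)
    have h1 := hsb g
    unfold centralChar at h1
    rw [hψ g hgo, hψ1, hd1] at h1
    have h2 := MemLocalIdeal.mul_left hM (MemLocalRing.mul hM (MemLocalRing.natCast hM d)
      (memLocalRing_inv_natCast hM hidx)) h1
    have hi0 : ((Subgroup.centralizer ({g} : Set G)).index : ℂ) ≠ 0 := by
      exact_mod_cast Subgroup.index_ne_zero_of_finite
    have e : (d : ℂ) * ((Subgroup.centralizer ({g} : Set G)).index : ℂ)⁻¹ *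
        (((Subgroup.centralizer ({g} : Set G)).index : ℂ) * (χ : G → ℂ) g / d -
          ((Subgroup.centralizer ({g} : Set G)).index : ℂ) * (χ : G → ℂ) g⁻¹ / d)
        = (χ : G → ℂ) g - (χ : G → ℂ) g⁻¹ := by
      field_simp
    rw [e] at h2
    have := MemLocalIdeal.neg h2
    simpa using this
  have h2mem : MemLocalIdeal M (2 : ℂ) := by
    have := (memLocalIdeal_natCast_iff hM 2).mpr (dvd_refl 2)
    simpa using this
  have s2 := sum_involution_mem hM (fun g : G => g⁻¹) (fun g => inv_inv g) f (by
    intro g _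
    rw [hf]; simp only
    by_cases hg : g ∈ Subgroup.centralizer ((Q : Subgroup G) : Set G)
    · rw [if_pos hg, if_pos (inv_mem hg), hF]
      simp only
      by_cases hgo : 2 ∣ orderOf g
      · have : regInd 2 G g = 0 := by unfold regInd; rw [if_pos hgo]
        have h' : regInd 2 G g⁻¹ = 0 := by unfold regInd; rw [orderOf_inv, if_pos hgo]
        rw [this, h']; simp; exact MemLocalIdeal.zero hM
      · have : regInd 2 G g = 1 := by unfold regInd; rw [if_neg hgo]
        have h' : regInd 2 G g⁻¹ = 1 := by unfold regInd; rw [orderOf_inv, if_neg hgo]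
        rw [this, h', one_mul, one_mul]
        have a1 := MemLocalIdeal.mul_right hM h2mem (hχR g)
        have := MemLocalIdeal.add hM a1 (hdiff g hg hgo)
        have e : (2 : ℂ) * (χ : G → ℂ) g + ((χ : G → ℂ) g⁻¹ - (χ : G → ℂ) g) = (χ : G → ℂ) g + (χ : G → ℂ) g⁻¹ := by ring
        rwa [e] at this
    · rw [if_neg hg, if_neg (fun h => hg (by simpa using inv_mem h))]
      simp; exact MemLocalIdeal.zero hM)
  have hfix : ∑ g : G, (if g⁻¹ = g then f g else 0) = d := by
    rw [Finset.sum_eq_single 1]
    · rw [if_pos inv_one, hf]; simp only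
      rw [if_pos (one_mem _), hF]; simp only
      rw [hd1]
      unfold regInd
      rw [orderOf_one, if_neg (by norm_num), one_mul]
    · intro g _ hg
      split_ifs with h
      · rw [hf]; simp only
        split_ifs
        · rw [hF]; simp only
          have hsq : g ^ 2 = 1 := by
            rw [sq]
            calc g * g = g⁻¹ * g := by rw [h]
              _ = 1 := inv_mul_cancel g
          have : orderOf g = 2 := orderOf_eq_prime hsq hg
          unfold regInd
          rw [if_pos (by rw [this]), zero_mul]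
        · rfl
      · rfl
    · intro h; exact absurd (Finset.mem_univ _) h
  rw [hfix] at s2
  intro hmem
  have hsum : ∑ g, F g = ∑ g, (if g ∈ Subgroup.centralizer ((Q : Subgroup G) : Set G) then 0 else F g) + ∑ g, f g := by
    rw [← Finset.sum_add_distrib]
    apply Finset.sum_congr rfl; intro g _
    rw [hf]; simp only
    split_ifs <;> simp
  have hspec : ∑ g, F g = d * spec (regInd 2 G) χ := by
    unfold spec
    rw [hd1]; field_simp
    rfl
  have h3 : MemLocalIdeal M (∑ g, F g) := by
    rw [hspec]; exact MemLocalIdeal.mul_left hM (MemLocalRing.natCast hM d) hmem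
  have h4 : MemLocalIdeal M (d : ℂ) := by
    have := MemLocalIdeal.sub hM (MemLocalIdeal.sub hM h3 s1) s2
    rw [hsum] at this
    have e : (∑ g, (if g ∈ Subgroup.centralizer ((Q : Subgroup G) : Set G) then 0 else F g) + ∑ g, f g
        - ∑ g, (if g ∈ Subgroup.centralizer ((Q : Subgroup G) : Set G) then 0 else F g)) - (∑ g, f g - d) = d := by ring
    rwa [e] at this
  exact hodd ((memLocalIdeal_natCast_iff hM d).mp h4)

theorem exists_odd_degree_of_full_defect [Finite G] (hM : IsPModular p M) (B : Set (IrrCharacter G))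
    (hB : IsPBlock M B) (hdef : blockDefect p B = (Nat.card G).factorization p) :
    ∃ χ ∈ B, ¬ p ∣ charDegree (χ : G → ℂ) := by
  obtain ⟨χ, hχ, h0⟩ := exists_height_zero (p := p) hM B hB
  refine ⟨χ, hχ, ?_⟩
  unfold blockHeight at h0
  unfold blockDefect at hdef
  obtain ⟨n, hn0, hn1, hn2⟩ := IsIrrCharacter.exists_degree χ.2
  have h2 : (charDegree (χ : G → ℂ)).factorization p ≤ (Nat.card G).factorization p := by
    rw [charDegree_eq hn2]
    exact (Nat.factorization_le_iff_dvd hn0.ne' Nat.card_pos.ne').mpr hn1 p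
  have h1 : sInf ((fun χ : IrrCharacter G => (charDegree (χ : G → ℂ)).factorization p) '' B)
      ≤ (charDegree (χ : G → ℂ)).factorization p := Nat.sInf_le ⟨χ, hχ, rfl⟩
  have h3 : (charDegree (χ : G → ℂ)).factorization p = 0 := by omega
  intro hd
  rw [charDegree_eq hn2] at h3 hd
  have := (hM.1.dvd_iff_one_le_factorization hn0.ne').mp hd
  omega

end RealBlk
end Cfsg.Agent.H4
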