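import Cfsg.Agent.Lib_helper4_BlkQ

set_option autoImplicit false
set_option linter.style.haveILetI false
set_option linter.unusedSectionVars false
namespace Cfsg.Agent.H4
open Module
open scoped ComplexConjugate
universe u v w

section BrIdem
variable {p : ℕ} {M : Ideal AlgInt} {G : Type u} [Group G]

/-- an idempotent mod `P` all of whose central character values lie in `P` is zero mod `P` -/
theorem inP_of_idem_of_eval [Fintype G] [Fintype (IrrCharacter G)] (hM : IsPModular p M)
    {y : IrrCharacter G → ℂ} (hy : InZ M y) (hidem : InP M (y * y - y)) (h : ∀ χ, MemLocalIdeal M (y χ)) :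
    InP M y := by
  intro c
  by_contra hc
  obtain ⟨χ, hχ⟩ := exists_eval_not_mem_of_idem hM hy hidem c hc
  exact hχ (h χ)

/-- The Brauer map sends the idempotent of `B` to the sum of the idempotents of the blocks inducing `B`. -/
theorem inP_Br_indicator_sub [Fintype G] [Fintype (IrrCharacter G)] (hM : IsPModular p M)
    (P H : Subgroup G) [Fintype H] [Fintype (IrrCharacter H)] (hP : IsPGroup p P) (hPH : P ≤ H)
    (hCH : Subgroup.centralizer (P : Set G) ≤ H) (hHN : H ≤ Subgroup.normalizer (P : Set G))
    (B : Set (IrrCharacter G)) (hB : IsPBlock M B) (𝔟 : Set (IrrCharacter H))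
    (h𝔟 : ∀ ξ, ξ ∈ 𝔟 ↔ IsInducedBlock M H (blockOf M (ξ : H → ℂ)) B) :
    InP M (Br P H (B.indicator 1) - 𝔟.indicator 1) := by
  classical
  obtain ⟨χ0, rfl⟩ := hB
  set e : IrrCharacter G → ℂ := Set.indicator (blockOf M (χ0 : G → ℂ)) 1 with he
  have heZ : InZ M e := inZ_indicator_block hM χ0
  set y := Br P H e with hy
  have hyZ : InZ M y := inZ_Br hM P H hHN heZ
  have hidem : InP M (y * y - y) := by
    have h1 := inP_Br_mul hM P H hP hCH hHN heZ heZ
    rw [he, indicator_mul_self, ← he, ← hy] at h1
    have := InP.sub hM (InP.zero hM) h1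
    rwa [zero_sub, neg_sub] at this
  have hcl : ∀ η ∈ 𝔟, blockOf M (η : H → ℂ) ⊆ 𝔟 := by
    intro η hη η' hη'
    have e := IsPBlock.eq_blockOf hM ⟨η, rfl⟩ hη'
    rw [h𝔟, ← e, ← h𝔟]; exact hη
  set f : IrrCharacter H → ℂ := 𝔟.indicator 1 with hf
  have hfZ : InZ M f := inZ_indicator_of_closed hM 𝔟 hcl
  have hff : f * f = f := indicator_mul_self _
  -- values of y
  have hval : ∀ ξ : IrrCharacter H, MemLocalIdeal M (y ξ - f ξ) := by
    intro ξ
    obtain ⟨χ, hχ, hχ'⟩ := exists_induced_block hM P H hP hPH hCH hHN ξ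
    have h1 := hχ' e heZ
    have h2 := lamInd_sub_Br_mem hM P H hP hPH hHN ξ heZ
    have h3 : MemLocalIdeal M (y ξ - e χ) := by
      have := MemLocalIdeal.sub hM h1 h2
      simpa using this
    have h4 : e χ = f ξ := by
      by_cases hξ : ξ ∈ 𝔟
      · have := sameBlock_of_induced hM _ _ _ _ hχ ((h𝔟 ξ).mp hξ)
        have hmem : χ ∈ blockOf M (χ0 : G → ℂ) := by rw [← this]; exact SameBlock.refl hM _
        rw [he, hf, Set.indicator_of_mem hmem, Set.indicator_of_mem hξ]; rfl
      · have hmem : χ ∉ blockOf M (χ0 : G → ℂ) := by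
          intro hm
          apply hξ
          rw [h𝔟, IsPBlock.eq_blockOf hM ⟨χ0, rfl⟩ hm]
          exact hχ
        rw [he, hf, Set.indicator_of_notMem hmem, Set.indicator_of_notMem hξ]
    rwa [h4] at h3
  have hone : InZ M (1 : IrrCharacter H → ℂ) := InZ.one hM
  -- t₁ = (1 - y) f
  have t1 : InP M ((1 - y) * f) := by
    apply inP_of_idem_of_eval hM (InZ.mul hM (InZ.sub hM hone hyZ) hfZ)
    · have e1 : (1 - y) * f * ((1 - y) * f) - (1 - y) * f = (y * y - y) * (f * f) + (1 - y) * (f * f - f) := by ring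
      rw [e1, hff, sub_self, mul_zero, add_zero]
      exact InP.mul_right hM hidem hfZ
    · intro ξ
      show MemLocalIdeal M ((1 - y ξ) * f ξ)
      by_cases hξ : ξ ∈ 𝔟
      · have h1 : f ξ = 1 := by rw [hf, Set.indicator_of_mem hξ]; rfl
        have := MemLocalIdeal.neg (hval ξ)
        rw [h1] at this ⊢
        simpa using this
      · have h1 : f ξ = 0 := by rw [hf, Set.indicator_of_notMem hξ]
        rw [h1, mul_zero]; exact MemLocalIdeal.zero hM
  have t2 : InP M (y * (1 - f)) := by
    apply inP_of_idem_of_eval hM (InZ.mul hM hyZ (InZ.sub hM hone hfZ))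
    · have e1 : y * (1 - f) * (y * (1 - f)) - y * (1 - f) = (y * y - y) * (1 - f) + y * y * (f * f - f) := by ring
      rw [e1, hff, sub_self, mul_zero, add_zero]
      exact InP.mul_right hM hidem (InZ.sub hM hone hfZ)
    · intro ξ
      show MemLocalIdeal M (y ξ * (1 - f ξ))
      by_cases hξ : ξ ∈ 𝔟
      · have h1 : f ξ = 1 := by rw [hf, Set.indicator_of_mem hξ]; rfl
        rw [h1, sub_self, mul_zero]; exact MemLocalIdeal.zero hM
      · have h1 : f ξ = 0 := by rw [hf, Set.indicator_of_notMem hξ]
        have := hval ξ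
        rw [h1] at this ⊢
        simpa using this
  have := InP.sub hM t2 t1
  have e2 : y * (1 - f) - (1 - y) * f = y - f := by ring
  rwa [e2] at this

theorem sum_mem_of_blockwise [Fintype G] [Fintype (IrrCharacter G)] (hM : IsPModular p M)
    (F : IrrCharacter G → ℂ)
    (h : ∀ η0 : IrrCharacter G, MemLocalIdeal M (∑ η, Set.indicator (blockOf M (η0 : G → ℂ)) (1 : IrrCharacter G → ℂ) η * F η)) :
    MemLocalIdeal M (∑ η, F η) := by
  classical
  rw [← Finset.sum_fiberwise_of_maps_to (s := Finset.univ)
    (t := Finset.univ.image (fun η : IrrCharacter G => blockOf M (η : G → ℂ)))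
    (g := fun η : IrrCharacter G => blockOf M (η : G → ℂ))
    (fun η _ => Finset.mem_image_of_mem _ (Finset.mem_univ η))]
  apply MemLocalIdeal.sum hM
  intro b hb
  obtain ⟨η0, _, rfl⟩ := Finset.mem_image.mp hb
  have e : ∑ η ∈ Finset.univ.filter (fun η : IrrCharacter G => blockOf M (η : G → ℂ) = blockOf M (η0 : G → ℂ)), F η
      = ∑ η, Set.indicator (blockOf M (η0 : G → ℂ)) (1 : IrrCharacter G → ℂ) η * F η := by
    rw [Finset.sum_filter]
    apply Finset.sum_congr rfl; intro η _
    by_cases hη : η ∈ blockOf M (η0 : G → ℂ)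
    · rw [Set.indicator_of_mem hη, if_pos (IsPBlock.eq_blockOf hM ⟨η0, rfl⟩ hη).symm]; simp
    · rw [Set.indicator_of_notMem hη, if_neg, zero_mul]
      intro h1
      apply hη
      rw [← h1]
      exact SameBlock.refl hM _
  rw [e]
  exact h η0

/-- major subsections: for `z` central in a defect group `D` of `B` some block of `C(z)` of defect at least `d(B)`
induces `B` -/
theorem exists_major_block [Finite G] [Fact p.Prime] (hM : IsPModular p M) (B : Set (IrrCharacter G))
    (hB : IsPBlock M B) (D : Subgroup G) (hD : IsDefectGroup p M B D) (z : G) (hzD : z ∈ D)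
    (hzc : ∀ w ∈ D, z * w = w * z) :
    ∃ b : Set (IrrCharacter (Subgroup.centralizer ({z} : Set G))),
      IsInducedBlock M (Subgroup.centralizer ({z} : Set G)) b B ∧ blockDefect p B ≤ blockDefect p b := by
  classical
  haveI := Fintype.ofFinite G
  haveI := Fintype.ofFinite (IrrCharacter G)
  haveI := Fintype.ofFinite (Subgroup.centralizer ({z} : Set G))
  haveI := Fintype.ofFinite (IrrCharacter (Subgroup.centralizer ({z} : Set G)))
  have hp : p.Prime := hM.1
  have hcardD := defect_group_card hM B hB D hD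
  have hDp : IsPGroup p D := IsPGroup.of_card hcardD
  obtain ⟨y, hy, S, hS⟩ := hD
  have hDy : D ≤ Subgroup.centralizer ({y} : Set G) := by
    rw [hS]; rintro _ ⟨s, _, rfl⟩; exact s.2
  have hDz : D ≤ Subgroup.centralizer ({z} : Set G) := by
    intro w hw
    rw [mem_centralizer_singleton_iff]; exact hzc w hw
  have hyz : y ∈ Subgroup.centralizer ({z} : Set G) := by
    rw [mem_centralizer_singleton_iff]
    have := hDy hzD
    rw [mem_centralizer_singleton_iff] at this
    exact this.symm
  have hzP : IsPGroup p (Subgroup.zpowers z) := by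
    have : Subgroup.zpowers z ≤ D := by rw [Subgroup.zpowers_le]; exact hzD
    exact hDp.to_le this
  have h1 : Subgroup.zpowers z ≤ Subgroup.centralizer ({z} : Set G) := by
    rw [Subgroup.zpowers_le, mem_centralizer_singleton_iff]
  have h2 : Subgroup.centralizer ((Subgroup.zpowers z : Subgroup G) : Set G) ≤ Subgroup.centralizer ({z} : Set G) := by
    intro c hc
    rw [mem_centralizer_singleton_iff]
    exact (Subgroup.mem_centralizer_iff.mp hc) z (Subgroup.mem_zpowers z)
  have h3 : Subgroup.centralizer ({z} : Set G) ≤ Subgroup.normalizer ((Subgroup.zpowers z : Subgroup G) : Set G) :=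
    (centralizer_singleton_le_centralizer_zpowers z).trans (Subgroup.centralizer_le_normalizer _)
  set 𝔟 : Set (IrrCharacter (Subgroup.centralizer ({z} : Set G))) :=
    {ξ | IsInducedBlock M (Subgroup.centralizer ({z} : Set G)) (blockOf M (ξ : Subgroup.centralizer ({z} : Set G) → ℂ)) B} with h𝔟
  have hBR := inP_Br_indicator_sub hM (Subgroup.zpowers z) (Subgroup.centralizer ({z} : Set G)) hzP h1 h2 h3 B hB 𝔟
    (fun ξ => Iff.rfl) ⟨y, hyz⟩
  rw [coef_sub, coef_Br _ _ h3] at hBR
  unfold brCoef at hBR
  rw [if_pos (centralizer_singleton_le_centralizer_zpowers z hyz), ← blockCoeff_eq_coef] at hBR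
  have hne : ¬ MemLocalIdeal M (coef (𝔟.indicator 1) (⟨y, hyz⟩ : Subgroup.centralizer ({z} : Set G))) := by
    intro h
    apply hy.2.1
    have := MemLocalIdeal.add hM hBR h
    simpa using this
  have hex : ∃ η0 : IrrCharacter (Subgroup.centralizer ({z} : Set G)), η0 ∈ 𝔟 ∧
      ¬ MemLocalIdeal M (coef ((blockOf M (η0 : Subgroup.centralizer ({z} : Set G) → ℂ)).indicator 1)
        (⟨y, hyz⟩ : Subgroup.centralizer ({z} : Set G))) := by
    by_contra hcon
    push Not at hcon
    apply hne
    unfold coef
    rw [Finset.mul_sum]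
    apply sum_mem_of_blockwise hM
    intro η0
    by_cases h0 : η0 ∈ 𝔟
    · have := hcon η0 h0
      unfold coef at this
      rw [Finset.mul_sum] at this
      convert this using 1
      apply Finset.sum_congr rfl; intro η _
      by_cases hη : η ∈ blockOf M (η0 : Subgroup.centralizer ({z} : Set G) → ℂ)
      · have hη' : η ∈ 𝔟 := by
          show IsInducedBlock M _ _ B
          rw [← IsPBlock.eq_blockOf hM ⟨η0, rfl⟩ hη]; exact h0
        rw [Set.indicator_of_mem hη, Set.indicator_of_mem hη']; simp
      · rw [Set.indicator_of_notMem hη]; simp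
    · have : ∑ η, Set.indicator (blockOf M (η0 : Subgroup.centralizer ({z} : Set G) → ℂ)) (1 : IrrCharacter (Subgroup.centralizer ({z} : Set G)) → ℂ) η *
          ((Nat.card (Subgroup.centralizer ({z} : Set G)) : ℂ)⁻¹ * ((η : Subgroup.centralizer ({z} : Set G) → ℂ) 1 * 𝔟.indicator 1 η *
            conj ((η : Subgroup.centralizer ({z} : Set G) → ℂ) ⟨y, hyz⟩))) = 0 := by
        apply Finset.sum_eq_zero; intro η _
        by_cases hη : η ∈ blockOf M (η0 : Subgroup.centralizer ({z} : Set G) → ℂ)
        · have hη' : η ∉ 𝔟 := by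
            intro hh
            apply h0
            show IsInducedBlock M _ _ B
            rw [IsPBlock.eq_blockOf hM ⟨η0, rfl⟩ hη]; exact hh
          rw [Set.indicator_of_notMem hη']; simp
        · rw [Set.indicator_of_notMem hη]; simp
      rw [this]; exact MemLocalIdeal.zero hM
  obtain ⟨η0, hη0, hη0c⟩ := hex
  refine ⟨_, hη0, ?_⟩
  have hb : IsPBlock M (blockOf M (η0 : Subgroup.centralizer ({z} : Set G) → ℂ)) := ⟨η0, rfl⟩
  obtain ⟨g, hg⟩ := exists_defect_class' hM _ hb
  rw [← blockCoeff_eq_coef] at hη0c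
  obtain ⟨x, Q, hQ⟩ := (min_max hM _ hb g hg default ⟨y, hyz⟩).1 (blockCoeff_memLocalRing hM _ hb _) hη0c
  have c1 : Nat.card ((Q : Subgroup (Subgroup.centralizer ({(⟨y, hyz⟩ : Subgroup.centralizer ({z} : Set G))} : Set _))).map
      (Subgroup.centralizer ({(⟨y, hyz⟩ : Subgroup.centralizer ({z} : Set G))} : Set _)).subtype)
      = p ^ (Nat.card (Subgroup.centralizer ({(⟨y, hyz⟩ : Subgroup.centralizer ({z} : Set G))} : Set _))).factorization p := by
    rw [← Sylow.card_eq_multiplicity Q]
    exact Nat.card_congr (Subgroup.equivMapOfInjective _ _ (Subgroup.subtype_injective _)).symm.toEquiv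
  have c2 := defect_group_card hM _ hb _ ⟨g, hg, default, rfl⟩
  have c3 := Subgroup.card_le_of_le hQ
  rw [c1] at c3
  have c4 : Nat.card (Subgroup.map (MulEquiv.toMonoidHom (MulAut.conj x))
      (Subgroup.map (Subgroup.centralizer {g}).subtype ((default : Sylow p (Subgroup.centralizer ({g} : Set (Subgroup.centralizer ({z} : Set G))))) : Subgroup _)))
      = p ^ blockDefect p (blockOf M (η0 : Subgroup.centralizer ({z} : Set G) → ℂ)) := by
    rw [← c2]
    exact Nat.card_congr (Subgroup.equivMapOfInjective _ _ (MulAut.conj x).injective).symm.toEquiv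
  rw [c4] at c3
  have c5 := (Nat.pow_le_pow_iff_right hp.one_lt).mp c3
  have c6 : p ^ blockDefect p B ∣ Nat.card (Subgroup.centralizer ({(⟨y, hyz⟩ : Subgroup.centralizer ({z} : Set G))} : Set _)) := by
    rw [card_centralizer_subgroup, ← hcardD]
    exact Subgroup.card_dvd_of_le (le_inf hDy hDz)
  have c7 := (hp.pow_dvd_iff_le_factorization Nat.card_pos.ne').mp c6
  omega

theorem induced_blockDefect_le [Finite G] [Fact p.Prime] (hM : IsPModular p M) (H : Subgroup G)
    (b : Set (IrrCharacter H)) (B : Set (IrrCharacter G)) (hind : IsInducedBlock M H b B) :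
    blockDefect p b ≤ blockDefect p B := by
  obtain ⟨D, hD⟩ := exists_defectGroup hM b hind.1
  obtain ⟨E, hE, hle⟩ := induced_defect_le hM H b B hind D hD
  have c1 := defect_group_card hM b hind.1 D hD
  have c2 := defect_group_card hM B hind.2.1 E hE
  have c3 := Subgroup.card_le_of_le hle
  have c4 : Nat.card (D.map H.subtype) = Nat.card D :=
    Nat.card_congr (Subgroup.equivMapOfInjective _ _ (Subgroup.subtype_injective _)).symm.toEquiv
  rw [c4, c1, c2] at c3
  exact (Nat.pow_le_pow_iff_right hM.1.one_lt).mp c3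

theorem deficiency_class [Finite G] [Fact p.Prime] (hM : IsPModular p M) (r : ℕ) :
    ((∀ B' : Set (IrrCharacter G), IsPBlock M B' → B' ≠ principalBlock M G → blockDefect p B' < r) →
      ∀ y : G, (∃ k : ℕ, orderOf y = p ^ k) →
        (∀ B' : Set (IrrCharacter ↥(Subgroup.centralizer ({y} : Set G))), IsPBlock M B' →
          B' ≠ principalBlock M ↥(Subgroup.centralizer ({y} : Set G)) → blockDefect p B' < r)) ∧
    (0 < r → (∀ y : G, orderOf y = p →
        (∀ B' : Set (IrrCharacter ↥(Subgroup.centralizer ({y} : Set G))), IsPBlock M B' →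
          B' ≠ principalBlock M ↥(Subgroup.centralizer ({y} : Set G)) → blockDefect p B' < r)) →
      (∀ B' : Set (IrrCharacter G), IsPBlock M B' → B' ≠ principalBlock M G → blockDefect p B' < r)) := by
  constructor
  · intro h y hy b hb hnp
    have hdef := induced_defined_centralizer hM y hy b hb
    obtain ⟨B, hB⟩ := hdef
    have h1 : B ≠ principalBlock M G := by
      rintro rfl
      exact hnp ((third_main hM _ b ⟨_, hB⟩).mp hB)
    exact lt_of_le_of_lt (induced_blockDefect_le hM _ b B hB) (h B hB.2.1 h1)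
  · intro hr h B hB hnp
    by_contra hcon
    push Not at hcon
    obtain ⟨D, hD⟩ := exists_defectGroup hM B hB
    have hcard := defect_group_card hM B hB D hD
    have hDp : IsPGroup p D := IsPGroup.of_card hcard
    have hne : D ≠ ⊥ := by
      rintro rfl
      have : 1 < p ^ blockDefect p B := Nat.one_lt_pow (by omega) hM.1.one_lt
      rw [← hcard] at this
      simp at this
    obtain ⟨z, hzD, hzc, hzo⟩ := exists_central_order_p D hDp hne
    obtain ⟨b, hb, hle⟩ := exists_major_block hM B hB D hD z hzD hzc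
    have h1 : b ≠ principalBlock M _ := by
      intro hb'
      apply hnp
      have := (third_main hM _ b ⟨_, hb⟩).mpr hb'
      exact sameBlock_of_induced hM _ _ _ _ hb this
    have := h z hzo b hb.1 h1
    omega

theorem principal_only_trivial_iff [Finite G] [Fact p.Prime] (hM : IsPModular p M) :
    (∀ χ : IrrCharacter G, χ ∈ principalBlock M G → ¬ p ∣ charDegree (χ : G → ℂ) →
      (χ : G → ℂ) = fun _ => (1 : ℂ)) ↔ ¬ p ∣ Nat.card G := by
  classical
  haveI := Fintype.ofFinite G
  haveI := Fintype.ofFinite (IrrCharacter G)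
  have hp : p.Prime := hM.1
  constructor
  · intro h hdvd
    obtain ⟨x, hx⟩ := exists_prime_orderOf_dvd_card' p hdvd
    have h0 := blockCoeff_vanish hM (principalBlock M G) ⟨trivIrr G, rfl⟩ x (by rw [hx])
    rw [blockCoeff_eq_coef] at h0
    unfold coef at h0
    have hG : (Nat.card G : ℂ)⁻¹ ≠ 0 := inv_ne_zero card_ne_zero_C
    have h1 := (mul_eq_zero.mp h0).resolve_left hG
    rw [← Finset.add_sum_erase _ _ (Finset.mem_univ (trivIrr G))] at h1
    have ht : (trivIrr G : G → ℂ) 1 * (principalBlock M G).indicator 1 (trivIrr G) * conj ((trivIrr G : G → ℂ) x) = 1 := by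
      rw [Set.indicator_of_mem (show trivIrr G ∈ principalBlock M G from SameBlock.refl hM _)]
      show (1 : ℂ) * 1 * conj (1 : ℂ) = 1
      simp
    rw [ht] at h1
    apply not_memLocalIdeal_one hM
    have h2 : MemLocalIdeal M (∑ χ ∈ Finset.univ.erase (trivIrr G), (χ : G → ℂ) 1 * (principalBlock M G).indicator 1 χ * conj ((χ : G → ℂ) x)) := by
      apply MemLocalIdeal.sum hM
      intro χ hχ
      have hne : χ ≠ trivIrr G := (Finset.mem_erase.mp hχ).1
      by_cases hmem : χ ∈ principalBlock M G
      · have hd : p ∣ charDegree (χ : G → ℂ) := by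
          by_contra hnd
          apply hne
          apply Subtype.ext
          exact h χ hmem hnd
        obtain ⟨d, _, hd1, hd2⟩ := IrrCharacter.exists_degree χ
        rw [hd2] at hd
        rw [hd1, mul_assoc]
        apply MemLocalIdeal.mul_right hM ((memLocalIdeal_natCast_iff hM d).mpr hd)
        rw [Set.indicator_of_mem hmem]
        apply MemLocalRing.mul hM (MemLocalRing.one hM)
        rw [← IsCharacter.inv_eq_conj (IsIrrCharacter.isCharacter χ.2)]
        exact memLocalRing_of_isIntegral hM (IsCharacter.isIntegral (IsIrrCharacter.isCharacter χ.2) _)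
      · rw [Set.indicator_of_notMem hmem]; simp; exact MemLocalIdeal.zero hM
    have h3 : (1 : ℂ) = - ∑ χ ∈ Finset.univ.erase (trivIrr G), (χ : G → ℂ) 1 * (principalBlock M G).indicator 1 χ * conj ((χ : G → ℂ) x) := by
      linear_combination h1
    rw [h3]; exact MemLocalIdeal.neg h2
  · intro hnd χ hχ _
    have h1 := blockOf_singleton_of_p' hM hnd (trivIrr G)
    have : χ ∈ ({trivIrr G} : Set (IrrCharacter G)) := by rw [← h1]; exact hχ
    rw [Set.mem_singleton_iff] at this
    rw [this]; rfl

end BrIdem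
end Cfsg.Agent.H4
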