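import Cfsg.Agent.Lib_helper4_BlkR

set_option autoImplicit false
set_option linter.style.haveILetI false
set_option linter.unusedSectionVars false
namespace Cfsg.Agent.H4
open Module
open scoped ComplexConjugate
universe u v w

section Kuls
variable {p : ℕ} {M : Ideal AlgInt} {G : Type u} [Group G]

theorem MemLocalIdeal.of_pow (hM : IsPModular p M) {x : ℂ} (hx : MemLocalRing M x) (n : ℕ)
    (h : MemLocalIdeal M (x ^ n)) : MemLocalIdeal M x := by
  induction n with
  | zero => rw [pow_zero] at h; exact absurd h (not_memLocalIdeal_one hM)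
  | succ n ih =>
    rw [pow_succ] at h
    rcases MemLocalIdeal.of_mul hM (MemLocalRing.pow hM hx n) hx h with h1 | h1
    · exact ih h1
    · exact h1

theorem pow_sub_pow_mem (hM : IsPModular p M) {x y : ℂ} (hx : MemLocalRing M x) (hy : MemLocalRing M y)
    (h : MemLocalIdeal M (x - y)) (n : ℕ) : MemLocalIdeal M (x ^ n - y ^ n) := by
  rw [← (Commute.all x y).mul_geom_sum₂ n]
  apply MemLocalIdeal.mul_right hM h
  apply MemLocalRing.sum hM
  intro i _
  exact MemLocalRing.mul hM (MemLocalRing.pow hM hx _) (MemLocalRing.pow hM hy _)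

theorem natCast_pow_sub_mem (hM : IsPModular p M) (a n : ℕ) :
    MemLocalIdeal M ((a : ℂ) ^ (p ^ n) - a) := by
  haveI : Fact p.Prime := ⟨hM.1⟩
  have h1 : ((a : ZMod p)) ^ (p ^ n) = a := ZMod.pow_card_pow _
  have h2 : (p : ℤ) ∣ ((a : ℤ) ^ (p ^ n) - a) := by
    rw [← ZMod.intCast_zmod_eq_zero_iff_dvd]
    push_cast
    rw [h1, sub_self]
  have := (memLocalIdeal_intCast_iff hM _).mpr h2
  push_cast at this
  exact this

theorem sum_pw [Fintype G] [DecidableEq G] (f : G → ℂ) (n : ℕ) : ∑ x, pw f n x = (∑ g, f g) ^ n := by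
  induction n with
  | zero => simp [pw]
  | succ n ih =>
    simp only [pw]
    rw [Finset.sum_comm, pow_succ', Finset.sum_mul]
    apply Finset.sum_congr rfl; intro g _
    rw [← Finset.mul_sum]
    congr 1
    rw [← ih]
    exact Equiv.sum_comp (Equiv.mulLeft g⁻¹) (pw f n)

theorem sum_pow_congr [Fintype G] [DecidableEq G] (hM : IsPModular p M) (f : G → ℂ)
    (hfR : ∀ g, MemLocalRing M (f g)) (n : ℕ) :
    MemLocalIdeal M ((∑ g, f g) ^ (p ^ n) - ∑ g, f g ^ (p ^ n)) := by
  have := trace_pow_congr hM f hfR (fun _ => True) (fun _ _ => Iff.rfl) n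
  simp only [if_true] at this
  rwa [sum_pw] at this

/-- indicator of the `p`-elements -/
noncomputable def pInd (p : ℕ) (G : Type u) [Group G] : G → ℂ := by
  classical exact fun g => if ∃ k : ℕ, orderOf g = p ^ k then 1 else 0

theorem pInd_mem (hM : IsPModular p M) (g : G) : MemLocalRing M (pInd p G g) := by
  unfold pInd
  split_ifs
  · exact MemLocalRing.one hM
  · exact MemLocalRing.zero hM

theorem pow_eq_one_iff_pElement [Finite G] (hp : p.Prime) (n : ℕ) (hn : (Nat.card G).factorization p ≤ n) (g : G) :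
    g ^ (p ^ n) = 1 ↔ ∃ k : ℕ, orderOf g = p ^ k := by
  constructor
  · intro h
    obtain ⟨j, _, hj⟩ := (Nat.dvd_prime_pow hp).mp (orderOf_dvd_of_pow_eq_one h)
    exact ⟨j, hj⟩
  · rintro ⟨k, hk⟩
    have h1 : p ^ k ∣ Nat.card G := hk ▸ orderOf_dvd_natCard g
    have h2 := (hp.pow_dvd_iff_le_factorization Nat.card_pos.ne').mp h1
    apply orderOf_dvd_iff_pow_eq_one.mp
    rw [hk]
    exact pow_dvd_pow p (h2.trans hn)

/-- the `q`-th power of the sum of the coefficients over the `p`-elements is the coefficient of `1` in the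
`q`-th power -/
theorem trace_pElements [Fintype G] [DecidableEq G] (hM : IsPModular p M) (f : G → ℂ)
    (hfR : ∀ g, MemLocalRing M (f g)) (n : ℕ) (hn : (Nat.card G).factorization p ≤ n) :
    MemLocalIdeal M ((∑ h, pInd p G h * f h) ^ (p ^ n) - pw f (p ^ n) 1) := by
  have h1 := trace_pow_congr hM f hfR (fun x => x = 1) (by
    intro g h
    constructor
    · intro e
      have : g = h⁻¹ * (h * g * h⁻¹) * h := by group
      rw [this, e]; group
    · intro e
      rw [e]; group) n
  have e1 : (∑ x : G, if x = 1 then pw f (p ^ n) x else 0) = pw f (p ^ n) 1 := by simp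
  rw [e1] at h1
  have h2 := sum_pow_congr hM (fun h => pInd p G h * f h)
    (fun h => MemLocalRing.mul hM (pInd_mem hM h) (hfR h)) n
  have e2 : ∑ g, (pInd p G g * f g) ^ (p ^ n) = ∑ g : G, if g ^ (p ^ n) = 1 then f g ^ (p ^ n) else 0 := by
    apply Finset.sum_congr rfl; intro g _
    unfold pInd
    by_cases hg : ∃ k : ℕ, orderOf g = p ^ k
    · rw [if_pos hg, if_pos ((pow_eq_one_iff_pElement hM.1 n hn g).mpr hg), one_mul]
    · rw [if_neg hg, if_neg (fun h => hg ((pow_eq_one_iff_pElement hM.1 n hn g).mp h)), zero_mul,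
        zero_pow (pow_pos hM.1.pos n).ne']
  rw [e2] at h2
  have := MemLocalIdeal.sub hM h2 h1
  simpa using this

theorem pw_translate [Fintype G] [Fintype (IrrCharacter G)] [DecidableEq G] (v : IrrCharacter G → ℂ) (g : G)
    (n : ℕ) (x : G) : pw (fun h => coef v (h * g)) n x = coef (v ^ n) (x * g ^ n) := by
  induction n generalizing x with
  | zero =>
    rw [pow_zero, pow_zero, mul_one, coef_one]; rfl
  | succ n ih =>
    simp only [pw]
    have e : coef (v * v ^ n) (x * g ^ (n + 1)) =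
        ∑ h, coef v (h * g) * coef (v ^ n) ((h * g)⁻¹ * (x * g ^ (n + 1))) := by
      rw [coef_mul]
      exact (Equiv.sum_comp (Equiv.mulRight g) (fun k => coef v k * coef (v ^ n) (k⁻¹ * (x * g ^ (n + 1))))).symm
    rw [pow_succ', e]
    apply Finset.sum_congr rfl; intro h _
    rw [ih]
    congr 1
    have := coef_isClassFunction (v ^ n) (h⁻¹ * x * g ^ n) g⁻¹
    rw [← this]
    congr 1
    rw [pow_succ]
    group

theorem card_reg_eq_sum [Fintype G] : (Nat.card {y : G // ¬ p ∣ orderOf y} : ℂ) = ∑ g, regInd p G g := by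
  classical
  rw [Nat.card_eq_fintype_card, Fintype.card_subtype, Finset.card_filter]
  push_cast
  apply Finset.sum_congr rfl; intro g _
  unfold regInd
  by_cases h : p ∣ orderOf g
  · rw [if_pos h, if_neg (not_not.mpr h)]
  · rw [if_neg h, if_pos h]

theorem card_pairs_eq_sum [Fintype G] (g : G) :
    (Nat.card {xy : G × G // (∃ k : ℕ, orderOf xy.1 = p ^ k) ∧ ¬ p ∣ orderOf xy.2 ∧ xy.1 * xy.2 = g} : ℂ)
      = ∑ h, pInd p G h * regInd p G (h * g) := by
  classical
  have e : {xy : G × G // (∃ k : ℕ, orderOf xy.1 = p ^ k) ∧ ¬ p ∣ orderOf xy.2 ∧ xy.1 * xy.2 = g} ≃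
      {h : G // (∃ k : ℕ, orderOf h = p ^ k) ∧ ¬ p ∣ orderOf (h * g)} :=
    { toFun := fun a => ⟨a.1.1⁻¹, by
        obtain ⟨⟨x, y⟩, h1, h2, h3⟩ := a
        refine ⟨by simpa using h1, ?_⟩
        have : x⁻¹ * g = y := by rw [← h3]; group
        simpa [this] using h2⟩
      invFun := fun h => ⟨(h.1⁻¹, h.1 * g), by simpa using h.2.1, h.2.2, by simp⟩
      left_inv := by
        rintro ⟨⟨x, y⟩, h1, h2, h3⟩
        apply Subtype.ext
        simp only [inv_inv, Prod.mk.injEq, true_and]
        rw [← h3]; group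
      right_inv := by
        rintro ⟨h, h1, h2⟩
        simp }
  rw [Nat.card_congr e, Nat.card_eq_fintype_card, Fintype.card_subtype, Finset.card_filter]
  push_cast
  apply Finset.sum_congr rfl; intro h _
  unfold pInd regInd
  by_cases h1 : ∃ k : ℕ, orderOf h = p ^ k
  · by_cases h2 : p ∣ orderOf (h * g)
    · rw [if_pos h1, if_pos h2, if_neg (fun hh => hh.2 h2)]; simp
    · rw [if_pos h1, if_neg h2, if_pos ⟨h1, h2⟩]; simp
  · rw [if_neg h1, if_neg (fun hh => h1 hh.1)]; simp

theorem kulshammer [Finite G] [Fact p.Prime] (hM : IsPModular p M) (g : G) (hg : ¬ p ∣ orderOf g) :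
    MemLocalIdeal M (blockCoeff (principalBlock M G) g -
      (Nat.card {xy : G × G // (∃ k : ℕ, orderOf xy.1 = p ^ k) ∧ ¬ p ∣ orderOf xy.2 ∧ xy.1 * xy.2 = g} : ℂ) /
        (Nat.card {y : G // ¬ p ∣ orderOf y} : ℂ)) := by
  classical
  haveI := Fintype.ofFinite G
  haveI := Fintype.ofFinite (IrrCharacter G)
  have hp : p.Prime := hM.1
  set Nn := Nat.card {xy : G × G // (∃ k : ℕ, orderOf xy.1 = p ^ k) ∧ ¬ p ∣ orderOf xy.2 ∧ xy.1 * xy.2 = g} with hNn
  set m := Nat.card {y : G // ¬ p ∣ orderOf y} with hm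
  have hmsum : (m : ℂ) = ∑ g, regInd p G g := card_reg_eq_sum
  have hNsum : (Nn : ℂ) = ∑ h, pInd p G h * regInd p G (h * g) := card_pairs_eq_sum g
  have hmP : ¬ MemLocalIdeal M (m : ℂ) := by rw [hmsum]; exact sum_regInd_not_mem hM
  set E : IrrCharacter G → ℂ := (principalBlock M G).indicator 1 with hE
  set W : IrrCharacter G → ℂ := spec (regInd p G) with hW
  have hEZ : InZ M E := inZ_indicator_block hM (trivIrr G)
  have hWZ : InZ M W := inZ_spec_regInd hM
  have hEE : E * E = E := indicator_mul_self _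
  set Z : IrrCharacter G → ℂ := W - (m : ℂ) • E with hZ
  have hZZ : InZ M Z := InZ.sub hM hWZ (InZ.smul hM (MemLocalRing.natCast hM m) hEZ)
  have hZval : ∀ χ, MemLocalIdeal M (Z χ) := by
    intro χ
    show MemLocalIdeal M (W χ - (m : ℂ) * E χ)
    by_cases h : SameBlock M (trivIrr G : G → ℂ) (χ : G → ℂ)
    · have h1 := InZ.congr hM hWZ (SameBlock.symm h)
      rw [hW, spec_regInd_triv, ← hmsum, ← hW] at h1
      rw [hE, Set.indicator_of_mem (show χ ∈ principalBlock M G from h)]
      simpa using h1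
    · rw [hE, Set.indicator_of_notMem (show χ ∉ principalBlock M G from h), hW,
        spec_regInd_eq_zero hM χ (fun h' => h (SameBlock.symm h'))]
      simp; exact MemLocalIdeal.zero hM
  set k := Fintype.card (IrrCharacter G) with hk
  set ν := (Nat.card G).factorization p with hν
  set t := Nat.totient (orderOf g) with ht
  have htpos : 0 < t := Nat.totient_pos.mpr (orderOf_pos g)
  set n := t * (ν + k) with hn
  have hn0 : ν + k ≤ n := Nat.le_mul_of_pos_left _ htpos
  have hn1 : ν ≤ n := by omega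
  have hn2 : k ≤ p ^ n := by
    have := (Nat.lt_pow_self hp.one_lt (n := n)).le
    omega
  have hn3 : g ^ (p ^ n) = g := by
    have hcop : Nat.Coprime p (orderOf g) := (Nat.Prime.coprime_iff_not_dvd hp).mpr hg
    have h1 : p ^ t ≡ 1 [MOD orderOf g] := Nat.ModEq.pow_totient hcop
    have h2 : p ^ n ≡ 1 [MOD orderOf g] := by
      rw [hn, pow_mul]
      simpa using h1.pow (ν + k)
    have := pow_eq_pow_iff_modEq.mpr h2
    rwa [pow_one] at this
  set q := p ^ n with hq
  have hqpos : 0 < q := pow_pos hp.pos n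
  have hZq : InP M (Z ^ q) := by
    have h1 := InP.pow_of_eval hM hZZ hZval
    have : Z ^ q = Z ^ k * Z ^ (q - k) := by rw [← pow_add]; congr 1; omega
    rw [this]
    exact InP.mul_right hM h1 (InZ.pow hM hZZ _)
  have hEq : E ^ q = E := by
    have hall : ∀ j : ℕ, E ^ (j + 1) = E := by
      intro j
      induction j with
      | zero => simp
      | succ j ih => rw [pow_succ, ih, hEE]
    obtain ⟨q', hq'⟩ : ∃ q', q = q' + 1 := ⟨q - 1, by omega⟩
    rw [hq']; exact hall q'
  set φ : (IrrCharacter G → ℂ) → ℂ := fun v => ∑ h, pInd p G h * coef v (h * g) with hφ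
  have hφR : ∀ v, InZ M v → MemLocalRing M (φ v) := by
    intro v hv
    apply MemLocalRing.sum hM
    intro h _
    exact MemLocalRing.mul hM (pInd_mem hM h) (hv _)
  have hφtr : ∀ v, InZ M v → MemLocalIdeal M (φ v ^ q - coef (v ^ q) g) := by
    intro v hv
    have := trace_pElements hM (fun h => coef v (h * g)) (fun h => hv _) n hn1
    rw [pw_translate, one_mul, hn3] at this
    exact this
  have hφZ : MemLocalIdeal M (φ Z) := by
    apply MemLocalIdeal.of_pow hM (hφR Z hZZ) q
    have := MemLocalIdeal.add hM (hφtr Z hZZ) (hZq g)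
    simpa using this
  have hφE := hφtr E hEZ
  rw [hEq] at hφE
  have hlin : φ W = φ Z + (m : ℂ) * φ E := by
    rw [hφ]
    simp only
    rw [Finset.mul_sum, ← Finset.sum_add_distrib]
    apply Finset.sum_congr rfl; intro h _
    rw [hZ, coef_sub, coef_smul]; ring
  have hφW : φ W = Nn := by
    rw [hNsum, hφ]
    simp only
    rw [hW, coef_spec _ regInd_isClassFunction]
  have hm0 : (m : ℂ) ≠ 0 := by
    intro h; apply hmP; rw [h]; exact MemLocalIdeal.zero hM
  have hminv : MemLocalRing M (m : ℂ)⁻¹ := MemLocalRing.inv (MemLocalRing.natCast hM m) hmP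
  set r : ℂ := (Nn : ℂ) / m with hr
  have hrR : MemLocalRing M r := by
    rw [hr, div_eq_mul_inv]; exact MemLocalRing.mul hM (MemLocalRing.natCast hM _) hminv
  have h1 : MemLocalIdeal M (φ E - r) := by
    have e : φ E - r = - ((m : ℂ)⁻¹ * φ Z) := by
      rw [hr, ← hφW, hlin]; field_simp; ring
    rw [e]
    exact MemLocalIdeal.neg (MemLocalIdeal.mul_left hM hminv hφZ)
  have h2 := pow_sub_pow_mem hM (hφR E hEZ) hrR h1 q
  have h3 : MemLocalIdeal M (r ^ q - r) := by
    have a1 := natCast_pow_sub_mem hM Nn n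
    have a2 := natCast_pow_sub_mem hM m n
    rw [← hq] at a1 a2
    have e : r ^ q - r = ((m : ℂ)⁻¹ ^ (q + 1)) * (((Nn : ℂ) ^ q - Nn) * m - Nn * ((m : ℂ) ^ q - m)) := by
      have hmq : (m : ℂ) ^ q ≠ 0 := pow_ne_zero _ hm0
      rw [hr, div_pow, pow_succ, inv_pow]
      field_simp
      ring
    rw [e]
    apply MemLocalIdeal.mul_left hM (MemLocalRing.pow hM hminv _)
    exact MemLocalIdeal.sub hM (MemLocalIdeal.mul_right hM a1 (MemLocalRing.natCast hM m))
      (MemLocalIdeal.mul_left hM (MemLocalRing.natCast hM Nn) a2)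
  rw [blockCoeff_eq_coef]
  have := MemLocalIdeal.sub hM (MemLocalIdeal.add hM h2 h3) hφE
  have e : φ E ^ q - r ^ q + (r ^ q - r) - (φ E ^ q - coef E g) = coef E g - r := by ring
  rwa [e] at this

end Kuls
end Cfsg.Agent.H4
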