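import Cfsg.Agent.Lib_helper4_BlkS

set_option autoImplicit false
set_option linter.style.haveILetI false
set_option linter.unusedSectionVars false
namespace Cfsg.Agent.H4
open Module
open scoped ComplexConjugate
universe u v w

section CenterDef
variable {p : ℕ} {M : Ideal AlgInt} {G : Type u} [Group G]

theorem irr_vanish_of_full_val [Finite G] (hp : p.Prime) (χ : IrrCharacter G)
    (h : (Nat.card G).factorization p ≤ (charDegree (χ : G → ℂ)).factorization p) (x : G)
    (hx : p ∣ orderOf x) : (χ : G → ℂ) x = 0 := by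
  haveI := Fintype.ofFinite G
  haveI := Fintype.ofFinite (IrrCharacter G)
  obtain ⟨M, hM⟩ := exists_pModular hp
  obtain ⟨n, hn0, hn1, hn2⟩ := IsIrrCharacter.exists_degree χ.2
  rw [charDegree_eq hn2] at h
  have h1 : ¬ p ∣ Nat.card G / charDegree (χ : G → ℂ) := by
    rw [charDegree_eq hn2]
    intro hd
    obtain ⟨c, hc⟩ := hn1
    have hc0 : c ≠ 0 := by rintro rfl; simp at hc
    rw [hc, Nat.mul_div_cancel_left _ hn0] at hd
    have h2 : (Nat.card G).factorization p = n.factorization p + c.factorization p := by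
      rw [hc, Nat.factorization_mul hn0.ne' hc0]; rfl
    have h3 := (hp.dvd_iff_one_le_factorization hc0).mp hd
    omega
  have h2 := (defect_zero_iff_singleton hM χ).mp h1
  have h3 := inZ_indicator_block hM χ
  rw [h2] at h3
  exact vanish_of_inZ_singleton hM χ h3 x hx

theorem sInf_ge_of_defect (B : Set (IrrCharacter G)) :
    (Nat.card G).factorization p - blockDefect p B ≤
      sInf ((fun χ : IrrCharacter G => (charDegree (χ : G → ℂ)).factorization p) '' B) := by
  unfold blockDefect
  omega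

theorem central_char_nonzero_class [Finite G] [Fact p.Prime] (hM : IsPModular p M) (B : Set (IrrCharacter G))
    (hB : IsPBlock M B) (P : Subgroup G) (hP : IsDefectGroup p M B P) (g : G)
    (hg : ∃ χ ∈ B, ¬ MemLocalIdeal M (centralChar (χ : G → ℂ) g)) :
    ∃ x : G, IsConj g x ∧ x ∈ Subgroup.centralizer (P : Set G) ∧
      ∀ z : G, IsPPart p x z → z ∈ P ∧ ∀ w ∈ P, z * w = w * z := by
  classical
  have hp : p.Prime := hM.1
  have hcardP := defect_group_card hM B hB P hP
  have hPp : IsPGroup p P := IsPGroup.of_card hcardP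
  obtain ⟨b, hb, hbD, hind⟩ := fmt_B_exists hM P hPp B hB hP
  haveI hNn : (P.subgroupOf (Subgroup.normalizer (P : Set G))).Normal := Subgroup.normal_in_normalizer
  have hNp : IsPGroup p (P.subgroupOf (Subgroup.normalizer (P : Set G))) := hPp.comap_subtype
  obtain ⟨ξ0, rfl⟩ := hb
  obtain ⟨ψ, hψ⟩ := exists_infl_mem_block hM (P.subgroupOf (Subgroup.normalizer (P : Set G))) hNp ξ0
  obtain ⟨χ, hχ, hχg⟩ := hg
  have h1 := (induced_iff_brauer hM P _ hPp Subgroup.le_normalizer le_rfl _ ⟨ξ0, rfl⟩ B hB).mp hind _ hψ χ hχ g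
  have h2 : brauerCentralChar P (Subgroup.normalizer (P : Set G))
      (infl (P.subgroupOf (Subgroup.normalizer (P : Set G))) ψ : Subgroup.normalizer (P : Set G) → ℂ) g ≠ 0 := by
    intro h0
    rw [h0, zero_sub] at h1
    apply hχg
    have := MemLocalIdeal.neg h1
    simpa using this
  unfold brauerCentralChar at h2
  obtain ⟨h, ⟨hgh, hhC⟩, hne⟩ := exists_ne_zero_of_finsum_mem_ne_zero h2
  have hξh : ψ.1 (h : Subgroup.normalizer (P : Set G) ⧸ P.subgroupOf (Subgroup.normalizer (P : Set G))) ≠ 0 := by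
    intro h0
    apply hne
    show ψ.1 (h : Subgroup.normalizer (P : Set G) ⧸ P.subgroupOf (Subgroup.normalizer (P : Set G))) / _ = 0
    rw [h0, zero_div]
  -- ψ has defect zero
  have hval : (Nat.card (Subgroup.normalizer (P : Set G) ⧸ P.subgroupOf (Subgroup.normalizer (P : Set G)))).factorization p
      ≤ (charDegree ψ.1).factorization p := by
    have c1 := defect_group_card hM _ ⟨ξ0, rfl⟩ _ hbD
    have c2 := sInf_ge_of_defect (p := p) (blockOf M (ξ0 : Subgroup.normalizer (P : Set G) → ℂ))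
    have c3 : sInf ((fun χ : IrrCharacter (Subgroup.normalizer (P : Set G)) => (charDegree χ.1).factorization p) ''
        (blockOf M (ξ0 : Subgroup.normalizer (P : Set G) → ℂ))) ≤
        (charDegree (infl (P.subgroupOf (Subgroup.normalizer (P : Set G))) ψ : Subgroup.normalizer (P : Set G) → ℂ)).factorization p :=
      Nat.sInf_le ⟨_, hψ, rfl⟩
    have c4 : charDegree (infl (P.subgroupOf (Subgroup.normalizer (P : Set G))) ψ : Subgroup.normalizer (P : Set G) → ℂ)
        = charDegree ψ.1 := rfl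
    have c5 : (Nat.card (Subgroup.normalizer (P : Set G))).factorization p =
        (Nat.card (Subgroup.normalizer (P : Set G) ⧸ P.subgroupOf (Subgroup.normalizer (P : Set G)))).factorization p +
        blockDefect p (blockOf M (ξ0 : Subgroup.normalizer (P : Set G) → ℂ)) := by
      rw [Subgroup.card_eq_card_quotient_mul_card_subgroup (P.subgroupOf (Subgroup.normalizer (P : Set G))),
        Nat.factorization_mul Nat.card_pos.ne' Nat.card_pos.ne', c1, Finsupp.add_apply,
        Nat.factorization_pow, Finsupp.smul_apply, hp.factorization_self]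
      simp
    rw [c4] at c3
    omega
  have hreg : ¬ p ∣ orderOf (h : Subgroup.normalizer (P : Set G) ⧸ P.subgroupOf (Subgroup.normalizer (P : Set G))) :=
    fun hd => hξh (irr_vanish_of_full_val hp ψ hval _ hd)
  refine ⟨h, hgh, hhC, ?_⟩
  intro z hz
  obtain ⟨i, j, hij, hk, hj⟩ := exists_pPart hp (h : G)
  have hz' : IsPPart p (h : G) ((h : G) ^ i) := ⟨(h : G) ^ j, hij, (Commute.refl (h : G)).pow_pow i j, hk, hj⟩
  have hzi := isPPart_unique hp hz hz'
  rw [hzi]
  constructor
  · have h3 : ((h ^ i : Subgroup.normalizer (P : Set G)) : Subgroup.normalizer (P : Set G) ⧸ P.subgroupOf (Subgroup.normalizer (P : Set G))) = 1 := by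
      rw [← orderOf_eq_one_iff]
      have d1 : orderOf ((h ^ i : Subgroup.normalizer (P : Set G)) : Subgroup.normalizer (P : Set G) ⧸ P.subgroupOf (Subgroup.normalizer (P : Set G)))
          ∣ orderOf (h : Subgroup.normalizer (P : Set G) ⧸ P.subgroupOf (Subgroup.normalizer (P : Set G))) := by
        rw [QuotientGroup.mk_pow]
        exact orderOf_pow_dvd i
      have d2 : orderOf ((h ^ i : Subgroup.normalizer (P : Set G)) : Subgroup.normalizer (P : Set G) ⧸ P.subgroupOf (Subgroup.normalizer (P : Set G)))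
          ∣ orderOf (h ^ i : Subgroup.normalizer (P : Set G)) := orderOf_map_dvd (QuotientGroup.mk' _) _
      obtain ⟨k, hk⟩ := hk
      have d3 : orderOf (h ^ i : Subgroup.normalizer (P : Set G)) = p ^ k := by
        rw [← hk, ← Subgroup.orderOf_coe]; rfl
      rw [d3] at d2
      obtain ⟨l, _, hl⟩ := (Nat.dvd_prime_pow hp).mp d2
      rcases Nat.eq_zero_or_pos l with rfl | hl0
      · rw [hl, pow_zero]
      · exfalso; apply hreg
        exact (dvd_pow_self p hl0.ne').trans (hl ▸ d1)
    rw [QuotientGroup.eq_one_iff, Subgroup.mem_subgroupOf] at h3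
    exact h3
  · intro w hw
    have := Subgroup.pow_mem _ hhC i
    rw [Subgroup.mem_centralizer_iff] at this
    exact (this w hw).symm

theorem IsPPart.coe_subgroup {H : Subgroup G} {l z : H} (h : IsPPart p l z) : IsPPart p (l : G) (z : G) := by
  obtain ⟨y, hy, hc, ⟨k, hk⟩, hyo⟩ := h
  refine ⟨y, ?_, ?_, ⟨k, ?_⟩, ?_⟩
  · rw [← hy]; rfl
  · have := congrArg (fun t : H => (t : G)) hc.eq
    exact this
  · rw [Subgroup.orderOf_coe]; exact hk
  · rw [Subgroup.orderOf_coe]; exact hyo

theorem induced_center_fusion [Finite G] [Fact p.Prime] (hM : IsPModular p M) (H : Subgroup G)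
    (b : Set (IrrCharacter H)) (B : Set (IrrCharacter G)) (hind : IsInducedBlock M H b B)
    (D : Subgroup H) (hD : IsDefectGroup p M b D) (P : Subgroup G) (hP : IsDefectGroup p M B P)
    (x : G) (hx : x ∈ P) (hxc : ∀ w ∈ P, x * w = w * x) :
    ∃ g : G, g * x * g⁻¹ ∈ D.map H.subtype ∧
      ∀ w ∈ D.map H.subtype, (g * x * g⁻¹) * w = w * (g * x * g⁻¹) := by
  classical
  haveI := Fintype.ofFinite (ConjClasses H)
  have hp : p.Prime := hM.1
  have hB := hind.2.1
  have hb := hind.1
  have hcardP := defect_group_card hM B hB P hP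
  have hPp : IsPGroup p P := IsPGroup.of_card hcardP
  obtain ⟨y, hy, S, hS⟩ := hP
  rw [hS] at hx
  obtain ⟨x', hx', rfl⟩ := hx
  have hz : ∀ w ∈ (S : Subgroup (Subgroup.centralizer ({y} : Set G))), x' * w = w * x' := by
    intro w hw
    apply Subtype.ext
    exact hxc w (by rw [hS]; exact ⟨w, hw, rfl⟩)
  obtain ⟨χ, hχ, _⟩ := exists_height_zero (p := p) hM B hB
  obtain ⟨ξ, hξ, _⟩ := exists_height_zero (p := p) hM b hb
  have h1 := centralChar_not_mem_of_central hM B hB y hy S x' hx' hz χ hχ
  have h2 := hind.2.2 ξ hξ χ hχ ((x' : G) * y)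
  have h3 : ¬ MemLocalIdeal M (inducedCentralChar H (ξ : H → ℂ) ((x' : G) * y)) := by
    intro h
    apply h1
    have := MemLocalIdeal.sub hM h h2
    simpa using this
  rw [icc_eq_sum_classes H _ (IrrCharacter.isClassFunction ξ)] at h3
  have h4 : ∃ C : ConjClasses H, IsConj ((x' : G) * y) ((Quotient.out C : H) : G) ∧
      ¬ MemLocalIdeal M (centralChar (ξ : H → ℂ) (Quotient.out C)) := by
    by_contra hcon
    push Not at hcon
    apply h3
    apply MemLocalIdeal.sum hM
    intro C _
    split_ifs with hc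
    · exact hcon C hc
    · exact MemLocalIdeal.zero hM
  obtain ⟨C, hC1, hC2⟩ := h4
  obtain ⟨l', hl1, _, hl3⟩ := central_char_nonzero_class hM b hb D hD (Quotient.out C) ⟨ξ, hξ, hC2⟩
  have hconj : IsConj ((x' : G) * y) (l' : G) := by
    refine hC1.trans ?_
    obtain ⟨c, hc⟩ := isConj_iff.mp hl1
    exact isConj_iff.mpr ⟨c, by rw [← hc]; rfl⟩
  obtain ⟨t, ht⟩ := isConj_iff.mp hconj
  have hcomm : Commute (x' : G) y := by
    have := x'.2
    rw [mem_centralizer_singleton_iff] at this
    exact this.symm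
  have hxo : ∃ k : ℕ, orderOf (x' : G) = p ^ k := by
    have hxP : (x' : G) ∈ P := by rw [hS]; exact ⟨x', hx', rfl⟩
    obtain ⟨k, hk⟩ := (IsPGroup.iff_orderOf.mp hPp) ⟨x', hxP⟩
    exact ⟨k, by rw [← hk, ← Subgroup.orderOf_coe]⟩
  have hyo : ¬ p ∣ orderOf y := by
    intro hdvd
    apply hy.2.1
    rw [blockCoeff_vanish hM B hB y hdvd]
    exact MemLocalIdeal.zero hM
  have hpp : IsPPart p ((x' : G) * y) (x' : G) := ⟨y, rfl, hcomm, hxo, hyo⟩
  have hpp2 : IsPPart p (l' : G) (t * (x' : G) * t⁻¹) := by rw [← ht]; exact isPPart_conj hpp t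
  obtain ⟨z', hz'⟩ := exists_isPPart hp l'
  have hzz := isPPart_unique hp hpp2 (IsPPart.coe_subgroup hz')
  obtain ⟨hzD, hzc⟩ := hl3 z' hz'
  refine ⟨t, ?_, ?_⟩
  · show t * (x' : G) * t⁻¹ ∈ _
    rw [hzz]; exact ⟨z', hzD, rfl⟩
  · rintro _ ⟨w, hw, rfl⟩
    show t * (x' : G) * t⁻¹ * (w : G) = (w : G) * (t * (x' : G) * t⁻¹)
    rw [hzz]
    exact congrArg (fun u : H => (u : G)) (hzc w hw)

theorem induced_defect_zero_iff [Finite G] [Fact p.Prime] (hM : IsPModular p M) (H : Subgroup G)
    (b : Set (IrrCharacter H)) (B : Set (IrrCharacter G)) (hind : IsInducedBlock M H b B) :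
    blockDefect p b = 0 ↔ blockDefect p B = 0 := by
  have hp : p.Prime := hM.1
  constructor
  · intro h0
    obtain ⟨D, hD⟩ := exists_defectGroup hM b hind.1
    obtain ⟨P, hP⟩ := exists_defectGroup hM B hind.2.1
    have c1 := defect_group_card hM b hind.1 D hD
    have c2 := defect_group_card hM B hind.2.1 P hP
    rw [h0, pow_zero] at c1
    have hDbot : D = ⊥ := Subgroup.card_eq_one.mp c1
    by_contra hne
    have hPne : P ≠ ⊥ := by
      rintro rfl
      have : 1 < p ^ blockDefect p B := Nat.one_lt_pow hne hp.one_lt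
      rw [← c2] at this
      simp at this
    obtain ⟨z, hzP, hzc, hzo⟩ := exists_central_order_p P (IsPGroup.of_card c2) hPne
    obtain ⟨g, hg, _⟩ := induced_center_fusion hM H b B hind D hD P hP z hzP hzc
    rw [hDbot, Subgroup.map_bot, Subgroup.mem_bot] at hg
    have : z = 1 := by
      have : z = g⁻¹ * (g * z * g⁻¹) * g := by group
      rw [this, hg]; group
    rw [this, orderOf_one] at hzo
    exact hp.one_lt.ne hzo
  · intro h0
    have := induced_blockDefect_le hM H b B hind
    omega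

end CenterDef
end Cfsg.Agent.H4
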