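import Cfsg.Agent.Lib_helper4_BlkT

set_option autoImplicit false
set_option linter.style.haveILetI false
set_option linter.unusedSectionVars false
namespace Cfsg.Agent.H4
open Module
open scoped ComplexConjugate
universe u v w

section FactA
variable {p : ℕ} {M : Ideal AlgInt} {G : Type u} [Group G]

/-- the (unnormalised) pairing on `p`-regular elements -/
noncomputable def regPair (p : ℕ) [Fintype G] (θ ψ : G → ℂ) : ℂ :=
  ∑ g : G, regInd p G g * θ g⁻¹ * ψ g

theorem regInd_inv (g : G) : regInd p G g⁻¹ = regInd p G g := by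
  unfold regInd
  rw [orderOf_inv]

theorem regPair_comm [Fintype G] (θ ψ : G → ℂ) : regPair p θ ψ = regPair p ψ θ := by
  unfold regPair
  rw [← Equiv.sum_comp (Equiv.inv G)]
  apply Finset.sum_congr rfl
  intro g _
  simp only [Equiv.inv_apply, inv_inv, regInd_inv]
  ring

theorem regPair_eq_zero [Fintype G] (hM : IsPModular p M) (χ ψ : IrrCharacter G)
    (h : ¬ SameBlock M (χ : G → ℂ) (ψ : G → ℂ)) : regPair p (χ : G → ℂ) (ψ : G → ℂ) = 0 := by
  classical
  haveI := Fintype.ofFinite (IrrCharacter G)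
  have h1 := diff_block_reg_orth hM ψ χ (fun h' => h (SameBlock.symm h'))
  unfold regPair
  rw [← h1, finsum_mem_eq_finite_toFinset_sum _ (Set.toFinite _)]
  rw [← Finset.sum_filter_add_sum_filter_not Finset.univ (fun g : G => ¬ p ∣ orderOf g)]
  have e2 : ∑ g ∈ Finset.univ.filter (fun g : G => ¬ ¬ p ∣ orderOf g),
      regInd p G g * (χ : G → ℂ) g⁻¹ * (ψ : G → ℂ) g = 0 := by
    apply Finset.sum_eq_zero
    intro g hg
    rw [Finset.mem_filter] at hg
    unfold regInd
    rw [if_pos (not_not.mp hg.2), zero_mul, zero_mul]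
  rw [e2, add_zero]
  apply Finset.sum_congr
  · ext g; simp
  · intro g hg
    have hg' : ¬ p ∣ orderOf g := by simpa using hg
    unfold regInd
    rw [if_neg hg', one_mul, IsCharacter.inv_eq_conj (IsIrrCharacter.isCharacter χ.2)]
    ring

/-- coefficient function of the central element `∑_{g reg} θ(g⁻¹) g` -/
noncomputable def wfun (p : ℕ) (θ : G → ℂ) : G → ℂ := fun g => regInd p G g * θ g⁻¹

theorem wfun_isClassFunction {θ : G → ℂ} (hθ : IsClassFunction G θ) : IsClassFunction G (wfun p θ) := by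
  intro g h
  unfold wfun
  rw [regInd_isClassFunction g h]
  have : (h * g * h⁻¹)⁻¹ = h * g⁻¹ * h⁻¹ := by group
  rw [this, hθ]

theorem spec_wfun [Fintype G] (θ : G → ℂ) (ψ : IrrCharacter G) :
    spec (wfun p θ) ψ = regPair p θ (ψ : G → ℂ) / (ψ : G → ℂ) 1 := rfl

theorem inZ_spec_wfun [Fintype G] [Fintype (IrrCharacter G)] (hM : IsPModular p M) {θ : G → ℂ}
    (hθ : IsCharacter G θ) : InZ M (spec (wfun p θ)) := by
  intro g
  rw [coef_spec _ (wfun_isClassFunction (IsCharacter.isClassFunction hθ))]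
  exact MemLocalRing.mul hM (regInd_mem hM g) (memLocalRing_of_isIntegral hM (IsCharacter.isIntegral hθ _))

theorem regPair_sum_left [Fintype G] {ι : Type*} (s : Finset ι) (c : ι → ℂ) (f : ι → G → ℂ) (ψ : G → ℂ) :
    regPair p (∑ i ∈ s, c i • f i) ψ = ∑ i ∈ s, c i * regPair p (f i) ψ := by
  unfold regPair
  simp only [Finset.sum_apply, Pi.smul_apply, smul_eq_mul, Finset.mul_sum, Finset.sum_mul]
  rw [Finset.sum_comm]
  apply Finset.sum_congr rfl; intro i _
  apply Finset.sum_congr rfl; intro g _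
  ring

/-- `η(1)/ξ(1)` is a local integer when `ξ` has height zero -/
theorem degree_ratio_mem [Finite G] (hM : IsPModular p M) (B : Set (IrrCharacter G)) (ξ η : IrrCharacter G)
    (hη : η ∈ B) (h0 : blockHeight p B (ξ : G → ℂ) = 0) :
    MemLocalRing M ((η : G → ℂ) 1 / (ξ : G → ℂ) 1) := by
  obtain ⟨d, hd0, hd1, hd2⟩ := IrrCharacter.exists_degree ξ
  obtain ⟨e, he0, he1, he2⟩ := IrrCharacter.exists_degree η
  rw [hd1, he1]
  apply memLocalRing_nat_div hM _ _ he0.ne' hd0.ne'
  unfold blockHeight at h0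
  rw [hd2] at h0
  have h1 := Nat.sub_eq_zero_iff_le.mp h0
  refine h1.trans (Nat.sInf_le ⟨η, hη, ?_⟩)
  show (charDegree (η : G → ℂ)).factorization p = _
  rw [he2]

/-- `η(1)/ξ(1)` lies in the local ideal when `ξ` has height zero and `η` has positive height -/
theorem degree_ratio_mem_ideal [Finite G] (hM : IsPModular p M) (B : Set (IrrCharacter G)) (ξ η : IrrCharacter G)
    (hη : η ∈ B) (h0 : blockHeight p B (ξ : G → ℂ) = 0) (h1 : blockHeight p B (η : G → ℂ) ≠ 0) :
    MemLocalIdeal M ((η : G → ℂ) 1 / (ξ : G → ℂ) 1) := by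
  have hR := degree_ratio_mem hM B ξ η hη h0
  obtain ⟨d, hd0, hd1, hd2⟩ := IrrCharacter.exists_degree ξ
  obtain ⟨e, he0, he1, he2⟩ := IrrCharacter.exists_degree η
  rw [hd1, he1] at hR ⊢
  apply (nat_ratio_val hM _ _ he0.ne' hd0.ne' hR).2.mpr
  unfold blockHeight at h0 h1
  rw [hd2] at h0
  rw [he2] at h1
  omega

/-- the basic congruence: `∑ c_η V_η(ξ) ≡ V_ξ(ξ) ∑_{η ∈ b} c_η η(1)/ξ(1)` -/
theorem sum_regPair_congr [Fintype G] [Fintype (IrrCharacter G)] (hM : IsPModular p M) (ξ : IrrCharacter G)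
    (h0 : blockHeight p (blockOf M (ξ : G → ℂ)) (ξ : G → ℂ) = 0) (c : IrrCharacter G → ℂ)
    (hc : ∀ η, MemLocalRing M (c η)) :
    MemLocalIdeal M (∑ η : IrrCharacter G, c η * (regPair p (η : G → ℂ) (ξ : G → ℂ) / (ξ : G → ℂ) 1)
      - regPair p (ξ : G → ℂ) (ξ : G → ℂ) / (ξ : G → ℂ) 1 *
        ∑ η : IrrCharacter G, (blockOf M (ξ : G → ℂ)).indicator (fun η => c η * ((η : G → ℂ) 1 / (ξ : G → ℂ) 1)) η) := by
  classical
  rw [Finset.mul_sum, ← Finset.sum_sub_distrib]
  apply MemLocalIdeal.sum hM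
  intro η _
  by_cases hη : η ∈ blockOf M (ξ : G → ℂ)
  · rw [Set.indicator_of_mem hη]
    have h1 := InZ.congr hM (inZ_spec_wfun (p := p) hM (IsIrrCharacter.isCharacter ξ.2)) (SameBlock.symm hη)
    rw [spec_wfun, spec_wfun] at h1
    have h2 := MemLocalIdeal.mul_left hM (MemLocalRing.mul hM (hc η) (degree_ratio_mem hM _ ξ η hη h0)) h1
    have hη1 := IsIrrCharacter.apply_one_ne_zero η.2
    have hξ1 := IsIrrCharacter.apply_one_ne_zero ξ.2
    have e : c η * (regPair p (η : G → ℂ) (ξ : G → ℂ) / (ξ : G → ℂ) 1)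
        - regPair p (ξ : G → ℂ) (ξ : G → ℂ) / (ξ : G → ℂ) 1 * (c η * ((η : G → ℂ) 1 / (ξ : G → ℂ) 1))
        = c η * ((η : G → ℂ) 1 / (ξ : G → ℂ) 1) * (regPair p (ξ : G → ℂ) (η : G → ℂ) / (η : G → ℂ) 1
          - regPair p (ξ : G → ℂ) (ξ : G → ℂ) / (ξ : G → ℂ) 1) := by
      rw [regPair_comm (η : G → ℂ) (ξ : G → ℂ)]
      field_simp
    rw [e]
    exact h2
  · rw [Set.indicator_of_notMem hη, regPair_eq_zero hM η ξ (fun h => hη (SameBlock.symm h))]
    simp only [zero_div, mul_zero, sub_zero]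
    exact MemLocalIdeal.zero hM

/-- the value of the induced central character on `∑_{g reg} χ(g⁻¹) g` -/
theorem lamInd_spec_wfun [Fintype G] [Fintype (IrrCharacter G)] (H : Subgroup G) [Fintype H]
    [Fintype (IrrCharacter H)] {χ : G → ℂ} (hχ : IsClassFunction G χ) (ξ : H → ℂ) :
    lamInd H ξ (spec (wfun p χ)) = regPair p (fun h : H => χ h) ξ / ξ 1 := by
  unfold lamInd
  rw [coef_spec _ (wfun_isClassFunction hχ)]
  unfold regPair
  rw [Finset.sum_div]
  apply Finset.sum_congr rfl
  intro h _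
  have : regInd p G (h : G) = regInd p H h := by
    unfold regInd
    rw [Subgroup.orderOf_coe]
  unfold wfun
  rw [this, mul_div_assoc]
  rfl

theorem regPair_restrict_expand [Fintype G] (H : Subgroup G) [Fintype H]
    [Fintype (IrrCharacter H)] {χ : G → ℂ} (hχ : IsClassFunction G χ) (ξ : H → ℂ) :
    regPair p (fun h : H => χ h) ξ
      = ∑ η : IrrCharacter H, classInner (fun h : H => χ h) (η : H → ℂ) * regPair p (η : H → ℂ) ξ := by
  have h1 : IsClassFunction H (fun h : H => χ h) := fun g h => hχ (g : G) (h : G)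
  conv_lhs => rw [classFunction_expansion' _ h1]
  exact regPair_sum_left _ _ _ _

/-- `V_χ(χ) ≡ V_ξ(ξ) · R` for an induced block -/
theorem regPair_induced [Fintype G] [Fintype (IrrCharacter G)] (hM : IsPModular p M) (H : Subgroup G) [Fintype H]
    [Fintype (IrrCharacter H)] (b : Set (IrrCharacter H)) (B : Set (IrrCharacter G))
    (hind : IsInducedBlock M H b B) (χ χ' : IrrCharacter G) (hχ' : χ' ∈ B) (ξ : IrrCharacter H) (hξ : ξ ∈ b)
    (h0 : blockHeight p b (ξ : H → ℂ) = 0) :
    MemLocalIdeal M (regPair p (χ : G → ℂ) (χ' : G → ℂ) / (χ' : G → ℂ) 1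
      - regPair p (ξ : H → ℂ) (ξ : H → ℂ) / (ξ : H → ℂ) 1 *
        ∑ η : IrrCharacter H, b.indicator (fun η => classInner (fun h : H => (χ : G → ℂ) h) (η : H → ℂ)
          * ((η : H → ℂ) 1 / (ξ : H → ℂ) 1)) η) := by
  have hχc := IsIrrCharacter.isCharacter χ.2
  have hb : b = blockOf M (ξ : H → ℂ) := IsPBlock.eq_blockOf hM hind.1 hξ
  have h1 := lamInd_congr hM H (ξ : H → ℂ) χ' (hind.2.2 ξ hξ χ' hχ') _ (inZ_spec_wfun (p := p) hM hχc)
  rw [lamInd_spec_wfun H (IsCharacter.isClassFunction hχc), spec_wfun,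
    regPair_restrict_expand H (IsCharacter.isClassFunction hχc), Finset.sum_div] at h1
  rw [hb] at h0 ⊢
  have h2 := sum_regPair_congr hM ξ h0 (fun η => classInner (fun h : H => (χ : G → ℂ) h) (η : H → ℂ)) (by
    intro η
    obtain ⟨n, hn⟩ := IsCharacter.classInner_irr_nat (IsCharacter.restrict H hχc) η
    rw [hn]
    exact MemLocalRing.natCast hM n)
  have h3 := MemLocalIdeal.sub hM h2 h1
  have e : ∀ η : IrrCharacter H, classInner (fun h : H => (χ : G → ℂ) h) (η : H → ℂ) * regPair p (η : H → ℂ) (ξ : H → ℂ) / (ξ : H → ℂ) 1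
      = classInner (fun h : H => (χ : G → ℂ) h) (η : H → ℂ) * (regPair p (η : H → ℂ) (ξ : H → ℂ) / (ξ : H → ℂ) 1) := by
    intro η; rw [mul_div_assoc]
  simp only [e] at h3
  have e2 : ∀ a b c : ℂ, a - b - (a - c) = c - b := by intros; ring
  rw [e2] at h3
  exact h3

theorem spec_coef [Fintype G] [Fintype (IrrCharacter G)] (v : IrrCharacter G → ℂ) : spec (coef v) = v := by
  classical
  funext ξ
  have h1 := sum_coef_mul_classFunction v (ξ : G → ℂ) (IrrCharacter.isClassFunction ξ) 1
  simp only [mul_one] at h1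
  unfold spec
  rw [h1, Finset.sum_eq_single ξ]
  · rw [irr_orthonormal, if_pos rfl, one_mul, mul_div_assoc, div_self (IsIrrCharacter.apply_one_ne_zero ξ.2), mul_one]
  · intro η _ hη
    rw [irr_orthonormal, if_neg (Ne.symm hη), zero_mul, mul_zero]
  · intro h; exact absurd (Finset.mem_univ _) h

/-- a central element supported where the central character vanishes mod `P` -/
theorem spec_mem_of_support [Fintype G] [Fintype (IrrCharacter G)] (hM : IsPModular p M) (f : G → ℂ)
    (hf : IsClassFunction G f) (hR : ∀ g, MemLocalRing M (f g)) (ξ : IrrCharacter G)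
    (h : ∀ g, f g ≠ 0 → MemLocalIdeal M (centralChar (ξ : G → ℂ) g)) : MemLocalIdeal M (spec f ξ) := by
  classical
  haveI := Fintype.ofFinite (ConjClasses G)
  rw [eval_eq_sum_classes (spec f) ξ, coef_spec _ hf]
  apply MemLocalIdeal.sum hM
  intro C _
  by_cases h0 : f (Quotient.out C) = 0
  · rw [h0, zero_mul]; exact MemLocalIdeal.zero hM
  · exact MemLocalIdeal.mul_left hM (hR _) (h _ h0)

/-- Fact A for a block with a large normal `p`-subgroup -/
theorem factA_normal [Fintype G] [Fintype (IrrCharacter G)] (hM : IsPModular p M) (D : Subgroup G) [hDn : D.Normal]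
    (hD : IsPGroup p D) (ξ : IrrCharacter G)
    (hcard : ∀ ψ ∈ blockOf M (ξ : G → ℂ),
      (Nat.card (G ⧸ D)).factorization p ≤ (charDegree (ψ : G → ℂ)).factorization p)
    (h0 : blockHeight p (blockOf M (ξ : G → ℂ)) (ξ : G → ℂ) = 0) :
    ¬ MemLocalIdeal M (regPair p (ξ : G → ℂ) (ξ : G → ℂ) / (ξ : G → ℂ) 1) := by
  classical
  intro hmem
  haveI := Fintype.ofFinite (G ⧸ D)
  haveI := Fintype.ofFinite (IrrCharacter (G ⧸ D))
  haveI := Fintype.ofFinite D
  have hp := hM.1
  set v : IrrCharacter G → ℂ := (blockOf M (ξ : G → ℂ)).indicator 1 with hv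
  have hξ1 := IsIrrCharacter.apply_one_ne_zero ξ.2
  set cD : G → ℂ := fun x => if x ∈ Subgroup.centralizer (D : Set G) then 1 else 0 with hcD
  have key : ∀ x : G, coef v x = cD x *
      (regInd p G x * coef (fun ψ : IrrCharacter (G ⧸ D) => v (infl D ψ)) (x : G ⧸ D)) := by
    intro x
    by_cases hx : x ∈ Subgroup.centralizer (D : Set G)
    · simp only [hcD]
      rw [if_pos hx, one_mul]
      by_cases hr : p ∣ orderOf x
      · have : regInd p G x = 0 := by unfold regInd; rw [if_pos hr]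
        rw [this, zero_mul, hv, ← blockCoeff_eq_coef]
        exact blockCoeff_vanish hM _ ⟨ξ, rfl⟩ x hr
      · have : regInd p G x = 1 := by unfold regInd; rw [if_neg hr]
        rw [this, one_mul, coef_quot, Finset.sum_eq_single (1 : D)]
        · simp
        · intro n _ hn
          rw [hv, ← blockCoeff_eq_coef]
          apply blockCoeff_vanish hM _ ⟨ξ, rfl⟩
          apply dvd_orderOf_mul_of_pGroup hp hD n.2 (by intro h; exact hn (Subtype.ext h)) hr
          exact (Subgroup.mem_centralizer_iff.mp hx n n.2)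
        · intro h; exact absurd (Finset.mem_univ _) h
    · simp only [hcD]
      rw [if_neg hx, zero_mul]
      exact coef_block_eq_zero_of_not_mem hM D hD (Subgroup.centralizer (D : Set G)) le_rfl ξ x hx
  have h1 : (1 : ℂ) = (∑ x : G, coef v x * (ξ : G → ℂ) x) / (ξ : G → ℂ) 1 := by
    have h := congrFun (spec_coef v) ξ
    have h2 : v ξ = 1 := by rw [hv, Set.indicator_of_mem (SameBlock.refl hM _)]; rfl
    rw [h2] at h
    exact h.symm
  -- the contribution of one character of the quotient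
  have hT : ∀ θ : IrrCharacter G, θ ∈ blockOf M (ξ : G → ℂ) →
      MemLocalIdeal M (spec (fun x => cD x * wfun p (θ : G → ℂ) x) ξ) := by
    intro θ hθ
    have hθc := IsIrrCharacter.isCharacter θ.2
    have hθ1 := IsIrrCharacter.apply_one_ne_zero θ.2
    have a1 : MemLocalIdeal M (spec (wfun p (θ : G → ℂ)) ξ) := by
      have h2 := InZ.congr hM (inZ_spec_wfun (p := p) hM (IsIrrCharacter.isCharacter ξ.2)) (SameBlock.symm hθ)
      rw [spec_wfun, spec_wfun] at h2
      have h3 := MemLocalIdeal.add hM h2 hmem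
      rw [sub_add_cancel] at h3
      have h4 := MemLocalIdeal.mul_left hM (degree_ratio_mem hM _ ξ θ hθ h0) h3
      rw [spec_wfun, regPair_comm]
      have e : regPair p (ξ : G → ℂ) (θ : G → ℂ) / (ξ : G → ℂ) 1
          = (θ : G → ℂ) 1 / (ξ : G → ℂ) 1 * (regPair p (ξ : G → ℂ) (θ : G → ℂ) / (θ : G → ℂ) 1) := by
        field_simp
      rw [e]; exact h4
    have hcDc : IsClassFunction G cD := by
      intro g h
      simp only [hcD]
      have hCn : (Subgroup.centralizer (D : Set G)).Normal := inferInstance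
      have : h * g * h⁻¹ ∈ Subgroup.centralizer (D : Set G) ↔ g ∈ Subgroup.centralizer (D : Set G) :=
        (hCn.mem_comm_iff.trans (by rw [inv_mul_cancel_left]))
      simp only [this]
    have a2 : MemLocalIdeal M (spec (fun x => (1 - cD x) * wfun p (θ : G → ℂ) x) ξ) := by
      apply spec_mem_of_support hM
      · intro g h
        show (1 - cD (h * g * h⁻¹)) * wfun p (θ : G → ℂ) (h * g * h⁻¹) = _
        rw [hcDc g h, wfun_isClassFunction (IsCharacter.isClassFunction hθc) g h]
      · intro g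
        apply MemLocalRing.mul hM
        · simp only [hcD]
          split_ifs
          · rw [sub_self]; exact MemLocalRing.zero hM
          · rw [sub_zero]; exact MemLocalRing.one hM
        · exact MemLocalRing.mul hM (regInd_mem hM g) (memLocalRing_of_isIntegral hM (IsCharacter.isIntegral hθc _))
      · intro g hg
        apply centralChar_mem_of_not_centralizer hM D hD
        intro hgC
        apply hg
        simp only [hcD]
        rw [if_pos hgC, sub_self, zero_mul]
    have e : spec (fun x => cD x * wfun p (θ : G → ℂ) x) ξ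
        = spec (wfun p (θ : G → ℂ)) ξ - spec (fun x => (1 - cD x) * wfun p (θ : G → ℂ) x) ξ := by
      unfold spec
      rw [← sub_div, ← Finset.sum_sub_distrib]
      congr 1
      apply Finset.sum_congr rfl
      intro x _
      ring
    rw [e]
    exact MemLocalIdeal.sub hM a1 a2
  apply not_memLocalIdeal_one hM
  rw [h1]
  have e : (∑ x : G, coef v x * (ξ : G → ℂ) x) / (ξ : G → ℂ) 1
      = ∑ ψ : IrrCharacter (G ⧸ D), v (infl D ψ) * (((ψ : G ⧸ D → ℂ) 1 / (Nat.card (G ⧸ D) : ℂ)) *
          spec (fun x => cD x * wfun p (infl D ψ : G → ℂ) x) ξ) := by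
    unfold spec
    simp only [key]
    simp only [coef, Finset.mul_sum, Finset.sum_mul, Finset.sum_div]
    rw [Finset.sum_comm]
    apply Finset.sum_congr rfl; intro ψ _
    apply Finset.sum_congr rfl; intro x _
    unfold wfun
    rw [IsCharacter.inv_eq_conj (IsIrrCharacter.isCharacter (infl D ψ).2)]
    show _ = v (infl D ψ) * ((ψ : G ⧸ D → ℂ) 1 / (Nat.card (G ⧸ D) : ℂ) *
      (cD x * (regInd p G x * conj ((ψ : G ⧸ D → ℂ) (x : G ⧸ D))) * (ξ : G → ℂ) x / (ξ : G → ℂ) 1))
    ring
  rw [e]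
  apply MemLocalIdeal.sum hM
  intro ψ _
  by_cases hψ : infl D ψ ∈ blockOf M (ξ : G → ℂ)
  · rw [hv, Set.indicator_of_mem hψ, Pi.one_apply, one_mul]
    apply MemLocalIdeal.mul_left hM _ (hT _ hψ)
    obtain ⟨d, hd0, hd1, hd2⟩ := IrrCharacter.exists_degree (infl D ψ)
    have hd1' : (ψ : G ⧸ D → ℂ) 1 = d := hd1
    rw [hd1']
    apply memLocalRing_nat_div hM _ _ hd0.ne' Nat.card_pos.ne'
    rw [← hd2]
    exact hcard _ hψ
  · rw [hv, Set.indicator_of_notMem hψ, zero_mul]
    exact MemLocalIdeal.zero hM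

end FactA
end Cfsg.Agent.H4
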