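import Cfsg.Agent.Lib_helper4_BlkU

set_option autoImplicit false
set_option linter.style.haveILetI false
set_option linter.unusedSectionVars false
namespace Cfsg.Agent.H4
open Module
open scoped ComplexConjugate
universe u v w

section FactB
variable {p : ℕ} {M : Ideal AlgInt} {G : Type u} [Group G]

theorem brauer_part_not_mem [Fintype G] [Fintype (IrrCharacter G)] (hM : IsPModular p M) (D H : Subgroup G)
    [Fintype H] [Fintype (IrrCharacter H)] (hD : IsPGroup p D) (hDH : D ≤ H)
    (hCH : Subgroup.centralizer (D : Set G) ≤ H) (hHN : H ≤ Subgroup.normalizer (D : Set G))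
    (B : Set (IrrCharacter G)) (hB : IsPBlock M B) (b : Set (IrrCharacter H)) (hb : IsPBlock M b)
    (h𝔟 : ∀ ξ, ξ ∈ b ↔ IsInducedBlock M H (blockOf M (ξ : H → ℂ)) B)
    (y : G) (hy : IsDefectClass M B y) (hyD : y ∈ Subgroup.centralizer (D : Set G))
    (χ : IrrCharacter G) (hχ : χ ∈ B) (h0 : blockHeight p B (χ : G → ℂ) = 0)
    (ξ : IrrCharacter H) (hξ : ξ ∈ b) (hξ0 : blockHeight p b (ξ : H → ℂ) = 0)
    (hval : (Nat.card H).factorization p ≤ (charDegree (ξ : H → ℂ)).factorization p + (Nat.card D).factorization p) :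
    ¬ MemLocalIdeal M (∑ η : IrrCharacter H, b.indicator (fun η => classInner (fun h : H => (χ : G → ℂ) h) (η : H → ℂ)
          * ((η : H → ℂ) 1 / (ξ : H → ℂ) 1)) η) := by
  classical
  intro hR
  have hp := hM.1
  have hχc := IsIrrCharacter.isCharacter χ.2
  have hχcf := IsCharacter.isClassFunction hχc
  have hyH : y ∈ H := hCH hyD
  set v : IrrCharacter G → ℂ := B.indicator 1 with hv
  have hvZ : InZ M v := by obtain ⟨χ0, rfl⟩ := hB; exact inZ_indicator_block hM χ0
  apply height_zero_not_mem hM B hB y hy 1 (Commute.one_left y) (k := 0) (by simp) χ hχ h0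
  rw [one_mul]
  have s3 : (χ : G → ℂ) y = ∑ k, coef v k * (χ : G → ℂ) (k * y) := by
    rw [sum_coef_mul_classFunction v _ hχcf y, Finset.sum_eq_single χ]
    · rw [irr_orthonormal, if_pos rfl, one_mul, hv, Set.indicator_of_mem hχ]; simp
    · intro η _ hη; rw [irr_orthonormal, if_neg (Ne.symm hη)]; simp
    · simp
  have s4 : MemLocalIdeal M (∑ g, (if g ∈ Subgroup.centralizer (D : Set G) then 0 else coef v g * (χ : G → ℂ) (g * y))) := by
    apply conj_orbit_sum hM D hD
    · intro q hq g
      have hmem := mem_centralizer_conj_iff D (Subgroup.le_normalizer hq) g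
      have hqy : q * g * q⁻¹ * y = q * (g * y) * q⁻¹ := by
        have h1 : q * y = y * q := Subgroup.mem_centralizer_iff.mp hyD q hq
        have h2 : q⁻¹ * y = y * q⁻¹ := by
          rw [inv_mul_eq_iff_eq_mul, ← mul_assoc, h1, mul_assoc, mul_inv_cancel, mul_one]
        rw [mul_assoc, h2]; group
      simp only [hmem]
      rw [coef_isClassFunction, hqy, hχcf]
    · intro g
      split_ifs
      · exact MemLocalRing.zero hM
      · exact MemLocalRing.mul hM (hvZ g) (memLocalRing_of_isIntegral hM (IsCharacter.isIntegral hχc _))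
    · intro g hg
      rw [if_pos hg]
  have s5 : ∑ g, (if g ∈ Subgroup.centralizer (D : Set G) then coef v g * (χ : G → ℂ) (g * y) else 0)
      = ∑ h : H, brCoef D H v h * (χ : G → ℂ) ((h : G) * y) := by
    rw [← sum_extendByZero_mul H (brCoef D H v) (fun g => (χ : G → ℂ) (g * y))]
    apply Finset.sum_congr rfl
    intro g _
    by_cases hg : g ∈ Subgroup.centralizer (D : Set G)
    · rw [if_pos hg, extendByZero_mem H _ (hCH hg)]
      unfold brCoef
      rw [if_pos hg]
    · rw [if_neg hg]
      by_cases hgH : g ∈ H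
      · rw [extendByZero_mem H _ hgH]
        unfold brCoef
        rw [if_neg hg, zero_mul]
      · rw [extendByZero_not_mem H _ hgH, zero_mul]
  have s6 := inP_Br_indicator_sub hM D H hD hDH hCH hHN B hB b h𝔟
  have s6' : MemLocalIdeal M (∑ h : H, (brCoef D H v h - coef (b.indicator 1) h) * (χ : G → ℂ) ((h : G) * y)) := by
    apply MemLocalIdeal.sum hM
    intro h _
    apply MemLocalIdeal.mul_right hM _ (memLocalRing_of_isIntegral hM (IsCharacter.isIntegral hχc _))
    have := s6 h
    rw [coef_sub, coef_Br D H hHN] at this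
    exact this
  have s7 := sum_coef_mul_classFunction (b.indicator 1) (fun h : H => (χ : G → ℂ) h)
    (fun g h => hχcf (g : G) (h : G)) ⟨y, hyH⟩
  -- valuation of the class of y in H
  set idx := (Subgroup.centralizer ({(⟨y, hyH⟩ : H)} : Set H)).index with hidx
  obtain ⟨d, hd0, hd1, hd2⟩ := IrrCharacter.exists_degree ξ
  have hidx0 : idx ≠ 0 := Subgroup.index_ne_zero_of_finite
  have hratio : MemLocalRing M ((d : ℂ) / (idx : ℂ)) := by
    apply memLocalRing_nat_div hM _ _ hd0.ne' hidx0
    rw [hd2] at hval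
    have h1 : Nat.card D ∣ Nat.card (Subgroup.centralizer ({(⟨y, hyH⟩ : H)} : Set H)) := by
      have h2 : D.subgroupOf H ≤ Subgroup.centralizer ({(⟨y, hyH⟩ : H)} : Set H) := by
        intro q hq
        rw [mem_centralizer_singleton_iff]
        apply Subtype.ext
        have := Subgroup.mem_centralizer_iff.mp hyD (q : G) (Subgroup.mem_subgroupOf.mp hq)
        first
          | exact this
          | exact this.symm
      have h3 := Subgroup.card_dvd_of_le h2
      rwa [Nat.card_congr (Subgroup.subgroupOfEquivOfLe hDH).toEquiv] at h3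
    have h4 := Subgroup.card_mul_index (Subgroup.centralizer ({(⟨y, hyH⟩ : H)} : Set H))
    have h5 : (Nat.card H).factorization p = (Nat.card (Subgroup.centralizer ({(⟨y, hyH⟩ : H)} : Set H))).factorization p
        + idx.factorization p := by
      rw [← h4, Nat.factorization_mul Nat.card_pos.ne' hidx0]; rfl
    have h6 := (Nat.factorization_le_iff_dvd Nat.card_pos.ne' Nat.card_pos.ne').mpr h1 p
    omega
  have hξ1 := IsIrrCharacter.apply_one_ne_zero ξ.2
  have s8 : MemLocalIdeal M (∑ η : IrrCharacter H, b.indicator 1 η *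
      (classInner (fun h : H => (χ : G → ℂ) h) (η : H → ℂ) * (η : H → ℂ) ⟨y, hyH⟩)) := by
    have e : ∑ η : IrrCharacter H, b.indicator 1 η *
        (classInner (fun h : H => (χ : G → ℂ) h) (η : H → ℂ) * (η : H → ℂ) ⟨y, hyH⟩)
        = ((d : ℂ) / (idx : ℂ)) * (∑ η : IrrCharacter H,
            b.indicator (fun η => classInner (fun h : H => (χ : G → ℂ) h) (η : H → ℂ)
              * ((η : H → ℂ) 1 / (ξ : H → ℂ) 1)) η *
              (centralChar (η : H → ℂ) ⟨y, hyH⟩ - centralChar (ξ : H → ℂ) ⟨y, hyH⟩)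
          + centralChar (ξ : H → ℂ) ⟨y, hyH⟩ * ∑ η : IrrCharacter H,
            b.indicator (fun η => classInner (fun h : H => (χ : G → ℂ) h) (η : H → ℂ)
              * ((η : H → ℂ) 1 / (ξ : H → ℂ) 1)) η) := by
      rw [Finset.mul_sum (a := centralChar (ξ : H → ℂ) ⟨y, hyH⟩), ← Finset.sum_add_distrib, Finset.mul_sum]
      apply Finset.sum_congr rfl; intro η _
      by_cases hη : η ∈ b
      · rw [Set.indicator_of_mem hη, Set.indicator_of_mem hη]
        have hη1 := IsIrrCharacter.apply_one_ne_zero η.2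
        have hidxC : (idx : ℂ) ≠ 0 := Nat.cast_ne_zero.mpr hidx0
        have hdC : (d : ℂ) ≠ 0 := Nat.cast_ne_zero.mpr hd0.ne'
        unfold centralChar
        rw [← hidx, hd1, Pi.one_apply]
        field_simp
        ring
      · rw [Set.indicator_of_notMem hη, Set.indicator_of_notMem hη]; ring
    rw [e]
    apply MemLocalIdeal.mul_left hM hratio
    apply MemLocalIdeal.add hM
    · apply MemLocalIdeal.sum hM; intro η _
      by_cases hη : η ∈ b
      · rw [Set.indicator_of_mem hη]
        obtain ⟨n, hn⟩ := IsCharacter.classInner_irr_nat (IsCharacter.restrict H hχc) η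
        apply MemLocalIdeal.mul_left hM (MemLocalRing.mul hM (by rw [hn]; exact MemLocalRing.natCast hM n)
          (degree_ratio_mem hM b ξ η hη hξ0))
        have h1 : SameBlock M (ξ : H → ℂ) (η : H → ℂ) := by
          rw [IsPBlock.eq_blockOf hM hb hξ] at hη; exact hη
        exact (SameBlock.symm h1) _
      · rw [Set.indicator_of_notMem hη, zero_mul]; exact MemLocalIdeal.zero hM
    · exact MemLocalIdeal.mul_left hM (memLocalRing_of_isIntegral hM (isIntegral_centralChar ξ _)) hR
  rw [← s7] at s8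
  have s9 := MemLocalIdeal.add hM (MemLocalIdeal.add hM s4 s6') s8
  have e : (χ : G → ℂ) y = (∑ g, (if g ∈ Subgroup.centralizer (D : Set G) then 0 else coef v g * (χ : G → ℂ) (g * y)))
      + (∑ h : H, (brCoef D H v h - coef (b.indicator 1) h) * (χ : G → ℂ) ((h : G) * y))
      + ∑ k : H, coef (b.indicator 1) k * (fun h : H => (χ : G → ℂ) h) (k * ⟨y, hyH⟩) := by
    rw [add_assoc, ← Finset.sum_add_distrib]
    have e1 : ∑ h : H, ((brCoef D H v h - coef (b.indicator 1) h) * (χ : G → ℂ) ((h : G) * y)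
        + coef (b.indicator 1) h * (fun h : H => (χ : G → ℂ) h) (h * ⟨y, hyH⟩))
        = ∑ h : H, brCoef D H v h * (χ : G → ℂ) ((h : G) * y) := by
      apply Finset.sum_congr rfl; intro h _
      show (brCoef D H v h - coef (b.indicator 1) h) * (χ : G → ℂ) ((h : G) * y)
        + coef (b.indicator 1) h * (χ : G → ℂ) ((h : G) * y) = _
      ring
    rw [e1, ← s5, ← Finset.sum_add_distrib, s3]
    apply Finset.sum_congr rfl; intro g _
    split_ifs <;> simp
  rw [e]
  exact s9

theorem ratio_sum_mem [Fintype G] [Fintype (IrrCharacter G)] (hM : IsPModular p M) (b : Set (IrrCharacter G))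
    (ξ : IrrCharacter G) (h0 : blockHeight p b (ξ : G → ℂ) = 0) (c : IrrCharacter G → ℂ)
    (hc : ∀ η, MemLocalRing M (c η)) :
    MemLocalRing M (∑ η : IrrCharacter G, b.indicator (fun η => c η * ((η : G → ℂ) 1 / (ξ : G → ℂ) 1)) η) := by
  classical
  apply MemLocalRing.sum hM
  intro η _
  by_cases hη : η ∈ b
  · rw [Set.indicator_of_mem hη]
    exact MemLocalRing.mul hM (hc η) (degree_ratio_mem hM b ξ η hη h0)
  · rw [Set.indicator_of_notMem hη]; exact MemLocalRing.zero hM

/-- Fact A: for a character `χ` of height zero, `(1/χ(1)) ∑_{g reg} |χ(g)|²` is a local unit. -/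
theorem factA [Fintype G] (hM : IsPModular p M) (B : Set (IrrCharacter G)) (hB : IsPBlock M B)
    (χ : IrrCharacter G) (hχ : χ ∈ B) (h0 : blockHeight p B (χ : G → ℂ) = 0) :
    ¬ MemLocalIdeal M (regPair p (χ : G → ℂ) (χ : G → ℂ) / (χ : G → ℂ) 1) := by
  classical
  haveI : Fact p.Prime := ⟨hM.1⟩
  haveI := Fintype.ofFinite (IrrCharacter G)
  intro hmem
  obtain ⟨D, hD⟩ := exists_defectGroup hM B hB
  have hcardD := defect_group_card hM B hB D hD
  have hDp : IsPGroup p D := IsPGroup.of_card hcardD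
  obtain ⟨b, hb, hbD, hind⟩ := fmt_B_exists hM D hDp B hB hD
  haveI := Fintype.ofFinite (Subgroup.normalizer (D : Set G))
  haveI := Fintype.ofFinite (IrrCharacter (Subgroup.normalizer (D : Set G)))
  obtain ⟨ξ, hξ, hξ0⟩ := exists_height_zero hM b hb
  have hbe := IsPBlock.eq_blockOf hM hb hξ
  have hcardD' := defect_group_card hM b hb _ hbD
  haveI hNn : (D.subgroupOf (Subgroup.normalizer (D : Set G))).Normal := Subgroup.normal_in_normalizer
  have hNp : IsPGroup p (D.subgroupOf (Subgroup.normalizer (D : Set G))) := hDp.comap_subtype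
  have hval : ∀ ψ ∈ b, (Nat.card (Subgroup.normalizer (D : Set G))).factorization p
      ≤ (charDegree (ψ : Subgroup.normalizer (D : Set G) → ℂ)).factorization p + blockDefect p b := by
    intro ψ hψ
    have h1 := sInf_ge_of_defect (p := p) b
    have h2 : sInf ((fun χ : IrrCharacter (Subgroup.normalizer (D : Set G)) =>
        (charDegree (χ : Subgroup.normalizer (D : Set G) → ℂ)).factorization p) '' b)
        ≤ (charDegree (ψ : Subgroup.normalizer (D : Set G) → ℂ)).factorization p := Nat.sInf_le ⟨ψ, hψ, rfl⟩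
    omega
  have hfac : (Nat.card (D.subgroupOf (Subgroup.normalizer (D : Set G)))).factorization p = blockDefect p b := by
    rw [hcardD', Nat.factorization_pow, Nat.Prime.factorization hM.1]; simp
  have A1 : ¬ MemLocalIdeal M (regPair p (ξ : Subgroup.normalizer (D : Set G) → ℂ)
      (ξ : Subgroup.normalizer (D : Set G) → ℂ) / (ξ : Subgroup.normalizer (D : Set G) → ℂ) 1) := by
    apply factA_normal hM (D.subgroupOf (Subgroup.normalizer (D : Set G))) hNp ξ
    · intro ψ hψ
      rw [← hbe] at hψ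
      have h1 := hval ψ hψ
      have h2 := Subgroup.card_eq_card_quotient_mul_card_subgroup (D.subgroupOf (Subgroup.normalizer (D : Set G)))
      have h3 : (Nat.card (Subgroup.normalizer (D : Set G))).factorization p
          = (Nat.card (Subgroup.normalizer (D : Set G) ⧸ D.subgroupOf (Subgroup.normalizer (D : Set G)))).factorization p
            + (Nat.card (D.subgroupOf (Subgroup.normalizer (D : Set G)))).factorization p := by
        rw [h2, Nat.factorization_mul Nat.card_pos.ne' Nat.card_pos.ne']; rfl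
      omega
    · rw [← hbe]; exact hξ0
  obtain ⟨y, hy, P, hDP⟩ := hD
  have hyD : y ∈ Subgroup.centralizer (D : Set G) := by
    rw [Subgroup.mem_centralizer_iff]
    intro q hq
    rw [hDP] at hq
    obtain ⟨c, _, rfl⟩ := hq
    have := (mem_centralizer_singleton_iff y (c : G)).mp c.2
    exact this.symm
  have A2 := brauer_part_not_mem hM D (Subgroup.normalizer (D : Set G)) hDp Subgroup.le_normalizer
    (centralizer_le_normalizer' D) le_rfl B hB b hb (by
      intro ξ'
      constructor
      · intro h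
        rw [← IsPBlock.eq_blockOf hM hb h]; exact hind
      · intro h
        rw [fmt_B_unique hM D hDp B b _ hbD hind h]
        exact SameBlock.refl hM _) y hy hyD χ hχ h0 ξ hξ hξ0 (by
      have h1 := hval ξ hξ
      rw [← hfac, Nat.card_congr (Subgroup.subgroupOfEquivOfLe Subgroup.le_normalizer).toEquiv] at h1
      exact h1)
  have A3 := regPair_induced hM _ b B hind χ χ hχ ξ hξ hξ0
  have A4 := MemLocalIdeal.sub hM hmem A3
  rw [sub_sub_cancel] at A4
  have hχc := IsIrrCharacter.isCharacter χ.2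
  rcases MemLocalIdeal.of_mul hM (by
      have := InZ.eval_mem hM (inZ_spec_wfun (p := p) hM (IsIrrCharacter.isCharacter ξ.2)) ξ
      rwa [spec_wfun] at this)
    (ratio_sum_mem hM b ξ hξ0 _ (by
      intro η
      obtain ⟨n, hn⟩ := IsCharacter.classInner_irr_nat (IsCharacter.restrict _ hχc) η
      rw [hn]; exact MemLocalRing.natCast hM n)) A4 with h | h
  · exact A1 h
  · exact A2 h

/-- the central element attached to a height zero character detects its block -/
theorem regPair_not_mem_iff [Fintype G] (hM : IsPModular p M) (χ : IrrCharacter G)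
    (h0 : blockHeight p (blockOf M (χ : G → ℂ)) (χ : G → ℂ) = 0) (χ' : IrrCharacter G) :
    ¬ MemLocalIdeal M (regPair p (χ : G → ℂ) (χ' : G → ℂ) / (χ' : G → ℂ) 1) ↔ SameBlock M (χ : G → ℂ) (χ' : G → ℂ) := by
  haveI := Fintype.ofFinite (IrrCharacter G)
  constructor
  · intro h
    by_contra hc
    apply h
    rw [regPair_eq_zero hM χ χ' hc, zero_div]
    exact MemLocalIdeal.zero hM
  · intro h hmem
    apply factA hM _ ⟨χ, rfl⟩ χ (SameBlock.refl hM _) h0
    have h1 := InZ.congr hM (inZ_spec_wfun (p := p) hM (IsIrrCharacter.isCharacter χ.2)) h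
    rw [spec_wfun, spec_wfun] at h1
    have := MemLocalIdeal.add hM h1 hmem
    rwa [sub_add_cancel] at this

/-- Blau: a height zero character of an induced block has a height zero constituent of multiplicity prime to `p`. -/
theorem blau_height_zero [Fintype G] (hM : IsPModular p M) (H : Subgroup G) [Fintype H]
    (b : Set (IrrCharacter H)) (B : Set (IrrCharacter G)) (hind : IsInducedBlock M H b B)
    (χ : IrrCharacter G) (hχ : χ ∈ B) (h0 : blockHeight p B (χ : G → ℂ) = 0) :
    ∃ ξ ∈ b, blockHeight p b (ξ : H → ℂ) = 0 ∧ ∃ n : ℕ,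
      classInner (fun h : H => (χ : G → ℂ) h) (ξ : H → ℂ) = (n : ℂ) ∧ ¬ p ∣ n := by
  classical
  haveI := Fintype.ofFinite (IrrCharacter G)
  haveI := Fintype.ofFinite (IrrCharacter H)
  by_contra hcon
  push_neg at hcon
  have hχc := IsIrrCharacter.isCharacter χ.2
  obtain ⟨ξ, hξ, hξ0⟩ := exists_height_zero hM b hind.1
  have A3 := regPair_induced hM _ b B hind χ χ hχ ξ hξ hξ0
  apply factA hM B hind.2.1 χ hχ h0
  have hR : MemLocalIdeal M (∑ η : IrrCharacter H, b.indicator (fun η => classInner (fun h : H => (χ : G → ℂ) h) (η : H → ℂ)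
          * ((η : H → ℂ) 1 / (ξ : H → ℂ) 1)) η) := by
    apply MemLocalIdeal.sum hM
    intro η _
    by_cases hη : η ∈ b
    · rw [Set.indicator_of_mem hη]
      obtain ⟨n, hn⟩ := IsCharacter.classInner_irr_nat (IsCharacter.restrict H hχc) η
      by_cases hh : blockHeight p b (η : H → ℂ) = 0
      · apply MemLocalIdeal.mul_right hM _ (degree_ratio_mem hM b ξ η hη hξ0)
        rw [hn]
        exact (memLocalIdeal_natCast_iff hM n).mpr (hcon η hη hh n hn)
      · rw [hn]
        exact MemLocalIdeal.mul_left hM (MemLocalRing.natCast hM n) (degree_ratio_mem_ideal hM b ξ η hη hξ0 hh)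
    · rw [Set.indicator_of_notMem hη]; exact MemLocalIdeal.zero hM
  have h2 := MemLocalIdeal.mul_left hM (by
      have := InZ.eval_mem hM (inZ_spec_wfun (p := p) hM (IsIrrCharacter.isCharacter ξ.2)) ξ
      rwa [spec_wfun] at this) hR
  have := MemLocalIdeal.add hM A3 h2
  rwa [sub_add_cancel] at this

/-- Okuyama-type criterion for irreducible restrictions of height zero -/
theorem induced_iff_of_irr_restrict [Finite G] (hM : IsPModular p M) (H : Subgroup G) (χ : IrrCharacter G)
    (hres : IsIrrCharacter H (fun h : H => (χ : G → ℂ) h))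
    (hχ0 : blockHeight p (blockOf M (χ : G → ℂ)) (χ : G → ℂ) = 0)
    (hψ0 : blockHeight p (blockOf M (fun h : H => (χ : G → ℂ) h)) (fun h : H => (χ : G → ℂ) h) = 0)
    (e : Set (IrrCharacter H)) (he : InducedBlockDefined M H e) :
    IsInducedBlock M H e (blockOf M (χ : G → ℂ)) ↔ e = blockOf M (fun h : H => (χ : G → ℂ) h) := by
  classical
  haveI := Fintype.ofFinite G
  haveI := Fintype.ofFinite H
  haveI := Fintype.ofFinite (IrrCharacter G)
  haveI := Fintype.ofFinite (IrrCharacter H)
  have hχc := IsIrrCharacter.isCharacter χ.2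
  have hχcf := IsCharacter.isClassFunction hχc
  set ξ : IrrCharacter H := ⟨fun h : H => (χ : G → ℂ) h, hres⟩ with hξ
  have key : ∀ (B' : Set (IrrCharacter G)), IsInducedBlock M H e B' → ∀ η ∈ e, ∀ χ' ∈ B',
      MemLocalIdeal M (regPair p (ξ : H → ℂ) (η : H → ℂ) / (η : H → ℂ) 1
        - regPair p (χ : G → ℂ) (χ' : G → ℂ) / (χ' : G → ℂ) 1) := by
    intro B' hB' η hη χ' hχ'
    have h1 := lamInd_congr hM H (η : H → ℂ) χ' (hB'.2.2 η hη χ' hχ') _ (inZ_spec_wfun (p := p) hM hχc)
    rw [lamInd_spec_wfun H hχcf, spec_wfun] at h1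
    exact h1
  constructor
  · intro hind
    obtain ⟨η, hη⟩ : e.Nonempty := by obtain ⟨ξ0, rfl⟩ := hind.1; exact ⟨ξ0, SameBlock.refl hM _⟩
    have h1 := key _ hind η hη χ (SameBlock.refl hM _)
    have h2 : SameBlock M (ξ : H → ℂ) (η : H → ℂ) := by
      apply (regPair_not_mem_iff hM ξ hψ0 η).mp
      intro hmem
      apply factA hM _ ⟨χ, rfl⟩ χ (SameBlock.refl hM _) hχ0
      have := MemLocalIdeal.sub hM hmem h1
      rwa [sub_sub_cancel] at this
    rw [IsPBlock.eq_blockOf hM hind.1 hη]
    exact (IsPBlock.eq_blockOf hM ⟨ξ, rfl⟩ h2).symm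
  · intro hee
    obtain ⟨B', hB'⟩ := he
    obtain ⟨χ', hχ'⟩ : B'.Nonempty := by obtain ⟨ξ0, h⟩ := hB'.2.1; rw [h]; exact ⟨ξ0, SameBlock.refl hM _⟩
    have hξe : ξ ∈ e := by rw [hee]; exact SameBlock.refl hM _
    have h1 := key _ hB' ξ hξe χ' hχ'
    have h2 : SameBlock M (χ : G → ℂ) (χ' : G → ℂ) := by
      apply (regPair_not_mem_iff hM χ hχ0 χ').mp
      intro hmem
      apply factA hM _ ⟨ξ, rfl⟩ ξ (SameBlock.refl hM _) hψ0
      have := MemLocalIdeal.add hM h1 hmem
      rwa [sub_add_cancel] at this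
    rw [IsPBlock.eq_blockOf hM ⟨χ, rfl⟩ h2, ← IsPBlock.eq_blockOf hM hB'.2.1 hχ']
    exact hB'

end FactB
end Cfsg.Agent.H4
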