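import Cfsg.Agent.Lib_helper4_BlkV

set_option autoImplicit false
set_option linter.style.haveILetI false
set_option linter.unusedSectionVars false
namespace Cfsg.Agent.H4
open Module
open scoped ComplexConjugate
universe u v w

section FactC
variable {p : ℕ} {M : Ideal AlgInt} {G : Type u} [Group G]

theorem blockPart_eq_sum [Fintype G] [Fintype (IrrCharacter G)] (B : Set (IrrCharacter G)) (ϑ : G → ℂ) (g : G) :
    blockPart B ϑ g = ∑ η : IrrCharacter G, B.indicator 1 η * (classInner ϑ (η : G → ℂ) * (η : G → ℂ) g) := by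
  rw [blockPart_eq, finsum_mem_eq_sum_indicator]

theorem blockPart_isClassFunction [Fintype G] [Fintype (IrrCharacter G)] (B : Set (IrrCharacter G)) (ϑ : G → ℂ) :
    IsClassFunction G (blockPart B ϑ) := by
  intro g h
  rw [blockPart_eq_sum, blockPart_eq_sum]
  apply Finset.sum_congr rfl; intro η _
  rw [IrrCharacter.isClassFunction η g h]

/-- pairing the `b`-part of a class function against a member of `b` on `p`-regular elements -/
theorem spec_blockPart [Fintype G] [Fintype (IrrCharacter G)] (hM : IsPModular p M) (b : Set (IrrCharacter G))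
    (hb : IsPBlock M b) (ξ : IrrCharacter G) (hξ : ξ ∈ b) (ϑ : G → ℂ) (hϑ : IsClassFunction G ϑ) :
    spec (fun y => regInd p G y * blockPart b ϑ y⁻¹) ξ = regPair p ϑ (ξ : G → ℂ) / (ξ : G → ℂ) 1 := by
  classical
  unfold spec
  congr 1
  conv_rhs => rw [classFunction_expansion' ϑ hϑ, regPair_sum_left]
  simp only [blockPart_eq_sum, Finset.mul_sum, Finset.sum_mul]
  rw [Finset.sum_comm]
  apply Finset.sum_congr rfl; intro η _
  by_cases hη : η ∈ b
  · rw [Set.indicator_of_mem hη]
    unfold regPair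
    rw [Finset.mul_sum]
    apply Finset.sum_congr rfl; intro y _
    rw [Pi.one_apply]; ring
  · rw [Set.indicator_of_notMem hη, regPair_eq_zero hM η ξ (fun h => hη (by
      rw [IsPBlock.eq_blockOf hM hb hξ]; exact SameBlock.symm h))]
    simp

theorem broue_puig_nonvanish [Finite G] (hM : IsPModular p M) (B : Set (IrrCharacter G))
    (χ : IrrCharacter G) (hχ : χ ∈ B) (h0 : blockHeight p B (χ : G → ℂ) = 0) (x : G)
    (hx : ∃ k : ℕ, orderOf x = p ^ k) (b : Set (IrrCharacter (Subgroup.centralizer ({x} : Set G))))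
    (hb : IsInducedBlock M (Subgroup.centralizer ({x} : Set G)) b B) :
    ∃ y : Subgroup.centralizer ({x} : Set G), ¬ p ∣ orderOf y ∧
      blockPart b (fun c : Subgroup.centralizer ({x} : Set G) => (χ : G → ℂ) (x * (c : G))) y ≠ 0 := by
  classical
  haveI := Fintype.ofFinite G
  haveI := Fintype.ofFinite (IrrCharacter G)
  haveI := Fintype.ofFinite (Subgroup.centralizer ({x} : Set G))
  haveI := Fintype.ofFinite (IrrCharacter (Subgroup.centralizer ({x} : Set G)))
  by_contra hcon
  push Not at hcon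
  obtain ⟨ξ, hξ⟩ : b.Nonempty := by obtain ⟨ξ0, h⟩ := hb.1; rw [h]; exact ⟨ξ0, SameBlock.refl hM _⟩
  have hχc := IsIrrCharacter.isCharacter χ.2
  have hχcf := IsCharacter.isClassFunction hχc
  have hrcf : IsClassFunction (Subgroup.centralizer ({x} : Set G))
      (fun c : Subgroup.centralizer ({x} : Set G) => (χ : G → ℂ) c) := fun g h => hχcf (g : G) (h : G)
  have hbZ : InZ M (b.indicator 1) := by obtain ⟨ξ0, h⟩ := hb.1; rw [h]; exact inZ_indicator_block hM ξ0
  obtain ⟨kk, hkk⟩ := hx
  have hxp : x ^ (p ^ kk) = 1 := by rw [← hkk]; exact pow_orderOf_eq_one x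
  have c1 : ∀ y : Subgroup.centralizer ({x} : Set G), MemLocalIdeal M
      (blockPart b (fun c : Subgroup.centralizer ({x} : Set G) => (χ : G → ℂ) (x * (c : G))) y
        - blockPart b (fun c : Subgroup.centralizer ({x} : Set G) => (χ : G → ℂ) c) y) := by
    intro y
    rw [blockPart_eq_sum_coef b _ hrcf, blockPart_eq_sum_coef b _ (translate_isClassFunction x _ hχcf),
      ← Finset.sum_sub_distrib]
    apply MemLocalIdeal.sum hM; intro k _
    rw [← mul_sub]
    apply MemLocalIdeal.mul_left hM (hbZ k)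
    exact char_mul_sub_mem hM hχc (x := x) (y := ((k * y : Subgroup.centralizer ({x} : Set G)) : G))
      ((mem_centralizer_singleton_iff x _).mp (k * y).2) hxp
  have s1 : MemLocalIdeal M (spec (fun y : Subgroup.centralizer ({x} : Set G) =>
      regInd p (Subgroup.centralizer ({x} : Set G)) y *
        blockPart b (fun c : Subgroup.centralizer ({x} : Set G) => (χ : G → ℂ) c) y⁻¹) ξ) := by
    apply InP.eval hM
    intro g
    rw [coef_spec]
    · by_cases hg : p ∣ orderOf g
      · have : regInd p (Subgroup.centralizer ({x} : Set G)) g = 0 := by unfold regInd; rw [if_pos hg]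
        rw [this, zero_mul]; exact MemLocalIdeal.zero hM
      · apply MemLocalIdeal.mul_left hM (regInd_mem hM g)
        have h1 := c1 g⁻¹
        rw [hcon g⁻¹ (by rw [orderOf_inv]; exact hg), zero_sub] at h1
        have := MemLocalIdeal.neg h1
        rwa [neg_neg] at this
    · intro g h
      show regInd p _ (h * g * h⁻¹) * blockPart b _ (h * g * h⁻¹)⁻¹ = _
      have e : (h * g * h⁻¹)⁻¹ = h * g⁻¹ * h⁻¹ := by group
      rw [regInd_isClassFunction g h, e, blockPart_isClassFunction b _ g⁻¹ h]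
  rw [spec_blockPart hM b hb.1 ξ hξ _ hrcf] at s1
  have h1 := lamInd_congr hM _ (ξ : Subgroup.centralizer ({x} : Set G) → ℂ) χ (hb.2.2 ξ hξ χ hχ) _
    (inZ_spec_wfun (p := p) hM hχc)
  rw [lamInd_spec_wfun _ hχcf, spec_wfun] at h1
  apply factA hM B hb.2.1 χ hχ h0
  have := MemLocalIdeal.sub hM s1 h1
  rwa [sub_sub_cancel] at this

theorem height_zero_val [Finite G] (B : Set (IrrCharacter G)) (χ : IrrCharacter G) (hχ : χ ∈ B)
    (h0 : blockHeight p B (χ : G → ℂ) = 0) :
    (charDegree (χ : G → ℂ)).factorization p =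
      sInf ((fun χ : IrrCharacter G => (charDegree (χ : G → ℂ)).factorization p) '' B) := by
  unfold blockHeight at h0
  have h1 : sInf ((fun χ : IrrCharacter G => (charDegree (χ : G → ℂ)).factorization p) '' B)
      ≤ (charDegree (χ : G → ℂ)).factorization p := Nat.sInf_le ⟨χ, hχ, rfl⟩
  omega

theorem degree_val_le_card [Finite G] (χ : IrrCharacter G) :
    (charDegree (χ : G → ℂ)).factorization p ≤ (Nat.card G).factorization p := by
  haveI := Fintype.ofFinite G
  obtain ⟨n, hn0, hn1, hn2⟩ := IsIrrCharacter.exists_degree χ.2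
  rw [charDegree_eq hn2]
  exact (Nat.factorization_le_iff_dvd hn0.ne' Nat.card_pos.ne').mpr hn1 p

theorem induced_height_zero_constituent [Fintype G] (hM : IsPModular p M) (H : Subgroup G)
    (b : Set (IrrCharacter H)) (B : Set (IrrCharacter G)) (hind : IsInducedBlock M H b B)
    (hdef : blockDefect p b = blockDefect p B) (ζ : IrrCharacter H) (hζ : ζ ∈ b)
    (hζ0 : blockHeight p b (ζ : H → ℂ) = 0) :
    ∃ χ ∈ B, blockHeight p B (χ : G → ℂ) = 0 ∧ ∃ a : ℕ,
      classInner (indFun H (ζ : H → ℂ)) (χ : G → ℂ) = (a : ℂ) ∧ ¬ p ∣ a := by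
  classical
  haveI := Fintype.ofFinite H
  haveI := Fintype.ofFinite (IrrCharacter G)
  by_contra hcon
  push Not at hcon
  obtain ⟨⟨n, hn, hn0, hnv⟩, _⟩ := induced_block_part_degree hM H b B hind ζ hζ
  obtain ⟨χ0, hχ0, hχ00⟩ := exists_height_zero hM B hind.2.1
  obtain ⟨d0, hd0, hd1, hd2⟩ := IrrCharacter.exists_degree χ0
  obtain ⟨dζ, hdζ0, hdζ1, hdζ2⟩ := IrrCharacter.exists_degree ζ
  have hN : indFun H (ζ : H → ℂ) 1 = ((H.index * dζ : ℕ) : ℂ) := by
    rw [indFun_apply_one, hdζ1]; push_cast; rfl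
  rw [charDegree_eq hN, Nat.factorization_mul Subgroup.index_ne_zero_of_finite hdζ0.ne'] at hnv
  have hnv' : n.factorization p = H.index.factorization p + dζ.factorization p := hnv
  have v1 := height_zero_val (p := p) b ζ hζ hζ0
  have v2 := height_zero_val (p := p) B χ0 hχ0 hχ00
  have v3 := degree_val_le_card (p := p) ζ
  have v4 := degree_val_le_card (p := p) χ0
  have v5 : (Nat.card G).factorization p = H.index.factorization p + (Nat.card H).factorization p := by
    rw [← H.index_mul_card, Nat.factorization_mul Subgroup.index_ne_zero_of_finite Nat.card_pos.ne']; rfl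
  unfold blockDefect at hdef
  rw [← v1, ← v2, hd2, hdζ2] at hdef
  rw [hd2] at v4
  rw [hdζ2] at v3
  have hc : IsCharacter G (indFun H (ζ : H → ℂ)) := IsCharacter.ind H (IsIrrCharacter.isCharacter ζ.2)
  have hmem : MemLocalIdeal M ((n : ℂ) / (d0 : ℂ)) := by
    rw [← hn, blockPart_eq_sum, Finset.sum_div]
    apply MemLocalIdeal.sum hM
    intro η _
    by_cases hη : η ∈ B
    · rw [Set.indicator_of_mem hη, Pi.one_apply, one_mul, mul_div_assoc, ← hd1]
      obtain ⟨a, ha⟩ := IsCharacter.classInner_irr_nat hc η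
      by_cases hh : blockHeight p B (η : G → ℂ) = 0
      · apply MemLocalIdeal.mul_right hM _ (degree_ratio_mem hM B χ0 η hη hχ00)
        rw [ha]
        exact (memLocalIdeal_natCast_iff hM a).mpr (hcon η hη hh a ha)
      · rw [ha]
        exact MemLocalIdeal.mul_left hM (MemLocalRing.natCast hM a) (degree_ratio_mem_ideal hM B χ0 η hη hχ00 hh)
    · rw [Set.indicator_of_notMem hη, zero_mul, zero_div]; exact MemLocalIdeal.zero hM
  have := (nat_ratio_val hM n d0 hn0 hd0.ne' (MemLocalIdeal.memLocalRing hmem)).2.mp hmem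
  omega

theorem reg_inner_induced [Fintype G] (hM : IsPModular p M) (H : Subgroup G) [Fintype H]
    (b : Set (IrrCharacter H)) (B₀ : Set (IrrCharacter G)) (hind : IsInducedBlock M H b B₀)
    (χ : IrrCharacter G) (ψ : IrrCharacter H) (hψ : ψ ∈ b) :
    (χ ∉ B₀ → MemLocalIdeal M (classInner (fun h : H => if p ∣ orderOf h then (0 : ℂ) else
      ((p ^ (Nat.card H).factorization p : ℕ) : ℂ) * (χ : G → ℂ) h) (ψ : H → ℂ) / (ψ : H → ℂ) 1)) ∧
    (χ ∈ B₀ → blockHeight p B₀ (χ : G → ℂ) = 0 →
      ¬ MemLocalIdeal M (classInner (fun h : H => if p ∣ orderOf h then (0 : ℂ) else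
      ((p ^ (Nat.card H).factorization p : ℕ) : ℂ) * (χ : G → ℂ) h) (ψ : H → ℂ) / (ψ : H → ℂ) 1)) := by
  haveI := Fintype.ofFinite (IrrCharacter G)
  haveI := Fintype.ofFinite (IrrCharacter H)
  have hp := hM.1
  have hχc := IsIrrCharacter.isCharacter χ.2
  have hχcf := IsCharacter.isClassFunction hχc
  set m := Nat.card H / p ^ (Nat.card H).factorization p with hm
  have hm1 : p ^ (Nat.card H).factorization p * m = Nat.card H := Nat.ordProj_mul_ordCompl_eq_self _ p
  have hm2 : ¬ p ∣ m := Nat.not_dvd_ordCompl hp Nat.card_pos.ne'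
  have hm0 : (m : ℂ) ≠ 0 := by
    intro h
    apply hm2
    have : m = 0 := by exact_mod_cast h
    rw [this]; exact dvd_zero p
  have hpa : ((p ^ (Nat.card H).factorization p : ℕ) : ℂ) ≠ 0 := by
    exact_mod_cast (pow_pos hp.pos _).ne'
  have e : classInner (fun h : H => if p ∣ orderOf h then (0 : ℂ) else
      ((p ^ (Nat.card H).factorization p : ℕ) : ℂ) * (χ : G → ℂ) h) (ψ : H → ℂ) / (ψ : H → ℂ) 1
      = (m : ℂ)⁻¹ * (regPair p (fun h : H => (χ : G → ℂ) h) (ψ : H → ℂ) / (ψ : H → ℂ) 1) := by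
    have e1 : classInner (fun h : H => if p ∣ orderOf h then (0 : ℂ) else
        ((p ^ (Nat.card H).factorization p : ℕ) : ℂ) * (χ : G → ℂ) h) (ψ : H → ℂ)
        = (Nat.card H : ℂ)⁻¹ * (((p ^ (Nat.card H).factorization p : ℕ) : ℂ) *
          regPair p (ψ : H → ℂ) (fun h : H => (χ : G → ℂ) h)) := by
      unfold classInner regPair
      rw [Finset.mul_sum (a := ((p ^ (Nat.card H).factorization p : ℕ) : ℂ))]
      congr 1
      apply Finset.sum_congr rfl; intro h _
      rw [IsCharacter.inv_eq_conj (IsIrrCharacter.isCharacter ψ.2)]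
      unfold regInd
      by_cases hh : p ∣ orderOf h
      · simp only [if_pos hh]; ring
      · simp only [if_neg hh]; ring
    have hcardC : (Nat.card H : ℂ) = ((p ^ (Nat.card H).factorization p : ℕ) : ℂ) * (m : ℂ) := by
      exact_mod_cast hm1.symm
    rw [e1, regPair_comm, hcardC]
    field_simp
  rw [e]
  have key : ∀ χ' ∈ B₀, MemLocalIdeal M (regPair p (fun h : H => (χ : G → ℂ) h) (ψ : H → ℂ) / (ψ : H → ℂ) 1
      - regPair p (χ : G → ℂ) (χ' : G → ℂ) / (χ' : G → ℂ) 1) := by
    intro χ' hχ'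
    have h1 := lamInd_congr hM H (ψ : H → ℂ) χ' (hind.2.2 ψ hψ χ' hχ') _ (inZ_spec_wfun (p := p) hM hχc)
    rw [lamInd_spec_wfun H hχcf, spec_wfun] at h1
    exact h1
  constructor
  · intro hχ
    obtain ⟨χ', hχ'⟩ : B₀.Nonempty := by obtain ⟨ξ0, h⟩ := hind.2.1; rw [h]; exact ⟨ξ0, SameBlock.refl hM _⟩
    have h1 := key χ' hχ'
    rw [regPair_eq_zero hM χ χ' (fun h => hχ (by
      rw [IsPBlock.eq_blockOf hM hind.2.1 hχ']; exact SameBlock.symm h)), zero_div, sub_zero] at h1
    exact MemLocalIdeal.mul_left hM (memLocalRing_inv_natCast hM hm2) h1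
  · intro hχ h0 hmem
    apply factA hM B₀ hind.2.1 χ hχ h0
    have h1 := key χ hχ
    have h2 := MemLocalIdeal.mul_left hM (MemLocalRing.natCast hM m) hmem
    rw [← mul_assoc, mul_inv_cancel₀ hm0, one_mul] at h2
    have := MemLocalIdeal.sub hM h2 h1
    rwa [sub_sub_cancel] at this

end FactC
end Cfsg.Agent.H4
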