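import Cfsg.Agent.Lib_helper4_BlkW

set_option autoImplicit false
set_option linter.style.haveILetI false
set_option linter.unusedSectionVars false
namespace Cfsg.Agent.H4
open Module
open scoped ComplexConjugate
universe u v w

section FactD
variable {p : ℕ} {M : Ideal AlgInt} {G : Type u} [Group G]

theorem irr_central_mul [Finite G] {χ : G → ℂ} (hχ : IsIrrCharacter G χ) (a : G) (ha : ∀ x : G, x * a = a * x)
    (h : G) : χ (a * h) = χ a * χ h / χ 1 := by
  haveI := Fintype.ofFinite G
  have h1 := sum_conj_mul hχ a h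
  have h2 : ∀ x : G, x * a * x⁻¹ = a := fun x => by rw [ha x, mul_assoc, mul_inv_cancel, mul_one]
  simp only [h2, Finset.sum_const, Finset.card_univ, nsmul_eq_mul] at h1
  rw [← Nat.card_eq_fintype_card] at h1
  have hG : (Nat.card G : ℂ) ≠ 0 := card_ne_zero_C
  have h3 : (Nat.card G : ℂ) * χ (a * h) = (Nat.card G : ℂ) * (χ a * χ h / χ 1) := by
    rw [h1]; ring
  exact mul_left_cancel₀ hG h3

theorem translate_inner_mem [Finite G] (hM : IsPModular p M) (χ : IrrCharacter G) (y : G) (D : Subgroup G)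
    [Fintype D] (hDC : D ≤ Subgroup.centralizer ({y} : Set G)) (μ : IrrCharacter D) :
    MemLocalRing M (classInner (fun u : D => (χ : G → ℂ) ((u : G) * y)) (μ : D → ℂ)) := by
  classical
  haveI := Fintype.ofFinite G
  haveI := Fintype.ofFinite (Subgroup.centralizer ({y} : Set G))
  haveI := Fintype.ofFinite (IrrCharacter (Subgroup.centralizer ({y} : Set G)))
  haveI := Fintype.ofFinite (IrrCharacter D)
  have hχc := IsIrrCharacter.isCharacter χ.2
  have hχcf := IsCharacter.isClassFunction hχc
  have hyC : y ∈ Subgroup.centralizer ({y} : Set G) := by rw [mem_centralizer_singleton_iff]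
  have hrcf : IsClassFunction (Subgroup.centralizer ({y} : Set G))
      (fun c : Subgroup.centralizer ({y} : Set G) => (χ : G → ℂ) c) := fun g h => hχcf (g : G) (h : G)
  have hcen : ∀ c : Subgroup.centralizer ({y} : Set G), c * ⟨y, hyC⟩ = ⟨y, hyC⟩ * c := by
    intro c
    apply Subtype.ext
    exact ((mem_centralizer_singleton_iff y c).mp c.2).symm
  have hexp : (fun u : D => (χ : G → ℂ) ((u : G) * y)) = ∑ η : IrrCharacter (Subgroup.centralizer ({y} : Set G)),
      (classInner (fun c : Subgroup.centralizer ({y} : Set G) => (χ : G → ℂ) c)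
        (η : Subgroup.centralizer ({y} : Set G) → ℂ) * centralChar (η : Subgroup.centralizer ({y} : Set G) → ℂ) ⟨y, hyC⟩) •
        (fun u : D => (η : Subgroup.centralizer ({y} : Set G) → ℂ) (Subgroup.inclusion hDC u)) := by
    funext u
    have h := congrFun (classFunction_expansion' _ hrcf) (Subgroup.inclusion hDC u * ⟨y, hyC⟩)
    simp only [Finset.sum_apply, Pi.smul_apply, smul_eq_mul] at h ⊢
    have e : (χ : G → ℂ) ((u : G) * y) = (χ : G → ℂ) ((Subgroup.inclusion hDC u * ⟨y, hyC⟩ :
      Subgroup.centralizer ({y} : Set G)) : G) := rfl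
    rw [e, h]
    apply Finset.sum_congr rfl; intro η _
    rw [hcen, irr_central_mul η.2 _ hcen]
    have htop : Subgroup.centralizer ({(⟨y, hyC⟩ : Subgroup.centralizer ({y} : Set G))} : Set _) = ⊤ := by
      rw [eq_top_iff]
      intro c _
      rw [mem_centralizer_singleton_iff]
      exact (hcen c).symm
    unfold centralChar
    rw [htop, Subgroup.index_top]
    push_cast
    ring
  rw [hexp, classInner_sum_left]
  apply MemLocalRing.sum hM
  intro η _
  rw [classInner_smul_left]
  obtain ⟨n, hn⟩ := IsCharacter.classInner_irr_nat (IsCharacter.restrict _ hχc) η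
  obtain ⟨m, hm⟩ := IsCharacter.classInner_irr_nat
    (IsCharacter.comp (Subgroup.inclusion hDC) (IsIrrCharacter.isCharacter η.2)) μ
  apply MemLocalRing.mul hM (MemLocalRing.mul hM _ (memLocalRing_of_isIntegral hM (isIntegral_centralChar η _)))
  · rw [show classInner (fun u : D => (η : Subgroup.centralizer ({y} : Set G) → ℂ) (Subgroup.inclusion hDC u)) (μ : D → ℂ)
      = (m : ℂ) from hm]
    exact MemLocalRing.natCast hM m
  · rw [hn]; exact MemLocalRing.natCast hM n

/-- a height zero character lying over `λ ∈ Irr(Z)`, `Z` central: `λ` extends to a defect group -/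
theorem central_char_extends_of_height_zero [Finite G] [Fact p.Prime] (hM : IsPModular p M)
    (B : Set (IrrCharacter G)) (hB : IsPBlock M B) (D : Subgroup G) (hD : IsDefectGroup p M B D)
    (Z : Subgroup G) (hZc : Z ≤ Subgroup.center G) (hZD : Z ≤ D) (lam : Z →* ℂˣ) (χ : IrrCharacter G)
    (hχ : χ ∈ B) (hover : ∀ z : Z, (χ : G → ℂ) z = (χ : G → ℂ) 1 * (lam z : ℂ))
    (h0 : blockHeight p B (χ : G → ℂ) = 0) :
    ∃ μ : D →* ℂˣ, ∀ z : Z, μ ⟨(z : G), hZD z.2⟩ = lam z := by
  classical
  haveI := Fintype.ofFinite G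
  haveI := Fintype.ofFinite D
  haveI := Fintype.ofFinite (IrrCharacter D)
  have hp := hM.1
  have hcardD := defect_group_card hM B hB D hD
  obtain ⟨y, hy, P, hDP⟩ := hD
  have hDC : D ≤ Subgroup.centralizer ({y} : Set G) := by
    rw [hDP]
    rintro _ ⟨c, _, rfl⟩
    exact c.2
  have hχc := IsIrrCharacter.isCharacter χ.2
  have hχcf := IsCharacter.isClassFunction hχc
  have hχ1 := IsIrrCharacter.apply_one_ne_zero χ.2
  have hy0 := height_zero_not_mem hM B hB y hy 1 (Commute.one_left y) (k := 0) (by simp) χ hχ h0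
  rw [one_mul] at hy0
  have hfcf : IsClassFunction D (fun u : D => (χ : G → ℂ) ((u : G) * y)) := by
    intro g h
    show (χ : G → ℂ) (((h * g * h⁻¹ : D) : G) * y) = _
    have hh := (mem_centralizer_singleton_iff y (h : G)).mp (hDC h.2)
    have e : ((h * g * h⁻¹ : D) : G) * y = (h : G) * ((g : G) * y) * (h : G)⁻¹ := by
      have h2 : (h : G)⁻¹ * y = y * (h : G)⁻¹ := by
        rw [inv_mul_eq_iff_eq_mul, ← mul_assoc, ← hh, mul_assoc, mul_inv_cancel, mul_one]
      simp only [Subgroup.coe_mul, Subgroup.coe_inv]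
      rw [mul_assoc, h2]; group
    rw [e, hχcf]
  have hexp := congrFun (classFunction_expansion' _ hfcf) 1
  simp only [Finset.sum_apply, Pi.smul_apply, smul_eq_mul, Subgroup.coe_one, one_mul] at hexp
  -- some constituent has degree prime to p
  obtain ⟨μ, hμ0, hμ1⟩ : ∃ μ : IrrCharacter D, classInner (fun u : D => (χ : G → ℂ) ((u : G) * y)) (μ : D → ℂ) ≠ 0 ∧
      (μ : D → ℂ) 1 = 1 := by
    by_contra hcon
    push Not at hcon
    apply hy0
    rw [hexp]
    apply MemLocalIdeal.sum hM
    intro μ _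
    by_cases h : classInner (fun u : D => (χ : G → ℂ) ((u : G) * y)) (μ : D → ℂ) = 0
    · rw [h, zero_mul]; exact MemLocalIdeal.zero hM
    · apply MemLocalIdeal.mul_left hM (translate_inner_mem hM χ y D hDC μ)
      obtain ⟨n, hn0, hn1, hn2⟩ := IsIrrCharacter.exists_degree μ.2
      rw [hn2, memLocalIdeal_natCast_iff hM]
      rw [hcardD] at hn1
      obtain ⟨j, _, hj⟩ := (Nat.dvd_prime_pow hp).mp hn1
      have hj0 : j ≠ 0 := by
        rintro rfl
        apply hcon μ h
        rw [hn2, hj]; simp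
      rw [hj]; exact dvd_pow_self p hj0
  have hμc := IsIrrCharacter.isCharacter μ.2
  refine ⟨linearHom hμc hμ1, ?_⟩
  intro z
  have hzc : ∀ x : G, x * (z : G) = (z : G) * x := fun x => (Subgroup.mem_center_iff.mp (hZc z.2) x)
  set z' : D := ⟨(z : G), hZD z.2⟩ with hz'
  have e1 : classInner (fun u : D => (χ : G → ℂ) ((u : G) * y)) (μ : D → ℂ)
      = ((lam z : ℂ) * conj ((μ : D → ℂ) z')) * classInner (fun u : D => (χ : G → ℂ) ((u : G) * y)) (μ : D → ℂ) := by
    conv_lhs => unfold classInner
    rw [← Equiv.sum_comp (Equiv.mulLeft z')]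
    unfold classInner
    rw [mul_left_comm]
    congr 1
    rw [Finset.mul_sum]
    apply Finset.sum_congr rfl; intro u _
    simp only [Equiv.coe_mulLeft]
    rw [IsCharacter.linear_mul hμc hμ1, map_mul]
    have e2 : (χ : G → ℂ) (((z' * u : D) : G) * y) = (lam z : ℂ) * (χ : G → ℂ) ((u : G) * y) := by
      have : ((z' * u : D) : G) * y = (z : G) * ((u : G) * y) := by
        simp only [Subgroup.coe_mul, hz']; rw [mul_assoc]
      rw [this, irr_central_mul χ.2 _ hzc, hover z]
      field_simp
    rw [e2]; ring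
  have e3 : (lam z : ℂ) * conj ((μ : D → ℂ) z') = 1 := by
    have : ((lam z : ℂ) * conj ((μ : D → ℂ) z') - 1) * classInner (fun u : D => (χ : G → ℂ) ((u : G) * y)) (μ : D → ℂ) = 0 := by
      rw [sub_mul, one_mul, ← e1, sub_self]
    rcases mul_eq_zero.mp this with h | h
    · exact sub_eq_zero.mp h
    · exact absurd h hμ0
  -- μ(z') * conj μ(z') = 1
  have e4 : (μ : D → ℂ) z' * conj ((μ : D → ℂ) z') = 1 := by
    rw [← IsCharacter.inv_eq_conj hμc, ← IsCharacter.linear_mul hμc hμ1, mul_inv_cancel, hμ1]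
  apply Units.ext
  rw [linearHom_apply]
  have hne : conj ((μ : D → ℂ) z') ≠ 0 := by
    intro h; rw [h, mul_zero] at e4; exact zero_ne_one e4
  exact mul_right_cancel₀ hne (e4.trans e3.symm)

end FactD
end Cfsg.Agent.H4
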