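import Mathlib

set_option autoImplicit false

/-! Rings (without identity) of integer valued functions: Banaschewski's lemma and relatives. -/

namespace Cfsg.Agent.LeadBr

variable {A : Type*} [CommRing A]

theorem intCast_mul_mem (R : AddSubgroup A) {r : A} (hr : r ∈ R) (k : ℤ) : (k : A) * r ∈ R := by
  rw [← zsmul_eq_mul]
  exact R.zsmul_mem hr k

theorem prod_one_sub_mem {ι : Type*} (R : AddSubgroup A) (hmul : ∀ f ∈ R, ∀ g ∈ R, f * g ∈ R)
    (T : Finset ι) (f : ι → A) (hf : ∀ i ∈ T, f i ∈ R) : (∏ i ∈ T, (1 - f i)) - 1 ∈ R := by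
  classical
  induction T using Finset.induction_on with
  | empty => simp
  | insert a T ha ih =>
    rw [Finset.prod_insert ha]
    have h1 := ih (fun i hi => hf i (Finset.mem_insert_of_mem hi))
    have h2 := hf a (Finset.mem_insert_self a T)
    have : (1 - f a) * (∏ i ∈ T, (1 - f i)) - 1
        = ((∏ i ∈ T, (1 - f i)) - 1) - f a * ((∏ i ∈ T, (1 - f i)) - 1) - f a := by ring
    rw [this]
    exact R.sub_mem (R.sub_mem h1 (hmul _ h2 _ h1)) h2

theorem prod_sub_const_mem {ι : Type*} (R : AddSubgroup A) (hmul : ∀ f ∈ R, ∀ g ∈ R, f * g ∈ R)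
    (T : Finset ι) {r : A} (hr : r ∈ R) (c : ι → ℤ) :
    (∏ i ∈ T, (r - (c i : A))) - ((∏ i ∈ T, (- c i) : ℤ) : A) ∈ R := by
  classical
  induction T using Finset.induction_on with
  | empty => simp
  | insert a T ha ih =>
    rw [Finset.prod_insert ha, Finset.prod_insert ha]
    set P := ∏ i ∈ T, (r - (c i : A))
    set k := ∏ i ∈ T, (- c i)
    have : (r - (c a : A)) * P - ((- c a * k : ℤ) : A)
        = r * (P - (k : A)) + (k : A) * r - (c a : A) * (P - (k : A)) := by
      push_cast; ring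
    rw [this]
    exact R.sub_mem (R.add_mem (hmul _ hr _ ih) (intCast_mul_mem R hr k)) (intCast_mul_mem R ih _)

/-- Banaschewski. -/
theorem banaschewski {S : Type*} [Finite S] (R : AddSubgroup (S → ℤ))
    (hmul : ∀ f ∈ R, ∀ g ∈ R, f * g ∈ R) (h1 : (1 : S → ℤ) ∉ R) :
    ∃ (x : S) (p : ℕ), p.Prime ∧ ∀ f ∈ R, (p : ℤ) ∣ f x := by
  classical
  cases nonempty_fintype S
  by_contra hcon
  push_neg at hcon
  have key : ∀ x : S, ∃ f ∈ R, f x = 1 := by
    intro x
    obtain ⟨d, hd⟩ := Int.subgroup_cyclic (R.map (Pi.evalAddMonoidHom (fun _ : S => ℤ) x))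
    by_cases hd1 : d.natAbs = 1
    · have : (1 : ℤ) ∈ R.map (Pi.evalAddMonoidHom (fun _ : S => ℤ) x) := by
        rw [hd, AddSubgroup.mem_closure_singleton]
        rcases Int.natAbs_eq d with h | h
        · exact ⟨1, by rw [h, hd1]; simp⟩
        · exact ⟨-1, by rw [h, hd1]; simp⟩
      obtain ⟨f, hf, hfx⟩ := this
      exact ⟨f, hf, hfx⟩
    · obtain ⟨p, hp, hpd⟩ := Nat.exists_prime_and_dvd hd1
      obtain ⟨f, hf, hfx⟩ := hcon x p hp
      exfalso
      apply hfx
      have : f x ∈ R.map (Pi.evalAddMonoidHom (fun _ : S => ℤ) x) := ⟨f, hf, rfl⟩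
      rw [hd, AddSubgroup.mem_closure_singleton] at this
      obtain ⟨k, hk⟩ := this
      rw [← hk]
      have h2 : (p : ℤ) ∣ d := Int.natCast_dvd.mpr hpd
      exact Dvd.dvd.mul_left h2 k |>.trans (by simp)
  choose f hf hfx using key
  have h2 := prod_one_sub_mem R hmul Finset.univ f (fun i _ => hf i)
  have h3 : (∏ i, (1 - f i)) = 0 := by
    funext x
    rw [Finset.prod_apply]
    apply Finset.prod_eq_zero (Finset.mem_univ x)
    simp [hfx]
  rw [h3, zero_sub] at h2
  exact h1 (by simpa using R.neg_mem h2)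

/-- local version: if every point admits a member of the ring with value prime to `p`,
then some constant prime to `p` is in the ring. -/
theorem exists_const_mem {S : Type*} [Finite S] (R : AddSubgroup (S → ℤ))
    (hmul : ∀ f ∈ R, ∀ g ∈ R, f * g ∈ R) (p : ℕ) (hp : p.Prime)
    (h : ∀ x : S, ∃ f ∈ R, ¬ (p : ℤ) ∣ f x) :
    ∃ m : ℤ, ¬ (p : ℤ) ∣ m ∧ (fun _ => m : S → ℤ) ∈ R := by
  classical
  cases nonempty_fintype S
  haveI := Fact.mk hp
  choose f hf hfx using h
  have hpow : ∀ (g : S → ℤ), g ∈ R → ∀ n : ℕ, 0 < n → g ^ n ∈ R := by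
    intro g hg n hn
    induction n with
    | zero => omega
    | succ n ih =>
      rcases Nat.eq_zero_or_pos n with rfl | hn'
      · simpa using hg
      · rw [pow_succ]; exact hmul _ (ih hn') _ hg
  have hp1 : 0 < p - 1 := by have := hp.two_le; omega
  -- r ≡ 1 mod p everywhere
  have h2 := prod_one_sub_mem R hmul Finset.univ (fun i => f i ^ (p - 1))
    (fun i _ => hpow _ (hf i) _ hp1)
  set r : S → ℤ := 1 - ∏ i, (1 - f i ^ (p - 1)) with hr
  have hrR : r ∈ R := by
    have := R.neg_mem h2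
    simpa [hr] using this
  have hrx : ∀ x, ¬ (p : ℤ) ∣ r x := by
    intro x hx
    have h3 : (p : ℤ) ∣ (∏ i, (1 - f i ^ (p - 1))) x := by
      rw [Finset.prod_apply]
      apply Dvd.dvd.trans _ (Finset.dvd_prod_of_mem _ (Finset.mem_univ x))
      have h4 : ((f x x : ℤ) : ZMod p) ≠ 0 := by
        rw [Ne, ZMod.intCast_zmod_eq_zero_iff_dvd]
        exact hfx x
      have h5 := ZMod.pow_card_sub_one_eq_one h4
      rw [← ZMod.intCast_zmod_eq_zero_iff_dvd]
      simp [h5]
    have h6 : (p : ℤ) ∣ 1 := by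
      have : (1 : ℤ) = r x + (∏ i, (1 - f i ^ (p - 1))) x := by simp [hr]
      rw [this]
      exact dvd_add hx h3
    exact hp.one_lt.ne' (by exact_mod_cast Int.natAbs_dvd_natAbs.mpr h6 |> Nat.dvd_one.mp)
  have h7 := prod_sub_const_mem R hmul Finset.univ hrR (fun x => r x)
  have h8 : (∏ x, (r - ((r x : ℤ) : S → ℤ))) = 0 := by
    funext y
    rw [Finset.prod_apply]
    apply Finset.prod_eq_zero (Finset.mem_univ y)
    simp
  rw [h8, zero_sub] at h7
  refine ⟨∏ x, (- r x), ?_, ?_⟩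
  · intro hd
    have hpp : Prime (p : ℤ) := Nat.prime_iff_prime_int.mp hp
    obtain ⟨x, -, hx⟩ := (Prime.dvd_finset_prod_iff hpp _).mp hd
    exact hrx x ((dvd_neg).mp hx)
  · have := R.neg_mem h7
    rw [neg_neg] at this
    exact this

end Cfsg.Agent.LeadBr
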