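import Mathlib
import Cfsg.Prelude.Def_Characters
import Cfsg.Agent.Lib_helper4_CharK
import Cfsg.Agent.Lib_lead_Br1

set_option autoImplicit false

/-! Permutation characters: products, orbit decomposition. -/

namespace Cfsg.Agent.LeadBr

open Cfsg Cfsg.Agent.H4 MulAction

variable {G : Type*} [Group G] [Fintype G]

theorem indFun_one_congr {H K : Subgroup G} (h : H = K) :
    indFun H (fun _ => (1 : ℂ)) = indFun K (fun _ => 1) := by subst h; rfl

/-- permutation character, natural number valued -/
noncomputable def pc (H : Subgroup G) (g : G) : ℕ := Nat.card (fixedBy (G ⧸ H) g)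

theorem pc_cast (H : Subgroup G) (g : G) : (pc H g : ℂ) = indFun H (fun _ => 1) g := by
  have h := congrFun (permChar_eq_ind (G ⧸ H) ((1 : G) : G ⧸ H)) g
  rw [indFun_one_congr (stabilizer_quotient H)] at h
  exact h

theorem card_fixedBy_orbit {X : Type*} [MulAction G X] [Finite X] (x : X) (g : G) :
    Nat.card (fixedBy (orbit G x) g) = pc (stabilizer G x) g := by
  have h := congrFun (permChar_eq_ind (orbit G x) (⟨x, mem_orbit_self x⟩ : orbit G x)) g
  have hs : stabilizer G (⟨x, mem_orbit_self x⟩ : orbit G x) = stabilizer G x := by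
    ext y; simp [mem_stabilizer_iff, Subtype.ext_iff]
  rw [indFun_one_congr hs, ← pc_cast] at h
  exact_mod_cast h

theorem card_fixedBy_eq_sum {X : Type*} [MulAction G X] [Finite X]
    [Fintype (orbitRel.Quotient G X)]
    (rep : orbitRel.Quotient G X → X)
    (hrep : ∀ o, (Quotient.mk'' (rep o) : orbitRel.Quotient G X) = o) (g : G) :
    Nat.card (fixedBy X g) = ∑ o, pc (stabilizer G (rep o)) g := by
  classical
  have e := Equiv.sigmaFiberEquiv
    (fun x : fixedBy X g => (Quotient.mk'' (x : X) : orbitRel.Quotient G X))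
  rw [← Nat.card_congr e, Nat.card_sigma]
  apply Finset.sum_congr rfl
  intro o _
  rw [← card_fixedBy_orbit]
  have hmem : ∀ x : X, (Quotient.mk'' x : orbitRel.Quotient G X) = o ↔ x ∈ orbit G (rep o) := by
    intro x
    conv_lhs => rw [← hrep o]
    rw [Quotient.eq'']
    exact orbitRel_apply
  refine Nat.card_congr
    { toFun := fun z => ⟨⟨z.1.1, (hmem _).mp z.2⟩, ?_⟩
      invFun := fun w => ⟨⟨w.1.1, ?_⟩, (hmem _).mpr w.1.2⟩
      left_inv := fun z => rfl
      right_inv := fun w => rfl }
  · rw [mem_fixedBy]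
    exact Subtype.ext z.1.2
  · have := w.2
    rw [mem_fixedBy] at this ⊢
    exact congrArg Subtype.val this

theorem pc_mul (H K : Subgroup G) : ∃ a : Subgroup G → ℕ, (∀ U, a U ≠ 0 → U ≤ H) ∧
    ∀ g, pc H g * pc K g = ∑ U : Subgroup G, a U * pc U g := by
  classical
  haveI : Fintype (orbitRel.Quotient G ((G ⧸ H) × (G ⧸ K))) := Fintype.ofFinite _
  have hex : ∀ o : orbitRel.Quotient G ((G ⧸ H) × (G ⧸ K)), ∃ x : (G ⧸ H) × (G ⧸ K),
      (Quotient.mk'' x : orbitRel.Quotient G ((G ⧸ H) × (G ⧸ K))) = o ∧ x.1 = ((1 : G) : G ⧸ H) := by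
    intro o
    induction o using Quotient.inductionOn' with
    | h x =>
      obtain ⟨x1, x2⟩ := x
      obtain ⟨y, rfl⟩ := QuotientGroup.mk_surjective x1
      refine ⟨y⁻¹ • ((y : G ⧸ H), x2), ?_, ?_⟩
      · rw [Quotient.eq'']
        exact orbitRel_apply.mpr ⟨y⁻¹, rfl⟩
      · change ((y⁻¹ * y : G) : G ⧸ H) = _
        rw [inv_mul_cancel]
  choose rep hrep hrep1 using hex
  refine ⟨fun U => Nat.card {o // stabilizer G (rep o) = U}, ?_, ?_⟩
  · intro U hU
    have : Nonempty {o // stabilizer G (rep o) = U} := by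
      by_contra hne
      rw [not_nonempty_iff] at hne
      exact hU Nat.card_of_isEmpty
    obtain ⟨o, rfl⟩ := this
    intro y hy
    rw [mem_stabilizer_iff] at hy
    have h1 := congrArg Prod.fst hy
    rw [Prod.smul_fst, hrep1] at h1
    have : y ∈ stabilizer G ((1 : G) : G ⧸ H) := h1
    rwa [stabilizer_quotient] at this
  · intro g
    have h1 : pc H g * pc K g = Nat.card (fixedBy ((G ⧸ H) × (G ⧸ K)) g) := by
      unfold pc
      rw [← Nat.card_prod]
      refine Nat.card_congr
        { toFun := fun z => ⟨(z.1.1, z.2.1), ?_⟩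
          invFun := fun w => (⟨w.1.1, congrArg Prod.fst w.2⟩, ⟨w.1.2, congrArg Prod.snd w.2⟩)
          left_inv := fun z => rfl
          right_inv := fun w => rfl }
      rw [mem_fixedBy]
      exact Prod.ext z.1.2 z.2.2
    rw [h1, card_fixedBy_eq_sum rep hrep g]
    rw [← Finset.sum_fiberwise Finset.univ (fun o => stabilizer G (rep o))]
    apply Finset.sum_congr rfl
    intro U _
    rw [Finset.sum_congr rfl (g := fun _ => pc U g)]
    · rw [Finset.sum_const, smul_eq_mul]
      congr 1
      change _ = Nat.card { o // stabilizer G (rep o) = U }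
      rw [Nat.card_eq_fintype_card, Fintype.card_subtype]
    · intro o ho
      rw [(Finset.mem_filter.mp ho).2]

end Cfsg.Agent.LeadBr
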