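import Mathlib
import Cfsg.Prelude.Def_Characters
import Cfsg.Agent.Lib_lead_Br2
import Cfsg.Agent.Lib_helper1_Coprime

set_option autoImplicit false
set_option linter.style.haveILetI false

/-! Quasi-elementary subgroups and Solomon's theorem (local form). -/

namespace Cfsg.Agent.LeadBr

open Cfsg Cfsg.Agent.H4 MulAction Subgroup

variable {G : Type*} [Group G]

def QE (p : ℕ) (H : Subgroup G) : Prop :=
  ∃ C : Subgroup G, C ≤ H ∧ H ≤ Subgroup.normalizer (C : Set G) ∧ IsCyclic C ∧
    Nat.Coprime (Nat.card C) p ∧ ∃ k : ℕ, C.relIndex H = p ^ k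

theorem mem_of_coprime_of_relIndex {p k : ℕ} {C H : Subgroup G} (hCH : C ≤ H)
    (hHN : H ≤ normalizer (C : Set G)) (hk : C.relIndex H = p ^ k) {h : G} (hh : h ∈ H)
    (hc : Nat.Coprime (orderOf h) p) : h ∈ C := by
  haveI : (C.subgroupOf H).Normal := (normal_subgroupOf_iff_le_normalizer hCH).mpr hHN
  have h1 := Subgroup.pow_index_mem (C.subgroupOf H) (⟨h, hh⟩ : H)
  have h2 : h ^ (p ^ k) ∈ C := by
    rw [← hk]; exact h1
  obtain ⟨m, hm⟩ := exists_pow_eq_self_of_coprime (x := h) (n := p ^ k)
    ((Nat.Coprime.pow_right k hc).symm)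
  rw [← hm]; exact pow_mem h2 m

theorem mem_of_pow_mem_of_coprime {S : Subgroup G} {x : G} {r s : ℕ} (h : r.Coprime s)
    (h1 : x ^ r ∈ S) (h2 : x ^ s ∈ S) : x ∈ S := by
  have h3 := Nat.gcd_eq_gcd_ab r s
  rw [h] at h3
  have : x = (x ^ r) ^ (r.gcdA s) * (x ^ s) ^ (r.gcdB s) := by
    rw [← zpow_natCast, ← zpow_natCast, ← zpow_mul, ← zpow_mul, ← zpow_add, ← h3]
    simp
  rw [this]
  exact mul_mem (zpow_mem h1 _) (zpow_mem h2 _)

theorem mem_normalizer_of_conj_le [Finite G] {C : Subgroup G} {y : G}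
    (h : ∀ c ∈ C, y⁻¹ * c * y ∈ C) : y ∈ normalizer (C : Set G) := by
  have h1 : C.map (MulAut.conj y⁻¹).toMonoidHom ≤ C := by
    rintro _ ⟨c, hc, rfl⟩
    simpa using h c hc
  have h2 : C.map (MulAut.conj y⁻¹).toMonoidHom = C :=
    eq_of_le_of_card_ge h1 (card_map_of_injective (MulAut.conj y⁻¹).injective).ge
  have h3 : y⁻¹ ∈ normalizer (C : Set G) := mem_normalizer_iff_map_conj_eq.mpr h2
  simpa using inv_mem h3

theorem relIndex_mul_card' {H K : Subgroup G} (h : H ≤ K) :
    H.relIndex K * Nat.card H = Nat.card K := by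
  have := (H.subgroupOf K).card_mul_index
  rw [Nat.card_congr (subgroupOfEquivOfLe h).toEquiv] at this
  rw [mul_comm]; exact this

theorem exists_qe [Fintype G] (x : G) (p : ℕ) (hp : p.Prime) :
    ∃ H : Subgroup G, QE p H ∧ ¬ p ∣ pc H x := by
  classical
  haveI := Fact.mk hp
  obtain ⟨a, m, hm, hn⟩ := Nat.exists_eq_pow_mul_and_not_dvd (orderOf_pos x).ne' p hp.ne_one
  have hm0 : m ≠ 0 := by rintro rfl; exact hm (dvd_zero p)
  set c := x ^ (p ^ a) with hc
  set u := x ^ m with hu
  set C := zpowers c with hC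
  set N := normalizer (C : Set G) with hN
  have hoc : orderOf c = m := by
    rw [hc, orderOf_pow_of_dvd (pow_ne_zero _ hp.ne_zero) (Dvd.intro _ hn.symm), hn,
      Nat.mul_div_cancel_left _ (pow_pos hp.pos _)]
  have hou : orderOf u = p ^ a := by
    rw [hu, orderOf_pow_of_dvd hm0 (Dvd.intro_left _ hn.symm), hn,
      Nat.mul_div_cancel _ (Nat.pos_of_ne_zero hm0)]
  have hcop : Nat.Coprime m p := ((Nat.Prime.coprime_iff_not_dvd hp).mpr hm).symm
  have hcomm : ∀ c' ∈ C, ∀ v ∈ zpowers u, c' * v = v * c' := by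
    intro c' hc' v hv
    obtain ⟨i, rfl⟩ := mem_zpowers_iff.mp hc'
    obtain ⟨j, rfl⟩ := mem_zpowers_iff.mp hv
    exact (((Commute.refl x).pow_pow _ _).zpow_zpow i j).eq
  have huN : u ∈ N := by
    apply centralizer_le_normalizer
    rw [mem_centralizer_iff]
    intro y hy
    exact hcomm y hy u (mem_zpowers u)
  have hpu : IsPGroup p (zpowers u) := IsPGroup.of_card (n := a) (by rw [Nat.card_zpowers, hou])
  have hpu' : IsPGroup p (zpowers (⟨u, huN⟩ : N)) :=
    IsPGroup.of_card (n := a) (by rw [Nat.card_zpowers, ← hou, ← Subgroup.orderOf_coe])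
  obtain ⟨P, hP⟩ := hpu'.exists_le_sylow
  set P' := (P : Subgroup N).map N.subtype with hP'
  set H := C ⊔ P' with hH
  have hP'N : P' ≤ N := map_subtype_le _
  have hCH : C ≤ H := le_sup_left
  have hHN : H ≤ N := sup_le le_normalizer hP'N
  have hcardC : Nat.card C = m := by rw [hC, Nat.card_zpowers, hoc]
  have hcardP' : Nat.card P' = Nat.card (P : Subgroup N) :=
    card_map_of_injective N.subtype_injective
  obtain ⟨b, hb⟩ := IsPGroup.exists_card_eq P.2
  have hdisj : C ⊓ P' = ⊥ := by
    apply disjoint_iff.mp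
    apply disjoint_of_coprime_natCard
    rw [hcardC, hcardP', hb]
    exact Nat.Coprime.pow_right b hcop
  have hcardH : Nat.card H = m * Nat.card P' := by
    have := H1.card_sup_mul_card_inf' C P' hP'N
    rw [hdisj, card_bot, mul_one, hcardC] at this
    exact this
  have hrel : C.relIndex H = Nat.card P' := by
    have := relIndex_mul_card' hCH
    rw [hcardC, hcardH, mul_comm] at this
    exact Nat.eq_of_mul_eq_mul_left (Nat.pos_of_ne_zero hm0) this
  have hrelk : C.relIndex H = p ^ b := by rw [hrel, hcardP', hb]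
  refine ⟨H, ⟨C, hCH, hHN, inferInstance, hcardC ▸ hcop, b, hrelk⟩, ?_⟩
  -- counting
  let Y : SubMulAction (zpowers u) (G ⧸ H) :=
    { carrier := {q | ∀ c' ∈ C, c' • q = q}
      smul_mem' := by
        intro v q hq c' hc'
        change c' • ((v : G) • q) = (v : G) • q
        rw [← mul_smul, hcomm c' hc' v v.2, mul_smul, hq c' hc'] }
  have h1 := hpu.card_modEq_card_fixedPoints Y
  have h2 : Nat.card (fixedPoints (zpowers u) Y) = pc H x := by
    unfold pc
    refine Nat.card_congr
      { toFun := fun z => ⟨z.1.1, ?_⟩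
        invFun := fun w => ⟨⟨w.1, ?_⟩, ?_⟩
        left_inv := fun z => rfl
        right_inv := fun w => rfl }
    · rw [mem_fixedBy, ← mem_stabilizer_iff]
      apply mem_of_pow_mem_of_coprime (Nat.Coprime.pow_left a hcop.symm)
      · exact z.1.2 c (mem_zpowers c)
      · have := z.2 ⟨u, mem_zpowers u⟩
        exact congrArg Subtype.val this
    · intro c' hc'
      have hx : x ∈ stabilizer G w.1 := w.2
      have : C ≤ stabilizer G w.1 := by
        rw [hC, zpowers_le]; exact pow_mem hx _
      exact this hc'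
    · intro v
      apply Subtype.ext
      have hx : x ∈ stabilizer G w.1 := w.2
      have : zpowers u ≤ stabilizer G w.1 := by
        rw [zpowers_le]; exact pow_mem hx _
      exact this v.2
  have h3 : Nat.card Y = H.relIndex N := by
    have hst : stabilizer N (((1 : G) : G ⧸ H)) = H.subgroupOf N := by
      ext n
      rw [mem_stabilizer_iff, mem_subgroupOf]
      change (n : G) • (((1 : G) : G ⧸ H)) = _ ↔ _
      rw [← mem_stabilizer_iff, stabilizer_quotient]
    have h4 := index_stabilizer (G := N) (x := (((1 : G) : G ⧸ H)))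
    rw [hst] at h4
    change _ = (H.subgroupOf N).index
    rw [h4, ← Nat.card_coe_set_eq]
    apply Nat.card_congr
    apply Equiv.setCongr
    ext q
    constructor
    · intro hq
      obtain ⟨y, rfl⟩ := QuotientGroup.mk_surjective q
      have hyN : y ∈ N := by
        apply mem_normalizer_of_conj_le
        intro c' hc'
        have h5 := hq c'⁻¹ (inv_mem hc')
        have h6 : ((c'⁻¹ * y : G) : G ⧸ H) = (y : G ⧸ H) := h5
        rw [QuotientGroup.eq] at h6
        have h7 : y⁻¹ * c' * y ∈ H := by simpa [mul_assoc] using h6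
        apply mem_of_coprime_of_relIndex hCH hHN hrelk h7
        have h8 : orderOf (y⁻¹ * c' * y) = orderOf c' := by
          have := orderOf_injective (MulAut.conj y⁻¹).toMonoidHom (MulAut.conj y⁻¹).injective c'
          simpa using this
        rw [h8]
        have h9 : orderOf c' ∣ m := by
          rw [← hcardC]
          have := orderOf_dvd_natCard (⟨c', hc'⟩ : C)
          rwa [Subgroup.orderOf_mk] at this
        exact Nat.Coprime.coprime_dvd_left h9 hcop
      refine ⟨⟨y, hyN⟩, ?_⟩
      change ((y * 1 : G) : G ⧸ H) = _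
      rw [mul_one]
    · rintro ⟨n, rfl⟩ c' hc'
      change ((c' * ((n : G) * 1) : G) : G ⧸ H) = (((n : G) * 1 : G) : G ⧸ H)
      rw [mul_one, QuotientGroup.eq]
      apply hCH
      have := (mem_normalizer_iff''.mp n.2 c'⁻¹).mp (inv_mem hc')
      simpa [mul_assoc] using this
  have h4 : ¬ p ∣ H.relIndex N := by
    intro hd
    have h5 := relIndex_mul_card' hHN
    have h6 := (P : Subgroup N).card_mul_index
    rw [hcardH, hcardP'] at h5
    have h7 : H.relIndex N * m = (P : Subgroup N).index := by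
      have hpos : 0 < Nat.card (P : Subgroup N) := Nat.card_pos
      apply Nat.eq_of_mul_eq_mul_left hpos
      rw [h6, ← h5]; ring
    exact P.not_dvd_index (h7 ▸ Dvd.dvd.mul_right hd m)
  intro hd
  rw [h2, h3] at h1
  exact h4 ((Nat.modEq_zero_iff_dvd.mp (h1.trans (Nat.modEq_zero_iff_dvd.mpr hd))))

end Cfsg.Agent.LeadBr
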