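import Mathlib
import Cfsg.Prelude.Def_Characters
import Cfsg.Agent.Lib_lead_Br3

set_option autoImplicit false
set_option linter.style.haveILetI false

/-! Solomon's theorem (local form). -/

namespace Cfsg.Agent.LeadBr

open Cfsg Cfsg.Agent.H4 MulAction Subgroup

variable {G : Type*} [Group G]

theorem QE.mono {p : ℕ} (hp : p.Prime) {U H : Subgroup G} (hH : QE p H) (hUH : U ≤ H) : QE p U := by
  obtain ⟨C, hCH, hHN, hcyc, hcop, k, hk⟩ := hH
  have hdvd : C.relIndex U ∣ C.relIndex H := by
    haveI : (C.subgroupOf H).Normal := (normal_subgroupOf_iff_le_normalizer hCH).mpr hHN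
    have := relIndex_dvd_index_of_normal (H := C.subgroupOf H) (K := U.subgroupOf H)
    rwa [relIndex_subgroupOf hUH] at this
  rw [hk] at hdvd
  obtain ⟨j, -, hj⟩ := (Nat.dvd_prime_pow hp).mp hdvd
  refine ⟨C ⊓ U, inf_le_right, ?_, ?_, ?_, j, ?_⟩
  · intro u hu
    rw [mem_normalizer_iff]
    intro x
    have h1 := mem_normalizer_iff.mp (hHN (hUH hu)) x
    rw [mem_inf, mem_inf]
    constructor
    · rintro ⟨hx1, hx2⟩
      exact ⟨h1.mp hx1, mul_mem (mul_mem hu hx2) (inv_mem hu)⟩
    · rintro ⟨hx1, hx2⟩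
      refine ⟨h1.mpr hx1, ?_⟩
      have := mul_mem (mul_mem (inv_mem hu) hx2) hu
      simpa [mul_assoc] using this
  · have : IsCyclic ((C ⊓ U).subgroupOf C) := inferInstance
    exact isCyclic_of_surjective (subgroupOfEquivOfLe (inf_le_left : C ⊓ U ≤ C)).toMonoidHom
      (subgroupOfEquivOfLe (inf_le_left : C ⊓ U ≤ C)).surjective
  · exact Nat.Coprime.coprime_dvd_left (card_dvd_of_le inf_le_left) hcop
  · rw [inf_relIndex_right, hj]

variable [Fintype G]

/-- the ring spanned by the permutation characters of the `p`-quasi-elementary subgroups -/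
noncomputable def PR (p : ℕ) : AddSubgroup (G → ℤ) :=
  AddSubgroup.closure {f | ∃ H : Subgroup G, QE p H ∧ f = fun g => (pc H g : ℤ)}

theorem PR_mul {p : ℕ} (hp : p.Prime) : ∀ f ∈ PR (G := G) p, ∀ g ∈ PR (G := G) p, f * g ∈ PR (G := G) p := by
  intro f hf g hg
  induction hf using AddSubgroup.closure_induction with
  | mem f hf =>
    induction hg using AddSubgroup.closure_induction with
    | mem g hg =>
      obtain ⟨H, hH, rfl⟩ := hf
      obtain ⟨K, hK, rfl⟩ := hg
      obtain ⟨a, ha, h⟩ := pc_mul H K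
      have : ((fun g => (pc H g : ℤ)) * fun g => (pc K g : ℤ))
          = ∑ U : Subgroup G, (a U : ℤ) • (fun g => (pc U g : ℤ)) := by
        funext g
        rw [Pi.mul_apply, ← Nat.cast_mul, h g, Finset.sum_apply]
        push_cast
        rfl
      rw [this]
      apply AddSubgroup.sum_mem
      intro U _
      by_cases hU : a U = 0
      · rw [hU]; simp
      · have hmem : (fun g => (pc U g : ℤ)) ∈ PR (G := G) p :=
          AddSubgroup.subset_closure ⟨U, hH.mono hp (ha U hU), rfl⟩
        exact AddSubgroup.zsmul_mem _ hmem _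
    | zero => rw [mul_zero]; exact AddSubgroup.zero_mem _
    | add x y _ _ hx hy => rw [mul_add]; exact AddSubgroup.add_mem _ hx hy
    | neg x _ hx => rw [mul_neg]; exact AddSubgroup.neg_mem _ hx
  | zero => rw [zero_mul]; exact AddSubgroup.zero_mem _
  | add x y _ _ hx hy => rw [add_mul]; exact AddSubgroup.add_mem _ hx hy
  | neg x _ hx => rw [neg_mul]; exact AddSubgroup.neg_mem _ hx

theorem PR_repr {p : ℕ} {f : G → ℤ} (hf : f ∈ PR (G := G) p) :
    ∃ a : Subgroup G → ℤ, (∀ H, a H ≠ 0 → QE p H) ∧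
      f = ∑ H : Subgroup G, a H • (fun g => (pc H g : ℤ)) := by
  classical
  induction hf using AddSubgroup.closure_induction with
  | mem f hf =>
    obtain ⟨H, hH, rfl⟩ := hf
    refine ⟨Pi.single H 1, ?_, ?_⟩
    · intro K hK
      by_cases h : K = H
      · rw [h]; exact hH
      · rw [Pi.single_eq_of_ne h] at hK; exact absurd rfl hK
    · rw [Finset.sum_eq_single H]
      · simp
      · intro K _ hK
        rw [Pi.single_eq_of_ne hK, zero_smul]
      · intro h; exact absurd (Finset.mem_univ _) h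
  | zero => exact ⟨0, fun H h => absurd rfl h, by simp⟩
  | add x y _ _ hx hy =>
    obtain ⟨a, ha, rfl⟩ := hx
    obtain ⟨b, hb, rfl⟩ := hy
    refine ⟨a + b, ?_, ?_⟩
    · intro H hH
      by_cases h : a H = 0
      · apply hb
        intro h'
        apply hH
        rw [Pi.add_apply, h, h', add_zero]
      · exact ha H h
    · rw [← Finset.sum_add_distrib]
      apply Finset.sum_congr rfl
      intro H _
      rw [Pi.add_apply, add_smul]
  | neg x _ hx =>
    obtain ⟨a, ha, rfl⟩ := hx
    refine ⟨-a, ?_, ?_⟩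
    · intro H hH
      apply ha
      intro h
      apply hH
      rw [Pi.neg_apply, h, neg_zero]
    · rw [← Finset.sum_neg_distrib]
      apply Finset.sum_congr rfl
      intro H _
      rw [Pi.neg_apply, neg_smul]

theorem solomon_local (p : ℕ) (hp : p.Prime) :
    ∃ (m : ℤ) (a : Subgroup G → ℤ), ¬ (p : ℤ) ∣ m ∧ (∀ H, a H ≠ 0 → QE p H) ∧
      (fun _ : G => (m : ℂ)) = ∑ H : Subgroup G, (a H : ℂ) • indFun H (fun _ => 1) := by
  obtain ⟨m, hm, hmR⟩ := exists_const_mem (PR (G := G) p) (PR_mul hp) p hp (by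
    intro x
    obtain ⟨H, hH, hx⟩ := exists_qe x p hp
    exact ⟨_, AddSubgroup.subset_closure ⟨H, hH, rfl⟩, fun h => hx (by exact_mod_cast h)⟩)
  obtain ⟨a, ha, h⟩ := PR_repr hmR
  refine ⟨m, a, hm, ha, ?_⟩
  funext g
  have h1 := congrFun h g
  rw [Finset.sum_apply] at h1 ⊢
  simp only [Pi.smul_apply, smul_eq_mul] at h1 ⊢
  rw [h1]
  push_cast
  apply Finset.sum_congr rfl
  intro H _
  rw [pc_cast]

end Cfsg.Agent.LeadBr
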