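import Mathlib
import Cfsg.Prelude.Def_Characters
import Cfsg.Agent.Lib_lead_Br4
import Cfsg.Agent.Lib_helper1_SZ

set_option autoImplicit false
set_option linter.style.haveILetI false

/-! The ideal of characters induced from a family of subgroups. -/

namespace Cfsg.Agent.LeadBr

open Cfsg Cfsg.Agent.H4 MulAction Subgroup
open scoped commutatorElement

universe u

variable {G : Type u} [Group G]

theorem indFun_congr [Fintype G] {H K : Subgroup G} (h : H = K) (θ : H → ℂ) (θ' : K → ℂ)
    (hθ : ∀ (x : G) (hx : x ∈ H), θ ⟨x, hx⟩ = θ' ⟨x, h ▸ hx⟩) : indFun H θ = indFun K θ' := by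
  subst h
  congr 1
  funext x
  exact hθ x.1 x.2

/-- span of the characters induced from the subgroups in the family -/
noncomputable def RI [Fintype G] (F : Subgroup G → Prop) : AddSubgroup (G → ℂ) :=
  AddSubgroup.closure {f | ∃ H : Subgroup G, F H ∧ ∃ ψ : H → ℂ, IsCharacter H ψ ∧ f = indFun H ψ}

theorem RI_mem [Fintype G] {F : Subgroup G → Prop} {H : Subgroup G} (hH : F H) {ψ : H → ℂ}
    (hψ : IsCharacter H ψ) : indFun H ψ ∈ RI F :=
  AddSubgroup.subset_closure ⟨H, hH, ψ, hψ, rfl⟩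

theorem RI_mem_gen [Fintype G] {F : Subgroup G → Prop} {H : Subgroup G} (hH : F H) {ψ : H → ℂ}
    (hψ : IsGeneralizedCharacter H ψ) : indFun H ψ ∈ RI F := by
  obtain ⟨a, b, ha, hb, rfl⟩ := hψ
  rw [indFun_sub]
  exact AddSubgroup.sub_mem _ (RI_mem hH ha) (RI_mem hH hb)

theorem IsGeneralizedCharacter.mul_char {K : Type*} [Group K] {θ ψ : K → ℂ}
    (hθ : IsGeneralizedCharacter K θ) (hψ : IsCharacter K ψ) : IsGeneralizedCharacter K (ψ * θ) := by
  obtain ⟨a, b, ha, hb, rfl⟩ := hθ
  exact ⟨ψ * a, ψ * b, IsCharacter.mul hψ ha, IsCharacter.mul hψ hb, by rw [mul_sub]⟩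

/-- `RI F` is stable under multiplication by class functions whose restrictions to the members
of the family are generalized characters. -/
theorem RI_mul [Fintype G] {F : Subgroup G → Prop} {f : G → ℂ} (hf : f ∈ RI F) {χ : G → ℂ}
    (hχ : IsClassFunction G χ)
    (hres : ∀ H : Subgroup G, F H → IsGeneralizedCharacter H (fun h : H => χ h)) :
    f * χ ∈ RI F := by
  induction hf using AddSubgroup.closure_induction with
  | mem f hf =>
    obtain ⟨H, hH, ψ, hψ, rfl⟩ := hf
    rw [← indFun_mul_restrict H ψ χ hχ]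
    exact RI_mem_gen hH (IsGeneralizedCharacter.mul_char (hres H hH) hψ)
  | zero => rw [zero_mul]; exact AddSubgroup.zero_mem _
  | add x y _ _ hx hy => rw [add_mul]; exact AddSubgroup.add_mem _ hx hy
  | neg x _ hx => rw [neg_mul]; exact AddSubgroup.neg_mem _ hx

theorem IsCharacter.isGeneralized {K : Type*} [Group K] {ψ : K → ℂ} (h : IsCharacter K ψ) :
    IsGeneralizedCharacter K ψ := ⟨ψ, 0, h, IsCharacter.zero, by rw [sub_zero]⟩

theorem RI_mul_char [Fintype G] {F : Subgroup G → Prop} {f : G → ℂ} (hf : f ∈ RI F) {χ : G → ℂ}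
    (hχ : IsCharacter G χ) : f * χ ∈ RI F :=
  RI_mul hf (IsCharacter.isClassFunction hχ) (fun H _ => IsCharacter.isGeneralized (IsCharacter.restrict H hχ))

/-- induction in stages -/
theorem indFun_indFun [Fintype G] (T : Subgroup G) [Fintype T] (U : Subgroup T) (ψ : U → ℂ) :
    indFun T (indFun U ψ) = indFun (U.map T.subtype)
      (fun x => ψ ((U.equivMapOfInjective T.subtype T.subtype_injective).symm x)) := by
  have hle : U.map T.subtype ≤ T := map_subtype_le U
  rw [← indFun_trans (U.map T.subtype) T hle]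
  congr 1
  have hU : (U.map T.subtype).subgroupOf T = U :=
    comap_map_eq_self_of_injective T.subtype_injective U
  apply indFun_congr hU.symm
  intro x hx
  congr 1
  apply (U.equivMapOfInjective T.subtype T.subtype_injective).injective
  rw [MulEquiv.apply_symm_apply]
  apply Subtype.ext
  rw [coe_equivMapOfInjective_apply]
  rfl

theorem RI_ind [Fintype G] (T : Subgroup G) [Fintype T] {F' : Subgroup T → Prop}
    {F : Subgroup G → Prop} (hF : ∀ U : Subgroup T, F' U → F (U.map T.subtype))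
    {f : T → ℂ} (hf : f ∈ RI F') : indFun T f ∈ RI F := by
  induction hf using AddSubgroup.closure_induction with
  | mem f hf =>
    obtain ⟨U, hU, ψ, hψ, rfl⟩ := hf
    rw [indFun_indFun]
    exact RI_mem (hF U hU) (IsCharacter.comp (U.equivMapOfInjective T.subtype T.subtype_injective).symm.toMonoidHom hψ)
  | zero => rw [indFun_zero]; exact AddSubgroup.zero_mem _
  | add x y _ _ hx hy => rw [indFun_add]; exact AddSubgroup.add_mem _ hx hy
  | neg x _ hx =>
    have : indFun T (-x) = - indFun T x := by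
      have := indFun_smul T (-1 : ℂ) x
      simpa using this
    rw [this]; exact AddSubgroup.neg_mem _ hx

theorem RI_mono [Fintype G] {F F' : Subgroup G → Prop} (h : ∀ H, F H → F' H) : RI F ≤ RI F' := by
  apply AddSubgroup.closure_mono
  rintro f ⟨H, hH, ψ, hψ, rfl⟩
  exact ⟨H, h H hH, ψ, hψ, rfl⟩

theorem isElementary_of_equiv {p : ℕ} {E E' : Type*} [Group E] [Group E'] (e : E ≃* E')
    (h : IsElementary p E) : IsElementary p E' := by
  obtain ⟨x, hx, hc, k, hk⟩ := h
  refine ⟨e x, ?_, ?_, k, ?_⟩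
  · rw [mem_center_iff] at hx ⊢
    intro g
    obtain ⟨g, rfl⟩ := e.surjective g
    rw [← map_mul, ← map_mul, hx g]
  · rwa [MulEquiv.orderOf_eq]
  · rw [← hk]
    have : zpowers (e x) = (zpowers x).map e.toMonoidHom := by
      rw [MonoidHom.map_zpowers]; rfl
    rw [this]
    exact index_map_equiv _ e

/-- a `G`-invariant linear character of `C` trivial on `C_C(P)` is trivial (`G = CP`). -/
theorem linear_trivial [Finite G] (p : ℕ) [Fact p.Prime] (C P : Subgroup G) [hC : C.Normal]
    (hP : IsPGroup p P) (hcop : Nat.Coprime (Nat.card C) p)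
    (lam : C → ℂ) (hlam : IsCharacter C lam) (hlam1 : lam 1 = 1)
    (hinv : ∀ g ∈ P, ∀ c : C, lam ⟨g * c * g⁻¹, hC.conj_mem (c : G) c.2 g⟩ = lam c)
    (hker : ∀ c : C, (c : G) ∈ Subgroup.centralizer (P : Set G) → lam c = 1) :
    lam = fun _ => 1 := by
  set L : Subgroup G := (linearHom hlam hlam1).ker.map C.subtype with hL
  have hmemL : ∀ c : C, lam c = 1 → (c : G) ∈ L := by
    intro c hc
    refine ⟨c, ?_, rfl⟩
    rw [SetLike.mem_coe, MonoidHom.mem_ker]
    apply Units.ext
    rw [linearHom_apply, hc]; rfl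
  have hLmem : ∀ c : C, (c : G) ∈ L → lam c = 1 := by
    rintro c ⟨d, hd, hdc⟩
    have : d = c := Subtype.ext hdc
    subst this
    rw [SetLike.mem_coe, MonoidHom.mem_ker] at hd
    rw [← linearHom_apply hlam hlam1, hd]; rfl
  obtain ⟨b, hb⟩ := IsPGroup.exists_card_eq hP
  have hsol : Group.IsSolvable P := by
    haveI := hP.isNilpotent
    infer_instance
  have h1 := H1.coprime_comm_sup_centralizer P C (le_normalizer_of_normal)
    (by rw [hb]; exact (Nat.Coprime.pow_right b hcop).symm) (Or.inl hsol)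
  have h2 : C ≤ L := by
    rw [← h1]
    refine sup_le ?_ ?_
    · rw [commutator_le]
      intro c hc x hx
      have hmem : x * c⁻¹ * x⁻¹ ∈ C := hC.conj_mem _ (inv_mem hc) x
      have e1 : ⁅c, x⁆ = ((⟨c, hc⟩ * ⟨x * c⁻¹ * x⁻¹, hmem⟩ : C) : G) := by
        rw [commutatorElement_def]; simp [mul_assoc]
      rw [e1]
      apply hmemL
      rw [IsCharacter.linear_mul hlam hlam1]
      have e2 := hinv x hx (⟨c, hc⟩⁻¹ : C)
      have e3 : (⟨x * c⁻¹ * x⁻¹, hmem⟩ : C) = ⟨x * ((⟨c, hc⟩⁻¹ : C) : G) * x⁻¹,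
          hC.conj_mem _ (⟨c, hc⟩⁻¹ : C).2 x⟩ := rfl
      rw [e3, e2, ← IsCharacter.linear_mul hlam hlam1, mul_inv_cancel, hlam1]
    · rintro c ⟨hc1, hc2⟩
      exact hmemL ⟨c, hc1⟩ (hker ⟨c, hc1⟩ hc2)
  funext c
  exact hLmem c (h2 c.2)

end Cfsg.Agent.LeadBr
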