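import Mathlib
import Cfsg.Prelude.Def_Characters
import Cfsg.Agent.Lib_lead_Br5
import Cfsg.Agent.Lib_helper1_Coprime

set_option autoImplicit false
set_option linter.style.haveILetI false

/-! Quasi-elementary groups: the trivial character is induced from elementary subgroups. -/

namespace Cfsg.Agent.LeadBr

open Cfsg Cfsg.Agent.H4 MulAction Subgroup
open scoped commutatorElement ComplexConjugate

universe u

variable {G : Type u} [Group G]

theorem ind_one_apply [Fintype G] (C E Z : Subgroup G) [hC : C.Normal] (hCE : E ⊓ C = Z)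
    (hZ : Z ≤ center G) (c : G) (hc : c ∈ C) :
    indFun E (fun _ => (1 : ℂ)) c
      = ((Nat.card G : ℂ) / Nat.card E) * extendByZero Z (fun _ => (1 : ℂ)) c := by
  unfold indFun
  by_cases hcZ : c ∈ Z
  · have h1 : ∀ x : G, extendByZero E (fun _ => (1 : ℂ)) (x⁻¹ * c * x) = 1 := by
      intro x
      have h2 : x⁻¹ * c * x = c := by
        have := mem_center_iff.mp (hZ hcZ) x
        rw [mul_assoc, ← this, inv_mul_cancel_left]
      rw [h2, extendByZero_mem E _ (by rw [← hCE] at hcZ; exact (mem_inf.mp hcZ).1)]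
    simp only [h1, Finset.sum_const, Finset.card_univ, nsmul_eq_mul, mul_one]
    rw [extendByZero_mem Z _ hcZ, ← Nat.card_eq_fintype_card, mul_one, div_eq_mul_inv, mul_comm]
  · have h1 : ∀ x : G, extendByZero E (fun _ => (1 : ℂ)) (x⁻¹ * c * x) = 0 := by
      intro x
      apply extendByZero_not_mem
      intro hx
      apply hcZ
      have h3 : x⁻¹ * c * x ∈ Z := by
        rw [← hCE]
        exact mem_inf.mpr ⟨hx, hC.conj_mem' c hc x⟩
      have h4 := mem_center_iff.mp (hZ h3) x
      have h5 : x⁻¹ * c * x = c := by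
        have : x * (x⁻¹ * c * x) = c * x := by group
        rw [this] at h4
        exact (mul_right_cancel h4).symm
      rwa [h5] at h3
    simp only [h1, Finset.sum_const_zero, mul_zero]
    rw [extendByZero_not_mem Z _ hcZ, mul_zero]

theorem classInner_ind_one_restrict [Fintype G] (C E Z : Subgroup G) [hC : C.Normal] [Fintype C]
    [Fintype (Z.subgroupOf C)] (hCE : E ⊓ C = Z) (hsup : E ⊔ C = ⊤)
    (hZ : Z ≤ center G) (lam : C → ℂ) :
    classInner (fun c : C => indFun E (fun _ => (1 : ℂ)) c) lam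
      = classInner (fun _ : Z.subgroupOf C => (1 : ℂ)) (fun z => lam z) := by
  have hZC : Z ≤ C := by rw [← hCE]; exact inf_le_right
  have hcard := H1.card_sup_mul_card_inf' C E (by rw [normalizer_eq_top]; exact le_top)
  rw [sup_comm, hsup, inf_comm, hCE, card_top] at hcard
  have hcZ : Nat.card (Z.subgroupOf C) = Nat.card Z :=
    Nat.card_congr (subgroupOfEquivOfLe hZC).toEquiv
  unfold classInner
  have h1 : ∀ c : C, indFun E (fun _ => (1 : ℂ)) c * conj (lam c)
      = ((Nat.card G : ℂ) / Nat.card E) *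
        (extendByZero (Z.subgroupOf C) (fun _ => (1 : ℂ)) c * conj (lam c)) := by
    intro c
    rw [ind_one_apply C E Z hCE hZ c c.2, mul_assoc]
    congr 2
    by_cases hc : (c : G) ∈ Z
    · rw [extendByZero_mem Z _ hc, extendByZero_mem (Z.subgroupOf C) _ (mem_subgroupOf.mpr hc)]
    · rw [extendByZero_not_mem Z _ hc,
        extendByZero_not_mem (Z.subgroupOf C) _ (fun h => hc (mem_subgroupOf.mp h))]
  simp only [h1]
  rw [← Finset.mul_sum, sum_extendByZero_mul, hcZ, ← mul_assoc]
  congr 1
  have e1 : (Nat.card C : ℂ) ≠ 0 := by exact_mod_cast Nat.card_pos.ne'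
  have e2 : (Nat.card E : ℂ) ≠ 0 := by exact_mod_cast Nat.card_pos.ne'
  have e3 : (Nat.card Z : ℂ) ≠ 0 := by exact_mod_cast Nat.card_pos.ne'
  have e4 : (Nat.card G : ℂ) * Nat.card Z = Nat.card C * Nat.card E := by exact_mod_cast hcard
  field_simp
  linear_combination e4

/-- a character all of whose irreducible constituents lie in an additive subgroup lies in it -/
theorem mem_of_constituents [Fintype G] (S : AddSubgroup (G → ℂ)) {Ξ : G → ℂ}
    (hΞ : IsCharacter G Ξ)
    (h : ∀ χ : G → ℂ, IsIrrCharacter G χ → classInner Ξ χ ≠ 0 → χ ∈ S) : Ξ ∈ S := by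
  classical
  haveI := Fintype.ofFinite (IrrCharacter G)
  obtain ⟨m, hm⟩ := IsCharacter.exists_mult hΞ
  rw [hm]
  apply AddSubgroup.sum_mem
  intro ψ _
  by_cases h0 : m ψ = 0
  · rw [h0]; simp
  · have h1 : classInner Ξ (ψ : G → ℂ) = m ψ := by rw [hm]; exact classInner_sum_mult _ ψ
    have h2 := h ψ ψ.2 (by rw [h1]; exact_mod_cast h0)
    have h3 : ((m ψ : ℂ) • (ψ : G → ℂ)) = (m ψ) • (ψ : G → ℂ) := by
      ext g; simp
    rw [h3]
    exact AddSubgroup.nsmul_mem _ h2 _

/-- `G` itself is `p`-quasi-elementary -/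
def QEtop (p : ℕ) (G : Type*) [Group G] : Prop :=
  ∃ C : Subgroup G, C.Normal ∧ IsCyclic C ∧ Nat.Coprime (Nat.card C) p ∧ ∃ k : ℕ, C.index = p ^ k

theorem qe_core (p : ℕ) [hp : Fact p.Prime] : ∀ (n : ℕ) (G : Type u) [Group G] [Fintype G],
    Nat.card G = n → QEtop p G →
    (fun _ : G => (1 : ℂ)) ∈ RI (fun E : Subgroup G => IsElementary p E) := by
  intro n
  induction n using Nat.strong_induction_on with
  | _ n ih =>
  intro G _ _ hn hQ
  classical
  obtain ⟨C, hCn, hCc, hcop, k, hk⟩ := hQ
  haveI := hCn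
  haveI := hCc
  have hcomm : ∀ a b : C, a * b = b * a := fun a b => (IsCyclic.commGroup (α := C)).mul_comm a b
  let P : Sylow p G := default
  set Z : Subgroup G := C ⊓ centralizer (P : Set G) with hZdef
  set E : Subgroup G := Z ⊔ P with hEdef
  have hCP : C ⊔ (P : Subgroup G) = ⊤ := by
    rw [← index_eq_one]
    have h1 : (C ⊔ (P : Subgroup G)).index ∣ p ^ k := hk ▸ index_dvd_of_le le_sup_left
    have h2 : (C ⊔ (P : Subgroup G)).index ∣ (P : Subgroup G).index := index_dvd_of_le le_sup_right
    obtain ⟨j, _, hj⟩ := (Nat.dvd_prime_pow hp.out).mp h1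
    rcases Nat.eq_zero_or_pos j with rfl | hj0
    · simpa using hj
    · exfalso
      apply P.not_dvd_index
      refine dvd_trans ?_ h2
      rw [hj]; exact dvd_pow_self p hj0.ne'
  have hZc : Z ≤ center G := by
    intro z hz
    rw [mem_center_iff]
    have hz1 := (mem_inf.mp hz).1
    have hz2 := (mem_inf.mp hz).2
    have h3 : (⊤ : Subgroup G) ≤ centralizer {z} := by
      rw [← hCP]
      refine sup_le ?_ ?_
      · intro c hc
        rw [mem_centralizer_singleton_iff]
        exact congrArg Subtype.val (hcomm ⟨c, hc⟩ ⟨z, hz1⟩)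
      · intro y hy
        rw [mem_centralizer_singleton_iff]
        exact (mem_centralizer_iff.mp hz2 y hy)
    intro g
    exact mem_centralizer_singleton_iff.mp (h3 (mem_top g))
  haveI hZn : Z.Normal := ⟨fun z hz g => by
    rw [mem_center_iff.mp (hZc hz) g, mul_inv_cancel_right]; exact hz⟩
  have hEel : IsElementary p E := by
    haveI : IsCyclic Z := isCyclic_of_le (inf_le_left : Z ≤ C)
    obtain ⟨z0, hz0⟩ := (Z.isCyclic_iff_exists_zpowers_eq_top).mp inferInstance
    have hz0Z : z0 ∈ Z := hz0 ▸ mem_zpowers z0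
    have hz0E : z0 ∈ E := (le_sup_left : Z ≤ E) hz0Z
    refine ⟨⟨z0, hz0E⟩, ?_, ?_, ?_⟩
    · rw [mem_center_iff]; intro g; apply Subtype.ext; exact mem_center_iff.mp (hZc hz0Z) g
    · rw [Subgroup.orderOf_mk]
      have : orderOf z0 ∣ Nat.card C := by
        rw [← Nat.card_zpowers, hz0]; exact card_dvd_of_le inf_le_left
      exact Nat.Coprime.coprime_dvd_left this hcop
    · have h1 : zpowers (⟨z0, hz0E⟩ : E) = Z.subgroupOf E := by
        rw [← hz0]
        ext ⟨x, hx⟩
        simp [mem_subgroupOf, mem_zpowers_iff, Subtype.ext_iff]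
      rw [h1]
      change ∃ k, Z.relIndex E = p ^ k
      rw [hEdef, relIndex_sup_left]
      obtain ⟨b, hb⟩ := IsPGroup.exists_card_eq P.isPGroup'
      have := relIndex_dvd_card Z (P : Subgroup G)
      rw [hb] at this
      obtain ⟨j, _, hj⟩ := (Nat.dvd_prime_pow hp.out).mp this
      exact ⟨j, hj⟩
  have hEC : E ⊔ C = ⊤ := by
    rw [eq_top_iff, ← hCP]
    exact sup_le le_sup_right (le_trans le_sup_right le_sup_left)
  have hdisj : Disjoint C (P : Subgroup G) := by
    obtain ⟨b, hb⟩ := IsPGroup.exists_card_eq P.isPGroup'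
    apply disjoint_of_coprime_natCard
    rw [hb]; exact Nat.Coprime.pow_right b hcop
  have hECZ : E ⊓ C = Z := by
    apply le_antisymm
    · intro x hx
      obtain ⟨hxE, hxC⟩ := mem_inf.mp hx
      obtain ⟨z, hz, y, hy, rfl⟩ := mem_sup_of_normal_left.mp hxE
      have hzC : z ∈ C := (mem_inf.mp hz).1
      have hyC : y ∈ C := by
        have := C.mul_mem (C.inv_mem hzC) hxC
        rwa [inv_mul_cancel_left] at this
      have : y = 1 := disjoint_def.mp hdisj hyC hy
      rw [this, mul_one]; exact hz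
    · exact le_inf le_sup_left inf_le_left
  set Φ : G → ℂ := indFun E (fun _ => (1 : ℂ)) with hΦ
  have h1E : IsCharacter E (fun _ => (1 : ℂ)) := IsCharacter.one
  have hΦc : IsCharacter G Φ := IsCharacter.ind E h1E
  have h1G : IsIrrCharacter G (fun _ => (1 : ℂ)) := isIrrCharacter_of_linear IsCharacter.one rfl
  have hΦ1 : classInner Φ (fun _ => (1 : ℂ)) = 1 := by
    rw [hΦ, frobenius_reciprocity E _ _ (IsCharacter.isClassFunction IsCharacter.one)]
    exact IsIrrCharacter.norm_one (isIrrCharacter_of_linear IsCharacter.one rfl)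
  have hΞ : IsCharacter G (Φ - fun _ => 1) :=
    IsCharacter.sub_constituent hΦc h1G (by rw [hΦ1]; exact one_ne_zero)
  have hΦmem : Φ ∈ RI (fun E : Subgroup G => IsElementary p E) := RI_mem hEel h1E
  have hΞmem : (Φ - fun _ => 1) ∈ RI (fun E : Subgroup G => IsElementary p E) := by
    apply mem_of_constituents _ hΞ
    intro χ hχ hχΞ
    have hχc := IsIrrCharacter.isCharacter hχ
    have hΞ' : IsCharacter G ((Φ - fun _ => 1) - χ) := IsCharacter.sub_constituent hΞ hχ hχΞ
    set Ξ' := (Φ - fun _ => 1) - χ with hΞ'def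
    have hdec : Φ = (fun _ => 1) + χ + Ξ' := by rw [hΞ'def]; abel
    have hχC : IsCharacter C (fun c : C => χ c) := IsCharacter.restrict C hχc
    have hχC0 : (fun c : C => χ c) ≠ 0 := by
      intro h0
      exact IsIrrCharacter.apply_one_ne_zero hχ (congrFun h0 1)
    obtain ⟨lam, hlam⟩ := IsCharacter.exists_constituent hχC hχC0
    have hlam1 : (lam : C → ℂ) 1 = 1 := irr_linear_of_comm hcomm lam.2
    have hlamc := IsIrrCharacter.isCharacter lam.2
    have hres : ∀ μ : C → ℂ, classInner (fun c : C => Φ c) μ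
        = classInner (fun _ : C => (1 : ℂ)) μ + classInner (fun c : C => χ c) μ
          + classInner (fun c : C => Ξ' c) μ := by
      intro μ
      rw [← classInner_add_left, ← classInner_add_left]
      congr 1
      funext c
      rw [hdec]; rfl
    haveI := Fintype.ofFinite (IrrCharacter C)
    obtain ⟨a, ha⟩ := IsCharacter.classInner_nat hχC hlamc
    obtain ⟨b, hb⟩ := IsCharacter.classInner_nat (IsCharacter.restrict C hΞ') hlamc
    obtain ⟨c, hc⟩ := IsCharacter.classInner_nat (IsCharacter.one (G := C)) hlamc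
    have ha0 : a ≠ 0 := by
      intro h0; apply hlam; rw [ha, h0]; simp
    have hform := classInner_ind_one_restrict C E Z hECZ hEC hZc (lam : C → ℂ)
    have hirr1 : IsIrrCharacter (Z.subgroupOf C) (fun _ => (1 : ℂ)) :=
      isIrrCharacter_of_linear IsCharacter.one rfl
    have hirr2 : IsIrrCharacter (Z.subgroupOf C) (fun z => (lam : C → ℂ) z) :=
      isIrrCharacter_of_linear (IsCharacter.restrict _ hlamc) hlam1
    have hlamne : (lam : C → ℂ) ≠ fun _ => 1 := by
      intro h1
      have h2 := hres (lam : C → ℂ)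
      rw [hform, ha, hb] at h2
      rw [h1] at h2
      rw [IsIrrCharacter.norm_one hirr1,
        IsIrrCharacter.norm_one (isIrrCharacter_of_linear IsCharacter.one rfl)] at h2
      have h3 : (1 : ℕ) = 1 + a + b := by exact_mod_cast h2
      omega
    have hlamZ : (fun _ : Z.subgroupOf C => (1 : ℂ))
        = (fun z : Z.subgroupOf C => (lam : C → ℂ) (z : C)) := by
      by_contra hne
      have h2 := hres (lam : C → ℂ)
      rw [hform, ha, hb, hc] at h2
      have h3 := irr_orthonormal (⟨_, hirr1⟩ : IrrCharacter (Z.subgroupOf C)) ⟨_, hirr2⟩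
      rw [if_neg (fun h => hne (congrArg Subtype.val h))] at h3
      simp only at h3
      rw [h3] at h2
      have h4 : (0 : ℕ) = c + a + b := by exact_mod_cast h2
      omega
    have hker : ∀ c : C, (c : G) ∈ centralizer (P : Set G) → (lam : C → ℂ) c = 1 := by
      intro c hc
      exact (congrFun hlamZ ⟨c, mem_subgroupOf.mpr (mem_inf.mpr ⟨c.2, hc⟩)⟩).symm
    set T : Subgroup G := inertia hCn (lam : C → ℂ) with hTdef
    have hT : T ≠ ⊤ := by
      intro hTtop
      apply hlamne
      exact linear_trivial p C P P.isPGroup' hcop lam hlamc hlam1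
        (fun g _ c => (mem_inertia' hCn (lam : C → ℂ) g).mp
          (show g ∈ T by rw [hTtop]; exact mem_top g) c) hker
    have hCT : C ≤ T := le_inertia hCn (IsCharacter.isClassFunction hlamc)
    haveI : Fintype T := Fintype.ofFinite _
    obtain ⟨ψ, hψ, hψχ, _⟩ := clifford_corr_surj C hCn lam lam.2 T (mem_inertia' hCn (lam : C → ℂ))
      hCT χ hχ hlam
    rw [← hψχ]
    have hcardT : Nat.card T < n := by
      rw [← hn]
      by_contra hcon
      exact hT (eq_top_of_le_card T (not_lt.mp hcon))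
    have hQT : QEtop p T := by
      refine ⟨C.subgroupOf T, inferInstance, ?_, ?_, ?_⟩
      · exact isCyclic_of_surjective (subgroupOfEquivOfLe hCT).symm.toMonoidHom
          (subgroupOfEquivOfLe hCT).symm.surjective
      · rw [Nat.card_congr (subgroupOfEquivOfLe hCT).toEquiv]; exact hcop
      · have : C.relIndex T ∣ p ^ k := hk ▸ relIndex_dvd_index_of_normal C T
        obtain ⟨j, _, hj⟩ := (Nat.dvd_prime_pow hp.out).mp this
        exact ⟨j, hj⟩
    have h1T := ih _ hcardT T rfl hQT
    have h2T := RI_mul_char h1T (IsIrrCharacter.isCharacter hψ)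
    have h3T : (fun _ : T => (1 : ℂ)) * ψ = ψ := by funext x; simp
    rw [h3T] at h2T
    exact RI_ind T (fun U hU => isElementary_of_equiv
      (U.equivMapOfInjective T.subtype T.subtype_injective) hU) h2T
  have hfin : (fun _ : G => (1 : ℂ)) = Φ - (Φ - fun _ => 1) := by simp
  rw [hfin]; exact AddSubgroup.sub_mem _ hΦmem hΞmem

end Cfsg.Agent.LeadBr
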