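import Mathlib
import Cfsg.Prelude.Def_Characters
import Cfsg.Agent.Lib_lead_Br6

set_option autoImplicit false
set_option linter.style.haveILetI false

/-! Brauer's induction theorem (characters of elementary subgroups). -/

namespace Cfsg.Agent.LeadBr

open Cfsg Cfsg.Agent.H4 MulAction Subgroup
open scoped commutatorElement ComplexConjugate

universe u

variable {G : Type u} [Group G]

theorem QE.qetop {p : ℕ} {H : Subgroup G} (h : QE p H) : QEtop p H := by
  obtain ⟨C, hCH, hHN, hcyc, hcop, k, hk⟩ := h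
  refine ⟨C.subgroupOf H, (normal_subgroupOf_iff_le_normalizer hCH).mpr hHN, ?_, ?_, k, hk⟩
  · exact isCyclic_of_surjective (subgroupOfEquivOfLe hCH).symm.toMonoidHom
      (subgroupOfEquivOfLe hCH).symm.surjective
  · rw [Nat.card_congr (subgroupOfEquivOfLe hCH).toEquiv]; exact hcop

theorem brauer_local [Fintype G] (p : ℕ) (hp : p.Prime) :
    ∃ m : ℤ, ¬ (p : ℤ) ∣ m ∧
      (fun _ : G => (m : ℂ)) ∈ RI (fun E : Subgroup G => IsElementary p E) := by
  classical
  haveI : Fact p.Prime := ⟨hp⟩
  obtain ⟨m, a, hm, ha, h⟩ := solomon_local (G := G) p hp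
  refine ⟨m, hm, ?_⟩
  rw [h]
  apply AddSubgroup.sum_mem
  intro H _
  by_cases h0 : a H = 0
  · rw [h0]; simp
  · haveI : Fintype H := Fintype.ofFinite _
    have h1 := qe_core p _ H rfl (QE.qetop (ha H h0))
    have h2 : indFun H (fun _ => (1 : ℂ)) ∈ RI (fun E : Subgroup G => IsElementary p E) :=
      RI_ind H (fun U hU => isElementary_of_equiv
        (U.equivMapOfInjective H.subtype H.subtype_injective) hU) h1
    have h3 : ((a H : ℂ) • indFun H (fun _ => (1 : ℂ))) = (a H) • indFun H (fun _ => (1 : ℂ)) := by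
      ext g; simp
    rw [h3]
    exact AddSubgroup.zsmul_mem _ h2 _

/-- list form of membership in `RI` -/
theorem RI_list [Fintype G] {F : Subgroup G → Prop} {f : G → ℂ} (hf : f ∈ RI F) :
    ∃ l : List ((E : Subgroup G) × ((E → ℂ) × ℤ)),
      (∀ t ∈ l, F t.1 ∧ IsCharacter t.1 t.2.1) ∧
      f = (l.map fun t => (t.2.2 : ℂ) • indFun t.1 t.2.1).sum := by
  induction hf using AddSubgroup.closure_induction with
  | mem f hf =>
    obtain ⟨H, hH, ψ, hψ, rfl⟩ := hf
    refine ⟨[⟨H, ψ, 1⟩], ?_, ?_⟩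
    · intro t ht
      rw [List.mem_singleton] at ht
      subst ht
      exact ⟨hH, hψ⟩
    · simp
  | zero => exact ⟨[], by simp, by simp⟩
  | add x y _ _ hx hy =>
    obtain ⟨l1, h1, rfl⟩ := hx
    obtain ⟨l2, h2, rfl⟩ := hy
    refine ⟨l1 ++ l2, ?_, ?_⟩
    · intro t ht
      rcases List.mem_append.mp ht with ht | ht
      · exact h1 t ht
      · exact h2 t ht
    · rw [List.map_append, List.sum_append]
  | neg x _ hx =>
    obtain ⟨l, h1, rfl⟩ := hx
    refine ⟨l.map (fun t => ⟨t.1, t.2.1, -t.2.2⟩), ?_, ?_⟩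
    · intro t ht
      obtain ⟨s, hs, rfl⟩ := List.mem_map.mp ht
      exact h1 s hs
    · rw [List.map_map]
      have key : ∀ l : List ((E : Subgroup G) × ((E → ℂ) × ℤ)),
          -(l.map fun t => (t.2.2 : ℂ) • indFun t.1 t.2.1).sum
          = (l.map ((fun t : (E : Subgroup G) × ((E → ℂ) × ℤ) => (t.2.2 : ℂ) • indFun t.1 t.2.1) ∘
              fun t => ⟨t.1, t.2.1, -t.2.2⟩)).sum := by
        intro l
        induction l with
        | nil => simp
        | cons t l ih =>
          simp only [List.map_cons, List.sum_cons, neg_add, ih, Function.comp]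
          congr 1
          simp
      exact key l

end Cfsg.Agent.LeadBr
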