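import Mathlib
import Cfsg.Prelude.Def_Characters
import Cfsg.Agent.Lib_lead_Br7

set_option autoImplicit false
set_option linter.style.haveILetI false

/-! Brauer's induction theorem, global form, and the characterization of characters. -/

namespace Cfsg.Agent.LeadBr

open Cfsg Cfsg.Agent.H4 MulAction Subgroup
open scoped commutatorElement ComplexConjugate

universe u

variable {G : Type u} [Group G]

/-- integer constants -/
noncomputable def constHom (G : Type u) : ℤ →+ (G → ℂ) where
  toFun m := fun _ => (m : ℂ)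
  map_zero' := by ext; simp
  map_add' := by intros; ext; simp

/-- the family of all elementary subgroups -/
def Elem (E : Subgroup G) : Prop := ∃ p : ℕ, p.Prime ∧ IsElementary p E

theorem brauer_one [Fintype G] : (fun _ : G => (1 : ℂ)) ∈ RI (Elem (G := G)) := by
  set I : AddSubgroup ℤ := (RI (Elem (G := G))).comap (constHom G) with hI
  obtain ⟨d, hd⟩ := Int.subgroup_cyclic I
  have hmem : ∀ m : ℤ, m ∈ I → d ∣ m := by
    intro m hm
    rw [hd, AddSubgroup.mem_closure_singleton] at hm
    obtain ⟨k, rfl⟩ := hm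
    exact ⟨k, by simp [mul_comm]⟩
  have hdI : d ∈ I := by rw [hd]; exact AddSubgroup.subset_closure rfl
  have h1 : d.natAbs = 1 := by
    by_contra hne
    obtain ⟨p, hp, hpd⟩ := Nat.exists_prime_and_dvd hne
    obtain ⟨m, hm, hmR⟩ := brauer_local (G := G) p hp
    apply hm
    have h2 : m ∈ I := by
      rw [hI, AddSubgroup.mem_comap]
      exact RI_mono (fun E hE => ⟨p, hp, hE⟩) hmR
    exact dvd_trans (Int.natCast_dvd.mpr hpd) (hmem m h2)
  have h3 : (1 : ℤ) ∈ I := by
    rcases Int.natAbs_eq d with h | h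
    · rw [h1] at h; rw [h] at hdI; exact hdI
    · rw [h1] at h; rw [h] at hdI
      have := I.neg_mem hdI
      simpa using this
  rw [hI, AddSubgroup.mem_comap] at h3
  have h4 : constHom G 1 = fun _ : G => (1 : ℂ) := by
    funext g; simp [constHom]
  rwa [h4] at h3

theorem IsGeneralizedCharacter.add' {K : Type*} [Group K] {a b : K → ℂ}
    (ha : IsGeneralizedCharacter K a) (hb : IsGeneralizedCharacter K b) :
    IsGeneralizedCharacter K (a + b) := by
  obtain ⟨a1, a2, h1, h2, rfl⟩ := ha
  obtain ⟨b1, b2, h3, h4, rfl⟩ := hb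
  exact ⟨a1 + b1, a2 + b2, IsCharacter.add h1 h3, IsCharacter.add h2 h4, by abel⟩

theorem IsGeneralizedCharacter.neg' {K : Type*} [Group K] {a : K → ℂ}
    (ha : IsGeneralizedCharacter K a) : IsGeneralizedCharacter K (-a) := by
  obtain ⟨a1, a2, h1, h2, rfl⟩ := ha
  exact ⟨a2, a1, h2, h1, by abel⟩

theorem RI_isGeneralized [Fintype G] {F : Subgroup G → Prop} {f : G → ℂ} (hf : f ∈ RI F) :
    IsGeneralizedCharacter G f := by
  induction hf using AddSubgroup.closure_induction with
  | mem f hf =>
    obtain ⟨H, _, ψ, hψ, rfl⟩ := hf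
    exact IsCharacter.isGeneralized (IsCharacter.ind H hψ)
  | zero => exact IsCharacter.isGeneralized IsCharacter.zero
  | add x y _ _ hx hy => exact IsGeneralizedCharacter.add' hx hy
  | neg x _ hx => exact IsGeneralizedCharacter.neg' hx

/-- Brauer's characterization of characters -/
theorem brauer_characterization [Finite G] (θ : G → ℂ) (hθ : IsClassFunction G θ)
    (hE : ∀ (E : Subgroup G) (p : ℕ), p.Prime → IsElementary p E →
      IsGeneralizedCharacter E (fun e : E => θ e)) : IsGeneralizedCharacter G θ := by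
  haveI := Fintype.ofFinite G
  have h1 := RI_mul (brauer_one (G := G)) hθ (fun H ⟨p, hp, hH⟩ => hE H p hp hH)
  have h2 : (fun _ : G => (1 : ℂ)) * θ = θ := by funext x; simp
  rw [h2] at h1
  exact RI_isGeneralized h1

theorem brauer_char_mem [Fintype G] {χ : G → ℂ} (hχ : IsCharacter G χ) :
    χ ∈ RI (Elem (G := G)) := by
  have h1 := RI_mul_char (brauer_one (G := G)) hχ
  have h2 : (fun _ : G => (1 : ℂ)) * χ = χ := by funext x; simp
  rwa [h2] at h1

end Cfsg.Agent.LeadBr
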