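import Mathlib
import Cfsg.Prelude.Def_Characters
import Cfsg.Agent.Lib_lead_Br8
import Cfsg.Agent.Lib_helper4_CharL

set_option autoImplicit false
set_option linter.style.haveILetI false

/-! Nilpotent groups are M-groups. -/

namespace Cfsg.Agent.LeadBr

open Cfsg Cfsg.Agent.H4 MulAction Subgroup
open scoped commutatorElement ComplexConjugate

universe u

variable {G : Type u} [Group G]

theorem indFun_top [Fintype G] (χ : G → ℂ) (hχ : IsClassFunction G χ) :
    indFun (⊤ : Subgroup G) (fun h => χ h) = χ := by
  funext g
  unfold indFun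
  have : ∀ x : G, extendByZero ⊤ (fun h : (⊤ : Subgroup G) => χ h) (x⁻¹ * g * x) = χ g := by
    intro x
    rw [extendByZero_mem _ _ (mem_top _)]
    have := hχ g x⁻¹
    simpa using this
  simp only [this, Finset.sum_const, Finset.card_univ, nsmul_eq_mul]
  rw [card_top, ← Nat.card_eq_fintype_card]
  have : (Nat.card G : ℂ) ≠ 0 := by exact_mod_cast Nat.card_pos.ne'
  field_simp

theorem monomial_of_nilpotent : ∀ (n : ℕ) (G : Type u) [Group G] [Fintype G] [Group.IsNilpotent G],
    Nat.card G = n → ∀ χ : G → ℂ, IsIrrCharacter G χ →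
    ∃ (H : Subgroup G) (lam : H →* ℂˣ), χ = indFun H (fun h => (lam h : ℂ)) := by
  intro n
  induction n using Nat.strong_induction_on with
  | _ n ih =>
  intro G _ _ _ hn χ hχ
  classical
  have hχc := IsIrrCharacter.isCharacter hχ
  obtain ⟨d, ρ, hρ, hρχ⟩ := id hχ
  set K : Subgroup G := MonoidHom.ker ρ with hK
  by_cases hKbot : K = ⊥
  · by_cases hcomm : ∀ a b : G, a * b = b * a
    · have h1 := irr_linear_of_comm hcomm hχ
      refine ⟨⊤, (linearHom hχc h1).comp (⊤ : Subgroup G).subtype, ?_⟩
      exact (indFun_top χ (IsCharacter.isClassFunction hχc)).symm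
    · have hZ : center G ≠ ⊤ := by
        intro h; apply hcomm; intro a b
        have : a ∈ center G := h ▸ mem_top a
        exact (mem_center_iff.mp this b).symm
      haveI : Nontrivial (G ⧸ center G) := by
        by_contra hnt
        rw [not_nontrivial_iff_subsingleton] at hnt
        apply hZ
        rw [eq_top_iff]
        intro g _
        rw [← QuotientGroup.eq_one_iff]
        exact Subsingleton.elim _ _
      have hne := Group.IsNilpotent.center_ne_bot (G := G ⧸ center G)
      obtain ⟨⟨abar, habar⟩, hne1⟩ := Subgroup.ne_bot_iff_exists_ne_one.mp hne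
      obtain ⟨a, rfl⟩ := QuotientGroup.mk_surjective abar
      have haZ : a ∉ center G := by
        intro h
        apply hne1
        apply Subtype.ext
        exact (QuotientGroup.eq_one_iff a).mpr h
      have hzn : (zpowers (a : G ⧸ center G)).Normal := by
        refine ⟨fun z hz g => ?_⟩
        have hzc : z ∈ center (G ⧸ center G) := (zpowers_le.mpr habar) hz
        rw [mem_center_iff.mp hzc g, mul_inv_cancel_right]; exact hz
      set A : Subgroup G := (zpowers (a : G ⧸ center G)).comap (QuotientGroup.mk' (center G)) with hA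
      have hAn : A.Normal := Subgroup.Normal.comap hzn _
      have haA : a ∈ A := by
        rw [hA, mem_comap]; exact mem_zpowers _
      have hAform : ∀ x ∈ A, ∃ k : ℤ, ∃ z ∈ center G, x = a ^ k * z := by
        intro x hx
        rw [hA, mem_comap, mem_zpowers_iff] at hx
        obtain ⟨k, hk⟩ := hx
        refine ⟨k, (a ^ k)⁻¹ * x, ?_, by group⟩
        rw [← QuotientGroup.eq]
        exact hk
      have hAcomm : ∀ x y : A, x * y = y * x := by
        intro x y
        obtain ⟨k, z, hz, hx⟩ := hAform x x.2
        obtain ⟨l, w, hw, hy⟩ := hAform y y.2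
        apply Subtype.ext
        rw [coe_mul, coe_mul, hx, hy]
        have c1 : ∀ g : G, Commute g z := fun g => mem_center_iff.mp hz g
        have c2 : ∀ g : G, Commute g w := fun g => mem_center_iff.mp hw g
        have : Commute (a ^ k * z) (a ^ l * w) := by
          apply Commute.mul_left
          · apply Commute.mul_right
            · exact (Commute.refl a).zpow_zpow k l
            · exact c2 _
          · exact (c1 _).symm
        exact this
      have hres : IsCharacter A (fun a : A => χ a) := IsCharacter.restrict A hχc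
      have hres0 : (fun a : A => χ a) ≠ 0 := by
        intro h
        exact IsIrrCharacter.apply_one_ne_zero hχ (congrFun h 1)
      obtain ⟨lam, hlam⟩ := IsCharacter.exists_constituent hres hres0
      have hlamc := IsIrrCharacter.isCharacter lam.2
      have hlam1 : (lam : A → ℂ) 1 = 1 := irr_linear_of_comm hAcomm lam.2
      set T : Subgroup G := inertia hAn (lam : A → ℂ) with hTdef
      have hT : T ≠ ⊤ := by
        intro hTtop
        have hinv : ∀ g : G, conjFun hAn (lam : A → ℂ) g = lam := by
          intro g
          exact (mem_inertia hAn (lam : A → ℂ) g).mp (show g ∈ T by rw [hTtop]; exact mem_top g)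
        have h1 := restrict_of_invariant A hAn χ hχ lam lam.2 hlam hinv
        set e := classInner (fun n : A => χ n) (lam : A → ℂ) with he
        have h2 : χ 1 = e := by
          have := congrFun h1 1
          simpa [hlam1] using this
        have h3 : χ a = e * (lam : A → ℂ) ⟨a, haA⟩ := by
          have := congrFun h1 ⟨a, haA⟩
          simpa using this
        have h4 : ‖(lam : A → ℂ) ⟨a, haA⟩‖ = 1 := by
          have h5 := IsCharacter.linear_normSq hlamc hlam1 ⟨a, haA⟩
          rw [Complex.mul_conj'] at h5
          have h6 : ‖(lam : A → ℂ) ⟨a, haA⟩‖ ^ 2 = 1 := by exact_mod_cast h5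
          exact (pow_eq_one_iff_of_nonneg (norm_nonneg _) two_ne_zero).mp h6
        have h7 : ‖ρ.character a‖ = (Module.finrank ℂ (Fin d → ℂ) : ℝ) := by
          rw [hρχ, h3, norm_mul, h4, mul_one, ← h2, ← hρχ, Representation.char_one]
          simp
        obtain ⟨ω, hω⟩ := (norm_char_eq_iff ρ a).mp h7
        apply haZ
        rw [mem_center_iff]
        intro g
        apply (MonoidHom.ker_eq_bot_iff ρ).mp hKbot
        rw [map_mul, map_mul, hω]
        ext v
        simp
      have hAT : A ≤ T := le_inertia hAn (IsCharacter.isClassFunction hlamc)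
      haveI : Fintype T := Fintype.ofFinite _
      obtain ⟨ψ, hψ, hψχ, _⟩ := clifford_corr_surj A hAn lam lam.2 T
        (mem_inertia' hAn (lam : A → ℂ)) hAT χ hχ hlam
      have hcardT : Nat.card T < n := by
        rw [← hn]
        by_contra hcon
        exact hT (eq_top_of_le_card T (not_lt.mp hcon))
      obtain ⟨U, μ, hμ⟩ := ih _ hcardT T rfl ψ hψ
      refine ⟨U.map T.subtype,
        μ.comp (U.equivMapOfInjective T.subtype T.subtype_injective).symm.toMonoidHom, ?_⟩
      rw [← hψχ, hμ, indFun_indFun]
      rfl
  · haveI : K.Normal := MonoidHom.normal_ker ρ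
    have hN : ∀ n ∈ K, χ n = χ 1 := by
      intro x hx
      rw [← hρχ]
      unfold Representation.character
      rw [MonoidHom.mem_ker.mp hx, ← map_one ρ]
    obtain ⟨χ', hχ', hχ'g⟩ := IsIrrCharacter.deflate K hχ hN
    have hlt : Nat.card (G ⧸ K) < n := by
      rw [← hn, Subgroup.card_eq_card_quotient_mul_card_subgroup K]
      have h1 : 1 < Nat.card K := (Subgroup.one_lt_card_iff_ne_bot K).mpr hKbot
      have h2 : 0 < Nat.card (G ⧸ K) := Nat.card_pos
      nlinarith
    haveI : Fintype (G ⧸ K) := Fintype.ofFinite _
    obtain ⟨Hb, lamb, hind⟩ := ih _ hlt (G ⧸ K) rfl χ' hχ'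
    obtain ⟨H, hKH, rfl⟩ : ∃ H : Subgroup G, K ≤ H ∧ H.map (QuotientGroup.mk' K) = Hb := by
      refine ⟨Hb.comap (QuotientGroup.mk' K), ?_,
        map_comap_eq_self_of_surjective (QuotientGroup.mk'_surjective K) Hb⟩
      intro x hx
      rw [mem_comap]
      have : QuotientGroup.mk' K x = 1 := (QuotientGroup.eq_one_iff x).mpr hx
      rw [this]; exact one_mem _
    refine ⟨H, lamb.comp ((QuotientGroup.mk' K).subgroupMap H), ?_⟩
    funext g
    rw [← hχ'g g, hind]
    exact ind_inflate K H hKH _ _ (fun x => rfl) g

end Cfsg.Agent.LeadBr
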