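import Mathlib
import Cfsg.Prelude.Def_Characters
import Cfsg.Agent.Lib_lead_Br9

set_option autoImplicit false
set_option linter.style.haveILetI false

/-! Brauer's induction theorem with linear characters. -/

namespace Cfsg.Agent.LeadBr

open Cfsg Cfsg.Agent.H4 MulAction Subgroup
open scoped commutatorElement ComplexConjugate

universe u

variable {G : Type u} [Group G]

theorem isElementary_subgroup {p : ℕ} (hp : p.Prime) {E : Type*} [Group E] (h : IsElementary p E)
    (U : Subgroup E) : IsElementary p U := by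
  obtain ⟨x, hx, hc, k, hk⟩ := h
  have hCc : zpowers x ≤ center E := zpowers_le.mpr hx
  haveI hCn : (zpowers x).Normal := ⟨fun z hz g => by
    rw [mem_center_iff.mp (hCc hz) g, mul_inv_cancel_right]; exact hz⟩
  haveI : IsCyclic ((zpowers x).subgroupOf U) := by
    apply isCyclic_of_injective ((U.subtype).subgroupComap (zpowers x))
    intro a b hab
    apply Subtype.ext
    apply Subtype.ext
    exact congrArg (fun t : zpowers x => (t : E)) hab
  obtain ⟨y, hy⟩ := (((zpowers x).subgroupOf U).isCyclic_iff_exists_zpowers_eq_top).mp inferInstance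
  have hyC : (y : E) ∈ zpowers x := by
    have : y ∈ (zpowers x).subgroupOf U := hy ▸ mem_zpowers y
    exact mem_subgroupOf.mp this
  refine ⟨y, ?_, ?_, ?_⟩
  · rw [mem_center_iff]; intro g; apply Subtype.ext; exact mem_center_iff.mp (hCc hyC) g
  · rw [← Subgroup.orderOf_coe]
    exact Nat.Coprime.coprime_dvd_left (orderOf_dvd_of_mem_zpowers hyC) hc
  · rw [hy]
    have : (zpowers x).relIndex U ∣ p ^ k := hk ▸ relIndex_dvd_index_of_normal (zpowers x) U
    obtain ⟨j, _, hj⟩ := (Nat.dvd_prime_pow hp).mp this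
    exact ⟨j, hj⟩

theorem isElementary_nilpotent {p : ℕ} (hp : p.Prime) {E : Type*} [Group E] [Finite E]
    (h : IsElementary p E) : Group.IsNilpotent E := by
  obtain ⟨x, hx, hc, k, hk⟩ := h
  haveI : Fact p.Prime := ⟨hp⟩
  apply Group.of_quotient_center_nilpotent
  have h1 : (center E).index ∣ p ^ k := hk ▸ index_dvd_of_le (zpowers_le.mpr hx)
  obtain ⟨j, _, hj⟩ := (Nat.dvd_prime_pow hp).mp h1
  exact (IsPGroup.of_card (n := j) hj).isNilpotent

/-- span of the characters induced from linear characters of the subgroups in the family -/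
noncomputable def RL [Fintype G] (F : Subgroup G → Prop) : AddSubgroup (G → ℂ) :=
  AddSubgroup.closure {f | ∃ H : Subgroup G, F H ∧ ∃ lam : H →* ℂˣ, f = indFun H (fun h => (lam h : ℂ))}

/-- induction as an additive map -/
noncomputable def indHom [Fintype G] (H : Subgroup G) : (H → ℂ) →+ (G → ℂ) where
  toFun := indFun H
  map_zero' := indFun_zero H
  map_add' := indFun_add H

theorem RI_le_RL [Fintype G] {F : Subgroup G → Prop}
    (hsub : ∀ H U : Subgroup G, F H → U ≤ H → F U)
    (hnil : ∀ H : Subgroup G, F H → Group.IsNilpotent H) : RI F ≤ RL F := by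
  unfold RI
  rw [AddSubgroup.closure_le]
  rintro f ⟨H, hH, ψ, hψ, rfl⟩
  haveI : Fintype H := Fintype.ofFinite _
  haveI := hnil H hH
  have key : ψ ∈ (RL F).comap (indHom H) := by
    apply mem_of_constituents _ hψ
    intro χ hχ _
    obtain ⟨U, μ, rfl⟩ := monomial_of_nilpotent _ H rfl χ hχ
    rw [AddSubgroup.mem_comap]
    change indFun H (indFun U _) ∈ RL F
    rw [indFun_indFun]
    exact AddSubgroup.subset_closure ⟨U.map H.subtype, hsub H _ hH (map_subtype_le U),
      μ.comp (U.equivMapOfInjective H.subtype H.subtype_injective).symm.toMonoidHom, rfl⟩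
  exact key

theorem RL_list [Fintype G] {F : Subgroup G → Prop} {f : G → ℂ} (hf : f ∈ RL F) :
    ∃ l : List ((E : Subgroup G) × ((E →* ℂˣ) × ℤ)),
      (∀ t ∈ l, F t.1) ∧
      f = (l.map fun t => (t.2.2 : ℂ) • indFun t.1 (fun e => (t.2.1 e : ℂ))).sum := by
  induction hf using AddSubgroup.closure_induction with
  | mem f hf =>
    obtain ⟨H, hH, ψ, rfl⟩ := hf
    refine ⟨[⟨H, ψ, 1⟩], ?_, ?_⟩
    · intro t ht
      rw [List.mem_singleton] at ht
      subst ht
      exact hH
    · simp
  | zero => exact ⟨[], by simp, by simp⟩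
  | add x y _ _ hx hy =>
    obtain ⟨l1, h1, rfl⟩ := hx
    obtain ⟨l2, h2, rfl⟩ := hy
    refine ⟨l1 ++ l2, ?_, ?_⟩
    · intro t ht
      rcases List.mem_append.mp ht with ht | ht
      · exact h1 t ht
      · exact h2 t ht
    · rw [List.map_append, List.sum_append]
  | neg x _ hx =>
    obtain ⟨l, h1, rfl⟩ := hx
    refine ⟨l.map (fun t => ⟨t.1, t.2.1, -t.2.2⟩), ?_, ?_⟩
    · intro t ht
      obtain ⟨s, hs, rfl⟩ := List.mem_map.mp ht
      exact h1 s hs
    · rw [List.map_map]
      have key : ∀ l : List ((E : Subgroup G) × ((E →* ℂˣ) × ℤ)),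
          -(l.map fun t => (t.2.2 : ℂ) • indFun t.1 (fun e => (t.2.1 e : ℂ))).sum
          = (l.map ((fun t : (E : Subgroup G) × ((E →* ℂˣ) × ℤ) =>
              (t.2.2 : ℂ) • indFun t.1 (fun e => (t.2.1 e : ℂ))) ∘
              fun t => ⟨t.1, t.2.1, -t.2.2⟩)).sum := by
        intro l
        induction l with
        | nil => simp
        | cons t l ih =>
          simp only [List.map_cons, List.sum_cons, neg_add, ih, Function.comp]
          congr 1
          simp
      exact key l

theorem brauer_induction [Fintype G] (χ : G → ℂ) (hχ : IsCharacter G χ) :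
    χ ∈ RL (Elem (G := G)) := by
  apply RI_le_RL _ _ (brauer_char_mem hχ)
  · rintro H U ⟨p, hp, hH⟩ hUH
    refine ⟨p, hp, ?_⟩
    exact isElementary_of_equiv (subgroupOfEquivOfLe hUH) (isElementary_subgroup hp hH (U.subgroupOf H))
  · rintro H ⟨p, hp, hH⟩
    exact isElementary_nilpotent hp hH

end Cfsg.Agent.LeadBr
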