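import Mathlib
import Cfsg.Prelude.Def_Characters
import Cfsg.Agent.Lib_lead_Br10

set_option autoImplicit false
set_option linter.style.haveILetI false

/-! Artin's induction theorem. -/

namespace Cfsg.Agent.LeadBr

open Cfsg Cfsg.Agent.H4 MulAction Subgroup
open scoped commutatorElement ComplexConjugate Classical

universe u

variable {G : Type u} [Group G]

/-- `|A|` on the generators of `A`, zero elsewhere -/
noncomputable def genFun (A : Subgroup G) : A → ℂ :=
  fun a => if zpowers (a : G) = A then (Nat.card A : ℂ) else 0

theorem extendByZero_genFun (A : Subgroup G) (y : G) :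
    extendByZero A (genFun A) y = if zpowers y = A then (Nat.card A : ℂ) else 0 := by
  by_cases hy : y ∈ A
  · rw [extendByZero_mem A _ hy]; rfl
  · rw [extendByZero_not_mem A _ hy, if_neg]
    intro h
    exact hy (h ▸ mem_zpowers y)

theorem sum_ind_genFun [Fintype G] :
    ∑ A : Subgroup G, indFun A (genFun A) = fun _ => (Nat.card G : ℂ) := by
  funext g
  rw [Finset.sum_apply]
  have h1 : ∀ A : Subgroup G, indFun A (genFun A) g
      = ∑ x : G, if zpowers (x⁻¹ * g * x) = A then (1 : ℂ) else 0 := by
    intro A
    unfold indFun
    rw [Finset.mul_sum]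
    apply Finset.sum_congr rfl
    intro x _
    rw [extendByZero_genFun]
    have : (Nat.card A : ℂ) ≠ 0 := by exact_mod_cast Nat.card_pos.ne'
    split_ifs
    · field_simp
    · simp
  simp only [h1]
  rw [Finset.sum_comm]
  simp [Nat.card_eq_fintype_card]

theorem zpowers_eq_top_iff (A : Subgroup G) (a : A) :
    zpowers a = ⊤ ↔ zpowers (a : G) = A := by
  have h1 : (zpowers a).map A.subtype = zpowers (a : G) := by
    rw [MonoidHom.map_zpowers]; rfl
  have h2 : (⊤ : Subgroup A).map A.subtype = A := by
    rw [← MonoidHom.range_eq_map, range_subtype]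
  constructor
  · intro h
    rw [← h1, h, h2]
  · intro h
    apply Subgroup.map_injective A.subtype_injective
    rw [h1, h2, h]

theorem isCyclic_map_subtype (A : Subgroup G) (U : Subgroup A) (hU : IsCyclic U) :
    IsCyclic (U.map A.subtype) :=
  isCyclic_of_surjective (U.equivMapOfInjective A.subtype A.subtype_injective).toMonoidHom
    (U.equivMapOfInjective A.subtype A.subtype_injective).surjective

theorem genFun_mem : ∀ (n : ℕ) (G : Type u) [Group G] [Fintype G], Nat.card G = n →
    (fun g : G => if zpowers g = ⊤ then (Nat.card G : ℂ) else 0)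
      ∈ RI (fun A : Subgroup G => IsCyclic A) := by
  intro n
  induction n using Nat.strong_induction_on with
  | _ n ih =>
  intro G _ _ hn
  by_cases hcyc : IsCyclic G
  · have hcomm : ∀ a b : G, a * b = b * a := fun a b => (IsCyclic.commGroup (α := G)).mul_comm a b
    have hsum := sum_ind_genFun (G := G)
    rw [← Finset.add_sum_erase Finset.univ _ (Finset.mem_univ (⊤ : Subgroup G))] at hsum
    have htop : indFun (⊤ : Subgroup G) (genFun ⊤)
        = (fun g : G => if zpowers g = ⊤ then (Nat.card G : ℂ) else 0) := by
      rw [← indFun_top (fun g : G => if zpowers g = ⊤ then (Nat.card G : ℂ) else 0)]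
      · congr 1
        funext h
        unfold genFun
        rw [card_top]
      · intro g h
        rw [hcomm h g, mul_inv_cancel_right]
    rw [htop] at hsum
    rw [eq_sub_of_add_eq hsum]
    apply AddSubgroup.sub_mem
    · have h1 : (fun _ : G => (1 : ℂ)) ∈ RI (fun A : Subgroup G => IsCyclic A) := by
        rw [← indFun_top (fun _ : G => (1 : ℂ)) (fun _ _ => rfl)]
        refine RI_mem ?_ IsCharacter.one
        exact isCyclic_of_surjective (Subgroup.topEquiv (G := G)).symm.toMonoidHom
          (Subgroup.topEquiv (G := G)).symm.surjective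
      have h2 : (fun _ : G => (Nat.card G : ℂ)) = (Nat.card G) • (fun _ : G => (1 : ℂ)) := by
        funext g; simp
      rw [h2]
      exact AddSubgroup.nsmul_mem _ h1 _
    · apply AddSubgroup.sum_mem
      intro A hA
      have hA' : A ≠ ⊤ := (Finset.mem_erase.mp hA).1
      haveI : Fintype A := Fintype.ofFinite _
      have hlt : Nat.card A < n := by
        rw [← hn]
        by_contra hcon
        exact hA' (eq_top_of_le_card A (not_lt.mp hcon))
      have h1 := ih _ hlt A rfl
      have h2 : (fun g : A => if zpowers g = ⊤ then (Nat.card A : ℂ) else 0) = genFun A := by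
        funext a
        unfold genFun
        simp only [zpowers_eq_top_iff]
      rw [h2] at h1
      exact RI_ind A (isCyclic_map_subtype A) h1
  · have : (fun g : G => if zpowers g = ⊤ then (Nat.card G : ℂ) else 0) = 0 := by
      funext g
      rw [if_neg]
      · rfl
      · intro h
        exact hcyc (isCyclic_iff_exists_zpowers_eq_top.mpr ⟨g, h⟩)
    rw [this]
    exact AddSubgroup.zero_mem _

theorem artin_one [Fintype G] :
    (fun _ : G => (Nat.card G : ℂ)) ∈ RI (fun A : Subgroup G => IsCyclic A) := by
  rw [← sum_ind_genFun]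
  apply AddSubgroup.sum_mem
  intro A _
  haveI : Fintype A := Fintype.ofFinite _
  have h1 := genFun_mem _ A rfl
  have h2 : (fun g : A => if zpowers g = ⊤ then (Nat.card A : ℂ) else 0) = genFun A := by
    funext a
    unfold genFun
    simp only [zpowers_eq_top_iff]
  rw [h2] at h1
  exact RI_ind A (isCyclic_map_subtype A) h1

theorem artin_induction [Fintype G] (χ : G → ℂ) (hχ : IsCharacter G χ) :
    (Nat.card G : ℂ) • χ ∈ RL (fun A : Subgroup G => IsCyclic A) := by
  have h1 := RI_mul_char (artin_one (G := G)) hχ
  have h2 : (fun _ : G => (Nat.card G : ℂ)) * χ = (Nat.card G : ℂ) • χ := by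
    funext g; simp
  rw [h2] at h1
  apply RI_le_RL _ _ h1
  · intro H U hH hUH
    haveI := hH
    exact isCyclic_of_le hUH
  · intro H hH
    haveI := hH
    haveI : IsMulCommutative H := IsCyclic.isMulCommutative
    letI : CommGroup H := IsCyclic.commGroup
    infer_instance

end Cfsg.Agent.LeadBr
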