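import Mathlib
import Cfsg.Prelude.Def_Characters
import Cfsg.Agent.Lib_lead_Br11
import Cfsg.Agent.Lib_helper1_Wielandt
import Cfsg.Agent.Lib_helper1_CompSys

set_option autoImplicit false
set_option linter.style.haveILetI false

/-! Applications of Brauer's characterization of characters. -/

namespace Cfsg.Agent.LeadBr

open Cfsg Cfsg.Agent.H4 MulAction Subgroup
open scoped commutatorElement ComplexConjugate

universe u

variable {G : Type u} [Group G]

theorem exists_normal_p_complement (p : ℕ) (hp : p.Prime) (E : Type*) [Group E] [Finite E]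
    [Group.IsNilpotent E] : ∃ K : Subgroup E, K.Normal ∧
      K.index = p ^ (Nat.card E).factorization p ∧ ∀ e : E, e ∈ K ↔ ¬ p ∣ orderOf e := by
  obtain ⟨K, hK⟩ := H1.exists_p_complement E p hp
  have hpK := H1.not_dvd_card_of_index_eq hp hK
  have hcop : (Nat.card K).Coprime p := ((Nat.Prime.coprime_iff_not_dvd hp).mpr hpK).symm
  have hKn : K.Normal := H1.hall_normal_of_nilpotent K (by rw [hK]; exact Nat.Coprime.pow_right _ hcop)
  refine ⟨K, hKn, hK, ?_⟩
  intro e
  constructor
  · intro he hpe
    apply hpK
    refine dvd_trans hpe ?_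
    have := orderOf_dvd_natCard (⟨e, he⟩ : K)
    rwa [Subgroup.orderOf_mk] at this
  · intro he
    have h1 : e ^ K.index ∈ K := Subgroup.pow_index_mem K e
    have h2 : e ^ orderOf e ∈ K := by rw [pow_orderOf_eq_one]; exact one_mem K
    refine mem_of_pow_mem_of_coprime ?_ h1 h2
    rw [hK]
    exact Nat.Coprime.pow_left _ ((Nat.Prime.coprime_iff_not_dvd hp).mpr he)

theorem indFun_normal_res [Fintype G] (K : Subgroup G) [hK : K.Normal] (χ : G → ℂ)
    (hχ : IsClassFunction G χ) (e : G) (he : e ∈ K) :
    indFun K (fun k => χ k) e = (K.index : ℂ) * χ e := by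
  unfold indFun
  have h1 : ∀ x : G, extendByZero K (fun k : K => χ k) (x⁻¹ * e * x) = χ e := by
    intro x
    rw [extendByZero_mem K _ (hK.conj_mem' e he x)]
    have := hχ e x⁻¹
    simpa using this
  simp only [h1, Finset.sum_const, Finset.card_univ, nsmul_eq_mul]
  rw [← Nat.card_eq_fintype_card, ← K.index_mul_card]
  have : (Nat.card K : ℂ) ≠ 0 := by exact_mod_cast Nat.card_pos.ne'
  push_cast
  field_simp

theorem pregular_generalized [Finite G] (p : ℕ) [hp : Fact p.Prime] (χ : G → ℂ)
    (hχ : IsCharacter G χ) :
    IsGeneralizedCharacter G (fun x : G => if p ∣ orderOf x then 0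
      else ((p ^ (Nat.card G).factorization p : ℕ) : ℂ) * χ x) := by
  haveI := Fintype.ofFinite G
  have hcl := IsCharacter.isClassFunction hχ
  apply brauer_characterization
  · intro g h
    have h1 : orderOf (h * g * h⁻¹) = orderOf g := by
      have := (MulAut.conj h).orderOf_eq g
      simpa using this
    simp only [h1, hcl g h]
  · intro E q hq hE
    haveI : Fintype E := Fintype.ofFinite _
    haveI := isElementary_nilpotent hq hE
    obtain ⟨K, hKn, hK, hmem⟩ := exists_normal_p_complement p hp.out E
    have hle : (Nat.card E).factorization p ≤ (Nat.card G).factorization p :=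
      (Nat.factorization_le_iff_dvd Nat.card_pos.ne' Nat.card_pos.ne').mpr (card_subgroup_dvd_card E) p
    have hχE : IsCharacter E (fun e : E => χ e) := IsCharacter.restrict E hχ
    have hind := IsCharacter.nsmul (p ^ ((Nat.card G).factorization p - (Nat.card E).factorization p))
      (IsCharacter.ind K (IsCharacter.restrict K hχE))
    apply IsCharacter.isGeneralized
    convert hind using 1
    funext e
    rw [Subgroup.orderOf_coe]
    by_cases he : e ∈ K
    · rw [if_neg ((hmem e).mp he)]
      simp only [Pi.smul_apply, smul_eq_mul]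
      rw [indFun_normal_res K (fun e : E => χ e) (IsCharacter.isClassFunction hχE) e he, hK,
        ← mul_assoc]
      congr 1
      rw [← Nat.cast_mul, ← pow_add, Nat.sub_add_cancel hle]
    · rw [if_pos (by by_contra h; exact he ((hmem e).mpr h))]
      simp only [Pi.smul_apply, smul_eq_mul]
      rw [indFun_normal_not_mem hKn _ he, mul_zero]

end Cfsg.Agent.LeadBr
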