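import Cfsg.Agent.Lib_helper4_BlkX
import Cfsg.Agent.Lib_lead_Br12

set_option autoImplicit false
set_option linter.style.haveILetI false
set_option linter.unusedSectionVars false
namespace Cfsg.Agent.H4
open Module
open scoped ComplexConjugate
universe u v w

section BF
variable {p : ℕ} {M : Ideal AlgInt} {G : Type u} [Group G]

/-- `p^a χ` on `p`-regular elements, zero elsewhere -/
noncomputable def tildeFun (p : ℕ) (χ : G → ℂ) : G → ℂ :=
  fun x : G => if p ∣ orderOf x then 0 else ((p ^ (Nat.card G).factorization p : ℕ) : ℂ) * χ x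

theorem tildeFun_eq (χ : G → ℂ) (x : G) :
    tildeFun p χ x = ((p ^ (Nat.card G).factorization p : ℕ) : ℂ) * (regInd p G x * χ x) := by
  unfold tildeFun regInd
  by_cases h : p ∣ orderOf x
  · simp only [if_pos h]; ring
  · simp only [if_neg h]; ring

theorem IsGeneralizedCharacter.classInner_int [Fintype G] {θ : G → ℂ} (h : IsGeneralizedCharacter G θ)
    (ψ : IrrCharacter G) : ∃ n : ℤ, classInner θ (ψ : G → ℂ) = n := by
  haveI := Fintype.ofFinite (IrrCharacter G)
  obtain ⟨a, b, ha, hb, rfl⟩ := h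
  obtain ⟨n, hn⟩ := IsCharacter.classInner_irr_nat ha ψ
  obtain ⟨m, hm⟩ := IsCharacter.classInner_irr_nat hb ψ
  refine ⟨(n : ℤ) - m, ?_⟩
  rw [classInner_sub_left, hn, hm]; push_cast; rfl

theorem IsGeneralizedCharacter.isClassFunction {θ : G → ℂ} (h : IsGeneralizedCharacter G θ) :
    IsClassFunction G θ := by
  obtain ⟨a, b, ha, hb, rfl⟩ := h
  intro g x
  simp only [Pi.sub_apply]
  rw [IsCharacter.isClassFunction ha, IsCharacter.isClassFunction hb]

theorem isGeneralizedCharacter_of_int [Fintype G] [Fintype (IrrCharacter G)] (a : IrrCharacter G → ℤ) :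
    IsGeneralizedCharacter G (∑ ψ : IrrCharacter G, (a ψ : ℂ) • (ψ : G → ℂ)) := by
  refine ⟨∑ ψ : IrrCharacter G, ((a ψ).toNat : ℂ) • (ψ : G → ℂ), ∑ ψ : IrrCharacter G, ((-a ψ).toNat : ℂ) • (ψ : G → ℂ),
    ?_, ?_, ?_⟩
  · apply IsCharacter.sum
    intro ψ _
    have := IsCharacter.nsmul (a ψ).toNat (IsIrrCharacter.isCharacter ψ.2)
    convert this using 1
  · apply IsCharacter.sum
    intro ψ _
    have := IsCharacter.nsmul (-a ψ).toNat (IsIrrCharacter.isCharacter ψ.2)
    convert this using 1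
  · rw [← Finset.sum_sub_distrib]
    apply Finset.sum_congr rfl; intro ψ _
    rw [← sub_smul]
    congr 1
    have : a ψ = ((a ψ).toNat : ℤ) - ((-a ψ).toNat : ℤ) := by omega
    conv_lhs => rw [this]
    push_cast; rfl

/-- the integer `[p^a χ°, ψ]` -/
noncomputable def rN (p : ℕ) [Fact p.Prime] [Fintype G] (χ ψ : IrrCharacter G) : ℤ :=
  Classical.choose (IsGeneralizedCharacter.classInner_int
    (Cfsg.Agent.LeadBr.pregular_generalized p (χ : G → ℂ) (IsIrrCharacter.isCharacter χ.2)) ψ)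

theorem rN_spec [Fact p.Prime] [Fintype G] (χ ψ : IrrCharacter G) :
    classInner (tildeFun p (χ : G → ℂ)) (ψ : G → ℂ) = (rN p χ ψ : ℂ) :=
  Classical.choose_spec (IsGeneralizedCharacter.classInner_int
    (Cfsg.Agent.LeadBr.pregular_generalized p (χ : G → ℂ) (IsIrrCharacter.isCharacter χ.2)) ψ)

theorem tildeFun_isClassFunction {χ : G → ℂ} (hχ : IsClassFunction G χ) : IsClassFunction G (tildeFun p χ) := by
  intro g h
  rw [tildeFun_eq, tildeFun_eq, regInd_isClassFunction, hχ]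

/-- `regPair χ ψ = |G|_{p'} N(χ,ψ)` -/
theorem regPair_eq_rN [Fact p.Prime] [Fintype G] (χ ψ : IrrCharacter G) :
    regPair p (χ : G → ℂ) (ψ : G → ℂ) = ((Nat.card G / p ^ (Nat.card G).factorization p : ℕ) : ℂ) * (rN p χ ψ : ℂ) := by
  have hp : p.Prime := Fact.out
  rw [← rN_spec]
  set m := Nat.card G / p ^ (Nat.card G).factorization p with hm
  have hm1 : p ^ (Nat.card G).factorization p * m = Nat.card G := Nat.ordProj_mul_ordCompl_eq_self _ p
  have hcardC : (Nat.card G : ℂ) = ((p ^ (Nat.card G).factorization p : ℕ) : ℂ) * (m : ℂ) := by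
    exact_mod_cast hm1.symm
  have hpa : ((p ^ (Nat.card G).factorization p : ℕ) : ℂ) ≠ 0 := by
    exact_mod_cast (pow_pos hp.pos _).ne'
  have hG : (Nat.card G : ℂ) ≠ 0 := card_ne_zero_C
  have hm0 : (m : ℂ) ≠ 0 := by
    intro h; rw [h, mul_zero] at hcardC; exact hG hcardC
  have e1 : classInner (tildeFun p (χ : G → ℂ)) (ψ : G → ℂ)
      = (Nat.card G : ℂ)⁻¹ * (((p ^ (Nat.card G).factorization p : ℕ) : ℂ) *
        regPair p (ψ : G → ℂ) (χ : G → ℂ)) := by
    unfold classInner regPair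
    rw [Finset.mul_sum (a := ((p ^ (Nat.card G).factorization p : ℕ) : ℂ))]
    congr 1
    apply Finset.sum_congr rfl; intro h _
    rw [IsCharacter.inv_eq_conj (IsIrrCharacter.isCharacter ψ.2), tildeFun_eq]
    ring
  rw [e1, regPair_comm, hcardC]
  field_simp

theorem ordCompl_ne_zero_C [Finite G] (hp : p.Prime) :
    ((Nat.card G / p ^ (Nat.card G).factorization p : ℕ) : ℂ) ≠ 0 := by
  have h2 : ¬ p ∣ Nat.card G / p ^ (Nat.card G).factorization p := Nat.not_dvd_ordCompl hp Nat.card_pos.ne'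
  intro h
  apply h2
  have : Nat.card G / p ^ (Nat.card G).factorization p = 0 := by exact_mod_cast h
  rw [this]; exact dvd_zero p

theorem rN_comm [Fact p.Prime] [Fintype G] (χ ψ : IrrCharacter G) : rN p χ ψ = rN p ψ χ := by
  have hp : p.Prime := Fact.out
  have h1 := regPair_eq_rN (p := p) χ ψ
  rw [regPair_comm, regPair_eq_rN] at h1
  have := mul_left_cancel₀ (ordCompl_ne_zero_C (G := G) hp) h1
  exact_mod_cast this.symm

theorem rN_eq_zero [Fact p.Prime] [Fintype G] (hM : IsPModular p M) (χ ψ : IrrCharacter G)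
    (h : ¬ SameBlock M (χ : G → ℂ) (ψ : G → ℂ)) : rN p χ ψ = 0 := by
  have h1 := regPair_eq_rN (p := p) χ ψ
  rw [regPair_eq_zero hM χ ψ h] at h1
  rcases mul_eq_zero.mp h1.symm with h2 | h2
  · exact absurd h2 (ordCompl_ne_zero_C hM.1)
  · exact_mod_cast h2

/-- integers in the local ring -/
theorem int_ratio_dvd (hM : IsPModular p M) (n : ℤ) (d : ℕ) (hd : d ≠ 0) (h : MemLocalRing M ((n : ℂ) / (d : ℂ))) :
    (p : ℤ) ^ d.factorization p ∣ n := by
  by_cases hn : n = 0
  · rw [hn]; exact dvd_zero _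
  have hn' : n.natAbs ≠ 0 := Int.natAbs_ne_zero.mpr hn
  have h1 : MemLocalRing M ((n.natAbs : ℂ) / (d : ℂ)) := by
    rcases Int.natAbs_eq n with e | e
    · have : (n : ℂ) = (n.natAbs : ℂ) := by
        have e' : (n : ℂ) = ((n.natAbs : ℤ) : ℂ) := congrArg _ e
        rw [e']; exact Int.cast_natCast _
      rwa [this] at h
    · have : (n : ℂ) = -(n.natAbs : ℂ) := by
        have e' : (n : ℂ) = ((-(n.natAbs : ℤ) : ℤ) : ℂ) := congrArg _ e
        rw [e', Int.cast_neg, Int.cast_natCast]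
      rw [this, neg_div] at h
      have := MemLocalRing.neg h
      rwa [neg_neg] at this
  have h2 := (nat_ratio_val hM _ _ hn' hd h1).1
  have h3 : p ^ d.factorization p ∣ n.natAbs := (pow_dvd_pow p h2).trans (Nat.ordProj_dvd _ _)
  have := Int.natCast_dvd_natCast.mpr h3
  rw [Int.dvd_natAbs] at this
  exact_mod_cast this

theorem int_ratio_mem_iff (hM : IsPModular p M) (n : ℤ) (d : ℕ) (hd : d ≠ 0) :
    MemLocalIdeal M ((n : ℂ) / (d : ℂ)) ↔ (p : ℤ) ^ (d.factorization p + 1) ∣ n := by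
  have hp := hM.1
  by_cases hn : n = 0
  · rw [hn]; simp only [Int.cast_zero, zero_div, dvd_zero, iff_true]; exact MemLocalIdeal.zero hM
  have hn' : n.natAbs ≠ 0 := Int.natAbs_ne_zero.mpr hn
  have key : MemLocalIdeal M ((n : ℂ) / (d : ℂ)) ↔ MemLocalIdeal M ((n.natAbs : ℂ) / (d : ℂ)) := by
    rcases Int.natAbs_eq n with e | e
    · have : (n : ℂ) = (n.natAbs : ℂ) := by
        have e' : (n : ℂ) = ((n.natAbs : ℤ) : ℂ) := congrArg _ e
        rw [e']; exact Int.cast_natCast _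
      rw [this]
    · have : (n : ℂ) = -(n.natAbs : ℂ) := by
        have e' : (n : ℂ) = ((-(n.natAbs : ℤ) : ℤ) : ℂ) := congrArg _ e
        rw [e', Int.cast_neg, Int.cast_natCast]
      rw [this, neg_div]
      constructor
      · intro h; have := MemLocalIdeal.neg h; rwa [neg_neg] at this
      · intro h; exact MemLocalIdeal.neg h
  rw [key]
  have e2 : (p : ℤ) ^ (d.factorization p + 1) ∣ n ↔ p ^ (d.factorization p + 1) ∣ n.natAbs := by
    rw [← Int.natCast_dvd_natCast, Int.dvd_natAbs]; push_cast; rfl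
  rw [e2, hp.pow_dvd_iff_le_factorization hn']
  constructor
  · intro h
    exact (nat_ratio_val hM _ _ hn' hd (MemLocalIdeal.memLocalRing h)).2.mp h
  · intro h
    have hR := memLocalRing_nat_div hM _ _ hn' hd (by omega : d.factorization p ≤ n.natAbs.factorization p)
    exact (nat_ratio_val hM _ _ hn' hd hR).2.mpr h

theorem rN_ratio [Fact p.Prime] [Fintype G] (χ ψ : IrrCharacter G) (d : ℕ) (hd : (ψ : G → ℂ) 1 = d) :
    regPair p (χ : G → ℂ) (ψ : G → ℂ) / (ψ : G → ℂ) 1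
      = ((Nat.card G / p ^ (Nat.card G).factorization p : ℕ) : ℂ) * ((rN p χ ψ : ℂ) / (d : ℂ)) := by
  rw [regPair_eq_rN, hd, mul_div_assoc]

theorem rN_mem_iff [Fact p.Prime] [Fintype G] (hM : IsPModular p M) (χ ψ : IrrCharacter G) :
    MemLocalIdeal M (regPair p (χ : G → ℂ) (ψ : G → ℂ) / (ψ : G → ℂ) 1) ↔
      (p : ℤ) ^ ((charDegree (ψ : G → ℂ)).factorization p + 1) ∣ rN p χ ψ := by
  obtain ⟨d, hd0, hd1, hd2⟩ := IrrCharacter.exists_degree ψ
  have hm2 : ¬ p ∣ Nat.card G / p ^ (Nat.card G).factorization p := Nat.not_dvd_ordCompl hM.1 Nat.card_pos.ne'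
  rw [rN_ratio χ ψ d hd1, hd2, ← int_ratio_mem_iff hM _ _ hd0.ne']
  constructor
  · intro h
    have := MemLocalIdeal.mul_left hM (memLocalRing_inv_natCast hM hm2) h
    rwa [← mul_assoc, inv_mul_cancel₀ (ordCompl_ne_zero_C hM.1), one_mul] at this
  · intro h
    exact MemLocalIdeal.mul_left hM (MemLocalRing.natCast hM _) h

theorem rN_dvd [Fact p.Prime] [Fintype G] (χ ψ : IrrCharacter G) :
    (p : ℤ) ^ ((charDegree (ψ : G → ℂ)).factorization p) ∣ rN p χ ψ := by
  haveI := Fintype.ofFinite (IrrCharacter G)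
  have hp : p.Prime := Fact.out
  obtain ⟨M, hM⟩ := exists_pModular hp
  obtain ⟨d, hd0, hd1, hd2⟩ := IrrCharacter.exists_degree ψ
  have hm2 : ¬ p ∣ Nat.card G / p ^ (Nat.card G).factorization p := Nat.not_dvd_ordCompl hM.1 Nat.card_pos.ne'
  have h1 := InZ.eval_mem hM (inZ_spec_wfun (p := p) hM (IsIrrCharacter.isCharacter χ.2)) ψ
  rw [spec_wfun, rN_ratio χ ψ d hd1] at h1
  have h2 := MemLocalRing.mul hM (memLocalRing_inv_natCast hM hm2) h1
  rw [← mul_assoc, inv_mul_cancel₀ (ordCompl_ne_zero_C hM.1), one_mul] at h2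
  rw [hd2]
  exact int_ratio_dvd hM _ _ hd0.ne' h2

theorem rN_dvd_left [Fact p.Prime] [Fintype G] (χ ψ : IrrCharacter G) :
    (p : ℤ) ^ ((charDegree (χ : G → ℂ)).factorization p) ∣ rN p χ ψ := by
  rw [rN_comm]; exact rN_dvd ψ χ

theorem rN_not_dvd [Fact p.Prime] [Fintype G] (hM : IsPModular p M) (B : Set (IrrCharacter G)) (hB : IsPBlock M B)
    (χ : IrrCharacter G) (hχ : χ ∈ B) (h0 : blockHeight p B (χ : G → ℂ) = 0) (ψ : IrrCharacter G) (hψ : ψ ∈ B) :
    ¬ (p : ℤ) ^ ((charDegree (ψ : G → ℂ)).factorization p + 1) ∣ rN p χ ψ := by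
  rw [← rN_mem_iff hM]
  have hbe := IsPBlock.eq_blockOf hM hB hχ
  rw [hbe] at h0 hψ
  exact (regPair_not_mem_iff hM χ h0 ψ).mpr hψ

theorem tildeFun_expansion [Fact p.Prime] [Fintype G] [Fintype (IrrCharacter G)] (χ : IrrCharacter G) :
    tildeFun p (χ : G → ℂ) = ∑ ψ : IrrCharacter G, (rN p χ ψ : ℂ) • (ψ : G → ℂ) := by
  conv_lhs => rw [classFunction_expansion' _ (tildeFun_isClassFunction (p := p) (IrrCharacter.isClassFunction χ))]
  apply Finset.sum_congr rfl; intro ψ _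
  rw [rN_spec]

theorem sum_rN_sq [Fact p.Prime] [Fintype G] [Fintype (IrrCharacter G)] (χ : IrrCharacter G) :
    ∑ ψ : IrrCharacter G, rN p χ ψ ^ 2 = (p : ℤ) ^ (Nat.card G).factorization p * rN p χ χ := by
  have h1 : classInner (tildeFun p (χ : G → ℂ)) (tildeFun p (χ : G → ℂ))
      = ∑ ψ : IrrCharacter G, (rN p χ ψ : ℂ) * conj (rN p χ ψ : ℂ) := by
    conv_lhs => rw [tildeFun_expansion]
    exact classInner_sum_sum _ _
  have h2 : classInner (tildeFun p (χ : G → ℂ)) (tildeFun p (χ : G → ℂ))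
      = ((p ^ (Nat.card G).factorization p : ℕ) : ℂ) * classInner (tildeFun p (χ : G → ℂ)) (χ : G → ℂ) := by
    unfold classInner
    rw [mul_left_comm]
    congr 1
    rw [Finset.mul_sum]
    apply Finset.sum_congr rfl; intro g _
    conv_lhs => rw [tildeFun_eq (p := p) (χ : G → ℂ) g]
    rw [tildeFun_eq]
    have hr : conj (regInd p G g) = regInd p G g := by
      unfold regInd; split_ifs <;> simp
    have hr2 : regInd p G g * regInd p G g = regInd p G g := by
      unfold regInd; split_ifs <;> simp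
    simp only [map_mul, map_natCast, hr]
    calc _ = ((p ^ (Nat.card G).factorization p : ℕ) : ℂ) * ((p ^ (Nat.card G).factorization p : ℕ) : ℂ) *
          (regInd p G g * regInd p G g) * ((χ : G → ℂ) g * conj ((χ : G → ℂ) g)) := by ring
      _ = _ := by rw [hr2]; ring
  rw [h1, rN_spec] at h2
  have h3 : ((∑ ψ : IrrCharacter G, rN p χ ψ ^ 2 : ℤ) : ℂ) = (((p : ℤ) ^ (Nat.card G).factorization p * rN p χ χ : ℤ) : ℂ) := by
    push_cast
    push_cast at h2
    rw [← h2]
    apply Finset.sum_congr rfl; intro ψ _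
    rw [map_intCast]; ring
  exact_mod_cast h3

/-- positive height: one more factor `p` in `N(ψ,ψ)` -/
theorem rN_self_dvd_of_pos_height [Fact p.Prime] [Fintype G] (hM : IsPModular p M) (B : Set (IrrCharacter G))
    (hB : IsPBlock M B) (ψ : IrrCharacter G) (hψ : ψ ∈ B) (h : blockHeight p B (ψ : G → ℂ) ≠ 0)
    (ξ : IrrCharacter G) (hξ : ξ ∈ B) :
    (p : ℤ) ^ ((charDegree (ξ : G → ℂ)).factorization p + 1) ∣ rN p ψ ξ := by
  haveI := Fintype.ofFinite (IrrCharacter G)
  rw [← rN_mem_iff hM]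
  obtain ⟨χ0, hχ0, hχ00⟩ := exists_height_zero hM B hB
  have hZ := inZ_spec_wfun (p := p) hM (IsIrrCharacter.isCharacter ψ.2)
  have hs : SameBlock M (ξ : G → ℂ) (χ0 : G → ℂ) := by
    have := IsPBlock.eq_blockOf hM hB hξ
    rw [this] at hχ0; exact hχ0
  have h1 := InZ.congr hM hZ hs
  rw [spec_wfun, spec_wfun] at h1
  have h2 : MemLocalIdeal M (regPair p (ψ : G → ℂ) (χ0 : G → ℂ) / (χ0 : G → ℂ) 1) := by
    have h3 := InZ.eval_mem hM (inZ_spec_wfun (p := p) hM (IsIrrCharacter.isCharacter χ0.2)) ψ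
    rw [spec_wfun] at h3
    have h4 := MemLocalIdeal.mul_right hM (degree_ratio_mem_ideal hM B χ0 ψ hψ hχ00 h) h3
    have hψ1 := IsIrrCharacter.apply_one_ne_zero ψ.2
    have hχ1 := IsIrrCharacter.apply_one_ne_zero χ0.2
    have e : regPair p (ψ : G → ℂ) (χ0 : G → ℂ) / (χ0 : G → ℂ) 1
        = (ψ : G → ℂ) 1 / (χ0 : G → ℂ) 1 * (regPair p (χ0 : G → ℂ) (ψ : G → ℂ) / (ψ : G → ℂ) 1) := by
      rw [regPair_comm]; field_simp
    rw [e]; exact h4
  have := MemLocalIdeal.add hM h1 h2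
  rwa [sub_add_cancel] at this

end BF
end Cfsg.Agent.H4
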