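import Cfsg.Agent.Lib_helper4_BlkY

set_option autoImplicit false
set_option linter.style.haveILetI false
set_option linter.unusedSectionVars false
namespace Cfsg.Agent.H4
open Module
open scoped ComplexConjugate
universe u v w

section BF2
variable {p : ℕ} {M : Ideal AlgInt} {G : Type u} [Group G]

theorem bf_core [Fact p.Prime] [Fintype G] [Fintype (IrrCharacter G)] (β : IrrCharacter G) :
    ∃ u : IrrCharacter G → ℤ,
      (∀ ξ, rN p β ξ = (p : ℤ) ^ ((charDegree (β : G → ℂ)).factorization p) * u ξ) ∧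
      ∑ ξ, u ξ ^ 2 = (p : ℤ) ^ ((Nat.card G).factorization p - (charDegree (β : G → ℂ)).factorization p) * u β := by
  have hp : p.Prime := Fact.out
  choose u hu using fun ξ => rN_dvd_left (p := p) β ξ
  refine ⟨u, hu, ?_⟩
  have h1 := sum_rN_sq (p := p) β
  have hle := degree_val_le_card (p := p) β
  set e := (charDegree (β : G → ℂ)).factorization p with he
  set a := (Nat.card G).factorization p with ha
  have h2 : ∑ ξ, rN p β ξ ^ 2 = (p : ℤ) ^ (2 * e) * ∑ ξ, u ξ ^ 2 := by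
    rw [Finset.mul_sum]
    apply Finset.sum_congr rfl; intro ξ _
    rw [hu ξ]; ring
  rw [h2, hu β] at h1
  have h3 : (p : ℤ) ^ a = (p : ℤ) ^ e * (p : ℤ) ^ (a - e) := by rw [← pow_add]; congr 1; omega
  have hp0 : (p : ℤ) ^ (2 * e) ≠ 0 := pow_ne_zero _ (by exact_mod_cast hp.pos.ne')
  apply mul_left_cancel₀ hp0
  rw [h1, h3]; ring

theorem val_eq_add_height [Finite G] (B : Set (IrrCharacter G)) (ξ : IrrCharacter G) (hξ : ξ ∈ B) :
    (charDegree (ξ : G → ℂ)).factorization p =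
      sInf ((fun χ : IrrCharacter G => (charDegree (χ : G → ℂ)).factorization p) '' B) + blockHeight p B (ξ : G → ℂ) := by
  unfold blockHeight
  have h1 : sInf ((fun χ : IrrCharacter G => (charDegree (χ : G → ℂ)).factorization p) '' B)
      ≤ (charDegree (ξ : G → ℂ)).factorization p := Nat.sInf_le ⟨ξ, hξ, rfl⟩
  omega

theorem card_val_eq [Finite G] (B : Set (IrrCharacter G)) (ξ : IrrCharacter G) (hξ : ξ ∈ B) :
    (Nat.card G).factorization p =
      sInf ((fun χ : IrrCharacter G => (charDegree (χ : G → ℂ)).factorization p) '' B) + blockDefect p B := by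
  unfold blockDefect
  have h1 : sInf ((fun χ : IrrCharacter G => (charDegree (χ : G → ℂ)).factorization p) '' B)
      ≤ (charDegree (ξ : G → ℂ)).factorization p := Nat.sInf_le ⟨ξ, hξ, rfl⟩
  have h2 := degree_val_le_card (p := p) ξ
  omega

/-- Brauer–Feit, weighted form -/
theorem brauer_feit_weighted [Fact p.Prime] [Fintype G] [Fintype (IrrCharacter G)] (hM : IsPModular p M)
    (B : Set (IrrCharacter G)) (hB : IsPBlock M B) (S : Finset (IrrCharacter G)) (hS : ∀ ξ, ξ ∈ S ↔ ξ ∈ B) :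
    4 * ∑ ξ ∈ S, p ^ (2 * blockHeight p B (ξ : G → ℂ)) ≤ p ^ (2 * blockDefect p B) + 4 := by
  classical
  have hp : p.Prime := Fact.out
  obtain ⟨χ0, hχ0, hχ00⟩ := exists_height_zero hM B hB
  obtain ⟨u, hu, hsum⟩ := bf_core (p := p) χ0
  have v0 := val_eq_add_height (p := p) B χ0 hχ0
  have va := card_val_eq (p := p) B χ0 hχ0
  rw [hχ00, add_zero] at v0
  set s := sInf ((fun χ : IrrCharacter G => (charDegree (χ : G → ℂ)).factorization p) '' B) with hs
  rw [v0] at hu hsum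
  have hd : (Nat.card G).factorization p - s = blockDefect p B := by omega
  rw [hd] at hsum
  have hpZ : (p : ℤ) ≠ 0 := by exact_mod_cast hp.pos.ne'
  have hlow : ∀ ξ ∈ S, (p : ℤ) ^ (2 * blockHeight p B (ξ : G → ℂ)) ≤ u ξ ^ 2 := by
    intro ξ hξ
    have hξB := (hS ξ).mp hξ
    have vξ := val_eq_add_height (p := p) B ξ hξB
    have h1 := rN_dvd (p := p) χ0 ξ
    rw [vξ, hu ξ, pow_add] at h1
    have h2 : (p : ℤ) ^ blockHeight p B (ξ : G → ℂ) ∣ u ξ :=
      (mul_dvd_mul_iff_left (pow_ne_zero _ hpZ)).mp h1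
    have h3 : u ξ ≠ 0 := by
      intro h0
      apply rN_not_dvd hM B hB χ0 hχ0 hχ00 ξ hξB
      rw [hu ξ, h0, mul_zero]; exact dvd_zero _
    obtain ⟨c, hc⟩ := h2
    have hc0 : c ≠ 0 := by rintro rfl; exact h3 (by rw [hc, mul_zero])
    have hc1 : 1 ≤ c ^ 2 := by
      have := sq_nonneg c
      have h4 : c ^ 2 ≠ 0 := pow_ne_zero 2 hc0
      omega
    rw [hc, mul_pow, ← pow_mul, mul_comm (blockHeight p B (ξ : G → ℂ)) 2]
    have hpos : (0 : ℤ) < (p : ℤ) ^ (2 * blockHeight p B (ξ : G → ℂ)) := pow_pos (by exact_mod_cast hp.pos) _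
    nlinarith
  have hχ0S : χ0 ∈ S := (hS χ0).mpr hχ0
  have h1 : ∑ ξ ∈ S, (p : ℤ) ^ (2 * blockHeight p B (ξ : G → ℂ))
      = 1 + ∑ ξ ∈ S.erase χ0, (p : ℤ) ^ (2 * blockHeight p B (ξ : G → ℂ)) := by
    rw [← Finset.add_sum_erase S _ hχ0S, hχ00]; simp
  have h2 : u χ0 ^ 2 + ∑ ξ ∈ S.erase χ0, u ξ ^ 2 ≤ ∑ ξ, u ξ ^ 2 := by
    rw [Finset.add_sum_erase S (fun ξ => u ξ ^ 2) hχ0S]
    exact Finset.sum_le_sum_of_subset_of_nonneg (Finset.subset_univ _) (fun ξ _ _ => sq_nonneg _)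
  have h3 : ∑ ξ ∈ S.erase χ0, (p : ℤ) ^ (2 * blockHeight p B (ξ : G → ℂ)) ≤ ∑ ξ ∈ S.erase χ0, u ξ ^ 2 :=
    Finset.sum_le_sum (fun ξ hξ => hlow ξ (Finset.mem_of_mem_erase hξ))
  have h4 : (4 : ℤ) * ∑ ξ ∈ S, (p : ℤ) ^ (2 * blockHeight p B (ξ : G → ℂ)) ≤ (p : ℤ) ^ (2 * blockDefect p B) + 4 := by
    rw [h1]
    have e : (p : ℤ) ^ (2 * blockDefect p B) = ((p : ℤ) ^ blockDefect p B) ^ 2 := by rw [← pow_mul, mul_comm]
    rw [e]
    nlinarith [sq_nonneg ((p : ℤ) ^ blockDefect p B - 2 * u χ0)]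
  exact_mod_cast h4

/-- Brauer–Feit: base character of positive height -/
theorem brauer_feit_pos_height [Fact p.Prime] [Fintype G] [Fintype (IrrCharacter G)] (hM : IsPModular p M)
    (B : Set (IrrCharacter G)) (hB : IsPBlock M B) (S : Finset (IrrCharacter G)) (hS : ∀ ξ, ξ ∈ S ↔ ξ ∈ B)
    (ψ : IrrCharacter G) (hψ : ψ ∈ B) (hh : blockHeight p B (ψ : G → ℂ) ≠ 0) :
    blockHeight p B (ψ : G → ℂ) + 2 ≤ blockDefect p B ∧
    4 * (S.filter (fun ξ : IrrCharacter G => blockHeight p B (ξ : G → ℂ) = 0)).card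
      ≤ p ^ (2 * (blockDefect p B - blockHeight p B (ψ : G → ℂ))) := by
  classical
  have hp : p.Prime := Fact.out
  obtain ⟨χ0, hχ0, hχ00⟩ := exists_height_zero hM B hB
  obtain ⟨u, hu, hsum⟩ := bf_core (p := p) ψ
  have vψ := val_eq_add_height (p := p) B ψ hψ
  have va := card_val_eq (p := p) B ψ hψ
  have hle := degree_val_le_card (p := p) ψ
  set s := sInf ((fun χ : IrrCharacter G => (charDegree (χ : G → ℂ)).factorization p) '' B) with hs
  set h := blockHeight p B (ψ : G → ℂ) with hh'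
  set d := blockDefect p B with hd'
  have hd : (Nat.card G).factorization p - (charDegree (ψ : G → ℂ)).factorization p = d - h := by omega
  rw [hd] at hsum
  have hpZ : (p : ℤ) ≠ 0 := by exact_mod_cast hp.pos.ne'
  have hpu : (p : ℤ) ∣ u ψ := by
    have h1 := rN_self_dvd_of_pos_height hM B hB ψ hψ hh ψ hψ
    rw [hu ψ, pow_succ] at h1
    exact (mul_dvd_mul_iff_left (pow_ne_zero _ hpZ)).mp h1
  set T := S.filter (fun ξ : IrrCharacter G => blockHeight p B (ξ : G → ℂ) = 0) with hT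
  have hlow : ∀ ξ ∈ T, (1 : ℤ) ≤ u ξ ^ 2 := by
    intro ξ hξ
    rw [hT, Finset.mem_filter] at hξ
    have hξB := (hS ξ).mp hξ.1
    have h3 : u ξ ≠ 0 := by
      intro h0
      apply rN_not_dvd hM B hB ξ hξB hξ.2 ψ hψ
      rw [rN_comm, hu ξ, h0, mul_zero]; exact dvd_zero _
    have := sq_nonneg (u ξ)
    have h4 : u ξ ^ 2 ≠ 0 := pow_ne_zero 2 h3
    omega
  have hψT : ψ ∉ T := by
    rw [hT, Finset.mem_filter]; intro h1; exact hh h1.2
  have h2 : u ψ ^ 2 + ∑ ξ ∈ T, u ξ ^ 2 ≤ ∑ ξ, u ξ ^ 2 := by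
    rw [← Finset.sum_insert (f := fun ξ => u ξ ^ 2) hψT]
    exact Finset.sum_le_sum_of_subset_of_nonneg (Finset.subset_univ _) (fun ξ _ _ => sq_nonneg _)
  have h3 : (T.card : ℤ) ≤ ∑ ξ ∈ T, u ξ ^ 2 := by
    have := Finset.sum_le_sum hlow
    simpa using this
  have hT1 : 1 ≤ T.card := by
    apply Finset.card_pos.mpr
    exact ⟨χ0, by rw [hT, Finset.mem_filter]; exact ⟨(hS χ0).mpr hχ0, hχ00⟩⟩
  have hT1' : (1 : ℤ) ≤ (T.card : ℤ) := by exact_mod_cast hT1
  have hq : (0 : ℤ) < (p : ℤ) ^ (d - h) := pow_pos (by exact_mod_cast hp.pos) _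
  have hupos : 0 < u ψ := by
    by_contra hneg
    push Not at hneg
    nlinarith [sq_nonneg (u ψ)]
  have hup : (p : ℤ) ≤ u ψ := Int.le_of_dvd hupos hpu
  have hult : u ψ < (p : ℤ) ^ (d - h) := by
    by_contra hneg
    push Not at hneg
    nlinarith
  constructor
  · by_contra hcon
    have h5 : d - h ≤ 1 := by omega
    have h6 : (p : ℤ) ^ (d - h) ≤ (p : ℤ) ^ 1 :=
      pow_le_pow_right₀ (by exact_mod_cast hp.one_lt.le) h5
    rw [pow_one] at h6
    omega
  · have h4 : (4 : ℤ) * (T.card : ℤ) ≤ (p : ℤ) ^ (2 * (d - h)) := by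
      have e : (p : ℤ) ^ (2 * (d - h)) = ((p : ℤ) ^ (d - h)) ^ 2 := by rw [← pow_mul, mul_comm]
      rw [e]
      nlinarith [sq_nonneg ((p : ℤ) ^ (d - h) - 2 * u ψ)]
    exact_mod_cast h4

theorem brauer_feit [Fact p.Prime] [Finite G] (hM : IsPModular p M)
    (B : Set (IrrCharacter G)) (hB : IsPBlock M B) :
    4 * Nat.card B ≤ p ^ (2 * blockDefect p B) + 4 := by
  classical
  haveI := Fintype.ofFinite G
  haveI := Fintype.ofFinite (IrrCharacter G)
  have hp : p.Prime := Fact.out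
  have h1 := brauer_feit_weighted hM B hB (Set.toFinite B).toFinset (fun ξ => Set.Finite.mem_toFinset _)
  have h2 : Nat.card B = (Set.toFinite B).toFinset.card := by
    rw [Nat.card_coe_set_eq, Set.ncard_eq_toFinset_card B (Set.toFinite B)]
  have h3 : (Set.toFinite B).toFinset.card ≤ ∑ ξ ∈ (Set.toFinite B).toFinset, p ^ (2 * blockHeight p B (ξ : G → ℂ)) := by
    rw [Finset.card_eq_sum_ones]
    exact Finset.sum_le_sum (fun ξ _ => Nat.one_le_pow _ _ hp.pos)
  omega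

theorem brauer_feit_weighted' [Fact p.Prime] [Fintype G] (hM : IsPModular p M)
    (B : Set (IrrCharacter G)) (hB : IsPBlock M B) (P : Subgroup G) (hP : IsDefectGroup p M B P) :
    ∑ᶠ χ ∈ B, p ^ (2 * blockHeight p B (χ : G → ℂ)) ≤ Nat.card P ^ 2 / 4 + 1 := by
  classical
  haveI := Fintype.ofFinite (IrrCharacter G)
  have h1 := brauer_feit_weighted hM B hB (Set.toFinite B).toFinset (fun ξ => Set.Finite.mem_toFinset _)
  rw [finsum_mem_eq_finite_toFinset_sum _ (Set.toFinite B), defect_group_card hM B hB P hP, ← pow_mul,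
    mul_comm (blockDefect p B) 2]
  have h2 : ∑ ξ ∈ (Set.toFinite B).toFinset, p ^ (2 * blockHeight p B (ξ : G → ℂ)) - 1
      ≤ p ^ (2 * blockDefect p B) / 4 := by
    rw [Nat.le_div_iff_mul_le (by norm_num)]
    omega
  omega

theorem brauer_feit_complement [Fact p.Prime] [Finite G] (hM : IsPModular p M)
    (B : Set (IrrCharacter G)) (hB : IsPBlock M B) (d : ℕ) (hd : blockDefect p B = d) :
    ((∃ χ ∈ B, 0 < blockHeight p B (χ : G → ℂ)) → 2 * Nat.card B ≤ p ^ (2 * d - 2)) ∧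
    ∀ χ ∈ B, (d ≤ 1 → blockHeight p B (χ : G → ℂ) = 0) ∧ (2 ≤ d → blockHeight p B (χ : G → ℂ) ≤ d - 2) := by
  classical
  haveI := Fintype.ofFinite G
  haveI := Fintype.ofFinite (IrrCharacter G)
  have hp : p.Prime := Fact.out
  subst hd
  set S := (Set.toFinite B).toFinset with hS
  have hSm : ∀ ξ, ξ ∈ S ↔ ξ ∈ B := fun ξ => Set.Finite.mem_toFinset _
  constructor
  · rintro ⟨ψ, hψ, hh⟩
    obtain ⟨h1, h2⟩ := brauer_feit_pos_height hM B hB S hSm ψ hψ hh.ne'
    have h3 := brauer_feit_weighted hM B hB S hSm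
    have hcard : Nat.card B = S.card := by
      rw [Nat.card_coe_set_eq, Set.ncard_eq_toFinset_card B (Set.toFinite B)]
    set T0 := S.filter (fun ξ : IrrCharacter G => blockHeight p B (ξ : G → ℂ) = 0) with hT0
    set T1 := S.filter (fun ξ : IrrCharacter G => ¬ blockHeight p B (ξ : G → ℂ) = 0) with hT1
    have hsplit : T0.card + T1.card = S.card := Finset.card_filter_add_card_filter_not _
    have hsum : ∑ ξ ∈ S, p ^ (2 * blockHeight p B (ξ : G → ℂ))
        = ∑ ξ ∈ T0, p ^ (2 * blockHeight p B (ξ : G → ℂ)) + ∑ ξ ∈ T1, p ^ (2 * blockHeight p B (ξ : G → ℂ)) :=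
      (Finset.sum_filter_add_sum_filter_not S _ _).symm
    have hs0 : T0.card ≤ ∑ ξ ∈ T0, p ^ (2 * blockHeight p B (ξ : G → ℂ)) := by
      rw [Finset.card_eq_sum_ones]
      exact Finset.sum_le_sum (fun ξ _ => Nat.one_le_pow _ _ hp.pos)
    have hs1 : T1.card * p ^ 2 ≤ ∑ ξ ∈ T1, p ^ (2 * blockHeight p B (ξ : G → ℂ)) := by
      rw [← smul_eq_mul, ← Finset.sum_const]
      apply Finset.sum_le_sum
      intro ξ hξ
      rw [hT1, Finset.mem_filter] at hξ
      exact Nat.pow_le_pow_right hp.pos (by omega)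
    have hT01 : 1 ≤ T0.card := by
      obtain ⟨χ0, hχ0, hχ00⟩ := exists_height_zero hM B hB
      apply Finset.card_pos.mpr
      exact ⟨χ0, by rw [hT0, Finset.mem_filter]; exact ⟨(hSm χ0).mpr hχ0, hχ00⟩⟩
    have e1 : p ^ (2 * blockDefect p B) = p ^ 2 * p ^ (2 * blockDefect p B - 2) := by
      rw [← pow_add]; congr 1; omega
    have h4 : 4 * T1.card ≤ p ^ (2 * blockDefect p B - 2) := by
      have h5 : p ^ 2 * (4 * T1.card) ≤ p ^ 2 * p ^ (2 * blockDefect p B - 2) := by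
        rw [← e1]
        nlinarith
      exact Nat.le_of_mul_le_mul_left h5 (pow_pos hp.pos 2)
    have h6 : p ^ (2 * (blockDefect p B - blockHeight p B (ψ : G → ℂ))) ≤ p ^ (2 * blockDefect p B - 2) :=
      Nat.pow_le_pow_right hp.pos (by omega)
    rw [hcard]
    omega
  · intro χ hχ
    constructor
    · intro hd1
      by_contra hh
      have := (brauer_feit_pos_height hM B hB S hSm χ hχ hh).1
      omega
    · intro hd2
      by_cases hh : blockHeight p B (χ : G → ℂ) = 0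
      · rw [hh]; exact Nat.zero_le _
      · have := (brauer_feit_pos_height hM B hB S hSm χ hχ hh).1
        omega

end BF2
end Cfsg.Agent.H4
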