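import Mathlib
import Cfsg.Prelude.Def_TwoFusion
import Cfsg.Agent.Lib_helper5_Invol
import Cfsg.Agent.Lib_helper5_Basic

set_option autoImplicit false

namespace Cfsg.Agent.H5

variable {G : Type*} [Group G]

theorem right_invol_mul_zpow {x y : G} (hx : x * x = 1) (hy : y * y = 1) (k : ℤ) :
    y * (x * y) ^ k = (x * y) ^ (-k) * y := by
  have h := invol_mul_zpow hy hx (-k)
  have hxi : x⁻¹ = x := inv_eq_of_mul_eq_one_left hx
  have hyi : y⁻¹ = y := inv_eq_of_mul_eq_one_left hy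
  have hinv : y * x = (x * y)⁻¹ := by rw [mul_inv_rev, hxi, hyi]
  rw [hinv, inv_zpow', inv_zpow', neg_neg] at h
  exact h

/-- every reflection is conjugate (in the dihedral group) to `x` or `y`. -/
theorem refl_is_conj {x y : G} (hx : x * x = 1) (hy : y * y = 1) (k : ℤ) :
    ∃ d ∈ Subgroup.closure ({x, y} : Set G),
      (x * y) ^ k * x = d * x * d⁻¹ ∨ (x * y) ^ k * x = d * y * d⁻¹ := by
  rcases Int.even_or_odd' k with ⟨j, rfl | rfl⟩
  · exact ⟨(x * y) ^ j, zpow_mem_closure_pair x y j, Or.inl (rot_conj_invol hx hy j).symm⟩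
  · refine ⟨(x * y) ^ (j + 1), zpow_mem_closure_pair x y _, Or.inr ?_⟩
    rw [← zpow_neg, mul_assoc, right_invol_mul_zpow hx hy, neg_neg, ← mul_assoc, ← zpow_add]
    have h1 : (x * y) ^ (2 * j + 1) * x = (x * y) ^ (2 * j + 1) * ((x * y) * y) := by
      rw [mul_assoc x, hy, mul_one]
    rw [h1, ← mul_assoc, ← zpow_add_one]
    congr 2
    ring

/-- An odd-order element is a power of its square. -/
theorem exists_sqrt_of_odd {a : G} (ha : Odd (orderOf a)) :
    ∃ m : ℕ, (a ^ m) ^ 2 = a := by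
  obtain ⟨m, hm⟩ := ha
  refine ⟨m + 1, ?_⟩
  rw [← pow_mul]
  have : (m + 1) * 2 = orderOf a + 1 := by omega
  rw [this, pow_succ, pow_orderOf_eq_one, one_mul]

theorem odd_orderOf_pow {a : G} (ha : Odd (orderOf a)) (m : ℕ) : Odd (orderOf (a ^ m)) :=
  Odd.of_dvd_nat ha (orderOf_pow_dvd m)

theorem eq_of_sq_eq_of_odd {a b : G} (ha : Odd (orderOf a)) (hb : Odd (orderOf b))
    (h : a ^ 2 = b ^ 2) : a = b := by
  have hN : Odd (orderOf a * orderOf b) := ha.mul hb
  obtain ⟨e, he⟩ := hN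
  have h1 : a ^ (2 * (e + 1)) = a := by
    have : 2 * (e + 1) = orderOf a * orderOf b + 1 := by omega
    rw [this, pow_succ, pow_mul, pow_orderOf_eq_one, one_pow, one_mul]
  have h2 : b ^ (2 * (e + 1)) = b := by
    have : 2 * (e + 1) = orderOf b * orderOf a + 1 := by rw [mul_comm (orderOf b)]; omega
    rw [this, pow_succ, pow_mul, pow_orderOf_eq_one, one_pow, one_mul]
  rw [← h1, ← h2, pow_mul, pow_mul, h]

theorem isolated_conj {z : G} (hz : Cfsg.IsIsolatedInvolution z) (a : G) :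
    Cfsg.IsIsolatedInvolution (a * z * a⁻¹) := by
  refine ⟨order_two_conj hz.1 a, ?_⟩
  intro g hc
  have h1 : Commute z ((a⁻¹ * g * a) * z * (a⁻¹ * g * a)⁻¹) := by
    have h2 : (a⁻¹ * g * a) * z * (a⁻¹ * g * a)⁻¹ = a⁻¹ * (g * (a * z * a⁻¹) * g⁻¹) * a := by group
    have h3 : z = a⁻¹ * (a * z * a⁻¹) * a := by group
    rw [h2]
    nth_rewrite 1 [h3]
    have := hc.eq
    show a⁻¹ * (a * z * a⁻¹) * a * (a⁻¹ * (g * (a * z * a⁻¹) * g⁻¹) * a) =
      a⁻¹ * (g * (a * z * a⁻¹) * g⁻¹) * a * (a⁻¹ * (a * z * a⁻¹) * a)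
    calc a⁻¹ * (a * z * a⁻¹) * a * (a⁻¹ * (g * (a * z * a⁻¹) * g⁻¹) * a)
        = a⁻¹ * ((a * z * a⁻¹) * (g * (a * z * a⁻¹) * g⁻¹)) * a := by group
      _ = a⁻¹ * ((g * (a * z * a⁻¹) * g⁻¹) * (a * z * a⁻¹)) * a := by rw [this]
      _ = _ := by group
  have h4 := hz.2 _ h1
  calc g * (a * z * a⁻¹) * g⁻¹ = a * ((a⁻¹ * g * a) * z * (a⁻¹ * g * a)⁻¹) * a⁻¹ := by group
    _ = a * z * a⁻¹ := by rw [h4]

variable [Finite G]

/-- The product of an isolated involution with a conjugate has odd order. -/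
theorem isolated_odd {z : G} (hz : Cfsg.IsIsolatedInvolution z) (g : G) :
    Odd (orderOf (z * (g * z * g⁻¹))) := by
  obtain ⟨hz2, hiso⟩ := hz
  set v := g * z * g⁻¹ with hv
  have hv2 : orderOf v = 2 := order_two_conj hz2 g
  have hzz := mul_self_of_order_two hz2
  have hvv := mul_self_of_order_two hv2
  by_contra hodd
  rw [Nat.not_odd_iff_even] at hodd
  have hpos : 0 < orderOf (z * v) := orderOf_pos _
  obtain ⟨m, hm⟩ := hodd
  have hmpos : 0 < m := by omega
  have hw : orderOf ((z * v) ^ m) = 2 := by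
    rw [orderOf_pow' _ (by omega), hm]
    have : Nat.gcd (m + m) m = m := by
      rw [← two_mul]; exact Nat.gcd_eq_right (Dvd.intro_left 2 rfl)
    rw [this, ← two_mul]
    exact Nat.mul_div_cancel _ hmpos
  have hwi := inv_of_order_two hw
  have hcz : z * (z * v) ^ m = (z * v) ^ m * z := by
    have h := invol_mul_zpow hzz hvv m
    rwa [zpow_neg, zpow_natCast, hwi] at h
  -- the reflection (z v)^m z is a conjugate of z commuting with z
  obtain ⟨d, -, hd⟩ := refl_is_conj hzz hvv (m : ℤ)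
  rw [zpow_natCast] at hd
  have hcomm : Commute z ((z * v) ^ m * z) := by
    show z * ((z * v) ^ m * z) = (z * v) ^ m * z * z
    rw [← mul_assoc, hcz]
  have hfin : (z * v) ^ m * z = z := by
    rcases hd with hd | hd
    · rw [hd] at hcomm ⊢
      exact hiso d hcomm
    · have h1 : d * v * d⁻¹ = (d * g) * z * (d * g)⁻¹ := by rw [hv]; group
      rw [hd, h1] at hcomm
      rw [hd, h1]
      exact hiso _ hcomm
  have : (z * v) ^ m = 1 := by
    have := congrArg (fun t => t * z) hfin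
    simpa [mul_assoc, hzz] using this
  exact ne_one_of_order_two hw this

/-- For an isolated involution `z` and a conjugate `v`, there is `k`, a power of `v * z`, of odd order,
inverted by `z`, with `k z k⁻¹ = v`. -/
theorem isolated_exists_K {z : G} (hz : Cfsg.IsIsolatedInvolution z) (g : G) :
    ∃ m : ℕ, Odd (orderOf (((g * z * g⁻¹) * z) ^ m)) ∧
      z * ((g * z * g⁻¹) * z) ^ m * z⁻¹ = (((g * z * g⁻¹) * z) ^ m)⁻¹ ∧
      ((g * z * g⁻¹) * z) ^ m * z * (((g * z * g⁻¹) * z) ^ m)⁻¹ = g * z * g⁻¹ := by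
  have hodd0 := isolated_odd hz g
  obtain ⟨hz2, hiso⟩ := hz
  set v := g * z * g⁻¹ with hv
  have hv2 : orderOf v = 2 := order_two_conj hz2 g
  have hzz := mul_self_of_order_two hz2
  have hvv := mul_self_of_order_two hv2
  have hzi := inv_of_order_two hz2
  have hvi := inv_of_order_two hv2
  have hodd : Odd (orderOf (v * z)) := by
    have : v * z = (z * v)⁻¹ := by rw [mul_inv_rev, hzi, hvi]
    rw [this, orderOf_inv]; exact hodd0
  obtain ⟨m, hm⟩ := exists_sqrt_of_odd hodd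
  refine ⟨m, odd_orderOf_pow hodd m, ?_, ?_⟩
  · have h := right_invol_mul_zpow hvv hzz (m : ℤ)
    rw [zpow_neg, zpow_natCast] at h
    rw [h, hzi, mul_assoc, hzz, mul_one]
  · have h := right_invol_mul_zpow hvv hzz (-(m : ℤ))
    rw [neg_neg, zpow_neg, zpow_natCast] at h
    rw [mul_assoc, h, ← mul_assoc, ← sq, hm, mul_assoc, hzz, mul_one]

end Cfsg.Agent.H5
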