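import Mathlib
import Cfsg.Agent.Lib_helper5_CharP6
import Cfsg.Agent.Lib_helper5_PGrp
import Cfsg.Agent.Lib_helper5_Sylow
import Cfsg.Agent.Lib_helper7_Sylow
import Cfsg.Prelude.Def_LocalStructure

set_option autoImplicit false

namespace Cfsg.Agent.H5

variable {G : Type*} [Group G]

theorem isLarge_conj {Q : Subgroup G} (hL : Cfsg.IsLarge Q) (g : G) :
    Cfsg.IsLarge (Q.map (MulAut.conj g).toMonoidHom) := by
  refine ⟨?_, ?_⟩
  · rw [H7.centralizer_map_conj]; exact Subgroup.map_mono hL.1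
  · intro U hU hU1
    rw [H7.centralizer_map_conj] at hU
    rw [H7.normalizer_map_conj]
    have h1 : U.map (MulAut.conj g⁻¹).toMonoidHom ≤ Subgroup.centralizer (Q : Set G) := by
      have := Subgroup.map_mono (f := (MulAut.conj g⁻¹).toMonoidHom) hU
      rwa [H7.map_conj_map_conj, inv_mul_cancel, H7.map_conj_one] at this
    have h2 : U.map (MulAut.conj g⁻¹).toMonoidHom ≠ ⊥ := by
      rw [Ne, Subgroup.map_eq_bot_iff_of_injective _ (MulAut.conj g⁻¹).injective]; exact hU1
    have h3 := hL.2 _ h1 h2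
    rw [H7.normalizer_map_conj] at h3
    have := Subgroup.map_mono (f := (MulAut.conj g).toMonoidHom) h3
    rwa [H7.map_conj_map_conj, mul_inv_cancel, H7.map_conj_one] at this

theorem normalizer_le_normalizer_inf_centralizer (D : Subgroup G) :
    Subgroup.normalizer (D : Set G) ≤
      Subgroup.normalizer ((D ⊓ Subgroup.centralizer (D : Set G) : Subgroup G) : Set G) := by
  intro n hn
  rw [← H7.map_conj_eq_self_iff] at hn ⊢
  rw [Subgroup.map_inf _ _ _ (MulAut.conj n).injective, ← H7.centralizer_map_conj, hn]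

/-- a `p`-group containing a large subgroup normalizes it. -/
theorem large_le_normalizer [Finite G] {p : ℕ} [Fact p.Prime] {Q D : Subgroup G}
    (hL : Cfsg.IsLarge Q) (hQ1 : Q ≠ ⊥) (hD : IsPGroup p D) (hQD : Q ≤ D) :
    Subgroup.normalizer (D : Set G) ≤ Subgroup.normalizer (Q : Set G) := by
  have hD1 : D ≠ ⊥ := fun h => hQ1 (le_bot_iff.1 (h ▸ hQD))
  have hU := inf_centralizer_ne_bot_of_pgroup hD le_rfl Subgroup.le_normalizer hD1
  have h1 : D ⊓ Subgroup.centralizer (D : Set G) ≤ Subgroup.centralizer (Q : Set G) :=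
    inf_le_right.trans (Subgroup.centralizer_le hQD)
  exact (normalizer_le_normalizer_inf_centralizer D).trans (hL.2 _ h1 hU)

theorem large_weakly_closed [Finite G] {p : ℕ} [Fact p.Prime] {Q : Subgroup G}
    (hL : Cfsg.IsLarge Q) (hQ1 : Q ≠ ⊥) (S : Sylow p G) (hQS : Q ≤ S) {g : G}
    (hg : Q.map (MulAut.conj g).toMonoidHom ≤ S) : g ∈ Subgroup.normalizer (Q : Set G) := by
  have hNS : Subgroup.normalizer ((S : Subgroup G) : Set G) ≤ Subgroup.normalizer (Q : Set G) :=
    large_le_normalizer hL hQ1 S.isPGroup' hQS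
  have hS : (S : Subgroup G) ≤ Subgroup.normalizer (Q : Set G) := Subgroup.le_normalizer.trans hNS
  have hQS' : Q ≤ ((g⁻¹ • S : Sylow p G) : Subgroup G) := by
    intro x hx
    show x ∈ g⁻¹ • S
    rw [mem_smul_sylow_iff, inv_inv]
    exact hg (H7.conj_mem_map_conj g hx)
  have hS' : ((g⁻¹ • S : Sylow p G) : Subgroup G) ≤ Subgroup.normalizer (Q : Set G) :=
    Subgroup.le_normalizer.trans (large_le_normalizer hL hQ1 (g⁻¹ • S).isPGroup' hQS')
  obtain ⟨n, hn⟩ := MulAction.exists_smul_eq (Subgroup.normalizer (Q : Set G))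
    ((g⁻¹ • S).subtype hS') (S.subtype hS)
  rw [Sylow.smul_subtype] at hn
  have hn' : n • (g⁻¹ • S) = S := Sylow.subtype_injective hn
  have h3 : (n : G) * g⁻¹ ∈ Subgroup.normalizer ((S : Subgroup G) : Set G) := by
    apply Sylow.smul_eq_iff_mem_normalizer.1
    rw [mul_smul]; exact hn'
  have h5 := hNS h3
  have h6 : g⁻¹ ∈ Subgroup.normalizer (Q : Set G) := by
    have := Subgroup.mul_mem _ (Subgroup.inv_mem _ n.2) h5
    simpa using this
  simpa using Subgroup.inv_mem _ h6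

theorem large_centralizer_inf [Finite G] {p : ℕ} [Fact p.Prime] {Q : Subgroup G}
    (hQp : IsPGroup p Q) (hL : Cfsg.IsLarge Q) (hQ1 : Q ≠ ⊥) {g : G}
    (hg : g ∉ Subgroup.normalizer (Q : Set G)) :
    Subgroup.centralizer (Q : Set G) ⊓
      Subgroup.centralizer ((Q.map (MulAut.conj g).toMonoidHom : Subgroup G) : Set G) = ⊥ := by
  by_contra hU
  apply hg
  set Qg := Q.map (MulAut.conj g).toMonoidHom with hQg
  set U := Subgroup.centralizer (Q : Set G) ⊓ Subgroup.centralizer (Qg : Set G) with hUdef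
  have h1 : Subgroup.normalizer (U : Set G) ≤ Subgroup.normalizer (Q : Set G) :=
    hL.2 U inf_le_left hU
  have h3 : Qg ≤ Subgroup.normalizer (Q : Set G) := by
    refine le_trans ?_ h1
    refine le_trans ?_ (Subgroup.centralizer_le_normalizer _)
    rw [Subgroup.le_centralizer_iff]
    exact inf_le_right
  have hD : IsPGroup p (Q ⊔ Qg : Subgroup G) :=
    IsPGroup.to_sup_of_normal_left' hQp (hQp.map _) h3
  obtain ⟨S, hS⟩ := hD.exists_le_sylow
  exact large_weakly_closed hL hQ1 S (le_sup_left.trans hS) (le_sup_right.trans hS)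

theorem pCoreIn_inf_centralizer_le [Finite G] (p : ℕ) [Fact p.Prime] (N : Subgroup G) :
    pCoreIn p (N ⊓ Subgroup.centralizer (pCoreIn p N : Set G)) ≤ pCoreIn p N := by
  have hNQ : N ≤ Subgroup.normalizer (pCoreIn p N : Set G) := le_normalizer_pCoreIn p N
  have hND := le_normalizer_inf_centralizer hNQ
  haveI := H1.pCore_characteristic
    (G := ↥(N ⊓ Subgroup.centralizer (pCoreIn p N : Set G))) p
  exact le_pCoreIn ((pCoreIn_le p _).trans inf_le_left) (pCoreIn_isPGroup p _)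
      (hND.trans (H1.normalizer_le_normalizer_map_of_characteristic _ (Cfsg.pCore p _)))

/-- `C_G(O_p(L))` is a `p`-group whenever `L` contains a large `p`-subgroup and `O_p(L) ≠ 1`. -/
theorem large_centralizer_pCoreIn_isPGroup [Finite G] {p : ℕ} [Fact p.Prime] {Q L : Subgroup G}
    (hQp : IsPGroup p Q) (hL : Cfsg.IsLarge Q) (hQ1 : Q ≠ ⊥) (hQL : Q ≤ L)
    (hP1 : pCoreIn p L ≠ ⊥) : IsPGroup p (Subgroup.centralizer (pCoreIn p L : Set G)) := by
  set P := pCoreIn p L with hP
  have hPp : IsPGroup p P := pCoreIn_isPGroup p L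
  have hLP : L ≤ Subgroup.normalizer (P : Set G) := le_normalizer_pCoreIn p L
  have hD : IsPGroup p (P ⊔ Q : Subgroup G) :=
    IsPGroup.to_sup_of_normal_left' hPp hQp (hQL.trans hLP)
  have hDP : P ⊔ Q ≤ Subgroup.normalizer (P : Set G) :=
    sup_le Subgroup.le_normalizer (hQL.trans hLP)
  have hU := inf_centralizer_ne_bot_of_pgroup hD le_sup_left hDP hP1
  have hUQ : P ⊓ Subgroup.centralizer ((P ⊔ Q : Subgroup G) : Set G) ≤
      Subgroup.centralizer (Q : Set G) := inf_le_right.trans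
        (Subgroup.centralizer_le (show (Q : Set G) ⊆ ((P ⊔ Q : Subgroup G) : Set G) from
          (le_sup_right : Q ≤ P ⊔ Q)))
  have hNU := hL.2 _ hUQ hU
  have hCN : Subgroup.centralizer (P : Set G) ≤ Subgroup.normalizer (Q : Set G) :=
    ((Subgroup.centralizer_le inf_le_left).trans (Subgroup.centralizer_le_normalizer _)).trans hNU
  have hPQ : P ≤ Subgroup.normalizer (Q : Set G) :=
    (le_sup_left.trans Subgroup.le_normalizer).trans (large_le_normalizer hL hQ1 hD le_sup_right)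
  have hY : Q ⊓ (L ⊓ Subgroup.centralizer (P : Set G)) ≤ P := by
    refine le_trans ?_ (pCoreIn_inf_centralizer_le p L)
    exact le_pCoreIn inf_le_right (hQp.to_le inf_le_left)
      (inf_le_normalizer_of_le (inf_le_right.trans hCN))
  apply isPGroup_of_coprime_trivial p
  intro x hx hxc
  have h1 : x ∈ Subgroup.centralizer (Q : Set G) := by
    apply thompson_element p hQp hPp hxc hPQ (hCN hx) hx
    intro r hr
    have hrP : r ∈ P := hY (Subgroup.mem_inf.2 ⟨(Subgroup.mem_inf.1 hr).1,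
      Subgroup.mem_inf.2 ⟨hQL (Subgroup.mem_inf.1 hr).1, (Subgroup.mem_inf.1 hr).2⟩⟩)
    exact (Subgroup.mem_centralizer_iff.1 hx) r hrP
  exact eq_one_of_mem_pgroup_of_coprime hQp (hL.1 h1) hxc

theorem large_charPIn [Finite G] {p : ℕ} [Fact p.Prime] {Q L : Subgroup G}
    (hQp : IsPGroup p Q) (hL : Cfsg.IsLarge Q) (hQ1 : Q ≠ ⊥) (hQL : Q ≤ L)
    (hP1 : pCoreIn p L ≠ ⊥) : CharPIn p L :=
  ⟨pCoreIn p L, pCoreIn_le p L, pCoreIn_isPGroup p L, le_normalizer_pCoreIn p L,
    le_pCoreIn inf_le_left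
      ((large_centralizer_pCoreIn_isPGroup hQp hL hQ1 hQL hP1).to_le inf_le_right)
      (le_normalizer_inf_centralizer (le_normalizer_pCoreIn p L))⟩

theorem pCoreIn_ne_bot {p : ℕ} {L : Subgroup G} (h : Cfsg.pCore p ↥L ≠ ⊥) : pCoreIn p L ≠ ⊥ := by
  intro h'
  apply h
  rwa [pCoreIn, Subgroup.map_eq_bot_iff_of_injective _ L.subtype_injective] at h'

/-- in a parabolic subgroup `R` with `O_p(R) ≠ 1`: `C_G(O_p(R)) ≤ O_p(R)`. -/
theorem large_parabolic [Finite G] {p : ℕ} [Fact p.Prime] {Q R : Subgroup G}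
    (hQp : IsPGroup p Q) (hL : Cfsg.IsLarge Q) (hQ1 : Q ≠ ⊥) (T : Sylow p G) (hTR : (T : Subgroup G) ≤ R)
    (hP1 : pCoreIn p R ≠ ⊥) :
    Subgroup.centralizer (pCoreIn p R : Set G) ≤ pCoreIn p R ∧ CharPIn p R := by
  obtain ⟨a, ha⟩ := exists_conj_mem_sylow T Q hQp
  have hQa : Q.map (MulAut.conj a).toMonoidHom ≤ T := H7.map_conj_le_iff.2 ha
  have hQa1 : Q.map (MulAut.conj a).toMonoidHom ≠ ⊥ := by
    rw [Ne, Subgroup.map_eq_bot_iff_of_injective _ (MulAut.conj a).injective]; exact hQ1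
  have hC := large_centralizer_pCoreIn_isPGroup (hQp.map _) (isLarge_conj hL a) hQa1
    (hQa.trans hTR) hP1
  refine ⟨?_, large_charPIn (hQp.map _) (isLarge_conj hL a) hQa1 (hQa.trans hTR) hP1⟩
  have hRC : R ≤ Subgroup.normalizer
      ((Subgroup.centralizer (pCoreIn p R : Set G) : Subgroup G) : Set G) :=
    (le_normalizer_pCoreIn p R).trans (normalizer_le_normalizer_centralizer _)
  have hD : IsPGroup p ((Subgroup.centralizer (pCoreIn p R : Set G)) ⊔ (T : Subgroup G) : Subgroup G) :=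
    IsPGroup.to_sup_of_normal_left' hC T.isPGroup' (hTR.trans hRC)
  have hT : (Subgroup.centralizer (pCoreIn p R : Set G)) ⊔ (T : Subgroup G) = T :=
    T.is_maximal' hD le_sup_right
  have hCT : Subgroup.centralizer (pCoreIn p R : Set G) ≤ T := by
    rw [← hT]; exact le_sup_left
  exact le_pCoreIn (hCT.trans hTR) hC hRC

end Cfsg.Agent.H5
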