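import Mathlib
import Cfsg.Agent.Lib_helper5_Sylow

set_option autoImplicit false

namespace Cfsg.Agent.H5

open scoped Pointwise

variable {G : Type*} [Group G]

/-- A nontrivial finite 2-subgroup has a central involution. -/
theorem exists_central_invol [Finite G] (T : Subgroup G) (hT : IsPGroup 2 T) (hne : T ≠ ⊥) :
    ∃ z ∈ T, orderOf z = 2 ∧ ∀ x ∈ T, x * z = z * x := by
  have : Nontrivial T := (Subgroup.nontrivial_iff_ne_bot T).2 hne
  have : Nontrivial (Subgroup.center T) := hT.center_nontrivial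
  have h2 : IsPGroup 2 (Subgroup.center T) := hT.to_subgroup _
  have h3 : 2 ∣ Nat.card (Subgroup.center T) := by
    rcases h2.card_eq_or_dvd with h | h
    · exfalso
      have := (Nat.card_eq_one_iff_unique.1 h).1
      exact not_subsingleton _ this
    · exact h
  obtain ⟨z, hz⟩ := exists_prime_orderOf_dvd_card' (G := Subgroup.center T) 2 h3
  refine ⟨((z : T) : G), (z : T).2, ?_, ?_⟩
  · rw [Subgroup.orderOf_coe, Subgroup.orderOf_coe, hz]
  · intro x hx
    have := Subgroup.mem_center_iff.1 z.2 ⟨x, hx⟩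
    exact congrArg Subtype.val this

/-- A subgroup all of whose elements square to one is a 2-group. -/
theorem isPGroup_two_of_sq (K : Subgroup G) (h : ∀ c ∈ K, c ^ 2 = 1) : IsPGroup 2 K := by
  intro c
  refine ⟨1, ?_⟩
  ext
  rw [pow_one]
  exact h c c.2

/-- an involution normalizing a Sylow 2-subgroup lies in it. -/
theorem invol_mem_of_mem_normalizer (T : Sylow 2 G) {t : G} (ht : orderOf t = 2)
    (hN : t ∈ Subgroup.normalizer ((T : Subgroup G) : Set G)) : t ∈ T := by
  have hp : IsPGroup 2 (Subgroup.zpowers t) := by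
    apply IsPGroup.of_card (n := 1)
    rw [Nat.card_zpowers, ht, pow_one]
  have h1 := hp.inf_normalizer_sylow T
  have h2 : t ∈ Subgroup.zpowers t ⊓ Subgroup.normalizer ((T : Subgroup G) : Set G) :=
    Subgroup.mem_inf.2 ⟨Subgroup.mem_zpowers t, hN⟩
  have h3 : t ∈ Subgroup.zpowers t ⊓ (T : Subgroup G) := by
    rw [← h1]; exact h2
  exact (Subgroup.mem_inf.1 h3).2

theorem exists_sylow_of_commuting_invol [Finite G] {u w : G} (hu : orderOf u = 2) (hw : orderOf w = 2)
    (hc : Commute u w) : ∃ Q : Sylow 2 G, u ∈ Q ∧ w ∈ Q := by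
  obtain ⟨Q, hQ⟩ := (isPGroup_closure_commuting_invol (mul_self_of_order_two hu)
    (mul_self_of_order_two hw) hc).exists_le_sylow
  exact ⟨Q, hQ (left_mem_closure_pair u w), hQ (right_mem_closure_pair u w)⟩

end Cfsg.Agent.H5
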