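import Mathlib
import Cfsg.Agent.Lib_helper5_Sylow2
import Cfsg.Agent.Lib_helper2_BaerSuzuki

set_option autoImplicit false

namespace Cfsg.Agent.H5

open scoped Pointwise

variable {G : Type*} [Group G] [Finite G] {p : ℕ} [Fact p.Prime]

/-- A `p`-subgroup of `H` is `H`-conjugate into a given Sylow `p`-subgroup of `H`. -/
theorem exists_conj_le_sylow_of_le (H : Subgroup G) (P : Sylow p H) (K : Subgroup G) (hKH : K ≤ H)
    (hK : IsPGroup p K) : ∃ h ∈ H, ∀ x ∈ K, h * x * h⁻¹ ∈ (P : Subgroup H).map H.subtype := by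
  obtain ⟨h, hh⟩ := exists_conj_mem_sylow P (K.subgroupOf H) hK.comap_subtype
  refine ⟨h, h.2, fun x hx => ?_⟩
  exact ⟨_, hh ⟨x, hKH hx⟩ (Subgroup.mem_subgroupOf.2 hx), rfl⟩

theorem card_conj_map (K : Subgroup G) (g : G) :
    Nat.card (K.map (MulAut.conj g).toMonoidHom) = Nat.card K :=
  Subgroup.card_map_of_injective (MulAut.conj g).injective

theorem mem_normalizer_of_conj_map_eq {K : Subgroup G} {g : G}
    (h : K.map (MulAut.conj g).toMonoidHom = K) : g ∈ Subgroup.normalizer (K : Set G) := by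
  rw [Subgroup.mem_normalizer_iff]
  intro w
  constructor
  · intro hw
    rw [← h]
    exact (conj_mem_conj_map K _ w).2 hw
  · intro hw
    rw [← h] at hw
    exact (conj_mem_conj_map K _ w).1 hw

theorem conj_map_eq_of_mem_normalizer {K : Subgroup G} {g : G}
    (h : g ∈ Subgroup.normalizer (K : Set G)) : K.map (MulAut.conj g).toMonoidHom = K := by
  ext x
  rw [mem_conj_map]
  have h1 := Subgroup.mem_normalizer_iff.1 (Subgroup.inv_mem _ h) x
  rw [inv_inv] at h1
  exact h1.symm

/-- a subgroup `P'` of `H` that is a maximal `p`-subgroup of `H`. -/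
theorem sylow_map_maximal (H : Subgroup G) (P : Sylow p H) (Q : Subgroup G) (hQ : IsPGroup p Q)
    (hQH : Q ≤ H) (hPQ : (P : Subgroup H).map H.subtype ≤ Q) : Q = (P : Subgroup H).map H.subtype := by
  have h1 : Q.subgroupOf H = P := by
    apply P.is_maximal' hQ.comap_subtype
    intro x hx
    exact Subgroup.mem_subgroupOf.2 (hPQ ⟨x, hx, rfl⟩)
  rw [← h1, Subgroup.map_subgroupOf_eq_of_le hQH]

section general

variable (H : Subgroup G) (P : Sylow p H) (X : Subgroup G → Prop)
  (hmono : ∀ A B : Subgroup G, A ≤ B → X A → X B)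
  (hconj : ∀ (A : Subgroup G) (g : G), X A → X (A.map (MulAut.conj g).toMonoidHom))
  (hP : X ((P : Subgroup H).map H.subtype))
  (hN : ∀ A : Subgroup G, A ≤ (P : Subgroup H).map H.subtype → X A →
    Subgroup.normalizer (A : Set G) ≤ H)

include hP hN in
theorem se_sylow : ∃ Q : Sylow p G, (Q : Subgroup G) = (P : Subgroup H).map H.subtype := by
  set P' := (P : Subgroup H).map H.subtype with hP'
  have hP'p : IsPGroup p P' := P.2.map _
  have hP'H : P' ≤ H := by
    rintro _ ⟨x, -, rfl⟩; exact x.2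
  obtain ⟨Q, hQ⟩ := hP'p.exists_le_sylow
  refine ⟨Q, ?_⟩
  by_contra hne
  have hlt : P' < Q := lt_of_le_of_ne hQ (Ne.symm hne)
  obtain ⟨y, hyQ, hyP, hyN⟩ := H2.exists_normalizer_of_lt Q.2 hlt
  have hyH : y ∈ H := hN P' le_rfl hP hyN
  have h1 := sylow_map_maximal H P ((Q : Subgroup G) ⊓ H) (Q.2.to_le inf_le_left) inf_le_right
    (le_inf hQ hP'H)
  apply hyP
  rw [hP', ← h1]
  exact Subgroup.mem_inf.2 ⟨hyQ, hyH⟩

include hmono hconj hN in
theorem se_aux (n : ℕ) : ∀ (U : Subgroup G) (a : G), a ∉ H → U ≤ (P : Subgroup H).map H.subtype →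
    U ≤ ((P : Subgroup H).map H.subtype).map (MulAut.conj a).toMonoidHom → X U →
    Nat.card ((P : Subgroup H).map H.subtype) - Nat.card U ≤ n → False := by
  set P' := (P : Subgroup H).map H.subtype with hP'
  have hP'p : IsPGroup p P' := P.2.map _
  have hP'H : P' ≤ H := by
    rintro _ ⟨x, -, rfl⟩; exact x.2
  induction n with
  | zero =>
    intro U a ha hU1 hU2 hXU hcard
    have h1 : Nat.card U ≤ Nat.card P' := Subgroup.card_le_of_le hU1
    have h2 : U = P' := Subgroup.eq_of_le_of_card_ge hU1 (by omega)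
    have h3 : P' = P'.map (MulAut.conj a).toMonoidHom := by
      apply Subgroup.eq_of_le_of_card_ge (h2 ▸ hU2)
      rw [card_conj_map]
    exact ha (hN P' le_rfl (h2 ▸ hXU) (mem_normalizer_of_conj_map_eq h3.symm))
  | succ n ih =>
    intro U a ha hU1 hU2 hXU hcard
    by_cases hUP : U = P'.map (MulAut.conj a).toMonoidHom
    · -- then card U = card P'
      have h2 : U = P' := Subgroup.eq_of_le_of_card_ge hU1 (by rw [hUP, card_conj_map])
      exact ha (hN P' le_rfl (h2 ▸ hXU) (mem_normalizer_of_conj_map_eq (hUP.symm.trans h2)))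
    · have hlt : U < P'.map (MulAut.conj a).toMonoidHom := lt_of_le_of_ne hU2 hUP
      obtain ⟨y, hy1, hy2, hy3⟩ := H2.exists_normalizer_of_lt (hP'p.map _) hlt
      -- U* = U ⊔ ⟨y⟩
      set V := U ⊔ Subgroup.zpowers y with hV
      have hVle : V ≤ P'.map (MulAut.conj a).toMonoidHom :=
        sup_le hU2 (by rw [Subgroup.zpowers_le]; exact hy1)
      have hVp : IsPGroup p V := (hP'p.map _).to_le hVle
      have hNU := hN U hU1 hXU
      have hVH : V ≤ H := sup_le (hU1.trans hP'H) (by rw [Subgroup.zpowers_le]; exact hNU hy3)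
      have hUV : U < V := by
        refine lt_of_le_of_ne le_sup_left ?_
        intro h
        apply hy2
        rw [h]
        exact (le_sup_right : Subgroup.zpowers y ≤ V) (Subgroup.mem_zpowers y)
      obtain ⟨h, hh, hhV⟩ := exists_conj_le_sylow_of_le H P V hVH hVp
      refine ih (V.map (MulAut.conj h).toMonoidHom) (h * a) ?_ ?_ ?_ ?_ ?_
      · intro hha
        apply ha
        have : a = h⁻¹ * (h * a) := by group
        rw [this]
        exact H.mul_mem (H.inv_mem hh) hha
      · rintro _ ⟨x, hx, rfl⟩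
        exact hhV x hx
      · rintro _ ⟨x, hx, rfl⟩
        have h1 := hVle hx
        rw [mem_conj_map] at h1
        rw [mem_conj_map]
        have : (h * a)⁻¹ * (MulAut.conj h).toMonoidHom x * (h * a) = a⁻¹ * x * a := by
          simp [MulAut.conj_apply, mul_assoc]
        rw [this]; exact h1
      · exact hconj _ _ (hmono U V hUV.le hXU)
      · rw [card_conj_map]
        have h1 : Nat.card U < Nat.card V := by
          by_contra hcon
          exact hUV.ne (Subgroup.eq_of_le_of_card_ge hUV.le (not_lt.1 hcon))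
        omega

include hmono hconj hN in
/-- no `p`-subgroup in the class `X` lies in `H ∩ H^g` for `g ∉ H`. -/
theorem se_main (g : G) (hg : g ∉ H) (U : Subgroup G) (hUp : IsPGroup p U) (hU1 : U ≤ H)
    (hU2 : U ≤ H.map (MulAut.conj g).toMonoidHom) (hXU : X U) : False := by
  obtain ⟨h₁, hh₁, h1⟩ := exists_conj_le_sylow_of_le H P U hU1 hUp
  have hU3 : U.map (MulAut.conj g⁻¹).toMonoidHom ≤ H := by
    rintro _ ⟨x, hx, rfl⟩
    have := (mem_conj_map H g x).1 (hU2 hx)
    simpa [MulAut.conj_apply] using this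
  obtain ⟨h₂, hh₂, h2⟩ := exists_conj_le_sylow_of_le H P _ hU3 (hUp.map _)
  refine se_aux H P X hmono hconj hN _ (U.map (MulAut.conj h₁).toMonoidHom) (h₁ * g * h₂⁻¹) ?_ ?_ ?_
    (hconj _ _ hXU) le_rfl
  · intro h
    apply hg
    have : g = h₁⁻¹ * (h₁ * g * h₂⁻¹) * h₂ := by group
    rw [this]
    exact H.mul_mem (H.mul_mem (H.inv_mem hh₁) h) hh₂
  · rintro _ ⟨x, hx, rfl⟩
    exact h1 x hx
  · rintro _ ⟨x, hx, rfl⟩
    rw [mem_conj_map]
    have h3 := h2 (g⁻¹ * x * g) ⟨x, hx, by simp [MulAut.conj_apply]⟩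
    have : (h₁ * g * h₂⁻¹)⁻¹ * (MulAut.conj h₁).toMonoidHom x * (h₁ * g * h₂⁻¹) =
        h₂ * (g⁻¹ * x * g) * h₂⁻¹ := by
      simp [MulAut.conj_apply, mul_assoc]
    rw [this]; exact h3

end general

end Cfsg.Agent.H5
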