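import Cfsg.Agent.Lib_helper5_Invol
import Cfsg.Agent.Lib_helper5_Isolated
import Cfsg.Agent.Lib_helper5_Basic
import Cfsg.Agent.Lib_helper7_SE
import Cfsg.Prelude.Def_Involutions
set_option autoImplicit false
open Cfsg

namespace Cfsg.Agent.H5

variable {G : Type*} [Group G]

/-- The reflection conjugating `x` to `y` in a dihedral group of twice odd order. -/
theorem conj_of_odd {x y : G} (hx : x * x = 1) (hy : y * y = 1) (hodd : Odd (orderOf (x * y))) :
    ∃ k : ℤ, ((x * y) ^ k * x) * ((x * y) ^ k * x) = 1 ∧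
      ((x * y) ^ k * x) * x * ((x * y) ^ k * x)⁻¹ = y := by
  obtain ⟨k, hk⟩ := hodd
  refine ⟨k, refl_mul_self hx hy k, ?_⟩
  rw [refl_conj_invol hx hy]
  have h1 : (x * y) ^ (2 * (k : ℤ) + 1) = 1 := by
    have := pow_orderOf_eq_one (x * y)
    rw [hk] at this
    exact_mod_cast this
  have h2 : (x * y) ^ (2 * (k : ℤ)) = (x * y)⁻¹ := by
    rw [zpow_add_one] at h1
    exact eq_inv_of_mul_eq_one_left h1
  rw [h2]
  have hx' : x⁻¹ = x := inv_eq_of_mul_eq_one_left hx
  have hy' : y⁻¹ = y := inv_eq_of_mul_eq_one_left hy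
  rw [mul_inv_rev, hx', hy', mul_assoc, hx, mul_one]

theorem se_of_isStronglyEmbedded [Finite G] {H : Subgroup G} (hH : IsStronglyEmbedded H) :
    H7.SE 2 H := by
  haveI : Fact (Nat.Prime 2) := ⟨Nat.prime_two⟩
  rw [H7.SE_iff_classical]
  refine ⟨hH.1, hH.2.1.two_dvd, fun g hg hd => ?_⟩
  have := hH.2.2 g hg
  exact (Nat.not_even_iff_odd.2 this) (even_iff_two_dvd.2 hd)

theorem isPGroup_two_zpowers {t : G} (ht : orderOf t = 2) : IsPGroup 2 (Subgroup.zpowers t) := by
  haveI : Fact (Nat.Prime 2) := ⟨Nat.prime_two⟩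
  exact H7.isPGroup_zpowers_of_orderOf ht

/-- centralizers of involutions of a strongly embedded subgroup. -/
theorem se_mem_of_commute [Finite G] {H : Subgroup G} (hH : IsStronglyEmbedded H) {t c : G}
    (ht : orderOf t = 2) (htH : t ∈ H) (hc : c * t = t * c) : c ∈ H :=
  (se_of_isStronglyEmbedded hH).centIn t htH (ne_one_of_order_two ht) (isPGroup_two_zpowers ht) c hc

theorem se_mem_of_conj [Finite G] {H : Subgroup G} (hH : IsStronglyEmbedded H) {t g : G}
    (ht : orderOf t = 2) (htH : t ∈ H) (hg : g * t * g⁻¹ ∈ H) : g ∈ H := by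
  haveI : Fact (Nat.Prime 2) := ⟨Nat.prime_two⟩
  exact (se_of_isStronglyEmbedded hH).mem_of_conj htH (ne_one_of_order_two ht)
    (isPGroup_two_zpowers ht) hg

theorem se_odd_mul [Finite G] {H : Subgroup G} (hH : IsStronglyEmbedded H) {t u : G}
    (ht : orderOf t = 2) (htH : t ∈ H) (hu : orderOf u = 2) (huH : u ∉ H) :
    Odd (orderOf (t * u)) := by
  by_contra hodd
  rw [Nat.not_odd_iff_even] at hodd
  obtain ⟨m, hm⟩ := hodd
  have htt := mul_self_of_order_two ht
  have huu := mul_self_of_order_two hu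
  have hpos : 0 < orderOf (t * u) := orderOf_pos _
  set z := (t * u) ^ (m : ℤ) with hz
  have hzz : z * z = 1 := by
    rw [hz, ← zpow_add]
    have := pow_orderOf_eq_one (t * u)
    rw [hm] at this
    exact_mod_cast this
  have hz1 : z ≠ 1 := by
    intro h
    rw [hz, zpow_natCast] at h
    have := orderOf_dvd_of_pow_eq_one h
    have := Nat.le_of_dvd (by omega) this
    omega
  have hzinv : (t * u) ^ (-(m : ℤ)) = z := by
    rw [zpow_neg]
    exact inv_eq_of_mul_eq_one_left hzz
  have h1 : t * z = z * t := by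
    rw [hz, invol_mul_zpow htt huu, hzinv]
  have h2 : u * z = z * u := by
    rw [hz, right_invol_mul_zpow htt huu, hzinv]
  have hzo : orderOf z = 2 := order_two_of hz1 hzz
  have hzH : z ∈ H := se_mem_of_commute hH ht htH h1.symm
  exact huH (se_mem_of_commute hH hzo hzH h2)

end Cfsg.Agent.H5
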