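import Mathlib

set_option autoImplicit false

namespace Cfsg.Agent.H6

/-- class number of a "generalised dicyclic/dihedral" group: an abelian subgroup `T` of index two
inverted by every outside element, with exactly two elements of square one. -/
theorem card_conjClasses_of_invert {N : Type*} [Group N] [Finite N] (T : Subgroup N) (z : N)
    (hidx : T.index = 2)
    (hcomm : ∀ a ∈ T, ∀ b ∈ T, a * b = b * a)
    (hinv : ∀ n, n ∉ T → ∀ t ∈ T, n * t * n⁻¹ = t⁻¹)
    (hz : z ∈ T) (hz1 : z ≠ 1) (hzz : z * z = 1)
    (hsq : ∀ t ∈ T, t * t = 1 → t = 1 ∨ t = z) :
    2 * Nat.card (ConjClasses N) = Nat.card T + 6 := by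
  classical
  have := Fintype.ofFinite N
  set m := Nat.card T with hm
  have hN : Nat.card N = 2 * m := by rw [← T.index_mul_card, hidx]
  have hmpos : 0 < m := Nat.card_pos
  have hzinv : z⁻¹ = z := inv_eq_of_mul_eq_one_left hzz
  have hzc : ∀ b, Commute z b := by
    intro b
    by_cases hb : b ∈ T
    · exact hcomm z hz b hb
    · have h1 := hinv b hb z hz
      rw [hzinv, mul_inv_eq_iff_eq_mul] at h1
      exact h1.symm
  have hT2 : ∀ x, x ∉ T → ∀ t ∈ T, Commute x t → t = 1 ∨ t = z := by
    intro x hx t ht hc
    apply hsq t ht
    have h1 := hinv x hx t ht
    rw [hc.eq, mul_inv_cancel_right] at h1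
    nth_rewrite 1 [h1]
    exact inv_mul_cancel t
  have hc : ∀ x : N, Nat.card {b // Commute x b} =
      (if x ∈ T then m else 4) + (if x = 1 ∨ x = z then m else 0) := by
    intro x
    by_cases hx : x ∈ T
    · by_cases hx1 : x = 1 ∨ x = z
      · rw [if_pos hx, if_pos hx1]
        have hall : ∀ b, Commute x b := by
          rcases hx1 with rfl | rfl
          · exact Commute.one_left
          · exact hzc
        rw [Nat.card_congr (Equiv.subtypeUnivEquiv hall), hN]; ring
      · rw [if_pos hx, if_neg hx1, add_zero]
        apply Nat.card_congr
        apply Equiv.subtypeEquivRight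
        intro b
        constructor
        · intro hb
          by_contra hbT
          exact hx1 (hT2 b hbT x hx hb.symm)
        · intro hb
          exact hcomm x hx b hb
    · have hx1 : ¬ (x = 1 ∨ x = z) := by
        rintro (rfl | rfl)
        · exact hx T.one_mem
        · exact hx hz
      rw [if_neg hx, if_neg hx1, add_zero]
      have hset : ∀ b, Commute x b ↔ b ∈ ({1, z, x, x * z} : Finset N) := by
        intro b
        simp only [Finset.mem_insert, Finset.mem_singleton]
        constructor
        · intro hb
          by_cases hbT : b ∈ T
          · rcases hT2 x hx b hbT hb with h | h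
            · left; exact h
            · right; left; exact h
          · have ht : x⁻¹ * b ∈ T := by
              rw [Subgroup.mul_mem_iff_of_index_two hidx, inv_mem_iff]
              exact iff_of_false hx hbT
            have hct : Commute x (x⁻¹ * b) := (Commute.inv_right (Commute.refl x)).mul_right hb
            rcases hT2 x hx _ ht hct with h | h
            · right; right; left
              exact (inv_mul_eq_one.mp h).symm
            · right; right; right
              exact inv_mul_eq_iff_eq_mul.mp h
        · rintro (rfl | rfl | rfl | rfl)
          · exact Commute.one_right x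
          · exact (hzc x).symm
          · exact Commute.refl _
          · exact (Commute.refl x).mul_right (hzc x).symm
      rw [Nat.card_congr (Equiv.subtypeEquivRight hset), Nat.card_eq_fintype_card,
        Fintype.card_coe]
      rw [Finset.card_insert_of_notMem, Finset.card_insert_of_notMem,
        Finset.card_insert_of_notMem, Finset.card_singleton]
      · simp only [Finset.mem_singleton]
        intro h
        exact hz1 (mul_eq_left.mp h.symm)
      · simp only [Finset.mem_insert, Finset.mem_singleton]
        rintro (h | h)
        · exact hx (h ▸ hz)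
        · apply hx
          have : x = z * z⁻¹ := by rw [eq_mul_inv_iff_mul_eq]; exact h.symm
          rw [this]; simp
      · simp only [Finset.mem_insert, Finset.mem_singleton]
        rintro (h | h | h)
        · exact hz1 h.symm
        · exact hx (h ▸ T.one_mem)
        · apply hx
          have : x = z⁻¹ := eq_inv_of_mul_eq_one_left h.symm
          rw [this]; exact T.inv_mem hz
  have hsum : Nat.card {p : N × N // Commute p.1 p.2} = ∑ x : N, Nat.card {b // Commute x b} := by
    rw [Nat.card_congr (Equiv.subtypeProdEquivSigmaSubtype Commute), Nat.card_sigma]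
  have hcT : (Finset.univ.filter (fun x : N => x ∈ T)).card = m := by
    rw [hm, Nat.card_eq_fintype_card, Fintype.card_subtype]
  have hcT' : (Finset.univ.filter (fun x : N => ¬ x ∈ T)).card = m := by
    have h1 := Finset.card_filter_add_card_filter_not (s := (Finset.univ : Finset N))
      (fun x : N => x ∈ T)
    rw [hcT, Finset.card_univ, ← Nat.card_eq_fintype_card, hN] at h1
    omega
  have hc2 : (Finset.univ.filter (fun x : N => x = 1 ∨ x = z)).card = 2 := by
    have : Finset.univ.filter (fun x : N => x = 1 ∨ x = z) = {1, z} := by
      ext x; simp
    rw [this, Finset.card_pair hz1.symm]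
  have htotal : ∑ x : N, Nat.card {b // Commute x b} = m * (m + 6) := by
    simp_rw [hc]
    rw [Finset.sum_add_distrib, Finset.sum_ite, Finset.sum_ite, Finset.sum_const,
      Finset.sum_const, Finset.sum_const, Finset.sum_const, hcT, hcT', hc2]
    simp only [smul_eq_mul]
    ring
  have hfin := card_comm_eq_card_conjClasses_mul_card N
  rw [hsum, htotal, hN] at hfin
  have : m * (m + 6) = m * (2 * Nat.card (ConjClasses N)) := by rw [hfin]; ring
  exact (Nat.eq_of_mul_eq_mul_left hmpos this).symm

end Cfsg.Agent.H6
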