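import Mathlib
import Cfsg.Agent.Lib_helper6_SL2Tori

set_option autoImplicit false

namespace Cfsg.Agent.H6.GL2C

variable {F : Type*} [Field F]

theorem ne_scalar_of_nonScalar {A : Matrix (Fin 2) (Fin 2) F} (h : NonScalar A) (c : F) :
    A ≠ Matrix.scalar (Fin 2) c := by
  intro hc
  rcases h with h | h | h
  · exact h (by rw [hc]; simp)
  · exact h (by rw [hc]; simp)
  · exact h (by rw [hc]; simp)

/-- a trace-zero element of `SL₂` over a finite field is inverted by an element of `SL₂` -/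
theorem exists_anticommute [Finite F] (s : Matrix.SpecialLinearGroup (Fin 2) F)
    (hns : NonScalar (s : Matrix (Fin 2) (Fin 2) F))
    (ht : (s : Matrix (Fin 2) (Fin 2) F).trace = 0) :
    ∃ x : Matrix.SpecialLinearGroup (Fin 2) F,
      (x : Matrix (Fin 2) (Fin 2) F) * (s : Matrix (Fin 2) (Fin 2) F) =
        -((s : Matrix (Fin 2) (Fin 2) F) * (x : Matrix (Fin 2) (Fin 2) F)) := by
  obtain ⟨a, b, hab⟩ := GL2.exists_cyc_det_ne_zero _ (ne_scalar_of_nonScalar hns)
  set S := (s : Matrix (Fin 2) (Fin 2) F) with hS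
  set P := GL2.cyc S a b with hP
  have hPu : IsUnit P.det := isUnit_iff_ne_zero.mpr hab
  have hSP : S * P = P * GL2.comp 0 1 := by
    have := GL2.mul_cyc S a b
    rwa [ht, s.2] at this
  have : NeZero (ringChar F) := ⟨CharP.char_ne_zero_of_finite F (ringChar F)⟩
  obtain ⟨u, v, huv⟩ := CharP.sq_add_sq F (ringChar F) (-1)
  set X' : Matrix (Fin 2) (Fin 2) F := !![(u : F), (v : F); (v : F), -(u : F)] with hX'
  have hX'det : X'.det = 1 := by
    rw [hX', Matrix.det_fin_two_of]
    push_cast at huv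
    linear_combination -huv
  have hX'W : X' * GL2.comp 0 1 = -(GL2.comp 0 1 * X') := by
    ext i j
    fin_cases i <;> fin_cases j <;> simp [hX', GL2.comp, Matrix.mul_apply, Fin.sum_univ_two]
  have hPS : P⁻¹ * S = GL2.comp 0 1 * P⁻¹ := by
    calc P⁻¹ * S = P⁻¹ * (S * P) * P⁻¹ := by
          rw [mul_assoc, mul_assoc, Matrix.mul_nonsing_inv P hPu, mul_one]
      _ = GL2.comp 0 1 * P⁻¹ := by
          rw [hSP, ← mul_assoc, Matrix.nonsing_inv_mul P hPu, one_mul]
  refine ⟨⟨P * X' * P⁻¹, by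
    rw [Matrix.det_conj ((Matrix.isUnit_iff_isUnit_det P).mpr hPu), hX'det]⟩, ?_⟩
  change P * X' * P⁻¹ * S = -(S * (P * X' * P⁻¹))
  calc P * X' * P⁻¹ * S = P * (X' * GL2.comp 0 1) * P⁻¹ := by
        rw [mul_assoc (P * X'), hPS]; simp only [mul_assoc]
    _ = -(P * GL2.comp 0 1 * X' * P⁻¹) := by
        rw [hX'W]; simp only [mul_assoc, mul_neg, neg_mul]
    _ = -(S * (P * X' * P⁻¹)) := by
        rw [← hSP]; simp only [mul_assoc]

theorem commute_or_anticommute (x s : Matrix.SpecialLinearGroup (Fin 2) F)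
    (h : proj F x * proj F s = proj F s * proj F x) :
    x * s = s * x ∨ (x : Matrix (Fin 2) (Fin 2) F) * (s : Matrix (Fin 2) (Fin 2) F) =
        -((s : Matrix (Fin 2) (Fin 2) F) * (x : Matrix (Fin 2) (Fin 2) F)) := by
  rw [← map_mul, ← map_mul] at h
  have h1 : (s * x)⁻¹ * (x * s) ∈ Subgroup.center (Matrix.SpecialLinearGroup (Fin 2) F) :=
    QuotientGroup.eq.mp h.symm
  rw [Matrix.SpecialLinearGroup.mem_center_iff] at h1
  obtain ⟨r, hr, h1⟩ := h1
  rw [Fintype.card_fin] at hr
  have h2 : (x : Matrix (Fin 2) (Fin 2) F) * (s : Matrix (Fin 2) (Fin 2) F) =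
      r • ((s : Matrix (Fin 2) (Fin 2) F) * (x : Matrix (Fin 2) (Fin 2) F)) := by
    have h3 : x * s = (s * x) * ((s * x)⁻¹ * (x * s)) := by group
    have h4 := congrArg Subtype.val h3
    rw [Matrix.SpecialLinearGroup.coe_mul (s * x), ← h1] at h4
    rw [← Matrix.SpecialLinearGroup.coe_mul, ← Matrix.SpecialLinearGroup.coe_mul]
    refine h4.trans ?_
    rw [Matrix.scalar_apply, ← Matrix.smul_one_eq_diagonal, Matrix.mul_smul, mul_one]
  rcases sq_eq_one_iff.mp hr with rfl | rfl
  · left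
    apply Subtype.ext
    rw [Matrix.SpecialLinearGroup.coe_mul, Matrix.SpecialLinearGroup.coe_mul, h2, one_smul]
  · right
    rw [h2, neg_smul, one_smul]

theorem trace_eq_zero_of_anticommute (h2 : (2 : F) ≠ 0)
    (x s : Matrix.SpecialLinearGroup (Fin 2) F)
    (h : (x : Matrix (Fin 2) (Fin 2) F) * (s : Matrix (Fin 2) (Fin 2) F) =
        -((s : Matrix (Fin 2) (Fin 2) F) * (x : Matrix (Fin 2) (Fin 2) F))) :
    (s : Matrix (Fin 2) (Fin 2) F).trace = 0 := by
  have h1 : ((x⁻¹ : Matrix.SpecialLinearGroup (Fin 2) F) : Matrix (Fin 2) (Fin 2) F) *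
      (x : Matrix (Fin 2) (Fin 2) F) = 1 := by
    rw [← Matrix.SpecialLinearGroup.coe_mul, inv_mul_cancel]; rfl
  have h1' : (x : Matrix (Fin 2) (Fin 2) F) *
      ((x⁻¹ : Matrix.SpecialLinearGroup (Fin 2) F) : Matrix (Fin 2) (Fin 2) F) = 1 := by
    rw [← Matrix.SpecialLinearGroup.coe_mul, mul_inv_cancel]; rfl
  have h3 : (s : Matrix (Fin 2) (Fin 2) F).trace = -(s : Matrix (Fin 2) (Fin 2) F).trace := by
    calc (s : Matrix (Fin 2) (Fin 2) F).trace
        = (((x⁻¹ : Matrix.SpecialLinearGroup (Fin 2) F) : Matrix (Fin 2) (Fin 2) F) *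
          ((x : Matrix (Fin 2) (Fin 2) F) * (s : Matrix (Fin 2) (Fin 2) F))).trace := by
          rw [← mul_assoc, h1, one_mul]
      _ = -(((s : Matrix (Fin 2) (Fin 2) F) * (x : Matrix (Fin 2) (Fin 2) F)) *
          ((x⁻¹ : Matrix.SpecialLinearGroup (Fin 2) F) : Matrix (Fin 2) (Fin 2) F)).trace := by
          rw [h, mul_neg, Matrix.trace_neg, Matrix.trace_mul_comm]
      _ = -(s : Matrix (Fin 2) (Fin 2) F).trace := by
          rw [mul_assoc, h1', mul_one]
  have h4 : (2 : F) * (s : Matrix (Fin 2) (Fin 2) F).trace = 0 := by linear_combination h3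
  exact (mul_eq_zero.mp h4).resolve_left h2

theorem index_centralizer_proj_of_trace_ne_zero (h2 : (2 : F) ≠ 0)
    (s : Matrix.SpecialLinearGroup (Fin 2) F)
    (ht : (s : Matrix (Fin 2) (Fin 2) F).trace ≠ 0) :
    (Subgroup.centralizer ({proj F s} : Set (Matrix.ProjectiveSpecialLinearGroup (Fin 2) F))).index =
      (Subgroup.centralizer ({s} : Set (Matrix.SpecialLinearGroup (Fin 2) F))).index := by
  rw [← Subgroup.index_comap_of_surjective _ (proj_surjective (F := F))]
  congr 1
  ext x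
  rw [Subgroup.mem_comap, Subgroup.mem_centralizer_singleton_iff,
    Subgroup.mem_centralizer_singleton_iff]
  constructor
  · intro h
    rcases commute_or_anticommute x s h with h | h
    · exact h
    · exact absurd (trace_eq_zero_of_anticommute h2 x s h) ht
  · intro h
    rw [← map_mul, ← map_mul, h]

theorem proj_commute_of_anticommute (x s : Matrix.SpecialLinearGroup (Fin 2) F)
    (h : (x : Matrix (Fin 2) (Fin 2) F) * (s : Matrix (Fin 2) (Fin 2) F) =
        -((s : Matrix (Fin 2) (Fin 2) F) * (x : Matrix (Fin 2) (Fin 2) F))) :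
    proj F x * proj F s = proj F s * proj F x := by
  rw [← map_mul, ← map_mul]
  symm
  apply QuotientGroup.eq.mpr
  rw [Matrix.SpecialLinearGroup.mem_center_iff]
  refine ⟨-1, by simp, ?_⟩
  rw [Matrix.SpecialLinearGroup.coe_mul, Matrix.SpecialLinearGroup.coe_mul x s, h, mul_neg,
    ← Matrix.SpecialLinearGroup.coe_mul s x, ← Matrix.SpecialLinearGroup.coe_mul, inv_mul_cancel]
  ext i j
  fin_cases i <;> fin_cases j <;> simp

theorem index_centralizer_proj_of_trace_eq_zero [Finite F] (h2 : (2 : F) ≠ 0)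
    (s : Matrix.SpecialLinearGroup (Fin 2) F)
    (ht : (s : Matrix (Fin 2) (Fin 2) F).trace = 0) :
    2 * (Subgroup.centralizer
      ({proj F s} : Set (Matrix.ProjectiveSpecialLinearGroup (Fin 2) F))).index =
      (Subgroup.centralizer ({s} : Set (Matrix.SpecialLinearGroup (Fin 2) F))).index := by
  have hns : NonScalar (s : Matrix (Fin 2) (Fin 2) F) := by
    by_contra h
    have hg := eq_smul_one_of_not_nonScalar h
    have hdet := s.2
    rw [hg] at ht hdet
    simp only [Matrix.trace_smul, Matrix.trace_one, Fintype.card_fin, smul_eq_mul,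
      Matrix.det_smul, Matrix.det_one, mul_one] at ht hdet
    have h0 : (s : Matrix (Fin 2) (Fin 2) F) 0 0 = 0 := by
      rcases mul_eq_zero.mp ht with h | h
      · exact h
      · exact absurd (by exact_mod_cast h) h2
    rw [h0] at hdet
    simp at hdet
  obtain ⟨x₀, hx₀⟩ := exists_anticommute s hns ht
  rw [← Subgroup.index_comap_of_surjective _ (proj_surjective (F := F))]
  set D := (Subgroup.centralizer
      ({proj F s} : Set (Matrix.ProjectiveSpecialLinearGroup (Fin 2) F))).comap (proj F) with hD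
  set C := Subgroup.centralizer ({s} : Set (Matrix.SpecialLinearGroup (Fin 2) F)) with hC
  have hmemD : ∀ x, x ∈ D ↔ proj F x * proj F s = proj F s * proj F x := by
    intro x
    rw [hD, Subgroup.mem_comap, Subgroup.mem_centralizer_singleton_iff]
  have hCD : C ≤ D := by
    intro x hx
    rw [hmemD, ← map_mul, ← map_mul, Subgroup.mem_centralizer_singleton_iff.mp hx]
  rw [← Subgroup.relIndex_mul_index hCD]
  congr 1
  symm
  rw [Subgroup.relIndex, Subgroup.index_eq_two_iff]
  have hS0 : (s : Matrix (Fin 2) (Fin 2) F) ≠ 0 := by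
    intro h
    have := s.2
    rw [h] at this
    simp at this
  -- commuting and anticommuting are exclusive
  have hexcl : ∀ y : Matrix.SpecialLinearGroup (Fin 2) F, y * s = s * y →
      (y : Matrix (Fin 2) (Fin 2) F) * (s : Matrix (Fin 2) (Fin 2) F) ≠
        -((s : Matrix (Fin 2) (Fin 2) F) * (y : Matrix (Fin 2) (Fin 2) F)) := by
    intro y hy hy'
    have h3 : (y : Matrix (Fin 2) (Fin 2) F) * (s : Matrix (Fin 2) (Fin 2) F) =
        (s : Matrix (Fin 2) (Fin 2) F) * (y : Matrix (Fin 2) (Fin 2) F) := congrArg Subtype.val hy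
    have h4 : (2 : F) • ((y * s : Matrix.SpecialLinearGroup (Fin 2) F) :
        Matrix (Fin 2) (Fin 2) F) = 0 := by
      rw [Matrix.SpecialLinearGroup.coe_mul, two_smul]
      nth_rewrite 1 [hy']
      rw [h3, neg_add_cancel]
    have h5 := (smul_eq_zero.mp h4).resolve_left h2
    have := (y * s).2
    rw [h5] at this
    simp at this
  refine ⟨⟨x₀, (hmemD x₀).mpr (proj_commute_of_anticommute x₀ s hx₀)⟩, ?_⟩
  rintro ⟨b, hb⟩
  rw [Subgroup.mem_subgroupOf, Subgroup.mem_subgroupOf]
  change Xor (b * x₀ ∈ C) (b ∈ C)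
  rw [hC, Subgroup.mem_centralizer_singleton_iff, Subgroup.mem_centralizer_singleton_iff]
  rcases commute_or_anticommute b s ((hmemD b).mp hb) with h | h
  · right
    refine ⟨h, ?_⟩
    intro h'
    apply hexcl _ h'
    have h3 : (b : Matrix (Fin 2) (Fin 2) F) * (s : Matrix (Fin 2) (Fin 2) F) =
        (s : Matrix (Fin 2) (Fin 2) F) * (b : Matrix (Fin 2) (Fin 2) F) := congrArg Subtype.val h
    rw [Matrix.SpecialLinearGroup.coe_mul, mul_assoc, hx₀, mul_neg, ← mul_assoc, h3, mul_assoc]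
  · left
    refine ⟨?_, fun h' => hexcl _ h' h⟩
    apply Subtype.ext
    rw [Matrix.SpecialLinearGroup.coe_mul, Matrix.SpecialLinearGroup.coe_mul,
      Matrix.SpecialLinearGroup.coe_mul, mul_assoc, hx₀, mul_neg, ← mul_assoc, h, neg_mul, neg_neg,
      mul_assoc, Matrix.SpecialLinearGroup.coe_mul]

theorem exists_aniso_ne_zero [Fintype F] (h4 : 4 ≤ Fintype.card F) :
    ∃ t : F, t ≠ 0 ∧ ∀ a b, nrm t 1 a b = 0 → a = 0 ∧ b = 0 := by
  classical
  obtain ⟨a, ha⟩ := IsCyclic.exists_generator (α := Fˣ)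
  have hord : orderOf a = Fintype.card F - 1 := by
    rw [orderOf_eq_card_of_forall_mem_zpowers ha, Nat.card_units, Nat.card_eq_fintype_card]
  have hne : a ≠ a⁻¹ := by
    intro h
    have h1 : a ^ 2 = 1 := by
      rw [sq]
      nth_rewrite 2 [h]
      exact mul_inv_cancel a
    have := orderOf_dvd_of_pow_eq_one h1
    rw [hord] at this
    have := Nat.le_of_dvd (by norm_num) this
    omega
  set φ : Fˣ → F := fun u => (u : F) + ((u⁻¹ : Fˣ) : F) with hφ
  have hninj : ¬ Set.InjOn φ (Finset.univ : Finset Fˣ) := by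
    intro h
    apply hne
    apply h (Finset.mem_coe.mpr (Finset.mem_univ _)) (Finset.mem_coe.mpr (Finset.mem_univ _))
    simp only [hφ, inv_inv]
    ring
  have h1 : (Finset.univ.image φ).card < Fintype.card F - 1 := by
    have h2 := Finset.card_image_le (s := (Finset.univ : Finset Fˣ)) (f := φ)
    have h3 : (Finset.univ.image φ).card ≠ (Finset.univ : Finset Fˣ).card := fun h =>
      hninj (Finset.card_image_iff.mp h)
    rw [Finset.card_univ, Fintype.card_units] at h2 h3
    omega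
  have h2 : 1 < ((Finset.univ.image φ)ᶜ).card := by
    rw [Finset.card_compl]
    omega
  obtain ⟨t, ht, ht0⟩ := Finset.exists_mem_ne h2 0
  refine ⟨t, ht0, ?_⟩
  rcases split_or_aniso t 1 with ⟨l, m, h1, h2⟩ | h
  · exfalso
    rw [Finset.mem_compl, Finset.mem_image] at ht
    apply ht
    exact ⟨⟨l, m, h2.symm, by rw [mul_comm]; exact h2.symm⟩, Finset.mem_univ _, h1.symm⟩
  · exact h

theorem exists_split_ne_zero [Fintype F] (h6 : 6 ≤ Fintype.card F) :
    ∃ l m : F, l * m = 1 ∧ l ≠ m ∧ l + m ≠ 0 := by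
  obtain ⟨a, ha⟩ := IsCyclic.exists_generator (α := Fˣ)
  have hord : orderOf a = Fintype.card F - 1 := by
    rw [orderOf_eq_card_of_forall_mem_zpowers ha, Nat.card_units, Nat.card_eq_fintype_card]
  have h4 : (a : F) ^ 4 ≠ 1 := by
    intro h
    have h1 : a ^ 4 = 1 := Units.ext (by rw [Units.val_pow_eq_pow_val, h, Units.val_one])
    have := orderOf_dvd_of_pow_eq_one h1
    rw [hord] at this
    have := Nat.le_of_dvd (by norm_num) this
    omega
  have hinv : (a : F) * ((a⁻¹ : Fˣ) : F) = 1 := by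
    rw [← Units.val_mul, mul_inv_cancel, Units.val_one]
  refine ⟨a, ((a⁻¹ : Fˣ) : F), hinv, ?_, ?_⟩
  · intro h
    apply h4
    rw [← h] at hinv
    linear_combination ((a : F) ^ 2 + 1) * hinv
  · intro h
    apply h4
    have h5 : ((a⁻¹ : Fˣ) : F) = -(a : F) := by linear_combination h
    rw [h5] at hinv
    linear_combination (1 - (a : F) ^ 2) * hinv

end Cfsg.Agent.H6.GL2C
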