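import Mathlib
import Cfsg.Agent.Lib_helper6_PSL2Cent

set_option autoImplicit false

namespace Cfsg.Agent.H6.GL2C

variable {F : Type*} [Field F]

theorem exists_nrm_eq_split {l m : F} (h : l ≠ m) (c : F) : ∃ a b, nrm (l + m) (l * m) a b = c := by
  refine ⟨((split h).symm (c, 1)).1, ((split h).symm (c, 1)).2, ?_⟩
  rw [nrm_factor]
  have h1 := (split h).apply_symm_apply (c, 1)
  have h2 : ((split h).symm (c, 1)).1 + ((split h).symm (c, 1)).2 * l = c := congrArg Prod.fst h1
  have h3 : ((split h).symm (c, 1)).1 + ((split h).symm (c, 1)).2 * m = 1 := congrArg Prod.snd h1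
  rw [h2, h3, mul_one]

/-- Cayley–Hamilton in `SL₂` -/
theorem sq_eq (s : Matrix.SpecialLinearGroup (Fin 2) F) :
    (s : Matrix (Fin 2) (Fin 2) F) * (s : Matrix (Fin 2) (Fin 2) F) =
      (s : Matrix (Fin 2) (Fin 2) F).trace • (s : Matrix (Fin 2) (Fin 2) F) - 1 := by
  have hdet := s.2
  rw [Matrix.det_fin_two] at hdet
  ext i j
  fin_cases i <;> fin_cases j <;>
    simp [Matrix.mul_apply, Fin.sum_univ_two, Matrix.trace_fin_two] <;>
    (first | ring1 | linear_combination -hdet | linear_combination hdet)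

/-- two non-scalar elements of `SL₂` with the same trace are conjugate in `SL₂` as soon as the norm
form is universal -/
theorem isConj_SL_of_trace_eq (s s' : Matrix.SpecialLinearGroup (Fin 2) F)
    (hns : NonScalar (s : Matrix (Fin 2) (Fin 2) F))
    (hns' : NonScalar (s' : Matrix (Fin 2) (Fin 2) F))
    (ht : (s : Matrix (Fin 2) (Fin 2) F).trace = (s' : Matrix (Fin 2) (Fin 2) F).trace)
    (hsurj : ∀ c : F, ∃ a b, nrm (s : Matrix (Fin 2) (Fin 2) F).trace 1 a b = c) :
    IsConj s s' := by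
  obtain ⟨a, b, hab⟩ := GL2.exists_cyc_det_ne_zero _ (ne_scalar_of_nonScalar hns)
  obtain ⟨a', b', hab'⟩ := GL2.exists_cyc_det_ne_zero _ (ne_scalar_of_nonScalar hns')
  set S := (s : Matrix (Fin 2) (Fin 2) F) with hS
  set S' := (s' : Matrix (Fin 2) (Fin 2) F) with hS'
  set P := GL2.cyc S a b with hP
  set P' := GL2.cyc S' a' b' with hP'
  set W := GL2.comp S.trace 1 with hW
  have hPu : IsUnit P.det := isUnit_iff_ne_zero.mpr hab
  have hSP : S * P = P * W := by
    have := GL2.mul_cyc S a b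
    rwa [s.2] at this
  have hSP' : S' * P' = P' * W := by
    have := GL2.mul_cyc S' a' b'
    rwa [s'.2, ← ht] at this
  have hPS : P⁻¹ * S = W * P⁻¹ := by
    calc P⁻¹ * S = P⁻¹ * (S * P) * P⁻¹ := by
          rw [mul_assoc, mul_assoc, Matrix.mul_nonsing_inv P hPu, mul_one]
      _ = W * P⁻¹ := by
          rw [hSP, ← mul_assoc, Matrix.nonsing_inv_mul P hPu, one_mul]
  obtain ⟨α, β, hαβ⟩ := hsurj (P.det * P'.det⁻¹)
  have hdet : (P' * P⁻¹ * lin S α β).det = 1 := by
    rw [Matrix.det_mul, Matrix.det_mul, det_lin, s.2, hαβ, Matrix.det_nonsing_inv,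
      Ring.inverse_eq_inv']
    field_simp
  obtain ⟨R, hR⟩ : ∃ R : Matrix.SpecialLinearGroup (Fin 2) F,
      (R : Matrix (Fin 2) (Fin 2) F) = P' * P⁻¹ * lin S α β := ⟨⟨_, hdet⟩, rfl⟩
  rw [isConj_iff]
  refine ⟨R, ?_⟩
  rw [mul_inv_eq_iff_eq_mul]
  apply Subtype.ext
  rw [Matrix.SpecialLinearGroup.coe_mul, Matrix.SpecialLinearGroup.coe_mul, hR]
  calc P' * P⁻¹ * lin S α β * S = P' * (P⁻¹ * S) * lin S α β := by
        rw [mul_assoc (P' * P⁻¹), lin_commute]; simp only [mul_assoc]
    _ = S' * (P' * P⁻¹ * lin S α β) := by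
        rw [hPS, ← mul_assoc, ← hSP']; simp only [mul_assoc]

theorem exists_nrm_eq_of_ne [Finite F] (t : F) (h : ∀ l : F, t = l + l → l * l ≠ 1) (c : F) :
    ∃ a b, nrm t 1 a b = c := by
  rcases split_or_aniso t 1 with ⟨l, m, ht, hd⟩ | h'
  · have hlm : l ≠ m := by
      rintro rfl
      exact h l ht hd.symm
    rw [ht, hd]
    exact exists_nrm_eq_split hlm c
  · exact exists_nrm_eq h' c

theorem eq_one_or_neg_one_of_sq_eq_one (h2 : (2 : F) ≠ 0)
    (s : Matrix.SpecialLinearGroup (Fin 2) F)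
    (h : (s : Matrix (Fin 2) (Fin 2) F) * (s : Matrix (Fin 2) (Fin 2) F) = 1) :
    (s : Matrix (Fin 2) (Fin 2) F) = 1 ∨ (s : Matrix (Fin 2) (Fin 2) F) = -1 := by
  have h1 := sq_eq s
  rw [h] at h1
  have e00 := congrFun (congrFun h1 0) 0
  have e01 := congrFun (congrFun h1 0) 1
  have e10 := congrFun (congrFun h1 1) 0
  have e11 := congrFun (congrFun h1 1) 1
  simp at e00 e01 e10 e11
  have ht0 : (s : Matrix (Fin 2) (Fin 2) F).trace ≠ 0 := by
    intro h0
    rw [h0] at e00
    apply h2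
    linear_combination e00
  have hsc : ¬ NonScalar (s : Matrix (Fin 2) (Fin 2) F) := by
    rintro (h | h | h)
    · exact h (e01.resolve_left ht0)
    · exact h (e10.resolve_left ht0)
    · apply h
      have : (s : Matrix (Fin 2) (Fin 2) F).trace *
          ((s : Matrix (Fin 2) (Fin 2) F) 0 0 - (s : Matrix (Fin 2) (Fin 2) F) 1 1) = 0 := by
        linear_combination e11 - e00
      exact sub_eq_zero.mp ((mul_eq_zero.mp this).resolve_left ht0)
  have hg := eq_smul_one_of_not_nonScalar hsc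
  have hdet := s.2
  rw [hg] at hdet
  simp only [Matrix.det_smul, Fintype.card_fin, Matrix.det_one, mul_one] at hdet
  rcases sq_eq_one_iff.mp hdet with h | h
  · left; rw [hg, h, one_smul]
  · right; rw [hg, h, neg_smul, one_smul]

theorem sq_eq_neg_one_iff (s : Matrix.SpecialLinearGroup (Fin 2) F) :
    (s : Matrix (Fin 2) (Fin 2) F) * (s : Matrix (Fin 2) (Fin 2) F) = -1 ↔
      (s : Matrix (Fin 2) (Fin 2) F).trace = 0 := by
  rw [sq_eq]
  constructor
  · intro h
    have h1 : (s : Matrix (Fin 2) (Fin 2) F).trace • (s : Matrix (Fin 2) (Fin 2) F) = 0 := by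
      have := congrArg (· + (1 : Matrix (Fin 2) (Fin 2) F)) h
      simpa using this
    rcases smul_eq_zero.mp h1 with h | h
    · exact h
    · exfalso
      have := s.2
      rw [h] at this
      simp at this
  · intro h
    rw [h, zero_smul, zero_sub]

theorem isConj_SL_of_trace_zero [Finite F] (h2 : (2 : F) ≠ 0)
    (s s' : Matrix.SpecialLinearGroup (Fin 2) F)
    (ht : (s : Matrix (Fin 2) (Fin 2) F).trace = 0)
    (ht' : (s' : Matrix (Fin 2) (Fin 2) F).trace = 0) : IsConj s s' := by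
  have key : ∀ x : Matrix.SpecialLinearGroup (Fin 2) F,
      (x : Matrix (Fin 2) (Fin 2) F).trace = 0 → NonScalar (x : Matrix (Fin 2) (Fin 2) F) := by
    intro x hx
    by_contra h
    have hg := eq_smul_one_of_not_nonScalar h
    have hdet := x.2
    rw [hg] at hx hdet
    simp only [Matrix.trace_smul, Matrix.trace_one, Fintype.card_fin, smul_eq_mul,
      Matrix.det_smul, Matrix.det_one, mul_one] at hx hdet
    have h0 : (x : Matrix (Fin 2) (Fin 2) F) 0 0 = 0 := by
      rcases mul_eq_zero.mp hx with h | h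
      · exact h
      · exact absurd (by exact_mod_cast h) h2
    rw [h0] at hdet
    simp at hdet
  refine isConj_SL_of_trace_eq s s' (key s ht) (key s' ht') (by rw [ht, ht']) ?_
  rw [ht]
  apply exists_nrm_eq_of_ne
  intro l hl hl1
  have : (2 : F) * l = 0 := by linear_combination -hl
  rcases mul_eq_zero.mp this with h | h
  · exact h2 h
  · rw [h] at hl1
    simp at hl1

end Cfsg.Agent.H6.GL2C
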