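import Cfsg.Statements.S0276
import Cfsg.Agent.Lib_helper6_SLCard

set_option autoImplicit false
open Cfsg

namespace Cfsg.Agent.S0276

theorem cayley_hamilton_two {F : Type*} [Field F] (s : Matrix.SpecialLinearGroup (Fin 2) F) :
    (s : Matrix (Fin 2) (Fin 2) F) * (s : Matrix (Fin 2) (Fin 2) F) =
      (s : Matrix (Fin 2) (Fin 2) F).trace • (s : Matrix (Fin 2) (Fin 2) F) - 1 := by
  have hdet := s.2
  rw [Matrix.det_fin_two] at hdet
  ext i j
  fin_cases i <;> fin_cases j <;>
    simp [Matrix.mul_apply, Fin.sum_univ_two, Matrix.trace_fin_two] <;>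
    first | ring1 | linear_combination -hdet

theorem sq_mem_center {F : Type*} [Field F] (h2 : ¬ IsSquare (2 : F))
    (g : Matrix.SpecialLinearGroup (Fin 2) F)
    (hg : g ^ 4 ∈ Subgroup.center (Matrix.SpecialLinearGroup (Fin 2) F)) :
    g ^ 2 ∈ Subgroup.center (Matrix.SpecialLinearGroup (Fin 2) F) := by
  rw [Matrix.SpecialLinearGroup.mem_center_iff] at hg ⊢
  obtain ⟨r, hr, hs⟩ := hg
  obtain ⟨s, hsdef⟩ : ∃ s, s = g ^ 2 := ⟨_, rfl⟩
  have hs4 : g ^ 4 = s * s := by rw [hsdef, ← pow_add]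
  rw [hs4, Matrix.SpecialLinearGroup.coe_mul, cayley_hamilton_two] at hs
  rw [← hsdef]
  have htr : (s : Matrix (Fin 2) (Fin 2) F).trace =
      (g : Matrix (Fin 2) (Fin 2) F).trace * (g : Matrix (Fin 2) (Fin 2) F).trace - 2 := by
    rw [hsdef, pow_two, Matrix.SpecialLinearGroup.coe_mul, cayley_hamilton_two, Matrix.trace_sub,
      Matrix.trace_smul, Matrix.trace_one, Fintype.card_fin, smul_eq_mul]
    norm_num
  have hne : (s : Matrix (Fin 2) (Fin 2) F).trace ≠ 0 := by
    intro h0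
    apply h2
    exact ⟨(g : Matrix (Fin 2) (Fin 2) F).trace, by linear_combination htr - h0⟩
  obtain ⟨u, hu⟩ : ∃ u, u = (s : Matrix (Fin 2) (Fin 2) F).trace := ⟨_, rfl⟩
  rw [← hu] at hs hne
  have hsc : (s : Matrix (Fin 2) (Fin 2) F) = Matrix.scalar (Fin 2) ((r + 1) / u) := by
    have h1 : u • (s : Matrix (Fin 2) (Fin 2) F) = Matrix.scalar (Fin 2) (r + 1) := by
      rw [map_add, map_one, hs]
      abel
    have h3 : (s : Matrix (Fin 2) (Fin 2) F) = u⁻¹ • (u • (s : Matrix (Fin 2) (Fin 2) F)) := by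
      rw [smul_smul, inv_mul_cancel₀ hne, one_smul]
    rw [h3, h1]
    ext i j
    simp [Matrix.diagonal_apply, div_eq_inv_mul]
  refine ⟨(r + 1) / u, ?_, hsc.symm⟩
  have hdet := s.2
  rw [hsc, Matrix.scalar_apply, Matrix.det_diagonal, Fin.prod_univ_two] at hdet
  rw [Fintype.card_fin, pow_two]
  exact hdet

/-- For q = 3 or 5 mod 8 the Sylow 2-subgroups of PSL_2(q) are elementary abelian of order 4. -/
theorem result {F : Type*} [Field F] [Fintype F] {q : ℕ} (hF : Fintype.card F = q) (hq : q % 8 = 3 ∨ q % 8 = 5) (P : Sylow 2 (Matrix.ProjectiveSpecialLinearGroup (Fin 2) F)) : IsKleinFour (P : Subgroup (Matrix.ProjectiveSpecialLinearGroup (Fin 2) F)) := by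
  classical
  subst hF
  have h2 : ¬ IsSquare (2 : F) := by
    rw [FiniteField.isSquare_two_iff]
    omega
  haveI : Finite (Matrix.ProjectiveSpecialLinearGroup (Fin 2) F) := by
    unfold Matrix.ProjectiveSpecialLinearGroup
    infer_instance
  have hcard := H6.card_PSL_field (F := F) 2 (by norm_num)
  rw [Fin.prod_univ_two] at hcard
  simp only [Fin.val_zero, Fin.val_one, pow_zero, pow_one] at hcard
  obtain ⟨m, hm, hN⟩ : ∃ m, ¬ 2 ∣ m ∧
      Nat.card (Matrix.ProjectiveSpecialLinearGroup (Fin 2) F) = 4 * m := by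
    generalize Nat.card (Matrix.ProjectiveSpecialLinearGroup (Fin 2) F) = N at hcard
    generalize Fintype.card F = q at hcard hq
    rcases hq with hq | hq
    · obtain ⟨k, rfl⟩ : ∃ k, q = 8 * k + 3 := ⟨q / 8, by omega⟩
      have e1 : (8 * k + 3) ^ 2 - 1 = 64 * k ^ 2 + 48 * k + 8 := by
        have : (8 * k + 3) ^ 2 = 64 * k ^ 2 + 48 * k + 9 := by ring
        omega
      have e2 : (8 * k + 3) ^ 2 - (8 * k + 3) = 64 * k ^ 2 + 40 * k + 6 := by
        have : (8 * k + 3) ^ 2 = 64 * k ^ 2 + 48 * k + 9 := by ring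
        omega
      have e3 : 8 * k + 3 - 1 = 2 * (4 * k + 1) := by omega
      have e4 : Nat.gcd 2 (2 * (4 * k + 1)) = 2 := Nat.gcd_eq_left (Dvd.intro _ rfl)
      rw [e1, e2, e3, e4] at hcard
      refine ⟨(2 * k + 1) * (8 * k + 3) * (4 * k + 1), ?_, ?_⟩
      · intro h
        have h1 : ¬ 2 ∣ (2 * k + 1) := by omega
        have h2 : ¬ 2 ∣ (8 * k + 3) := by omega
        have h3 : ¬ 2 ∣ (4 * k + 1) := by omega
        rcases (Nat.prime_two.dvd_mul).mp h with h | h
        · rcases (Nat.prime_two.dvd_mul).mp h with h | h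
          · exact h1 h
          · exact h2 h
        · exact h3 h
      · have hpos : 0 < 4 * (4 * k + 1) := by omega
        apply Nat.eq_of_mul_eq_mul_left hpos
        linear_combination hcard
    · obtain ⟨k, rfl⟩ : ∃ k, q = 8 * k + 5 := ⟨q / 8, by omega⟩
      have e1 : (8 * k + 5) ^ 2 - 1 = 64 * k ^ 2 + 80 * k + 24 := by
        have : (8 * k + 5) ^ 2 = 64 * k ^ 2 + 80 * k + 25 := by ring
        omega
      have e2 : (8 * k + 5) ^ 2 - (8 * k + 5) = 64 * k ^ 2 + 72 * k + 20 := by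
        have : (8 * k + 5) ^ 2 = 64 * k ^ 2 + 80 * k + 25 := by ring
        omega
      have e3 : 8 * k + 5 - 1 = 2 * (4 * k + 2) := by omega
      have e4 : Nat.gcd 2 (2 * (4 * k + 2)) = 2 := Nat.gcd_eq_left (Dvd.intro _ rfl)
      rw [e1, e2, e3, e4] at hcard
      refine ⟨(2 * k + 1) * (8 * k + 5) * (4 * k + 3), ?_, ?_⟩
      · intro h
        have h1 : ¬ 2 ∣ (2 * k + 1) := by omega
        have h2 : ¬ 2 ∣ (8 * k + 5) := by omega
        have h3 : ¬ 2 ∣ (4 * k + 3) := by omega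
        rcases (Nat.prime_two.dvd_mul).mp h with h | h
        · rcases (Nat.prime_two.dvd_mul).mp h with h | h
          · exact h1 h
          · exact h2 h
        · exact h3 h
      · have hpos : 0 < 4 * (4 * k + 2) := by omega
        apply Nat.eq_of_mul_eq_mul_left hpos
        linear_combination hcard
  have hP4 : Nat.card (P : Subgroup (Matrix.ProjectiveSpecialLinearGroup (Fin 2) F)) = 4 := by
    obtain ⟨j, hj⟩ := IsPGroup.iff_card.mp P.isPGroup'
    have h1 : 2 ^ 2 ∣ Nat.card (P : Subgroup (Matrix.ProjectiveSpecialLinearGroup (Fin 2) F)) :=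
      P.pow_dvd_card_of_pow_dvd_card (by rw [hN]; exact Dvd.intro _ rfl)
    have h3 : Nat.card (P : Subgroup (Matrix.ProjectiveSpecialLinearGroup (Fin 2) F)) ∣ 4 * m := by
      rw [← hN]; exact Subgroup.card_subgroup_dvd_card _
    have hcop : Nat.Coprime (Nat.card (P : Subgroup (Matrix.ProjectiveSpecialLinearGroup (Fin 2) F)))
        m := by
      rw [hj]
      apply Nat.Coprime.pow_left
      exact (Nat.Prime.coprime_iff_not_dvd Nat.prime_two).mpr hm
    exact Nat.dvd_antisymm (hcop.dvd_of_dvd_mul_right h3) h1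
  refine ⟨hP4, ?_⟩
  have hsq : ∀ x : (P : Subgroup (Matrix.ProjectiveSpecialLinearGroup (Fin 2) F)), x ^ 2 = 1 := by
    intro x
    have h4 : x ^ 4 = 1 := by rw [← hP4]; exact pow_card_eq_one'
    obtain ⟨g, hg⟩ := QuotientGroup.mk_surjective x.1
    have h4' : (x.1) ^ 4 = 1 := by
      have := congrArg Subtype.val h4
      simpa using this
    rw [← hg, ← QuotientGroup.mk_pow, QuotientGroup.eq_one_iff] at h4'
    have h5 := sq_mem_center h2 g h4'
    apply Subtype.ext
    rw [Subgroup.coe_pow, ← hg, ← QuotientGroup.mk_pow]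
    exact (QuotientGroup.eq_one_iff _).mpr h5
  have hdvd : Monoid.exponent (P : Subgroup (Matrix.ProjectiveSpecialLinearGroup (Fin 2) F)) ∣ 2 :=
    Monoid.exponent_dvd_of_forall_pow_eq_one hsq
  rcases (Nat.dvd_prime Nat.prime_two).mp hdvd with h1 | h1
  · exfalso
    rw [Monoid.exp_eq_one_iff] at h1
    have := Nat.card_eq_one_iff_unique.mpr ⟨h1, ⟨1⟩⟩
    omega
  · exact h1

end Cfsg.Agent.S0276
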