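import Cfsg.Statements.S0262
import Cfsg.Agent.Lib_helper6_GL2Classes
import Cfsg.Agent.Lib_helper6_IrredCent
import Cfsg.Agent.S0276

set_option autoImplicit false
open Cfsg

namespace Cfsg.Agent.S0262

theorem offdiag_zero_of_commute {F : Type*} [Field F] {a b : F} (hab : a ≠ b)
    (M : Matrix (Fin 2) (Fin 2) F)
    (h : M * Matrix.diagonal ![a, b] = Matrix.diagonal ![a, b] * M) : M 0 1 = 0 ∧ M 1 0 = 0 := by
  have h1 := congrFun (congrFun h 0) 1
  have h2 := congrFun (congrFun h 1) 0
  simp only [Matrix.mul_diagonal, Matrix.diagonal_mul, Matrix.cons_val_zero,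
    Matrix.cons_val_one] at h1 h2
  constructor
  · have : (a - b) * M 0 1 = 0 := by linear_combination -h1
    exact (mul_eq_zero.mp this).resolve_left (sub_ne_zero.mpr hab)
  · have : (a - b) * M 1 0 = 0 := by linear_combination h2
    exact (mul_eq_zero.mp this).resolve_left (sub_ne_zero.mpr hab)

/-- A finite group of matrices of determinant one commuting with a diagonal matrix with distinct
entries is cyclic. -/
theorem isCyclic_of_commute_diag {F : Type*} [Field F] {a b : F} (hab : a ≠ b)
    {G : Type*} [Group G] [Finite G] (φ : G →* Matrix (Fin 2) (Fin 2) F)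
    (hφ : Function.Injective φ) (hdet : ∀ g, (φ g).det = 1)
    (hcomm : ∀ g, φ g * Matrix.diagonal ![a, b] = Matrix.diagonal ![a, b] * φ g) :
    IsCyclic G := by
  have hoff := fun g => offdiag_zero_of_commute hab (φ g) (hcomm g)
  let f : G →* F :=
    { toFun := fun g => φ g 0 0
      map_one' := by rw [map_one]; rfl
      map_mul' := fun g h => by
        rw [map_mul, Matrix.mul_apply, Fin.sum_univ_two, (hoff g).1, zero_mul, add_zero] }
  refine isCyclic_of_injective_ringHom f ?_
  intro g h hgh
  have h00 : φ g 0 0 = φ h 0 0 := hgh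
  apply hφ
  have dg := hdet g
  have dh := hdet h
  rw [Matrix.det_fin_two, (hoff g).1, zero_mul, sub_zero] at dg
  rw [Matrix.det_fin_two, (hoff h).1, zero_mul, sub_zero] at dh
  have hne : φ h 0 0 ≠ 0 := by
    intro h0
    rw [h0, zero_mul] at dh
    exact zero_ne_one dh
  have h11 : φ g 1 1 = φ h 1 1 := by
    apply mul_left_cancel₀ hne
    rw [dh, ← h00, dg]
  ext i j
  fin_cases i <;> fin_cases j
  · exact h00
  · exact (hoff g).1.trans (hoff h).1.symm
  · exact (hoff g).2.trans (hoff h).2.symm
  · exact h11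

/-- For an odd prime r different from the characteristic, the Sylow r-subgroups of SL_2(q) are cyclic. -/
theorem result {F : Type*} [Field F] [Fintype F] (p : ℕ) [Fact p.Prime] [CharP F p] (r : ℕ) [Fact r.Prime] (hr : r ≠ 2) (hrp : r ≠ p) (R : Sylow r (Matrix.SpecialLinearGroup (Fin 2) F)) : IsCyclic (R : Subgroup (Matrix.SpecialLinearGroup (Fin 2) F)) := by
  classical
  have hp : p.Prime := Fact.out
  have hrP : r.Prime := Fact.out
  by_cases hsub : Subsingleton (R : Subgroup (Matrix.SpecialLinearGroup (Fin 2) F))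
  · exact isCyclic_of_subsingleton
  rw [not_subsingleton_iff_nontrivial] at hsub
  have hcen := IsPGroup.center_nontrivial R.isPGroup'
  obtain ⟨z, hz⟩ := exists_ne (1 : Subgroup.center (R : Subgroup (Matrix.SpecialLinearGroup (Fin 2) F)))
  obtain ⟨x, hxdef⟩ : ∃ x : Matrix.SpecialLinearGroup (Fin 2) F, x = z.1.1 := ⟨_, rfl⟩
  have hx1 : x ≠ 1 := by
    intro h
    apply hz
    apply Subtype.ext
    apply Subtype.ext
    rw [← hxdef, h]
    rfl
  have hcomm : ∀ y : (R : Subgroup (Matrix.SpecialLinearGroup (Fin 2) F)), y.1 * x = x * y.1 := by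
    intro y
    have := Subgroup.mem_center_iff.mp z.2 y
    have h2 := congrArg Subtype.val this
    rw [hxdef]
    exact h2
  obtain ⟨k, hk⟩ : ∃ k, orderOf x = r ^ k := by
    obtain ⟨k, hk⟩ := R.isPGroup' z.1
    have h1 : x ^ r ^ k = 1 := by
      have := congrArg Subtype.val hk
      rw [hxdef]
      simpa using this
    obtain ⟨j, -, hj⟩ := (Nat.dvd_prime_pow hrP).mp (orderOf_dvd_of_pow_eq_one h1)
    exact ⟨j, hj⟩
  have hk0 : k ≠ 0 := by
    rintro rfl
    rw [pow_zero, orderOf_eq_one_iff] at hk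
    exact hx1 hk
  have hnodvd : ∀ m : ℕ, x ^ m = 1 → r ∣ m := by
    intro m hm
    have h1 := orderOf_dvd_of_pow_eq_one hm
    rw [hk] at h1
    exact (dvd_pow_self r hk0).trans h1
  obtain ⟨X, hX⟩ : ∃ X, X = (x : Matrix (Fin 2) (Fin 2) F) := ⟨_, rfl⟩
  obtain ⟨t, ht⟩ : ∃ t, t = X.trace := ⟨_, rfl⟩
  have hCH : X * X = t • X - 1 := by
    rw [ht, hX]; exact Cfsg.Agent.S0276.cayley_hamilton_two x
  have hpowX : ∀ m : ℕ, X ^ m = 1 → r ∣ m := by
    intro m hm
    apply hnodvd
    apply Subtype.ext
    rw [Matrix.SpecialLinearGroup.coe_pow, ← hX, hm, Matrix.SpecialLinearGroup.coe_one]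
  have hr2 : ¬ r ∣ 2 := fun h => hr ((Nat.prime_dvd_prime_iff_eq hrP Nat.prime_two).mp h)
  have hrp' : ¬ r ∣ p := fun h => hrp ((Nat.prime_dvd_prime_iff_eq hrP hp).mp h)
  have hns : ∀ c : F, X ≠ Matrix.scalar (Fin 2) c := by
    intro c hc
    have hdet := x.2
    rw [← hX, hc, Matrix.scalar_apply, Matrix.det_diagonal, Fin.prod_univ_two] at hdet
    apply hr2
    apply hpowX
    rw [pow_two, hc, ← map_mul, hdet, map_one]
  by_cases hroot : ∃ l : F, l * l - t * l + 1 = 0
  · obtain ⟨l, hl⟩ := hroot
    have hl0 : l ≠ 0 := by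
      rintro rfl
      simp at hl
    have hlinv : l ≠ l⁻¹ := by
      intro h
      have hll : l * l = 1 := by
        nth_rewrite 2 [h]
        exact mul_inv_cancel₀ hl0
      have ht2 : t = 2 * l := by
        have h1 : t * l = 2 := by linear_combination hll - hl
        calc t = t * (l * l) := by rw [hll, mul_one]
          _ = (t * l) * l := by ring
          _ = 2 * l := by rw [h1]
      have hNN : (X - l • (1 : Matrix (Fin 2) (Fin 2) F)) * (X - l • (1 : Matrix (Fin 2) (Fin 2) F))
          = 0 := by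
        rw [sub_mul, mul_sub, mul_sub, hCH, ht2]
        simp only [Matrix.mul_smul, Matrix.smul_mul, mul_one, one_mul, smul_smul, hll]
        rw [two_mul, add_smul, one_smul]
        abel
      have hNp : (X - l • (1 : Matrix (Fin 2) (Fin 2) F)) ^ p = 0 := by
        obtain ⟨e, he⟩ := Nat.exists_eq_add_of_le hp.two_le
        rw [he, pow_add, pow_two, hNN, zero_mul]
      rw [sub_pow_char_of_commute _ ((Commute.one_right X).smul_right l), smul_pow, one_pow,
        sub_eq_zero] at hNp
      have h2p : X ^ (p * 2) = 1 := by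
        rw [pow_mul, hNp, smul_pow, one_pow, ← pow_mul, mul_comm, pow_mul, pow_two, hll, one_pow,
          one_smul]
      rcases (Nat.Prime.dvd_mul hrP).mp (hpowX _ h2p) with h | h
      · exact hrp' h
      · exact hr2 h
    have hDdet : (Matrix.diagonal ![l, l⁻¹]).det = 1 := by
      rw [Matrix.det_diagonal, Fin.prod_univ_two]
      simp [hl0]
    obtain ⟨D, hD⟩ : ∃ D : GL (Fin 2) F, (D : Matrix (Fin 2) (Fin 2) F) = Matrix.diagonal ![l, l⁻¹] :=
      ⟨Matrix.GeneralLinearGroup.mkOfDetNeZero (Matrix.diagonal ![l, l⁻¹])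
        (hDdet.symm ▸ one_ne_zero), rfl⟩
    have hDns : ∀ c : F, (D : Matrix (Fin 2) (Fin 2) F) ≠ Matrix.scalar (Fin 2) c := by
      intro c hc
      rw [hD] at hc
      have h0 := congrFun (congrFun hc 0) 0
      have h1 := congrFun (congrFun hc 1) 1
      simp at h0 h1
      exact hlinv (h0.trans h1.symm)
    have c1 := H6.GL2.isConj_compGL D hDns
    have c2 := H6.GL2.isConj_compGL (Matrix.SpecialLinearGroup.toGL x) (by
      rw [Matrix.SpecialLinearGroup.coe_GL_coe_matrix, ← hX]; exact hns)
    have e1 : (D : Matrix (Fin 2) (Fin 2) F).trace = t := by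
      rw [hD, Matrix.trace_fin_two]
      simp only [Matrix.diagonal_apply_eq, Matrix.cons_val_zero, Matrix.cons_val_one]
      field_simp
      linear_combination hl
    have e2 : Matrix.GeneralLinearGroup.det D = 1 := Units.ext (by
      rw [Matrix.GeneralLinearGroup.val_det_apply, hD, hDdet]; rfl)
    have e3 : Matrix.GeneralLinearGroup.det (Matrix.SpecialLinearGroup.toGL x) = 1 := Units.ext (by
      rw [Matrix.GeneralLinearGroup.val_det_apply, Matrix.SpecialLinearGroup.coe_GL_coe_matrix]
      exact x.2)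
    rw [e1, e2] at c1
    rw [Matrix.SpecialLinearGroup.coe_GL_coe_matrix, ← hX, ← ht, e3] at c2
    obtain ⟨Q, hQ⟩ := isConj_iff.mp (c2.trans c1.symm)
    let φ : (R : Subgroup (Matrix.SpecialLinearGroup (Fin 2) F)) →* Matrix (Fin 2) (Fin 2) F :=
      (Units.coeHom _).comp ((MulAut.conj Q).toMonoidHom.comp
        (Matrix.SpecialLinearGroup.toGL.comp (R : Subgroup (Matrix.SpecialLinearGroup (Fin 2) F)).subtype))
    have hφ : ∀ y, φ y = ((Q * Matrix.SpecialLinearGroup.toGL y.1 * Q⁻¹ : GL (Fin 2) F) :
        Matrix (Fin 2) (Fin 2) F) := fun y => rfl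
    refine isCyclic_of_commute_diag hlinv φ ?_ ?_ ?_
    · intro y y' h
      rw [hφ, hφ] at h
      have h1 := Units.ext h
      have h2 : Matrix.SpecialLinearGroup.toGL y.1 = Matrix.SpecialLinearGroup.toGL y'.1 :=
        mul_left_cancel (mul_right_cancel h1)
      exact Subtype.ext (Matrix.SpecialLinearGroup.toGL_injective h2)
    · intro y
      rw [hφ, Units.val_mul, Units.val_mul, Matrix.det_units_conj,
        Matrix.SpecialLinearGroup.coe_GL_coe_matrix]
      exact y.1.2
    · intro y
      rw [hφ, ← hD, ← hQ, ← Units.val_mul, ← Units.val_mul]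
      congr 1
      have h1 : Matrix.SpecialLinearGroup.toGL y.1 * Matrix.SpecialLinearGroup.toGL x =
          Matrix.SpecialLinearGroup.toGL x * Matrix.SpecialLinearGroup.toGL y.1 := by
        rw [← map_mul, ← map_mul, hcomm y]
      calc Q * Matrix.SpecialLinearGroup.toGL y.1 * Q⁻¹ * (Q * Matrix.SpecialLinearGroup.toGL x * Q⁻¹)
          = Q * (Matrix.SpecialLinearGroup.toGL y.1 * Matrix.SpecialLinearGroup.toGL x) * Q⁻¹ := by
            group
        _ = Q * Matrix.SpecialLinearGroup.toGL x * Q⁻¹ *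
            (Q * Matrix.SpecialLinearGroup.toGL y.1 * Q⁻¹) := by rw [h1]; group
  · have hirr : H6.IrredEnd (Matrix.toLin' X) := by
      intro W hW
      have hle : Module.finrank F W ≤ 2 := by
        have := Submodule.finrank_le W
        rwa [Module.finrank_fin_fun] at this
      by_cases h0 : Module.finrank F W = 0
      · left; exact Submodule.finrank_eq_zero.mp h0
      by_cases h2 : Module.finrank F W = 2
      · right; exact Submodule.eq_top_of_finrank_eq (by rw [h2, Module.finrank_fin_fun])
      exfalso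
      have h1 : Module.finrank F W = 1 := by omega
      obtain ⟨⟨w, hwW⟩, hw0, hspan⟩ := finrank_eq_one_iff'.mp h1
      have hw : w ≠ 0 := fun h => hw0 (Subtype.ext h)
      obtain ⟨μ, hμ⟩ := hspan ⟨Matrix.toLin' X w, hW w hwW⟩
      have hμ' : μ • w = Matrix.toLin' X w := congrArg Subtype.val hμ
      have h3 : Matrix.toLin' (X * X) w = Matrix.toLin' (t • X - 1) w := by rw [hCH]
      rw [Matrix.toLin'_mul, LinearMap.comp_apply, ← hμ', map_smul, ← hμ', map_sub, map_smul,
        LinearMap.sub_apply, LinearMap.smul_apply, ← hμ', Matrix.toLin'_one, LinearMap.id_apply,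
        smul_smul, smul_smul] at h3
      apply hroot
      refine ⟨μ, ?_⟩
      have h4 : (μ * μ - t * μ + 1) • w = 0 := by
        rw [add_smul, sub_smul, h3, one_smul]
        abel
      exact (smul_eq_zero.mp h4).resolve_right hw
    let f : (R : Subgroup (Matrix.SpecialLinearGroup (Fin 2) F)) →* Module.End F (Fin 2 → F) :=
      { toFun := fun g => Matrix.toLin' (g.1 : Matrix (Fin 2) (Fin 2) F)
        map_one' := by
          simp only [Subgroup.coe_one, Matrix.SpecialLinearGroup.coe_one, Matrix.toLin'_one]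
          rfl
        map_mul' := fun a b => by
          simp only [Subgroup.coe_mul, Matrix.SpecialLinearGroup.coe_mul, Matrix.toLin'_mul]
          rfl }
    refine hirr.isCyclic f ?_ ?_
    · intro a b hab
      apply Subtype.ext
      apply Subtype.ext
      exact Matrix.toLin'.injective hab
    · intro g
      change Matrix.toLin' (g.1 : Matrix (Fin 2) (Fin 2) F) * Matrix.toLin' X =
        Matrix.toLin' X * Matrix.toLin' (g.1 : Matrix (Fin 2) (Fin 2) F)
      rw [Module.End.mul_eq_comp, Module.End.mul_eq_comp, ← Matrix.toLin'_mul, ← Matrix.toLin'_mul,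
        hX, ← Matrix.SpecialLinearGroup.coe_mul, ← Matrix.SpecialLinearGroup.coe_mul, hcomm g]

end Cfsg.Agent.S0262
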