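import Mathlib
import Cfsg.Agent.Lib_helper6_SL2Conj
import Cfsg.Agent.S0262

set_option autoImplicit false

namespace Cfsg.Agent.H6.GL2C

variable {F : Type*} [Field F]

theorem coe_inv_eq (x : Matrix.SpecialLinearGroup (Fin 2) F) :
    ((x⁻¹ : Matrix.SpecialLinearGroup (Fin 2) F) : Matrix (Fin 2) (Fin 2) F) =
      lin (x : Matrix (Fin 2) (Fin 2) F) (x : Matrix (Fin 2) (Fin 2) F).trace (-1) := by
  rw [Matrix.SpecialLinearGroup.coe_inv, Matrix.adjugate_fin_two]
  ext i j
  fin_cases i <;> fin_cases j <;> simp [lin, Matrix.trace_fin_two]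

theorem trace_lin (g : Matrix (Fin 2) (Fin 2) F) (a b : F) :
    (lin g a b).trace = 2 * a + b * g.trace := by
  simp [lin, Matrix.trace_fin_two]
  ring

theorem trace_inv (x : Matrix.SpecialLinearGroup (Fin 2) F) :
    ((x⁻¹ : Matrix.SpecialLinearGroup (Fin 2) F) : Matrix (Fin 2) (Fin 2) F).trace =
      (x : Matrix (Fin 2) (Fin 2) F).trace := by
  rw [coe_inv_eq, trace_lin]; ring

theorem nonScalar_inv {x : Matrix.SpecialLinearGroup (Fin 2) F}
    (h : NonScalar (x : Matrix (Fin 2) (Fin 2) F)) :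
    NonScalar ((x⁻¹ : Matrix.SpecialLinearGroup (Fin 2) F) : Matrix (Fin 2) (Fin 2) F) := by
  rw [← not_not (a := NonScalar _), ← mem_center_iff_not_nonScalar] at h ⊢
  rwa [inv_mem_iff]

theorem trace_conj (g x : Matrix.SpecialLinearGroup (Fin 2) F) :
    ((g * x * g⁻¹ : Matrix.SpecialLinearGroup (Fin 2) F) : Matrix (Fin 2) (Fin 2) F).trace =
      (x : Matrix (Fin 2) (Fin 2) F).trace := by
  rw [Matrix.SpecialLinearGroup.coe_mul, Matrix.trace_mul_comm,
    ← Matrix.SpecialLinearGroup.coe_mul, ← mul_assoc, inv_mul_cancel, one_mul]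

theorem eq_or_eq_inv_of_commute_of_trace (h2 : (2 : F) ≠ 0)
    (x y : Matrix.SpecialLinearGroup (Fin 2) F)
    (hns : NonScalar (x : Matrix (Fin 2) (Fin 2) F))
    (hreg : ∀ l : F, (x : Matrix (Fin 2) (Fin 2) F).trace = l + l → l * l ≠ 1)
    (hc : y * x = x * y)
    (ht : (y : Matrix (Fin 2) (Fin 2) F).trace = (x : Matrix (Fin 2) (Fin 2) F).trace) :
    y = x ∨ y = x⁻¹ := by
  obtain ⟨a, b, hab⟩ := exists_eq_of_commute hns (congrArg Subtype.val hc)
  have hdet := y.2
  rw [hab, det_lin, x.2] at hdet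
  rw [hab, trace_lin] at ht
  set t := (x : Matrix (Fin 2) (Fin 2) F).trace with htdef
  unfold nrm at hdet
  have h4 : (t ^ 2 - 4) * (1 - b ^ 2) = 0 := by
    linear_combination 4 * hdet - (2 * a + t * (1 + b)) * ht
  have ht4 : t ^ 2 - 4 ≠ 0 := by
    intro h
    apply hreg (t / 2) (by field_simp; ring)
    field_simp
    linear_combination h
  have hb : b ^ 2 = 1 := by
    have := (mul_eq_zero.mp h4).resolve_left ht4
    linear_combination -this
  rcases sq_eq_one_iff.mp hb with rfl | rfl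
  · left
    have ha : a = 0 := by
      have : (2 : F) * a = 0 := by linear_combination ht
      exact (mul_eq_zero.mp this).resolve_left h2
    apply Subtype.ext
    rw [hab, ha, lin_eq]
    simp
  · right
    have ha : a = t := by
      have : (2 : F) * (a - t) = 0 := by linear_combination ht
      exact sub_eq_zero.mp ((mul_eq_zero.mp this).resolve_left h2)
    apply Subtype.ext
    rw [hab, ha, coe_inv_eq]

theorem exists_conj_inv [Finite F] (x : Matrix.SpecialLinearGroup (Fin 2) F)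
    (hns : NonScalar (x : Matrix (Fin 2) (Fin 2) F))
    (hreg : ∀ l : F, (x : Matrix (Fin 2) (Fin 2) F).trace = l + l → l * l ≠ 1) :
    ∃ g : Matrix.SpecialLinearGroup (Fin 2) F, g * x * g⁻¹ = x⁻¹ :=
  isConj_iff.mp (isConj_SL_of_trace_eq x x⁻¹ hns (nonScalar_inv hns) (trace_inv x).symm
    (exists_nrm_eq_of_ne _ hreg))

theorem mem_normalizer_centralizer_of {G : Type*} [Group G] (g x : G)
    (h : g * x * g⁻¹ = x ∨ g * x * g⁻¹ = x⁻¹) :
    g ∈ Subgroup.normalizer ((Subgroup.centralizer ({x} : Set G) : Subgroup G) : Set G) := by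
  rw [Subgroup.mem_normalizer_iff]
  intro y
  rw [Subgroup.mem_centralizer_singleton_iff, Subgroup.mem_centralizer_singleton_iff]
  change Commute y x ↔ Commute (g * y * g⁻¹) x
  rw [← Commute.conj_iff g]
  rcases h with h | h
  · rw [h]
  · rw [h, Commute.inv_right_iff]

theorem mem_normalizer_centralizer_iff (h2 : (2 : F) ≠ 0)
    (x : Matrix.SpecialLinearGroup (Fin 2) F)
    (hns : NonScalar (x : Matrix (Fin 2) (Fin 2) F))
    (hreg : ∀ l : F, (x : Matrix (Fin 2) (Fin 2) F).trace = l + l → l * l ≠ 1)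
    (g : Matrix.SpecialLinearGroup (Fin 2) F) :
    g ∈ Subgroup.normalizer ((Subgroup.centralizer
      ({x} : Set (Matrix.SpecialLinearGroup (Fin 2) F)) : Subgroup _) : Set _) ↔
      g * x * g⁻¹ = x ∨ g * x * g⁻¹ = x⁻¹ := by
  constructor
  · intro hg
    have h1 : g * x * g⁻¹ ∈ Subgroup.centralizer
        ({x} : Set (Matrix.SpecialLinearGroup (Fin 2) F)) :=
      (Subgroup.mem_normalizer_iff.mp hg x).mp (Subgroup.mem_centralizer_singleton_iff.mpr rfl)
    exact eq_or_eq_inv_of_commute_of_trace h2 x _ hns hreg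
      (Subgroup.mem_centralizer_singleton_iff.mp h1) (trace_conj g x)
  · exact mem_normalizer_centralizer_of g x

/-- abstract index-two computation -/
theorem card_eq_two_mul_of_invert {G : Type*} [Group G] (N : Subgroup G) (x g₀ : G)
    (hx : x ≠ x⁻¹) (hCN : Subgroup.centralizer ({x} : Set G) ≤ N)
    (hN : ∀ g ∈ N, g * x * g⁻¹ = x ∨ g * x * g⁻¹ = x⁻¹) (hg₀ : g₀ ∈ N)
    (hg₀x : g₀ * x * g₀⁻¹ = x⁻¹) :
    Nat.card N = 2 * Nat.card (Subgroup.centralizer ({x} : Set G)) := by
  set C := Subgroup.centralizer ({x} : Set G) with hC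
  have h1 := Subgroup.index_mul_card (C.subgroupOf N)
  rw [Nat.card_congr (Subgroup.subgroupOfEquivOfLe hCN).toEquiv] at h1
  rw [← h1]
  congr 1
  rw [Subgroup.index_eq_two_iff]
  refine ⟨⟨g₀, hg₀⟩, ?_⟩
  rintro ⟨b, hb⟩
  rw [Subgroup.mem_subgroupOf, Subgroup.mem_subgroupOf]
  change Xor (b * g₀ ∈ C) (b ∈ C)
  rw [hC, Subgroup.mem_centralizer_singleton_iff, Subgroup.mem_centralizer_singleton_iff]
  have e1 : b * g₀ * x = b * x⁻¹ * g₀ := by
    rw [← hg₀x]; group
  rcases hN b hb with h | h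
  · right
    have hbx : b * x = x * b := mul_inv_eq_iff_eq_mul.mp h
    refine ⟨hbx, ?_⟩
    intro h'
    apply hx
    rw [e1] at h'
    have hbx' : b * x⁻¹ = x⁻¹ * b := by
      rw [eq_inv_mul_iff_mul_eq, ← mul_assoc, ← hbx, mul_assoc, mul_inv_cancel, mul_one]
    rw [hbx', mul_assoc] at h'
    exact (mul_right_cancel h').symm
  · left
    have hbx : b * x = x⁻¹ * b := mul_inv_eq_iff_eq_mul.mp h
    refine ⟨?_, ?_⟩
    · rw [e1]
      have hbx' : b * x⁻¹ = x * b := by
        rw [mul_inv_eq_iff_eq_mul, mul_assoc, hbx, ← mul_assoc, mul_inv_cancel, one_mul]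
      rw [hbx', mul_assoc]
    · intro h'
      apply hx
      rw [hbx] at h'
      exact (mul_right_cancel h').symm

theorem card_normalizer_centralizer [Finite F] (h2 : (2 : F) ≠ 0)
    (x : Matrix.SpecialLinearGroup (Fin 2) F)
    (hns : NonScalar (x : Matrix (Fin 2) (Fin 2) F))
    (hreg : ∀ l : F, (x : Matrix (Fin 2) (Fin 2) F).trace = l + l → l * l ≠ 1)
    (hx : x ≠ x⁻¹) :
    Nat.card (Subgroup.normalizer ((Subgroup.centralizer
      ({x} : Set (Matrix.SpecialLinearGroup (Fin 2) F)) :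
        Subgroup (Matrix.SpecialLinearGroup (Fin 2) F)) :
        Set (Matrix.SpecialLinearGroup (Fin 2) F))) =
      2 * Nat.card (Subgroup.centralizer ({x} : Set (Matrix.SpecialLinearGroup (Fin 2) F))) := by
  obtain ⟨g₀, hg₀⟩ := exists_conj_inv x hns hreg
  exact card_eq_two_mul_of_invert _ x g₀ hx Subgroup.le_normalizer
    (fun g hg => (mem_normalizer_centralizer_iff h2 x hns hreg g).mp hg)
    ((mem_normalizer_centralizer_iff h2 x hns hreg g₀).mpr (Or.inr hg₀)) hg₀

theorem isCyclic_centralizer_split [Finite F] (x : Matrix.SpecialLinearGroup (Fin 2) F)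
    (hns : NonScalar (x : Matrix (Fin 2) (Fin 2) F)) {l m : F}
    (ht : (x : Matrix (Fin 2) (Fin 2) F).trace = l + m) (hlm : l * m = 1) (hne : l ≠ m) :
    IsCyclic (Subgroup.centralizer ({x} : Set (Matrix.SpecialLinearGroup (Fin 2) F))) := by
  set u : Fˣ := ⟨l, m, hlm, by rw [mul_comm]; exact hlm⟩ with hu
  have hd : ((diagSL u : Matrix.SpecialLinearGroup (Fin 2) F) : Matrix (Fin 2) (Fin 2) F) =
      Matrix.diagonal ![l, m] := by
    rw [diagSL_val]
    ext i j
    fin_cases i <;> fin_cases j <;> simp [hu]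
  have hnsd : NonScalar ((diagSL u : Matrix.SpecialLinearGroup (Fin 2) F) :
      Matrix (Fin 2) (Fin 2) F) := by
    right; right
    rw [hd]
    simpa using hne
  have htd : ((diagSL u : Matrix.SpecialLinearGroup (Fin 2) F) :
      Matrix (Fin 2) (Fin 2) F).trace = l + m := by
    rw [hd]; simp [Matrix.trace_fin_two]
  obtain ⟨g, hg⟩ := isConj_iff.mp (isConj_SL_of_trace_eq x (diagSL u) hns hnsd (by rw [ht, htd])
    (by
      intro c
      rw [ht, ← hlm]
      exact exists_nrm_eq_split hne c))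
  let φ : Subgroup.centralizer ({x} : Set (Matrix.SpecialLinearGroup (Fin 2) F)) →*
      Matrix (Fin 2) (Fin 2) F :=
    { toFun := fun y => ((g * y * g⁻¹ : Matrix.SpecialLinearGroup (Fin 2) F) :
        Matrix (Fin 2) (Fin 2) F)
      map_one' := by simp
      map_mul' := by
        intro y z
        have e : g * ((y * z : Subgroup.centralizer
            ({x} : Set (Matrix.SpecialLinearGroup (Fin 2) F))) :
            Matrix.SpecialLinearGroup (Fin 2) F) * g⁻¹ = (g * y * g⁻¹) * (g * z * g⁻¹) := by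
          rw [Subgroup.coe_mul]; group
        rw [e, Matrix.SpecialLinearGroup.coe_mul] }
  refine S0262.isCyclic_of_commute_diag hne φ ?_ ?_ ?_
  · intro y z hyz
    have h1 : g * (y : Matrix.SpecialLinearGroup (Fin 2) F) * g⁻¹ = g * z * g⁻¹ := Subtype.ext hyz
    apply Subtype.ext
    exact mul_left_cancel (mul_right_cancel h1)
  · intro y
    exact (g * (y : Matrix.SpecialLinearGroup (Fin 2) F) * g⁻¹).2
  · intro y
    have hy := Subgroup.mem_centralizer_singleton_iff.mp y.2
    rw [← hd, ← hg]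
    change ((g * y * g⁻¹ : Matrix.SpecialLinearGroup (Fin 2) F) : Matrix (Fin 2) (Fin 2) F) * _ =
      _ * ((g * y * g⁻¹ : Matrix.SpecialLinearGroup (Fin 2) F) : Matrix (Fin 2) (Fin 2) F)
    rw [← Matrix.SpecialLinearGroup.coe_mul, ← Matrix.SpecialLinearGroup.coe_mul]
    congr 1
    have e1 : g * ↑y * g⁻¹ * (g * x * g⁻¹) = g * (↑y * x) * g⁻¹ := by group
    have e2 : g * x * g⁻¹ * (g * ↑y * g⁻¹) = g * (x * ↑y) * g⁻¹ := by group
    rw [e1, e2, hy]

end Cfsg.Agent.H6.GL2C
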