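import Mathlib
import Cfsg.Agent.Lib_helper6_SL2Norm
import Cfsg.Agent.Lib_helper6_DicyclicClasses

set_option autoImplicit false

namespace Cfsg.Agent.H6.GL2C

variable {F : Type*} [Field F]

/-- an element inverting `x` inverts the whole centraliser of `x` -/
theorem conj_eq_inv_of_invert (x n t : Matrix.SpecialLinearGroup (Fin 2) F)
    (hns : NonScalar (x : Matrix (Fin 2) (Fin 2) F))
    (hn : n * x * n⁻¹ = x⁻¹) (ht : t * x = x * t) : n * t * n⁻¹ = t⁻¹ := by
  rw [mul_inv_eq_iff_eq_mul] at hn ⊢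
  obtain ⟨a, b, hab⟩ := exists_eq_of_commute hns (congrArg Subtype.val ht)
  have hn' : (n : Matrix (Fin 2) (Fin 2) F) * (x : Matrix (Fin 2) (Fin 2) F) =
      ((x⁻¹ : Matrix.SpecialLinearGroup (Fin 2) F) : Matrix (Fin 2) (Fin 2) F) *
        (n : Matrix (Fin 2) (Fin 2) F) := congrArg Subtype.val hn
  apply Subtype.ext
  rw [Matrix.SpecialLinearGroup.coe_mul, Matrix.SpecialLinearGroup.coe_mul, coe_inv_eq t, hab,
    trace_lin]
  rw [coe_inv_eq x] at hn'
  simp only [lin_eq] at hn' ⊢
  simp only [Matrix.mul_add, Matrix.add_mul, Matrix.mul_smul, Matrix.smul_mul, Matrix.mul_one,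
    Matrix.one_mul, smul_add, smul_smul] at hn' ⊢
  rw [hn']
  simp only [smul_add, smul_smul]
  module

theorem sq_eq_neg_one_of_invert (x g : Matrix.SpecialLinearGroup (Fin 2) F) (hx : x ≠ x⁻¹)
    (h : g * x * g⁻¹ = x⁻¹) :
    (g : Matrix (Fin 2) (Fin 2) F) * (g : Matrix (Fin 2) (Fin 2) F) = -1 := by
  rw [sq_eq_neg_one_iff]
  by_contra hs
  apply hx
  have h2 : (g * g) * x = x * (g * g) := by
    have h1 : g * x = x⁻¹ * g := mul_inv_eq_iff_eq_mul.mp h
    have h3 : g * x⁻¹ = x * g := by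
      rw [mul_inv_eq_iff_eq_mul, mul_assoc, h1, ← mul_assoc, mul_inv_cancel, one_mul]
    rw [mul_assoc, h1, ← mul_assoc, h3, mul_assoc]
  have h3 : ((g : Matrix (Fin 2) (Fin 2) F) * (g : Matrix (Fin 2) (Fin 2) F)) *
      (x : Matrix (Fin 2) (Fin 2) F) = (x : Matrix (Fin 2) (Fin 2) F) *
      ((g : Matrix (Fin 2) (Fin 2) F) * (g : Matrix (Fin 2) (Fin 2) F)) := congrArg Subtype.val h2
  rw [sq_eq, Matrix.sub_mul, Matrix.mul_sub, Matrix.one_mul, Matrix.mul_one, Matrix.smul_mul,
    Matrix.mul_smul] at h3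
  have h4 : (g : Matrix (Fin 2) (Fin 2) F).trace • ((g : Matrix (Fin 2) (Fin 2) F) *
      (x : Matrix (Fin 2) (Fin 2) F)) = (g : Matrix (Fin 2) (Fin 2) F).trace •
      ((x : Matrix (Fin 2) (Fin 2) F) * (g : Matrix (Fin 2) (Fin 2) F)) := sub_left_injective h3
  have h5 : (g : Matrix (Fin 2) (Fin 2) F) * (x : Matrix (Fin 2) (Fin 2) F) =
      (x : Matrix (Fin 2) (Fin 2) F) * (g : Matrix (Fin 2) (Fin 2) F) :=
    smul_right_injective _ hs h4
  have h6 : g * x = x * g := Subtype.ext h5
  rw [← h, h6, mul_inv_cancel_right]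

theorem card_conjClasses_normalizer [Finite F] (h2 : (2 : F) ≠ 0)
    (x : Matrix.SpecialLinearGroup (Fin 2) F)
    (hns : NonScalar (x : Matrix (Fin 2) (Fin 2) F))
    (hreg : ∀ l : F, (x : Matrix (Fin 2) (Fin 2) F).trace = l + l → l * l ≠ 1)
    (hx : x ≠ x⁻¹) :
    2 * Nat.card (ConjClasses (Subgroup.normalizer ((Subgroup.centralizer
      ({x} : Set (Matrix.SpecialLinearGroup (Fin 2) F)) :
        Subgroup (Matrix.SpecialLinearGroup (Fin 2) F)) :
        Set (Matrix.SpecialLinearGroup (Fin 2) F)))) =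
      Nat.card (Subgroup.centralizer ({x} : Set (Matrix.SpecialLinearGroup (Fin 2) F))) + 6 := by
  set T := Subgroup.centralizer ({x} : Set (Matrix.SpecialLinearGroup (Fin 2) F)) with hT
  set N := Subgroup.normalizer (T : Set (Matrix.SpecialLinearGroup (Fin 2) F)) with hN
  have hTN : T ≤ N := Subgroup.le_normalizer
  have hcardT : Nat.card (T.subgroupOf N) = Nat.card T :=
    Nat.card_congr (Subgroup.subgroupOfEquivOfLe hTN).toEquiv
  have hzT : (-1 : Matrix.SpecialLinearGroup (Fin 2) F) ∈ T := by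
    rw [hT, Subgroup.mem_centralizer_singleton_iff]
    apply Subtype.ext
    simp
  rw [← hcardT]
  apply card_conjClasses_of_invert (T.subgroupOf N) ⟨-1, hTN hzT⟩
  · have h1 := Subgroup.index_mul_card (T.subgroupOf N)
    rw [hcardT, card_normalizer_centralizer h2 x hns hreg hx] at h1
    exact Nat.eq_of_mul_eq_mul_right Nat.card_pos h1
  · rintro ⟨a, ha⟩ haT ⟨b, hb⟩ hbT
    rw [Subgroup.mem_subgroupOf] at haT hbT
    apply Subtype.ext
    apply Subtype.ext
    have ha' : a * x = x * a := Subgroup.mem_centralizer_singleton_iff.mp haT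
    have hb' : b * x = x * b := Subgroup.mem_centralizer_singleton_iff.mp hbT
    exact commute_of_commute_nonScalar hns (congrArg Subtype.val ha') (congrArg Subtype.val hb')
  · rintro ⟨n, hn⟩ hnT ⟨t, ht⟩ htT
    rw [Subgroup.mem_subgroupOf] at hnT htT
    apply Subtype.ext
    have h1 : n * x * n⁻¹ = x⁻¹ := by
      rcases (mem_normalizer_centralizer_iff h2 x hns hreg n).mp hn with h | h
      · exfalso
        apply hnT
        exact Subgroup.mem_centralizer_singleton_iff.mpr (mul_inv_eq_iff_eq_mul.mp h)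
      · exact h
    exact conj_eq_inv_of_invert x n t hns h1 (Subgroup.mem_centralizer_singleton_iff.mp htT)
  · rw [Subgroup.mem_subgroupOf]; exact hzT
  · intro h
    have h1 : (-1 : Matrix.SpecialLinearGroup (Fin 2) F) = 1 := congrArg Subtype.val h
    have h3 := congrFun (congrFun (congrArg Subtype.val h1) 0) 0
    simp at h3
    apply h2
    linear_combination -h3
  · apply Subtype.ext
    apply Subtype.ext
    simp
  · rintro ⟨t, ht⟩ htT htt
    have h1 : t * t = 1 := congrArg Subtype.val htt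
    rcases eq_one_or_neg_one_of_sq_eq_one h2 t (congrArg Subtype.val h1) with h | h
    · left
      apply Subtype.ext
      apply Subtype.ext
      exact h
    · right
      apply Subtype.ext
      apply Subtype.ext
      rw [h]
      simp

end Cfsg.Agent.H6.GL2C
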