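import Mathlib
import Cfsg.Agent.Lib_helper6_SL2NormClasses
import Cfsg.Agent.Lib_helper6_GL2Norm

set_option autoImplicit false

namespace Cfsg.Agent.H6.Redund

open H6.GL2C

variable {F : Type*} [Field F]

theorem nonScalar_of_mul_self_ne_one (x : Matrix.SpecialLinearGroup (Fin 2) F) (h : x * x ≠ 1) :
    NonScalar (x : Matrix (Fin 2) (Fin 2) F) := by
  by_contra hns
  apply h
  have h1 := eq_smul_one_of_not_nonScalar hns
  have hdet := x.2
  rw [h1] at hdet
  simp at hdet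
  apply Subtype.ext
  rw [Matrix.SpecialLinearGroup.coe_mul, h1]
  rcases hdet with h3 | h3 <;> rw [h3] <;> simp

theorem sylow_eq_of_le_centralizer [Finite F] (p : ℕ) [Fact p.Prime]
    (P Q : Sylow p (Matrix.SpecialLinearGroup (Fin 2) F))
    (x : Matrix.SpecialLinearGroup (Fin 2) F) (hns : NonScalar (x : Matrix (Fin 2) (Fin 2) F))
    (hPT : (P : Subgroup (Matrix.SpecialLinearGroup (Fin 2) F)) ≤
      Subgroup.centralizer ({x} : Set (Matrix.SpecialLinearGroup (Fin 2) F)))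
    (hQT : (Q : Subgroup (Matrix.SpecialLinearGroup (Fin 2) F)) ≤
      Subgroup.centralizer ({x} : Set (Matrix.SpecialLinearGroup (Fin 2) F))) : P = Q := by
  set T := Subgroup.centralizer ({x} : Set (Matrix.SpecialLinearGroup (Fin 2) F)) with hT
  have hTcomm : ∀ a ∈ T, ∀ b ∈ T, a * b = b * a := by
    intro a ha b hb
    have ha' : a * x = x * a := Subgroup.mem_centralizer_singleton_iff.mp ha
    have hb' : b * x = x * b := Subgroup.mem_centralizer_singleton_iff.mp hb
    apply Subtype.ext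
    exact commute_of_commute_nonScalar hns (congrArg Subtype.val ha') (congrArg Subtype.val hb')
  have hnorm : ((P.subtype hPT : Sylow p T) : Subgroup T).Normal := by
    constructor
    intro n hn t
    have : t * n * t⁻¹ = n := by
      rw [mul_inv_eq_iff_eq_mul]
      exact Subtype.ext (hTcomm t t.2 n n.2)
    rwa [this]
  have huniq := Sylow.unique_of_normal (P.subtype hPT) hnorm
  exact Sylow.subtype_injective (hP := hPT) (hQ := hQT) (Subsingleton.elim _ _)

theorem exists_central_ne_one {G : Type*} [Group G] [Finite G] (p : ℕ) [Fact p.Prime]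
    (P : Sylow p G) (hP : (P : Subgroup G) ≠ ⊥) :
    ∃ z ∈ P, z ≠ 1 ∧ (∃ k : ℕ, orderOf z = p ^ k) ∧ ∀ y ∈ P, y * z = z * y := by
  have hnt : Nontrivial (P : Subgroup G) := (Subgroup.nontrivial_iff_ne_bot _).mpr hP
  have hcn := P.isPGroup'.center_nontrivial
  obtain ⟨z, hz⟩ := exists_ne (1 : Subgroup.center (P : Subgroup G))
  refine ⟨((z : (P : Subgroup G)) : G), (z : (P : Subgroup G)).2, ?_, ?_, ?_⟩
  · intro h
    apply hz
    apply Subtype.ext
    apply Subtype.ext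
    exact h
  · obtain ⟨k, hk⟩ := (IsPGroup.iff_orderOf.mp P.isPGroup') (z : (P : Subgroup G))
    exact ⟨k, by rw [Subgroup.orderOf_coe]; exact hk⟩
  · intro y hy
    have := Subgroup.mem_center_iff.mp z.2 ⟨y, hy⟩
    exact congrArg Subtype.val this

/-- if all non-identity `p`-elements are non-scalar, no Sylow `p`-subgroup is redundant -/
theorem not_redundant_of_good [Finite F] (p : ℕ) [Fact p.Prime]
    (hgood : ∀ z : Matrix.SpecialLinearGroup (Fin 2) F, z ≠ 1 → (∃ k : ℕ, orderOf z = p ^ k) →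
      NonScalar (z : Matrix (Fin 2) (Fin 2) F))
    (Q : Sylow p (Matrix.SpecialLinearGroup (Fin 2) F)) :
    ∃ x : Matrix.SpecialLinearGroup (Fin 2) F, (∃ k : ℕ, orderOf x = p ^ k) ∧
      ∀ P : Sylow p (Matrix.SpecialLinearGroup (Fin 2) F), x ∈ P → P = Q := by
  by_cases hQ : (Q : Subgroup (Matrix.SpecialLinearGroup (Fin 2) F)) = ⊥
  · refine ⟨1, ⟨0, by simp⟩, ?_⟩
    intro P _
    apply Sylow.ext
    rw [hQ]
    apply Subgroup.eq_bot_of_card_eq
    rw [Sylow.card_eq_multiplicity, ← Sylow.card_eq_multiplicity Q, hQ]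
    simp
  · obtain ⟨z, hzQ, hz1, hzk, hzc⟩ := exists_central_ne_one p Q hQ
    refine ⟨z, hzk, ?_⟩
    intro P hzP
    have hP : (P : Subgroup (Matrix.SpecialLinearGroup (Fin 2) F)) ≠ ⊥ := by
      intro h
      have : z ∈ (P : Subgroup (Matrix.SpecialLinearGroup (Fin 2) F)) := hzP
      rw [h, Subgroup.mem_bot] at this
      exact hz1 this
    obtain ⟨w, hwP, hw1, hwk, hwc⟩ := exists_central_ne_one p P hP
    apply sylow_eq_of_le_centralizer p P Q z (hgood z hz1 hzk)
    · intro y hy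
      rw [Subgroup.mem_centralizer_singleton_iff]
      apply Subtype.ext
      exact commute_of_commute_nonScalar (hgood w hw1 hwk) (congrArg Subtype.val (hwc y hy))
        (congrArg Subtype.val (hwc z hzP))
    · intro y hy
      exact Subgroup.mem_centralizer_singleton_iff.mpr (hzc y hy)

theorem good_of_ne_two (p : ℕ) [Fact p.Prime] (hp : p ≠ 2)
    (z : Matrix.SpecialLinearGroup (Fin 2) F) (hz : z ≠ 1) (hk : ∃ k : ℕ, orderOf z = p ^ k) :
    NonScalar (z : Matrix (Fin 2) (Fin 2) F) := by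
  have hpp : p.Prime := Fact.out
  apply nonScalar_of_mul_self_ne_one
  intro h
  obtain ⟨k, hk⟩ := hk
  have h1 : orderOf z ∣ 2 := orderOf_dvd_of_pow_eq_one (by rw [sq]; exact h)
  rw [hk] at h1
  rcases Nat.eq_zero_or_pos k with rfl | hkpos
  · rw [pow_zero, orderOf_eq_one_iff] at hk
    exact hz hk
  · have h2 : p ∣ 2 := (dvd_pow_self p hkpos.ne').trans h1
    exact hp ((Nat.prime_dvd_prime_iff_eq hpp Nat.prime_two).mp h2)

theorem mul_self_ne_one_of_nonScalar (h2 : (2 : F) ≠ 0) (x : Matrix.SpecialLinearGroup (Fin 2) F)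
    (hns : NonScalar (x : Matrix (Fin 2) (Fin 2) F)) : x * x ≠ 1 := by
  intro h
  rcases eq_one_or_neg_one_of_sq_eq_one h2 x (congrArg Subtype.val h) with h | h
  · rcases hns with h' | h' | h' <;> simp [h] at h'
  · rcases hns with h' | h' | h' <;> simp [h] at h'

theorem regular_of_two_power [Finite F] (h2 : (2 : F) ≠ 0)
    (x : Matrix.SpecialLinearGroup (Fin 2) F) (hns : NonScalar (x : Matrix (Fin 2) (Fin 2) F))
    (hk : ∃ k : ℕ, orderOf x = 2 ^ k) :
    ∀ l : F, (x : Matrix (Fin 2) (Fin 2) F).trace = l + l → l * l ≠ 1 := by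
  intro l hl hl1
  obtain ⟨p, hchar⟩ := CharP.exists F
  have hpp : p.Prime := CharP.char_is_prime F p
  haveI : Fact p.Prime := ⟨hpp⟩
  have hp2 : p ≠ 2 := by
    rintro rfl
    apply h2
    have := CharP.cast_eq_zero F 2
    exact_mod_cast this
  have hc := pow_char_mem_center p x hl hl1
  rw [mem_center_iff_not_nonScalar] at hc
  have h1 : x ^ p * x ^ p = 1 := by
    by_contra h
    exact hc (nonScalar_of_mul_self_ne_one _ h)
  obtain ⟨k, hk⟩ := hk
  have h3 : 2 ^ k ∣ p * 2 := by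
    rw [← hk]
    apply orderOf_dvd_of_pow_eq_one
    rw [pow_mul, sq]; exact h1
  have hcop : Nat.Coprime (2 ^ k) p := by
    apply Nat.Coprime.pow_left
    exact (Nat.coprime_primes Nat.prime_two hpp).mpr (Ne.symm hp2)
  have h4 : 2 ^ k ∣ 2 := hcop.dvd_of_dvd_mul_left h3
  apply mul_self_ne_one_of_nonScalar h2 x hns
  rw [← sq]
  apply orderOf_dvd_iff_pow_eq_one.mp
  rw [hk]; exact h4

theorem card_centralizer_regular [Fintype F]
    (x : Matrix.SpecialLinearGroup (Fin 2) F) (hns : NonScalar (x : Matrix (Fin 2) (Fin 2) F))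
    (hreg : ∀ l : F, (x : Matrix (Fin 2) (Fin 2) F).trace = l + l → l * l ≠ 1) :
    Nat.card (Subgroup.centralizer ({x} : Set (Matrix.SpecialLinearGroup (Fin 2) F))) =
        Fintype.card F - 1 ∨
      Nat.card (Subgroup.centralizer ({x} : Set (Matrix.SpecialLinearGroup (Fin 2) F))) =
        Fintype.card F + 1 := by
  rw [card_centralizer_SL x hns]
  rcases split_or_aniso (x : Matrix (Fin 2) (Fin 2) F).trace 1 with ⟨l, m, ht, hd⟩ | h
  · left
    have hlm : l ≠ m := by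
      rintro rfl
      exact hreg l ht hd.symm
    rw [ht]
    exact card_nrm_eq_one_split hlm hd.symm
  · right
    exact card_nrm_eq_one_aniso h

theorem mem_normalizer_of_invert {G : Type*} [Group G] (H : Subgroup G) (w : G)
    (h : ∀ y ∈ H, w * y * w⁻¹ = y⁻¹) : w ∈ Subgroup.normalizer (H : Set G) := by
  rw [Subgroup.mem_normalizer_iff]
  intro y
  constructor
  · intro hy
    rw [h y hy]
    exact H.inv_mem hy
  · intro hy
    have h1 := h _ hy
    have h3 : w * (w * y * w⁻¹)⁻¹ * w⁻¹ = w * y * w⁻¹ := by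
      have e : ∀ u : G, w * u⁻¹ * w⁻¹ = (w * u * w⁻¹)⁻¹ := by
        intro u
        simp [mul_assoc]
      rw [e, h1, inv_inv]
    have h2 : (w * y * w⁻¹)⁻¹ = y := mul_left_cancel (mul_right_cancel h3)
    rw [← h2]
    exact H.inv_mem hy

theorem isPGroup_zpowers {G : Type*} [Group G] (p : ℕ) (g : G) (k : ℕ) (h : g ^ (p ^ k) = 1) :
    IsPGroup p (Subgroup.zpowers g) := by
  rintro ⟨y, hy⟩
  obtain ⟨n, rfl⟩ := Subgroup.mem_zpowers_iff.mp hy
  refine ⟨k, Subtype.ext ?_⟩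
  show (g ^ n) ^ (p ^ k) = 1
  rw [← zpow_natCast, ← zpow_mul, mul_comm, zpow_mul, zpow_natCast, h, one_zpow]

/-- a non-scalar `2`-element whose torus is not a `2`-group lies in at least two Sylow
`2`-subgroups -/
theorem exists_sylow_ne [Fintype F] (h2 : (2 : F) ≠ 0)
    (Q : Sylow 2 (Matrix.SpecialLinearGroup (Fin 2) F))
    (x : Matrix.SpecialLinearGroup (Fin 2) F) (hxQ : x ∈ Q)
    (hns : NonScalar (x : Matrix (Fin 2) (Fin 2) F))
    (hnot : ¬ ∃ k : ℕ, Nat.card (Subgroup.centralizer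
      ({x} : Set (Matrix.SpecialLinearGroup (Fin 2) F))) = 2 ^ k) :
    ∃ P : Sylow 2 (Matrix.SpecialLinearGroup (Fin 2) F), P ≠ Q ∧ x ∈ P := by
  haveI : Fact (Nat.Prime 2) := ⟨Nat.prime_two⟩
  by_contra hcon
  push Not at hcon
  have huniq : ∀ P : Sylow 2 (Matrix.SpecialLinearGroup (Fin 2) F), x ∈ P → P = Q := by
    intro P hP
    by_contra hne
    exact hcon P hne hP
  obtain ⟨k, hk⟩ := (IsPGroup.iff_orderOf.mp Q.isPGroup') ⟨x, hxQ⟩
  replace hk : orderOf x = 2 ^ k := by rw [← hk, Subgroup.orderOf_mk]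
  have hreg := regular_of_two_power h2 x hns ⟨k, hk⟩
  have hxx := mul_self_ne_one_of_nonScalar h2 x hns
  have hxinv : x ≠ x⁻¹ := by
    intro h
    apply hxx
    nth_rewrite 2 [h]
    exact mul_inv_cancel x
  obtain ⟨w, hw⟩ := exists_conj_inv x hns hreg
  have hwinv : ∀ g : Matrix.SpecialLinearGroup (Fin 2) F, g * x = x * g → w * g * w⁻¹ = g⁻¹ :=
    fun g hg => conj_eq_inv_of_invert x w g hns hw hg
  have hww := sq_eq_neg_one_of_invert x w hxinv hw
  have hw4 : w ^ (2 ^ 2) = 1 := by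
    apply Subtype.ext
    have e : w ^ (2 ^ 2) = (w * w) * (w * w) := by
      rw [show (2 ^ 2 : ℕ) = 2 + 2 from rfl, pow_add, sq]
    rw [e, Matrix.SpecialLinearGroup.coe_mul, Matrix.SpecialLinearGroup.coe_mul, hww]
    simp
  have hK : IsPGroup 2 (Subgroup.zpowers w ⊔ Subgroup.zpowers x :
      Subgroup (Matrix.SpecialLinearGroup (Fin 2) F)) := by
    apply IsPGroup.to_sup_of_normal_right' (isPGroup_zpowers 2 w 2 hw4)
      (isPGroup_zpowers 2 x k (by rw [← hk, pow_orderOf_eq_one]))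
    rw [Subgroup.zpowers_le]
    apply mem_normalizer_of_invert
    intro y hy
    apply hwinv
    obtain ⟨n, rfl⟩ := Subgroup.mem_zpowers_iff.mp hy
    exact ((Commute.refl x).zpow_left n).eq
  obtain ⟨R, hR⟩ := hK.exists_le_sylow
  have hxR : x ∈ R := hR (Subgroup.mem_sup_right (Subgroup.mem_zpowers x))
  have hwR : w ∈ R := hR (Subgroup.mem_sup_left (Subgroup.mem_zpowers w))
  have hwQ : w ∈ Q := by rw [← huniq R hxR]; exact hwR
  apply hnot
  apply IsPGroup.iff_card.mp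
  rintro ⟨g, hg⟩
  have hgx : g * x = x * g := Subgroup.mem_centralizer_singleton_iff.mp hg
  have hgN : g • Q = Q := by
    apply huniq
    have : x ∈ ((g • Q : Sylow 2 (Matrix.SpecialLinearGroup (Fin 2) F)) :
        Subgroup (Matrix.SpecialLinearGroup (Fin 2) F)) := by
      rw [Sylow.coe_subgroup_smul, Subgroup.mem_smul_pointwise_iff_exists]
      refine ⟨x, hxQ, ?_⟩
      rw [MulAut.smul_def, MulAut.conj_apply, hgx, mul_inv_cancel_right]
    exact this
  have hgN' := Sylow.smul_eq_iff_mem_normalizer.mp hgN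
  have h5 : g * w⁻¹ * g⁻¹ ∈ (Q : Subgroup (Matrix.SpecialLinearGroup (Fin 2) F)) :=
    (Subgroup.mem_normalizer_iff.mp hgN' w⁻¹).mp (Q.inv_mem hwQ)
  have h6 : g⁻¹ * g⁻¹ ∈ (Q : Subgroup (Matrix.SpecialLinearGroup (Fin 2) F)) := by
    have h7 := (Q : Subgroup (Matrix.SpecialLinearGroup (Fin 2) F)).mul_mem hwQ h5
    have e : w * (g * w⁻¹ * g⁻¹) = (w * g * w⁻¹) * g⁻¹ := by group
    rwa [e, hwinv g hgx] at h7
  obtain ⟨j, hj⟩ := Q.isPGroup' ⟨g⁻¹ * g⁻¹, h6⟩
  have hj' : (g⁻¹ * g⁻¹) ^ (2 ^ j) = 1 := congrArg Subtype.val hj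
  refine ⟨j + 1, Subtype.ext ?_⟩
  show g ^ (2 ^ (j + 1)) = 1
  rw [pow_succ, mul_comm, pow_mul, sq, ← inv_inj, ← inv_pow, mul_inv_rev, hj', inv_one]

theorem mul_self_ne_one_of_orderOf {G : Type*} [Group G] (x : G) (k : ℕ) (hk2 : 2 ≤ k)
    (hord : orderOf x = 2 ^ k) : x * x ≠ 1 := by
  intro h
  have h1 : orderOf x ∣ 2 := orderOf_dvd_of_pow_eq_one (by rw [sq]; exact h)
  rw [hord] at h1
  have h3 := Nat.le_of_dvd (by norm_num) h1
  have h4 : 2 ^ 2 ≤ 2 ^ k := Nat.pow_le_pow_right (by norm_num) hk2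
  omega

theorem sylow_eq_normalizer [Fintype F] (h2 : (2 : F) ≠ 0)
    (x : Matrix.SpecialLinearGroup (Fin 2) F) (k : ℕ) (hk2 : 2 ≤ k)
    (hord : orderOf x = 2 ^ k)
    (hcard : Nat.card (Subgroup.centralizer
      ({x} : Set (Matrix.SpecialLinearGroup (Fin 2) F))) = 2 ^ k)
    (hG : ∀ j, 2 ^ j ∣ Nat.card (Matrix.SpecialLinearGroup (Fin 2) F) → j ≤ k + 1)
    (P : Sylow 2 (Matrix.SpecialLinearGroup (Fin 2) F)) (hxP : x ∈ P) :
    (P : Subgroup (Matrix.SpecialLinearGroup (Fin 2) F)) =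
      Subgroup.normalizer ((Subgroup.centralizer
      ({x} : Set (Matrix.SpecialLinearGroup (Fin 2) F)) :
        Subgroup (Matrix.SpecialLinearGroup (Fin 2) F)) :
        Set (Matrix.SpecialLinearGroup (Fin 2) F)) := by
  haveI : Fact (Nat.Prime 2) := ⟨Nat.prime_two⟩
  have hxx := mul_self_ne_one_of_orderOf x k hk2 hord
  have hns := nonScalar_of_mul_self_ne_one x hxx
  have hreg := regular_of_two_power h2 x hns ⟨k, hord⟩
  have hxinv : x ≠ x⁻¹ := by
    intro h
    apply hxx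
    nth_rewrite 2 [h]
    exact mul_inv_cancel x
  have hcardN := card_normalizer_centralizer h2 x hns hreg hxinv
  set T := Subgroup.centralizer ({x} : Set (Matrix.SpecialLinearGroup (Fin 2) F)) with hTdef
  set N := Subgroup.normalizer (T : Set (Matrix.SpecialLinearGroup (Fin 2) F)) with hNdef
  replace hcardN : Nat.card N = 2 ^ (k + 1) := by rw [hcardN, hcard, pow_succ]; ring
  have hT : T = Subgroup.zpowers x := by
    symm
    apply Subgroup.eq_of_le_of_card_ge
    · rw [Subgroup.zpowers_le]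
      exact Subgroup.mem_centralizer_singleton_iff.mpr rfl
    · rw [hcard, Nat.card_zpowers, hord]
  have hTP : T ≤ P := by
    rw [hT, Subgroup.zpowers_le]; exact hxP
  obtain ⟨R, hR⟩ := (IsPGroup.of_card hcardN).exists_le_sylow
  have hcardP : Nat.card P = 2 ^ (k + 1) := by
    obtain ⟨j, hj⟩ := IsPGroup.iff_card.mp P.isPGroup'
    have h1 : j ≤ k + 1 := hG j (by rw [← hj]; exact Subgroup.card_subgroup_dvd_card _)
    have h3 : Nat.card R = Nat.card P := by
      rw [Sylow.card_eq_multiplicity, Sylow.card_eq_multiplicity]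
    have h4 : 2 ^ (k + 1) ∣ 2 ^ j := by
      rw [← hj, ← h3, ← hcardN]; exact Subgroup.card_dvd_of_le hR
    have h5 : k + 1 ≤ j := (Nat.pow_dvd_pow_iff_le_right (by norm_num)).mp h4
    rw [hj, le_antisymm h1 h5]
  have hidx : (T.subgroupOf (P : Subgroup (Matrix.SpecialLinearGroup (Fin 2) F))).index = 2 := by
    have h1 := Subgroup.index_mul_card
      (T.subgroupOf (P : Subgroup (Matrix.SpecialLinearGroup (Fin 2) F)))
    rw [Nat.card_congr (Subgroup.subgroupOfEquivOfLe hTP).toEquiv, hcard, hcardP, pow_succ] at h1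
    exact Nat.eq_of_mul_eq_mul_right (by positivity : 0 < 2 ^ k) (by rw [h1]; ring)
  have hnorm : (T.subgroupOf (P : Subgroup (Matrix.SpecialLinearGroup (Fin 2) F))).Normal :=
    Subgroup.normal_of_index_eq_two hidx
  have hPN : (P : Subgroup (Matrix.SpecialLinearGroup (Fin 2) F)) ≤ N :=
    (Subgroup.normal_subgroupOf_iff_le_normalizer hTP).mp hnorm
  exact Subgroup.eq_of_le_of_card_ge hPN (by rw [hcardN, hcardP])

theorem not_redundant_of_torus [Fintype F] (h2 : (2 : F) ≠ 0)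
    (x₀ : Matrix.SpecialLinearGroup (Fin 2) F) (k : ℕ) (hk2 : 2 ≤ k)
    (hord : orderOf x₀ = 2 ^ k)
    (hcard : Nat.card (Subgroup.centralizer
      ({x₀} : Set (Matrix.SpecialLinearGroup (Fin 2) F))) = 2 ^ k)
    (hG : ∀ j, 2 ^ j ∣ Nat.card (Matrix.SpecialLinearGroup (Fin 2) F) → j ≤ k + 1)
    (Q : Sylow 2 (Matrix.SpecialLinearGroup (Fin 2) F)) :
    ∃ x : Matrix.SpecialLinearGroup (Fin 2) F, (∃ k : ℕ, orderOf x = 2 ^ k) ∧
      ∀ P : Sylow 2 (Matrix.SpecialLinearGroup (Fin 2) F), x ∈ P → P = Q := by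
  haveI : Fact (Nat.Prime 2) := ⟨Nat.prime_two⟩
  obtain ⟨R, hR⟩ := (isPGroup_zpowers 2 x₀ k (by rw [← hord, pow_orderOf_eq_one])).exists_le_sylow
  obtain ⟨g, hg⟩ := MulAction.exists_smul_eq (Matrix.SpecialLinearGroup (Fin 2) F) R Q
  have hx₀R : x₀ ∈ R := hR (Subgroup.mem_zpowers x₀)
  set x := g * x₀ * g⁻¹ with hx
  have hxQ : x ∈ Q := by
    have : x ∈ ((g • R : Sylow 2 (Matrix.SpecialLinearGroup (Fin 2) F)) :
        Subgroup (Matrix.SpecialLinearGroup (Fin 2) F)) := by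
      rw [Sylow.coe_subgroup_smul, Subgroup.mem_smul_pointwise_iff_exists]
      exact ⟨x₀, hx₀R, rfl⟩
    rw [hg] at this
    exact this
  have hordx : orderOf x = 2 ^ k := by
    rw [← hord]
    exact (MulAut.conj g).orderOf_eq x₀
  have hns₀ := nonScalar_of_mul_self_ne_one x₀ (mul_self_ne_one_of_orderOf x₀ k hk2 hord)
  have hns := nonScalar_of_mul_self_ne_one x (mul_self_ne_one_of_orderOf x k hk2 hordx)
  have hcardx : Nat.card (Subgroup.centralizer
      ({x} : Set (Matrix.SpecialLinearGroup (Fin 2) F))) = 2 ^ k := by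
    rw [← hcard, card_centralizer_SL x hns, card_centralizer_SL x₀ hns₀, hx, trace_conj]
  refine ⟨x, ⟨k, hordx⟩, ?_⟩
  intro P hP
  apply Sylow.ext
  rw [sylow_eq_normalizer h2 x k hk2 hordx hcardx hG P hP,
    sylow_eq_normalizer h2 x k hk2 hordx hcardx hG Q hxQ]

end Cfsg.Agent.H6.Redund
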