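import Cfsg.Agent.Lib_helper7_CD

set_option autoImplicit false
open scoped Pointwise

namespace Cfsg.Agent.H7

variable {G : Type*} [Group G]

theorem map_center_subtype (H : Subgroup G) :
    (Subgroup.center ↥H).map H.subtype = H ⊓ Subgroup.centralizer (H : Set G) := by
  ext x
  simp only [Subgroup.mem_map, Subgroup.mem_center_iff, Subgroup.mem_inf,
    Subgroup.mem_centralizer_iff]
  constructor
  · rintro ⟨y, hy, rfl⟩
    refine ⟨y.2, fun h hh => ?_⟩
    have := hy ⟨h, hh⟩
    exact congrArg Subtype.val this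
  · rintro ⟨hx, h⟩
    refine ⟨⟨x, hx⟩, fun g => ?_, rfl⟩
    exact Subtype.ext (h g g.2)

theorem card_center_eq (H : Subgroup G) :
    Nat.card (Subgroup.center ↥H) = Nat.card (H ⊓ Subgroup.centralizer (H : Set G) : Subgroup G) := by
  rw [← map_center_subtype, Subgroup.card_map_of_injective H.subtype_injective]

/-- The central measure `|H| |Z(H)|`. -/
noncomputable def clm (H : Subgroup G) : ℕ :=
  Nat.card H * Nat.card (H ⊓ Subgroup.centralizer (H : Set G) : Subgroup G)

/-- `H` has the largest central measure. -/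
def IsCL (H : Subgroup G) : Prop := ∀ K : Subgroup G, clm K ≤ clm H

theorem exists_isCL [Finite G] : ∃ H : Subgroup G, IsCL H := by
  obtain ⟨H, hH⟩ := Finite.exists_max (fun H : Subgroup G => clm H)
  exact ⟨H, hH⟩

theorem clm_eq (H : Subgroup G) : clm H = Nat.card ↥H * Nat.card ↥(Subgroup.center ↥H) := by
  rw [card_center_eq]; rfl

theorem clm_le_maxCentralProduct [Finite G] (H : Subgroup G) :
    clm H ≤ Cfsg.maxCentralProduct G := by
  unfold Cfsg.maxCentralProduct
  apply le_csSup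
  · obtain ⟨M, hM⟩ := exists_isCL (G := G)
    refine ⟨clm M, ?_⟩
    rintro k ⟨R, rfl⟩
    rw [← clm_eq]
    exact hM R
  · exact ⟨H, (clm_eq H).symm⟩

theorem exists_clm_eq_maxCentralProduct [Finite G] :
    ∃ H : Subgroup G, clm H = Cfsg.maxCentralProduct G := by
  have h : Cfsg.maxCentralProduct G ∈ {k : ℕ | ∃ R : Subgroup G, Nat.card ↥R *
      Nat.card ↥(Subgroup.center ↥R) = k} := by
    unfold Cfsg.maxCentralProduct
    apply Nat.sSup_mem
    · exact ⟨_, ⊥, rfl⟩
    · obtain ⟨M, hM⟩ := exists_isCL (G := G)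
      refine ⟨clm M, ?_⟩
      rintro k ⟨R, rfl⟩
      rw [← clm_eq]
      exact hM R
  obtain ⟨R, hR⟩ := h
  exact ⟨R, (clm_eq R).trans hR⟩

theorem isCentrallyLarge_iff [Finite G] (H : Subgroup G) :
    Cfsg.IsCentrallyLarge H ↔ IsCL H := by
  constructor
  · intro h K
    have : clm H = Cfsg.maxCentralProduct G := (clm_eq H).trans h
    rw [this]
    exact clm_le_maxCentralProduct K
  · intro h
    obtain ⟨M, hM⟩ := exists_clm_eq_maxCentralProduct (G := G)
    have : clm H = Cfsg.maxCentralProduct G :=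
      le_antisymm (clm_le_maxCentralProduct H) (hM ▸ h M)
    exact (clm_eq H).symm.trans this

theorem clm_le_cdm [Finite G] (H : Subgroup G) : clm H ≤ cdm H :=
  Nat.mul_le_mul_left _ (Subgroup.card_le_of_le inf_le_right)

theorem clm_eq_cdm_of_le {H : Subgroup G} (h : Subgroup.centralizer (H : Set G) ≤ H) :
    clm H = cdm H := by
  unfold clm cdm
  rw [inf_eq_right.mpr h]

theorem IsCD.sup_centralizer [Finite G] {H : Subgroup G} (hH : IsCD H) :
    IsCD (H ⊔ Subgroup.centralizer (H : Set G)) ∧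
      Subgroup.centralizer ((H ⊔ Subgroup.centralizer (H : Set G) : Subgroup G) : Set G) ≤
        H ⊔ Subgroup.centralizer (H : Set G) := by
  refine ⟨hH.sup hH.centralizer, ?_⟩
  rw [centralizer_sup_eq]
  exact inf_le_left.trans le_sup_right

theorem isCL_iff [Finite G] (H : Subgroup G) :
    IsCL H ↔ IsCD H ∧ Subgroup.centralizer (H : Set G) ≤ H := by
  constructor
  · intro h
    obtain ⟨M, hM⟩ := exists_isCD (G := G)
    obtain ⟨hT, hT'⟩ := hM.sup_centralizer
    set T := M ⊔ Subgroup.centralizer (M : Set G)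
    have h1 : cdm T ≤ clm H := (clm_eq_cdm_of_le hT') ▸ h T
    have h2 : IsCD H := hT.of_cdm_le (h1.trans (clm_le_cdm H))
    refine ⟨h2, ?_⟩
    have h3 : cdm H ≤ clm H := (hT H).trans h1
    unfold cdm clm at h3
    have h4 := Nat.le_of_mul_le_mul_left h3 Nat.card_pos
    have h5 := eq_of_le_of_card_le (inf_le_right : H ⊓ Subgroup.centralizer (H : Set G) ≤ _) h4
    exact inf_eq_right.mp h5
  · rintro ⟨h1, h2⟩ K
    rw [clm_eq_cdm_of_le h2]
    exact (clm_le_cdm K).trans (h1 K)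

theorem IsCL.isCD [Finite G] {H : Subgroup G} (h : IsCL H) : IsCD H := ((isCL_iff H).mp h).1

theorem IsCL.centralizer_le [Finite G] {H : Subgroup G} (h : IsCL H) :
    Subgroup.centralizer (H : Set G) ≤ H := ((isCL_iff H).mp h).2

theorem IsCL.sup [Finite G] {H K : Subgroup G} (hH : IsCL H) (hK : IsCL K) : IsCL (H ⊔ K) := by
  rw [isCL_iff]
  refine ⟨hH.isCD.sup hK.isCD, ?_⟩
  exact (Subgroup.centralizer_le (SetLike.coe_subset_coe.mpr le_sup_left)).trans
    (hH.centralizer_le.trans le_sup_left)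

theorem IsCL.sSup [Finite G] (S : Set (Subgroup G)) (hne : S.Nonempty) (hS : ∀ H ∈ S, IsCL H) :
    IsCL (sSup S) :=
  sSup_mem_of_supClosed (fun _ _ h1 h2 => h1.sup h2) S hne hS

/-- minimal CL -/
def IsMinCL (H : Subgroup G) : Prop := IsCL H ∧ ∀ K : Subgroup G, K ≤ H → IsCL K → K = H

theorem isMinimalCentrallyLarge_iff [Finite G] (H : Subgroup G) :
    Cfsg.IsMinimalCentrallyLarge H ↔ IsMinCL H := by
  unfold Cfsg.IsMinimalCentrallyLarge IsMinCL
  simp only [isCentrallyLarge_iff]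

theorem IsCL.exists_isMinCL_le [Finite G] {H : Subgroup G} (hH : IsCL H) :
    ∃ K : Subgroup G, K ≤ H ∧ IsMinCL K := by
  have hfin : {K : Subgroup G | K ≤ H ∧ IsCL K}.Finite := Set.toFinite _
  obtain ⟨K, hK, hmin⟩ := hfin.exists_minimal ⟨H, le_refl _, hH⟩
  refine ⟨K, hK.1, hK.2, fun L hL hL' => ?_⟩
  exact le_antisymm hL (hmin ⟨hL.trans hK.1, hL'⟩ hL)

theorem isCL_centrallyLargeJoin [Finite G] : IsCL (Cfsg.centrallyLargeJoin G) := by
  unfold Cfsg.centrallyLargeJoin
  obtain ⟨H, hH⟩ := exists_isCL (G := G)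
  exact IsCL.sSup _ ⟨H, (isCentrallyLarge_iff H).mpr hH⟩
    (fun K hK => (isCentrallyLarge_iff K).mp hK)

theorem isCL_minimalCentrallyLargeJoin [Finite G] : IsCL (Cfsg.minimalCentrallyLargeJoin G) := by
  unfold Cfsg.minimalCentrallyLargeJoin
  obtain ⟨H, hH⟩ := exists_isCL (G := G)
  obtain ⟨K, -, hK⟩ := hH.exists_isMinCL_le
  exact IsCL.sSup _ ⟨K, (isMinimalCentrallyLarge_iff K).mpr hK⟩
    (fun L hL => ((isMinimalCentrallyLarge_iff L).mp hL).1)

theorem IsCL.le_centrallyLargeJoin [Finite G] {H : Subgroup G} (hH : IsCL H) :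
    H ≤ Cfsg.centrallyLargeJoin G :=
  le_sSup ((isCentrallyLarge_iff H).mpr hH)

end Cfsg.Agent.H7
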