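import Mathlib

set_option autoImplicit false

namespace Cfsg.Agent.H7

open Subgroup

/-- a `p`-group with two distinct subgroups of order `p` has an elementary abelian subgroup of
order `p ^ 2` (containing a central subgroup of order `p`). -/
theorem exists_elemAb_sq_of_two_subgroups {P : Type*} [Group P] [Finite P] {p : ℕ}
    [hp : Fact p.Prime] (hP : IsPGroup p P) {H K : Subgroup P} (hH : Nat.card H = p)
    (hK : Nat.card K = p) (hne : H ≠ K) :
    ∃ E : Subgroup P, Nat.card E = p ^ 2 ∧ (∀ u ∈ E, ∀ v ∈ E, u * v = v * u) ∧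
      ∀ u ∈ E, u ^ p = 1 := by
  have hpp := hp.out
  haveI : Nontrivial P := by
    haveI : Nontrivial H := by
      rw [← Finite.one_lt_card_iff_nontrivial, hH]; exact hpp.one_lt
    obtain ⟨x, y, hxy⟩ := exists_pair_ne H
    exact ⟨⟨x, y, fun h => hxy (Subtype.ext h)⟩⟩
  haveI := hP.center_nontrivial
  obtain ⟨z, hz⟩ : ∃ z : center P, orderOf z = p := by
    apply exists_prime_orderOf_dvd_card'
    obtain ⟨j, hj⟩ := (hP.to_subgroup (center P)).exists_card_eq
    have h1 := Finite.one_lt_card_iff_nontrivial.2 (inferInstance : Nontrivial (center P))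
    rw [hj] at h1 ⊢
    have : j ≠ 0 := by rintro rfl; simp at h1
    exact dvd_pow_self p this
  have hz' : orderOf (z : P) = p := by rw [Subgroup.orderOf_coe, hz]
  obtain ⟨N, hNdef⟩ : ∃ N : Subgroup P, N = zpowers (z : P) := ⟨_, rfl⟩
  have hNcard : Nat.card N = p := by rw [hNdef, Nat.card_zpowers, hz']
  have hNc : N ≤ center P := by rw [hNdef, zpowers_le]; exact z.2
  haveI hNn : N.Normal := by
    constructor
    intro n hn g
    have := mem_center_iff.1 (hNc hn) g
    rw [this, mul_inv_cancel_right]; exact hn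
  obtain ⟨L, hL, hLN⟩ : ∃ L : Subgroup P, Nat.card L = p ∧ L ≠ N := by
    by_cases h : H = N
    · exact ⟨K, hK, fun h' => hne (h.trans h'.symm)⟩
    · exact ⟨H, hH, h⟩
  have hinf : N ⊓ L = ⊥ := by
    have h1 : Nat.card (N ⊓ L : Subgroup P) ∣ p := by
      rw [← hL]; exact Subgroup.card_dvd_of_le inf_le_right
    rcases (Nat.dvd_prime hpp).1 h1 with h2 | h2
    · exact Subgroup.card_eq_one.1 h2
    · exfalso
      have e1 : N ⊓ L = L := Subgroup.eq_of_le_of_card_ge inf_le_right (by rw [h2, hL])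
      have e2 : N ⊓ L = N := Subgroup.eq_of_le_of_card_ge inf_le_left (by rw [h2, hNcard])
      exact hLN (e1.symm.trans e2)
  have hcard : Nat.card (L ⊔ N : Subgroup P) = p ^ 2 := by
    have h1 := Subgroup.relIndex_mul_relIndex ⊥ N (L ⊔ N) bot_le le_sup_right
    rw [relIndex_bot_left, relIndex_bot_left, relIndex_sup_right, ← inf_relIndex_right, hinf,
      relIndex_bot_left, hNcard, hL] at h1
    rw [← h1, pow_two]
  have hmem : ∀ e ∈ L ⊔ N, ∃ u ∈ L, ∃ v ∈ N, e = u * v := by
    intro e he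
    have : e ∈ ((L ⊔ N : Subgroup P) : Set P) := he
    rw [Subgroup.mul_normal] at this
    obtain ⟨u, hu, v, hv, rfl⟩ := this
    exact ⟨u, hu, v, hv, rfl⟩
  haveI : IsCyclic L := isCyclic_of_prime_card hL
  have hLc : ∀ u ∈ L, ∀ v ∈ L, Commute u v := by
    intro u hu v hv
    have := (IsCyclic.isMulCommutative (α := L)).is_comm.comm ⟨u, hu⟩ ⟨v, hv⟩
    exact congrArg Subtype.val this
  have hNcomm : ∀ v ∈ N, ∀ g : P, Commute v g := fun v hv g => (mem_center_iff.1 (hNc hv) g).symm
  refine ⟨L ⊔ N, hcard, ?_, ?_⟩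
  · intro e he f hf
    obtain ⟨u, hu, v, hv, rfl⟩ := hmem e he
    obtain ⟨u', hu', v', hv', rfl⟩ := hmem f hf
    exact Commute.mul_left (Commute.mul_right (hLc u hu u' hu') (hNcomm v' hv' u).symm)
      (hNcomm v hv _)
  · intro e he
    obtain ⟨u, hu, v, hv, rfl⟩ := hmem e he
    rw [(hNcomm v hv u).symm.mul_pow]
    have h1 : u ^ p = 1 := by
      have := pow_card_eq_one' (G := L) (x := ⟨u, hu⟩)
      rw [hL] at this
      exact congrArg Subtype.val this
    have h2 : v ^ p = 1 := by
      have := pow_card_eq_one' (G := N) (x := ⟨v, hv⟩)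
      rw [hNcard] at this
      exact congrArg Subtype.val this
    rw [h1, h2, one_mul]

end Cfsg.Agent.H7
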