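import Cfsg.Statements.S0539
import Cfsg.Agent.Lib_helper7_Sylow
import Cfsg.Agent.S0538

set_option autoImplicit false
open Pointwise
open Cfsg

namespace Cfsg.Agent.S0539

open Subgroup Cfsg.Agent.H7
open scoped Pointwise

/-- Let S be a family of subnormal subgroups of a finite group that is closed under conjugation, and S₀ a proper subfamily. Then some member of S not in S₀ normalizes the join of S₀. -/
theorem result {G : Type*} [Group G] [Finite G] (S S₀ : Set (Subgroup G)) (hS : ∀ U ∈ S, U.IsSubnormal) (hconj : ∀ U ∈ S, ∀ g : G, MulAut.conj g • U ∈ S) (h₀ : S₀ ⊂ S) : ∃ X ∈ S, X ∉ S₀ ∧ X ≤ Subgroup.normalizer ((sSup S₀ : Subgroup G) : Set G) := by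
  classical
  have hnorm_iff : ∀ (x : G) (U : Subgroup G), MulAut.conj x • U ≤ U → x ∈ normalizer (U : Set G) := by
    intro x U hle
    rw [← map_conj_eq_self_iff]
    apply eq_of_le_of_card_ge hle
    exact (card_map_conj U x).ge
  have hsub : ∀ T : Set (Subgroup G), T.Finite → (∀ U ∈ T, U.IsSubnormal) → (sSup T).IsSubnormal := by
    intro T hT
    induction T, hT using Set.Finite.induction_on with
    | empty =>
      intro _
      rw [sSup_empty]
      exact IsSubnormal.bot
    | insert _ _ ih =>
      intro h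
      rw [sSup_insert]
      exact Cfsg.Agent.S0538.result _ _ (h _ (Set.mem_insert _ _))
        (ih (fun U hU => h U (Set.mem_insert_of_mem _ hU)))
  have hH₀ : (sSup S₀).IsSubnormal := hsub S₀ (Set.toFinite _) (fun U hU => hS U (h₀.subset hU))
  have key : ∀ K : Subgroup G, K.IsSubnormal → S₀ = {X | X ∈ S ∧ X ≤ K} →
      ∃ X ∈ S, X ∉ S₀ ∧ X ≤ normalizer ((sSup S₀ : Subgroup G) : Set G) := by
    intro K hK
    induction hK with
    | top =>
      intro h
      exfalso
      apply h₀.ne
      rw [h]
      ext X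
      simp
    | step H K hHK hKs hN ih =>
      intro h
      by_cases hK' : S₀ = {X | X ∈ S ∧ X ≤ K}
      · exact ih hK'
      · have : ∃ X, X ∈ S ∧ X ≤ K ∧ X ∉ S₀ := by
          by_contra hno
          push Not at hno
          apply hK'
          ext X
          constructor
          · intro hX
            rw [h] at hX
            exact ⟨hX.1, hX.2.trans hHK⟩
          · rintro ⟨h1, h2⟩
            exact hno X h1 h2
        obtain ⟨X, hXS, hXK, hX0⟩ := this
        refine ⟨X, hXS, hX0, ?_⟩
        intro x hx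
        apply hnorm_iff
        rw [pointwise_smul_subset_iff]
        apply sSup_le
        intro U hU
        rw [← pointwise_smul_subset_iff]
        apply le_sSup
        have hU' := hU
        rw [h] at hU' ⊢
        refine ⟨hconj U hU'.1 x, ?_⟩
        rintro _ ⟨u, hu, rfl⟩
        have := hN.conj_mem ⟨u, hHK (hU'.2 hu)⟩ (mem_subgroupOf.mpr (hU'.2 hu)) ⟨x, hXK hx⟩
        exact mem_subgroupOf.mp this
  by_cases h1 : S₀ = {X | X ∈ S ∧ X ≤ sSup S₀}
  · exact key _ hH₀ h1
  · have : ∃ X, X ∈ S ∧ X ≤ sSup S₀ ∧ X ∉ S₀ := by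
      by_contra hno
      push Not at hno
      apply h1
      ext X
      constructor
      · intro hX
        exact ⟨h₀.subset hX, le_sSup hX⟩
      · rintro ⟨h1, h2⟩
        exact hno X h1 h2
    obtain ⟨X, hXS, hXK, hX0⟩ := this
    exact ⟨X, hXS, hX0, hXK.trans le_normalizer⟩

end Cfsg.Agent.S0539
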