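import Cfsg.Statements.S0540
import Cfsg.Agent.Lib_helper7_Sylow
import Cfsg.Agent.S0539

set_option autoImplicit false
open Pointwise
open Cfsg

namespace Cfsg.Agent.S0540

open Subgroup Cfsg.Agent.H7
open scoped Pointwise

/-- A uniqueness lemma of zipper type. Let A be a subgroup of a finite group G and U a nonempty family of subgroups. For V in U write S(V) for the set of conjugates of A that lie in V and are subnormal in V. Assume: A belongs to S(V) for every V in U; a member of some S(W) that lies in V belongs to S(V); and for all V, W in U the normalizer of the join of S(V) ∩ S(W) lies in some member of U. Then U has a greatest element. -/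
theorem result {G : Type*} [Group G] [Finite G] (A : Subgroup G) (U : Set (Subgroup G)) (hU : U.Nonempty) (S : Subgroup G → Set (Subgroup G)) (hS : ∀ V B : Subgroup G, B ∈ S V ↔ (∃ g : G, B = MulAut.conj g • A) ∧ B ≤ V ∧ (B.subgroupOf V).IsSubnormal) (h1 : ∀ V ∈ U, A ∈ S V) (h2 : ∀ V ∈ U, ∀ W ∈ U, ∀ B ∈ S W, B ≤ V → B ∈ S V) (h3 : ∀ V ∈ U, ∀ W ∈ U, ∃ X ∈ U, Subgroup.normalizer ((sSup (S V ∩ S W) : Subgroup G) : Set G) ≤ X) : ∃ M ∈ U, ∀ V ∈ U, V ≤ M := by
  classical
  have hnorm_iff : ∀ (x : G) (U : Subgroup G), MulAut.conj x • U ≤ U → x ∈ normalizer (U : Set G) := by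
    intro x U hle
    rw [← map_conj_eq_self_iff]
    apply eq_of_le_of_card_ge hle
    exact (card_map_conj U x).ge
  -- conjugation invariance
  have hSconj : ∀ V B : Subgroup G, B ∈ S V → ∀ v ∈ V, MulAut.conj v • B ∈ S V := by
    intro V B hB v hv
    obtain ⟨⟨g, rfl⟩, hBV, hBs⟩ := (hS V B).mp hB
    rw [hS]
    have hle : MulAut.conj v • MulAut.conj g • A ≤ V := by
      rintro _ ⟨b, hb, rfl⟩
      exact mul_mem (mul_mem hv (hBV hb)) (inv_mem hv)
    refine ⟨⟨v * g, by rw [smul_smul, ← map_mul]⟩, hle, ?_⟩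
    have heq : (MulAut.conj v • MulAut.conj g • A).subgroupOf V =
        MulAut.conj (⟨v, hv⟩ : ↥V) • ((MulAut.conj g • A).subgroupOf V) := by
      ext x
      rw [mem_subgroupOf, ← map_conj_eq_smul, ← map_conj_eq_smul (G := ↥V), mem_map_conj, mem_map_conj,
        mem_subgroupOf]
      rfl
    rw [heq]
    exact hBs.smul _
  have main : ∀ V W : Subgroup G, Maximal (· ∈ U) V → Maximal (· ∈ U) W →
      (∀ V' W' : Subgroup G, Maximal (· ∈ U) V' → Maximal (· ∈ U) W' → V' ≠ W' →
        (S V' ∩ S W').ncard ≤ (S V ∩ S W).ncard) →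
      ∀ U₃ : Subgroup G, Maximal (· ∈ U) U₃ →
        normalizer ((sSup (S V ∩ S W) : Subgroup G) : Set G) ≤ U₃ → V = U₃ := by
    intro V W hV hW hmax U₃ hU₃ hN
    by_contra hne
    have hcard := hmax V U₃ hV hU₃ hne
    set D := sSup (S V ∩ S W) with hD
    have hSig3 : S V ∩ S W ⊆ S V ∩ S U₃ := by
      intro B hB
      refine ⟨hB.1, h2 U₃ hU₃.prop V hV.prop B hB.1 ?_⟩
      exact (le_sSup hB).trans (le_normalizer.trans hN)
    by_cases hcase : S V ⊆ S W
    · apply hne
      have hVU : V ≤ U₃ := by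
        refine le_trans ?_ hN
        intro v hv
        apply hnorm_iff
        rw [pointwise_smul_subset_iff]
        apply sSup_le
        intro B hB
        rw [← pointwise_smul_subset_iff]
        apply le_sSup
        have := hSconj V B hB.1 v hv
        exact ⟨this, hcase this⟩
      exact le_antisymm hVU (hV.le_of_ge hU₃.prop hVU)
    · obtain ⟨B₀, hB₀V, hB₀W⟩ := Set.not_subset.mp hcase
      have hmapsub : ∀ B : Subgroup G, B ≤ V → (B.subgroupOf V).map V.subtype = B := fun B hB =>
        map_subgroupOf_eq_of_le hB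
      have hsubmap : ∀ B' : Subgroup ↥V, (B'.map V.subtype).subgroupOf V = B' := fun B' =>
        comap_map_eq_self_of_injective V.subtype_injective B'
      obtain ⟨X', hX'S, hX'0, hX'N⟩ := Cfsg.Agent.S0539.result (G := ↥V)
        {B' | B'.map V.subtype ∈ S V} {B' | B'.map V.subtype ∈ S V ∩ S W}
        (by
          intro B' hB'
          have := ((hS V _).mp hB').2.2
          rwa [hsubmap] at this)
        (by
          intro B' hB' g
          have h3 := hSconj V _ hB' g g.2
          have heq : (MulAut.conj g • B').map V.subtype = MulAut.conj (g : G) • (B'.map V.subtype) := by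
            ext x
            rw [← map_conj_eq_smul (G := ↥V), ← map_conj_eq_smul (G := G), mem_map_conj]
            constructor
            · rintro ⟨y, hy, rfl⟩
              exact ⟨g⁻¹ * y * g, mem_map_conj.mp hy, rfl⟩
            · rintro ⟨y, hy, hyx⟩
              refine ⟨g * y * g⁻¹, conj_mem_map_conj g hy, ?_⟩
              change (g : G) * (V.subtype y) * (g : G)⁻¹ = x
              rw [hyx]
              group
          change (MulAut.conj g • B').map V.subtype ∈ S V
          rw [heq]
          exact h3)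
        (by
          refine ⟨fun B' hB' => hB'.1, ?_⟩
          intro hsub
          have hB₀le := ((hS V _).mp hB₀V).2.1
          have : B₀.subgroupOf V ∈ {B' : Subgroup ↥V | B'.map V.subtype ∈ S V} := by
            change (B₀.subgroupOf V).map V.subtype ∈ S V
            rw [hmapsub _ hB₀le]
            exact hB₀V
          have h4 : (B₀.subgroupOf V).map V.subtype ∈ S V ∩ S W := hsub this
          rw [hmapsub _ hB₀le] at h4
          exact hB₀W h4.2)
      set X := X'.map V.subtype with hX
      have hXV : X ∈ S V := hX'S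
      have hXW : X ∉ S W := fun h => hX'0 ⟨hXV, h⟩
      have hDmap : (sSup {B' : Subgroup ↥V | B'.map V.subtype ∈ S V ∩ S W}).map V.subtype = D := by
        apply le_antisymm
        · rw [Subgroup.map_le_iff_le_comap]
          apply sSup_le
          intro B' hB'
          rw [← Subgroup.map_le_iff_le_comap]
          exact le_sSup hB'
        · apply sSup_le
          intro B hB
          have hBle := ((hS V _).mp hB.1).2.1
          rw [← hmapsub B hBle]
          apply map_mono
          apply le_sSup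
          change (B.subgroupOf V).map V.subtype ∈ S V ∩ S W
          rw [hmapsub B hBle]
          exact hB
      have hXN : X ≤ normalizer (D : Set G) := by
        rw [← hDmap]
        exact (map_mono hX'N).trans (le_normalizer_map _)
      have hX3 : X ∈ S U₃ := h2 U₃ hU₃.prop V hV.prop X hXV (hXN.trans hN)
      have hlt : (S V ∩ S W).ncard < (S V ∩ S U₃).ncard := by
        apply Set.ncard_lt_ncard _ (Set.toFinite _)
        refine ⟨hSig3, ?_⟩
        intro hsub
        exact hXW (hsub ⟨hXV, hX3⟩).2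
      omega
  by_contra hno
  push Not at hno
  obtain ⟨V₀, hV₀⟩ := hU
  obtain ⟨M₁, -, hM₁⟩ := (Set.toFinite U).exists_le_maximal hV₀
  obtain ⟨V₁, hV₁, hV₁M⟩ := hno M₁ hM₁.prop
  obtain ⟨M₂, hVM₂, hM₂⟩ := (Set.toFinite U).exists_le_maximal hV₁
  have hM12 : M₁ ≠ M₂ := by
    rintro rfl
    exact hV₁M hVM₂
  obtain ⟨⟨V, W⟩, ⟨hV, hW, hVW⟩, hmax⟩ := Set.exists_max_image
    {q : Subgroup G × Subgroup G | Maximal (· ∈ U) q.1 ∧ Maximal (· ∈ U) q.2 ∧ q.1 ≠ q.2}
    (fun q => (S q.1 ∩ S q.2).ncard) (Set.toFinite _) ⟨(M₁, M₂), hM₁, hM₂, hM12⟩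
  obtain ⟨X₀, hX₀, hNX₀⟩ := h3 V hV.prop W hW.prop
  obtain ⟨U₃, hXU₃, hU₃⟩ := (Set.toFinite U).exists_le_maximal hX₀
  have e1 := main V W hV hW (fun V' W' h1' h2' h3' => hmax (V', W') ⟨h1', h2', h3'⟩) U₃ hU₃ (hNX₀.trans hXU₃)
  have e2 := main W V hW hV (fun V' W' h1' h2' h3' => by
    rw [Set.inter_comm (S W) (S V)]
    exact hmax (V', W') ⟨h1', h2', h3'⟩) U₃ hU₃ (by
    rw [Set.inter_comm (S W) (S V)]
    exact hNX₀.trans hXU₃)
  exact hVW (e1.trans e2.symm)

end Cfsg.Agent.S0540
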