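import Cfsg.Agent.Lib_helper7_Sylow
import Cfsg.Agent.S0540

set_option autoImplicit false

namespace Cfsg.Agent.H7

open Subgroup
open scoped Pointwise

theorem subn_transport {G G' : Type*} [Group G] [Group G'] (φ : G' →* G) (B J : Subgroup G)
    (B' J' : Subgroup G') (hJ : J' ≤ J.comap φ) (hB : ∀ y ∈ J', y ∈ B' ↔ φ y ∈ B)
    (h : (B.subgroupOf J).IsSubnormal) : (B'.subgroupOf J').IsSubnormal := by
  have heq : B'.subgroupOf J' =
      (B.subgroupOf J).comap ((φ.comp J'.subtype).codRestrict J (fun y => hJ y.2)) := by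
    ext y
    rw [mem_subgroupOf, mem_comap, mem_subgroupOf]
    exact hB y y.2
  rw [heq]
  exact h.comap _

/-- If `A` is not subnormal in `G` but every conjugate of `A` is subnormal in every proper subgroup
containing it, then `A` lies in a unique maximal subgroup `M`, and `A^u ≤ M` only for `u ∈ M`. -/
theorem exists_unique_max {G : Type*} [Group G] [Finite G] (A : Subgroup G) (hA : ¬ A.IsSubnormal)
    (IH : ∀ U : Subgroup G, U ≠ ⊤ → ∀ x : G, MulAut.conj x • A ≤ U →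
      ((MulAut.conj x • A).subgroupOf U).IsSubnormal) :
    ∃ M : Subgroup G, M ≠ ⊤ ∧ A ≤ M ∧ (∀ U : Subgroup G, U ≠ ⊤ → A ≤ U → U ≤ M) ∧
      ∀ u : G, MulAut.conj u • A ≤ M → u ∈ M := by
  have IH1 : ∀ U : Subgroup G, U ≠ ⊤ → A ≤ U → (A.subgroupOf U).IsSubnormal := by
    intro U hU hAU
    have := IH U hU 1 (by simpa using hAU)
    simpa using this
  have hAtop : A ≠ ⊤ := by
    rintro rfl
    exact hA IsSubnormal.top
  obtain ⟨M, ⟨hMtop, hAM⟩, hMmax⟩ := Cfsg.Agent.S0540.result A {U | U ≠ ⊤ ∧ A ≤ U} ⟨A, hAtop, le_rfl⟩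
    (fun V => {B | (∃ g : G, B = MulAut.conj g • A) ∧ B ≤ V ∧ (B.subgroupOf V).IsSubnormal})
    (fun V B => Iff.rfl)
    (fun V hV => ⟨⟨1, by simp⟩, hV.2, IH1 V hV.1 hV.2⟩)
    (by
      rintro V hV W _ B ⟨⟨x, rfl⟩, -, -⟩ hBV
      exact ⟨⟨x, rfl⟩, hBV, IH V hV.1 x hBV⟩)
    (by
      intro V hV W hW
      refine ⟨_, ⟨?_, ?_⟩, le_rfl⟩
      · intro htop
        rw [normalizer_eq_top_iff] at htop
        apply hA
        have hmem : A ∈ {B | (∃ g : G, B = MulAut.conj g • A) ∧ B ≤ V ∧ (B.subgroupOf V).IsSubnormal} ∩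
            {B | (∃ g : G, B = MulAut.conj g • A) ∧ B ≤ W ∧ (B.subgroupOf W).IsSubnormal} :=
          ⟨⟨⟨1, by simp⟩, hV.2, IH1 V hV.1 hV.2⟩, ⟨⟨1, by simp⟩, hW.2, IH1 W hW.1 hW.2⟩⟩
        refine IsSubnormal.trans (le_sSup hmem) ?_ htop.isSubnormal
        apply subn_transport (MonoidHom.id G) A V _ _ _ _ (IH1 V hV.1 hV.2)
        · apply sSup_le
          intro B hB
          exact hB.1.2.1
        · intro y _
          exact Iff.rfl
      · refine le_trans (le_sSup ?_) le_normalizer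
        exact ⟨⟨⟨1, by simp⟩, hV.2, IH1 V hV.1 hV.2⟩, ⟨⟨1, by simp⟩, hW.2, IH1 W hW.1 hW.2⟩⟩)
  have hmax' : ∀ U : Subgroup G, U ≠ ⊤ → A ≤ U → U ≤ M := fun U h1 h2 => hMmax U ⟨h1, h2⟩
  have hNM : normalizer (M : Set G) ≤ M := by
    apply hmax' _ _ (hAM.trans le_normalizer)
    intro htop
    rw [normalizer_eq_top_iff] at htop
    exact hA (IsSubnormal.trans hAM (IH1 M hMtop hAM) htop.isSubnormal)
  refine ⟨M, hMtop, hAM, hmax', ?_⟩
  intro u hu
  rw [pointwise_smul_subset_iff] at hu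
  have h1 : (MulAut.conj u)⁻¹ • M ≤ M := by
    apply hmax' _ _ hu
    intro htop
    apply hMtop
    have := congrArg (fun K => MulAut.conj u • K) htop
    simpa using this
  rw [← map_inv] at h1
  have h2 : u⁻¹ ∈ normalizer (M : Set G) := by
    rw [← map_conj_eq_self_iff]
    apply eq_of_le_of_card_ge h1
    exact (card_map_conj M u⁻¹).ge
  exact inv_mem_iff.mp (hNM h2)

end Cfsg.Agent.H7
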