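import Cfsg.Agent.Lib_helper7_Sylow
import Cfsg.Agent.Lib_helper7_Comm
import Cfsg.Prelude.Def_LocalStructure
import Mathlib

set_option autoImplicit false

namespace Cfsg.Agent.H7

open Subgroup
open scoped commutatorElement

variable {H : Type*} [Group H]

/-- a weakly closed subgroup is the only conjugate of itself in any `p`-subgroup containing it. -/
theorem wc_of_pgroup [Finite H] {p : ℕ} [Fact p.Prime] {Q : Subgroup H}
    (hwc : Cfsg.IsWeaklyClosedSubgroup p Q) {R : Subgroup H} (hR : IsPGroup p R) (hQR : Q ≤ R)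
    {g : H} (hg : Q.map (MulAut.conj g).toMonoidHom ≤ R) : Q.map (MulAut.conj g).toMonoidHom = Q := by
  obtain ⟨T, hQT, hT⟩ := hwc
  obtain ⟨h, -, hh⟩ := (Sylow_isSylowIn_top T).exists_conj_le hR le_top
  have h1 : Q.map (MulAut.conj h).toMonoidHom = Q := hT h ((map_mono hQR).trans hh)
  have h2 : Q.map (MulAut.conj (h * g)).toMonoidHom = Q := by
    apply hT
    rw [← map_conj_map_conj]
    exact (map_mono hg).trans hh
  rw [← map_conj_map_conj] at h2
  have h3 := congrArg (Subgroup.map (MulAut.conj h⁻¹).toMonoidHom) h2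
  have h4 := congrArg (Subgroup.map (MulAut.conj h⁻¹).toMonoidHom) h1
  rw [map_conj_map_conj, inv_mul_cancel, map_conj_one] at h3 h4
  rw [h3, ← h4]

/-- conjugates of a weakly closed subgroup inside `K ≥ Q` are `K`-conjugate. -/
theorem wc_conj_in [Finite H] {p : ℕ} [Fact p.Prime] {Q : Subgroup H} (hQp : IsPGroup p Q)
    (hwc : Cfsg.IsWeaklyClosedSubgroup p Q) {K : Subgroup H} (hQK : Q ≤ K)
    {g : H} (hg : Q.map (MulAut.conj g).toMonoidHom ≤ K) :
    ∃ k ∈ K, Q.map (MulAut.conj g).toMonoidHom = Q.map (MulAut.conj k).toMonoidHom := by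
  obtain ⟨S, hQS, hS⟩ := exists_isSylowIn_ge hQp hQK
  obtain ⟨k, hk, hle⟩ := hS.exists_conj_le (isPGroup_map_conj hQp g) hg
  rw [map_conj_map_conj] at hle
  have h1 := wc_of_pgroup hwc hS.2.1 hQS hle
  refine ⟨k⁻¹, inv_mem hk, ?_⟩
  conv_rhs => rw [← h1]
  rw [map_conj_map_conj, ← mul_assoc, inv_mul_cancel, one_mul]

/-- Frattini argument for a weakly closed subgroup: `N = [N,Q] N_N(Q)` for `Q`-invariant `N`. -/
theorem wc_frattini [Finite H] {p : ℕ} [Fact p.Prime] {Q : Subgroup H} (hQp : IsPGroup p Q)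
    (hwc : Cfsg.IsWeaklyClosedSubgroup p Q) {N : Subgroup H} (hQN : Q ≤ normalizer (N : Set H))
    {n : H} (hn : n ∈ N) :
    ∃ a ∈ N ⊓ normalizer (Q : Set H), ∃ b ∈ ⁅N, Q⁆, n = a * b := by
  have hMN : ⁅N, Q⁆ ≤ N := Cfsg.Agent.H1.commutator_le_of_le_normalizer hQN
  have hQM : Q ≤ normalizer ((⁅N, Q⁆ : Subgroup H) : Set H) :=
    Cfsg.Agent.H1.le_normalizer_commutator hQN
  have h1 : Q.map (MulAut.conj n⁻¹).toMonoidHom ≤ ⁅N, Q⁆ ⊔ Q := by
    rw [map_conj_le_iff]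
    intro q hq
    have : n⁻¹ * q * n⁻¹⁻¹ = ⁅n⁻¹, q⁆ * q := by rw [commutatorElement_def]; group
    rw [this]
    exact mul_mem (mem_sup_left (commutator_mem_commutator (inv_mem hn) hq)) (mem_sup_right hq)
  obtain ⟨k, hk, hkeq⟩ := wc_conj_in hQp hwc le_sup_right h1
  have hk' : k ∈ ((⁅N, Q⁆ ⊔ Q : Subgroup H) : Set H) := hk
  rw [coe_mul_of_right_le_normalizer_left _ _ hQM] at hk'
  obtain ⟨m, hm, q, hq, rfl⟩ := hk'
  have hm : m ∈ ⁅N, Q⁆ := hm
  have hq : q ∈ Q := hq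
  have h2 : Q.map (MulAut.conj (m * q)).toMonoidHom = Q.map (MulAut.conj m).toMonoidHom := by
    rw [← map_conj_map_conj, map_conj_eq_self_iff.mpr (le_normalizer hq)]
  simp only [] at hkeq
  rw [h2] at hkeq
  have h3 := congrArg (Subgroup.map (MulAut.conj n).toMonoidHom) hkeq
  rw [map_conj_map_conj, map_conj_map_conj, mul_inv_cancel, map_conj_one] at h3
  have h4 : n * m ∈ normalizer (Q : Set H) := map_conj_eq_self_iff.mp h3.symm
  exact ⟨n * m, ⟨mul_mem hn (hMN hm), h4⟩, m⁻¹, inv_mem hm, by group⟩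

end Cfsg.Agent.H7
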