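import Cfsg.Agent.Lib_helper8_FusCH

set_option autoImplicit false

namespace Cfsg.Agent.H8
open Cfsg Cfsg.FusionSystem

universe u

variable {Ω : Type u} [Group Ω] {S : Subgroup Ω}

theorem inner_of_frattini [Finite S] {p : ℕ} [Fact p.Prime] (hS : IsPGroup p S)
    {F : FusionSystem S} (hF : F.IsSaturated p) {Q : Subgroup Ω} (hQ : F.IsNormal Q)
    (hab : ∀ a ∈ S, ∀ b ∈ S, a * b * a⁻¹ * b⁻¹ ∈ Q)
    (hfr : ∀ H : Subgroup Ω, H ≤ S → (∀ s ∈ S, ∃ q ∈ Q, ∃ h ∈ H, s = q * h) → S ≤ H)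
    (hA : ∀ f, IsMap F S f → ∃ s ∈ S, ∀ x ∈ S, f x = s * x * s⁻¹) :
    F = innerFusionSystem S := by
  have hsc := stronglyClosed_of_isNormal hQ
  apply eq_inner_of_isPGroup hS F hF
  intro P hP
  have : Finite P := finite_of_le hP
  apply isPGroup_of_no_p'
  intro ν ho
  have ho' : (orderOf (ν : MulAut P)).Coprime p := by rwa [Subgroup.orderOf_coe]
  apply Subtype.ext
  obtain ⟨g, hg, e1, e2⟩ := (isNormal_iff.1 hQ).2 P (autFun ν.1) ((mem_autGroup_iff hP).1 ν.2)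
  have hP₁ : P ⊔ Q ≤ S := hg.le
  have hfin₁ : Finite ↥(P ⊔ Q) := finite_of_le hP₁
  have hfinQ : Finite Q := finite_of_le hQ.1
  have himg : img (P ⊔ Q) g = P ⊔ Q := by
    rw [hg.img_sup le_sup_left le_sup_right, e2, img_congr e1, img_autFun]
  obtain ⟨ν₁, hν₁, e3⟩ := hg.exists_aut himg
  obtain ⟨k, hk, hk1⟩ := exists_pow_p'Part p ν₁ (orderOf_pos ν.1).ne' ho'
  have hν₂ : ν₁ ^ k ∈ F.autGroup (P ⊔ Q) := pow_mem hν₁ k
  have hm₂ := (mem_autGroup_iff hP₁).1 hν₂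
  have hinv : ∀ x ∈ Q, autFun (ν₁ ^ k) x ∈ Q := fun x hx =>
    (stronglyClosed_iff.1 hsc).2 Q _ le_rfl (hm₂.mono le_sup_right) x hx
  obtain ⟨ν', hν', e4, hdvd⟩ := exists_res_aut hP₁ le_sup_right hν₂ hinv
  obtain ⟨s, hs, H⟩ := aut_le_autS_of_frattini hS hF hQ hab hfr hA hν'
  have hν'S : ν' ∈ autInducedBy S Q := mem_autInducedBy_iff.2 ⟨s, hs, H⟩
  have hν'1 : ν' = 1 := by
    obtain ⟨j, hj⟩ := (isPGroup_autInducedBy hS Q) ⟨ν', hν'S⟩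
    have hj' : ν' ^ p ^ j = 1 := congrArg Subtype.val hj
    have h1 : orderOf ν' ∣ p ^ j := orderOf_dvd_of_pow_eq_one hj'
    have h2 : (orderOf ν').Coprime (p ^ j) :=
      Nat.Coprime.pow_right j (Nat.Coprime.coprime_dvd_left hdvd hk)
    exact orderOf_eq_one_iff.1 (Nat.Coprime.eq_one_of_dvd h2 h1)
  have hfix : ∀ x : ↥(P ⊔ Q), (ν₁ ^ k) x = x := by
    intro x
    apply aut_fix_of_comm_fix (hS.to_le hP₁) hk
    have hc := aut_trivial_mod hS hF hsc hab hA le_sup_right hP₁ hν₂ x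
    apply Subtype.ext
    have h5 := e4 ⟨_, hc⟩
    rw [hν'1] at h5
    have h6 : autFun (ν₁ ^ k) ((x : Ω)⁻¹ * ((ν₁ ^ k) x : ↥(P ⊔ Q)))
        = (((ν₁ ^ k) (x⁻¹ * (ν₁ ^ k) x) : ↥(P ⊔ Q)) : Ω) := autFun_coe (ν₁ ^ k) (x⁻¹ * (ν₁ ^ k) x)
    rw [← h6, ← h5]
    rfl
  have hpow : ∀ (j : ℕ) (x : P),
      (((ν₁ ^ j) (Subgroup.inclusion le_sup_left x) : ↥(P ⊔ Q)) : Ω) = ((ν.1 ^ j) x : P) := by
    intro j
    induction j with
    | zero => intro x; rfl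
    | succ j ih =>
      intro x
      rw [pow_succ, pow_succ, MulAut.mul_apply, MulAut.mul_apply, ← ih]
      congr 2
      apply Subtype.ext
      rw [e3]
      show g x = _
      rw [e1 x x.2, autFun_coe]
      rfl
  have hνk : ν.1 ^ k = ν.1 := by
    have := (pow_eq_pow_iff_modEq (x := ν.1) (n := k) (m := 1)).2 hk1
    rwa [pow_one] at this
  ext x
  have h7 := hpow k x
  rw [hfix, hνk] at h7
  exact h7.symm

end Cfsg.Agent.H8
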