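import Cfsg.Agent.Lib_helper8_FusDP

set_option autoImplicit false

namespace Cfsg.Agent.H8
open Cfsg Cfsg.FusionSystem

universe u

/-- positive characteristic functors -/
structure PFun (p : ℕ) (W : ∀ (Q : Type u) [Group Q], Subgroup Q) : Prop where
  ne : ∀ (Q : Type u) [Group Q] [Finite Q], IsPGroup p Q → Nontrivial Q → W Q ≠ ⊥
  iso : ∀ (Q R : Type u) [Group Q] [Group R] [Finite Q], IsPGroup p Q → ∀ φ : Q ≃* R,
    (W Q).map φ.toMonoidHom = W R

section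
variable {W : ∀ (Q : Type u) [Group Q], Subgroup Q} {Ω : Type u} [Group Ω]

theorem PFun.WW_ne_bot {p : ℕ} (h : PFun p W) {T : Subgroup Ω} [Finite T] (hT : IsPGroup p T)
    (hne : T ≠ ⊥) : WW W T ≠ ⊥ := by
  intro h0
  have hnt : Nontrivial T := (Subgroup.nontrivial_iff_ne_bot T).2 hne
  apply h.ne T hT hnt
  rw [eq_bot_iff]
  intro x hx
  have : (x : Ω) ∈ WW W T := (mem_WW x).2 hx
  rw [h0] at this
  exact Subgroup.mem_bot.2 (Subtype.ext (Subgroup.mem_bot.1 this))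

theorem PFun.mem_equiv {p : ℕ} (h : PFun p W) {Ω' : Type u} [Group Ω'] {T : Subgroup Ω}
    {T' : Subgroup Ω'} [Finite T] (hT : IsPGroup p T) (e : T ≃* T') (x : T) :
    (x : Ω) ∈ WW W T ↔ ((e x : T') : Ω') ∈ WW W T' := by
  rw [mem_WW, mem_WW, ← h.iso T T' hT e]
  constructor
  · intro hx
    exact ⟨x, hx, rfl⟩
  · rintro ⟨y, hy, e'⟩
    have : y = x := e.injective e'
    rwa [← this]

variable {S : Subgroup Ω}

theorem PFun.img_WW {p : ℕ} (h : PFun p W) [Finite S] (hS : IsPGroup p S) {F : FusionSystem S}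
    {D : Subgroup Ω} {g : Ω → Ω} (hg : IsMap F D g) : img (WW W D) g = WW W (img D g) := by
  have hfD : Finite D := finite_of_le hg.le
  have hpD : IsPGroup p D := hS.to_le hg.le
  obtain ⟨f, hf⟩ := hg.exists_equiv
  apply le_antisymm
  · refine img_le_iff.2 fun x hx => ?_
    have := (h.mem_equiv hpD f ⟨x, WW_le D hx⟩).1 hx
    rwa [hf] at this
  · intro y hy
    have hy' : y ∈ img D g := WW_le _ hy
    have h1 : ((f.symm ⟨y, hy'⟩ : D) : Ω) ∈ WW W D := by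
      rw [h.mem_equiv hpD f, MulEquiv.apply_symm_apply]; exact hy
    have h2 : g (f.symm ⟨y, hy'⟩ : D) = y := by
      rw [← hf, MulEquiv.apply_symm_apply]
    rw [← h2]
    exact mem_img_of_mem h1

theorem PFun.img_WW_eq {p : ℕ} (h : PFun p W) [Finite S] (hS : IsPGroup p S) {F : FusionSystem S}
    {D : Subgroup Ω} {g : Ω → Ω} (hg : IsMap F D g) (hi : img D g = D) :
    img (WW W D) g = WW W D := by
  rw [h.img_WW hS hg, hi]

theorem PFun.conj_mem {p : ℕ} (h : PFun p W) [Finite S] (hS : IsPGroup p S) {D : Subgroup Ω}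
    (hD : D ≤ S) {x : Ω} (hx : x ∈ S) (hn : ∀ d ∈ D, x * d * x⁻¹ ∈ D) :
    ∀ w ∈ WW W D, x * w * x⁻¹ ∈ WW W D := by
  have hfD : Finite D := finite_of_le hD
  have m := isMap_conj (innerFusionSystem S) hD hx
  have h1 := h.img_WW_eq hS m (m.img_eq_of_forall_mem hn)
  intro w hw
  rw [← h1]
  exact mem_img_of_mem (f := fun y => x * y * x⁻¹) hw

theorem PFun.preimage_WW {p : ℕ} (h : PFun p W) [Finite S] (hS : IsPGroup p S) {G : Type u}
    [Group G] {ι : S →* G} (hinj : Function.Injective ι) {PG : Subgroup G} (hPG : PG = ι.range) :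
    preimageAlong ι (WW W PG) = WW W S := by
  let e : ↥S ≃* ↥PG := (MonoidHom.ofInjective hinj).trans (MulEquiv.subgroupCongr hPG.symm)
  have he : ∀ x : ↥S, ((e x : ↥PG) : G) = ι x := fun x => rfl
  ext x
  rw [mem_preimageAlong]
  constructor
  · rintro ⟨hx, hx'⟩
    rw [extH_apply ι hx, ← he] at hx'
    exact (h.mem_equiv hS e ⟨x, hx⟩).2 hx'
  · intro hx
    have hxT := WW_le _ hx
    refine ⟨hxT, ?_⟩
    rw [extH_apply ι hxT, ← he]
    exact (h.mem_equiv hS e ⟨x, hxT⟩).1 hx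

/-- `z` is fixed by the maps of `N_F(X)` -/
def FixN (F : FusionSystem S) (X : Subgroup Ω) (z : Ω) : Prop :=
  ∀ (D : Subgroup Ω) (g : Ω → Ω), IsMap F D g → X ≤ D → z ∈ D → img X g = X → g z = z

/-- `z` is fixed by all maps -/
def FixAll (F : FusionSystem S) (z : Ω) : Prop :=
  ∀ (D : Subgroup Ω) (g : Ω → Ω), IsMap F D g → z ∈ D → g z = z

theorem IsMap.fix_zpowers {F : FusionSystem S} {P : Subgroup Ω} {f : Ω → Ω} (hf : IsMap F P f)
    {z : Ω} (hz : z ∈ P) (h : f z = z) : ∀ x ∈ Subgroup.zpowers z, f x = x := by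
  intro x hx
  have key : x ∈ P ∧ f x = x := by
    rw [Subgroup.zpowers_eq_closure] at hx
    induction hx using Subgroup.closure_induction with
    | mem a ha => rw [Set.mem_singleton_iff.1 ha]; exact ⟨hz, h⟩
    | one => exact ⟨P.one_mem, hf.one⟩
    | mul a b _ _ ha hb => exact ⟨P.mul_mem ha.1 hb.1, by rw [hf.mul ha.1 hb.1, ha.2, hb.2]⟩
    | inv a _ ha => exact ⟨P.inv_mem ha.1, by rw [hf.inv ha.1, ha.2]⟩
  exact key.2

theorem fixAll_of_alperin [Finite S] {p : ℕ} [Fact p.Prime] (hS : IsPGroup p S)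
    {F : FusionSystem S} (hF : F.IsSaturated p) {z : Ω} (hzS : z ∈ S)
    (hzc : ∀ s ∈ S, s * z * s⁻¹ = z)
    (H : ∀ P : Subgroup Ω, (P = S ∨ F.IsEssential p P) → z ∈ P →
      (∀ (Q : Subgroup Ω) (k : Ω → Ω), Nat.card P < Nat.card Q → IsMap F Q k → z ∈ Q → k z = z) →
      ∀ f, IsMap F P f → img P f = P → f z = z) : FixAll F z := by
  have hZS : Subgroup.zpowers z ≤ S := Subgroup.zpowers_le.2 hzS
  have hT : centralizerIn S (Subgroup.zpowers z) = S := by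
    refine le_antisymm (centralizerIn_le S _) fun s hs => mem_centralizerIn'.2 ⟨hs, ?_⟩
    exact (isMap_conj F le_rfl hs).fix_zpowers hzS (hzc s hs)
  obtain ⟨M, hM⟩ := exists_centralizerSystem F hZS
  obtain ⟨E, hE⟩ := cast_sys hT M
  have hE' : ∀ P f, IsMap E P f ↔ ∃ g, IsMap F (P ⊔ Subgroup.zpowers z) g ∧
      (∀ x ∈ P, g x = f x) ∧ ∀ x ∈ Subgroup.zpowers z, g x = x := by
    intro P f
    rw [hE, isMap_centralizerSystem hM]
    constructor
    · rintro ⟨-, -, -, h⟩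
      exact h
    · rintro ⟨g, hg, e, hi⟩
      have m : IsMap F P f := (hg.mono le_sup_left).congr e
      exact ⟨m, by rw [hT]; exact m.le, fun x hx => by rw [hT]; exact m.mem hx, g, hg, e, hi⟩
  have hfix : ∀ P f, IsMap E P f → z ∈ P → f z = z := by
    intro P f hf hz
    obtain ⟨g, -, e, hi⟩ := (hE' P f).1 hf
    rw [← e z hz, hi z (Subgroup.mem_zpowers z)]
  have hle : F ≤ E := by
    refine alperin_strong hS F hF E fun P hP hbig α hα => ?_
    have hPS : P ≤ S := by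
      rcases hP with rfl | hP
      · exact le_rfl
      · exact hP.1.1
    have hzP : z ∈ P := by
      rcases hP with rfl | hP
      · exact hzS
      · refine hP.1.2 P (isConj_refl F hPS) (mem_centralizerIn'.2 ⟨hzS, fun x hx => ?_⟩)
        have := hzc x (hPS hx)
        calc z * x * z⁻¹ = (x * z * x⁻¹) * x * z⁻¹ := by rw [this]
          _ = x := by group
    have hm := (mem_autGroup_iff hPS).1 hα
    have h1 := H P hP hzP (fun Q k hc hk hz => hfix Q k (hbig Q k hc hk) hz) _ hm (img_autFun α)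
    refine (mem_autGroup_iff hPS).2 ((hE' P _).2 ⟨autFun α, hm.mono (sup_le le_rfl
      (Subgroup.zpowers_le.2 hzP)), fun _ _ => rfl, hm.fix_zpowers hzP h1⟩)
  exact fun D g hg hz => hfix D g (le_iff_isMap.1 hle D g hg) hz

/-- automorphisms of `P` trivial on `Q` fix `z` -/
theorem fixSub_fix [Finite S] {p : ℕ} [hp : Fact p.Prime] (hS : IsPGroup p S)
    {F : FusionSystem S} (hF : F.IsSaturated p) {P Q : Subgroup Ω} (hP : F.IsFullyNormalized P)
    (hQP : Q ≤ P) (hsc : F.StronglyClosed Q) {z : P} (hzc : ∀ s ∈ S, s * z * s⁻¹ = z)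
    (hmodz : ∀ α ∈ F.autGroup P, (z : Ω)⁻¹ * (α z : P) ∈ Q) :
    ∀ κ ∈ fixSub F P Q, κ z = z := by
  have hPS := hP.1
  have hfP : Finite P := finite_of_le hPS
  obtain ⟨-, hfa, -⟩ := sat_props hS hF hP
  obtain ⟨-, hsyl⟩ := isFullyAutomized_iff.1 hfa
  have hKA : fixSub F P Q ≤ F.autGroup P := fun β hβ => hβ.1
  have hKn : F.autGroup P ≤ Subgroup.normalizer ((fixSub F P Q : Subgroup (MulAut P)) : Set _) := by
    intro γ hγ
    rw [Subgroup.mem_normalizer_iff]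
    intro α
    constructor
    · intro hα
      exact fixSub_conj hPS hQP hsc hγ hα
    · intro hα
      have h2 := fixSub_conj hPS hQP hsc (inv_mem hγ) hα
      have e : γ⁻¹ * (γ * α * γ⁻¹) * γ⁻¹⁻¹ = α := by group
      rwa [e] at h2
  have hsylK := SylIn.inf_normal (autInducedBy_le_autGroup F hPS) hsyl hKA hKn
  have hfK : Finite (fixSub F P Q) := inferInstance
  intro κ hκ
  obtain ⟨a, m, hm, ho⟩ := Nat.exists_eq_pow_mul_and_not_dvd (orderOf_pos κ).ne' p hp.out.ne_one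
  have hπ : (κ ^ m) ^ p ^ a = 1 := by
    rw [← pow_mul, mul_comm, ← ho, pow_orderOf_eq_one]
  obtain ⟨γ, hγK, hγ⟩ := sylow_conj hsylK (Subgroup.zpowers_le.2 (pow_mem hκ m))
    (isPGroup_zpowers hπ)
  obtain ⟨ha1, ha2⟩ := hγ _ (Subgroup.mem_zpowers (κ ^ m))
  obtain ⟨s, hs, es⟩ := mem_autInducedBy_iff.1 ha1
  -- `κ ^ m` fixes `z`
  have h1 : (γ * κ ^ m * γ⁻¹) (γ z) = γ z := by
    have hq := hmodz γ (hKA hγK)
    have e1 : γ z = z * (z⁻¹ * γ z) := by group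
    have e2 : (γ * κ ^ m * γ⁻¹) z = z := Subtype.ext (by rw [es]; exact hzc s hs)
    rw [e1, map_mul, e2, ha2.2 (z⁻¹ * γ z) hq]
  have h2 : (κ ^ m) z = z := by
    simp only [MulAut.mul_apply, MulAut.inv_apply_self] at h1
    exact γ.injective h1
  have hq := hmodz κ (hKA hκ)
  have key : ∀ (n : ℕ), (κ ^ n) z = z * (z⁻¹ * κ z) ^ n := by
    intro n
    induction n with
    | zero => simp
    | succ n ih =>
      rw [pow_succ', MulAut.mul_apply, ih, map_mul, map_pow, hκ.2 (z⁻¹ * κ z) hq, pow_succ',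
        ← mul_assoc, mul_inv_cancel_left]
  have h3 : (z⁻¹ * κ z) ^ m = 1 := by
    have := key m
    rw [h2] at this
    exact (mul_eq_left.1 this.symm)
  obtain ⟨k, hk⟩ := (hS.to_le hPS) (z⁻¹ * κ z)
  have hcop : Nat.Coprime m (p ^ k) :=
    Nat.Coprime.pow_right k ((Nat.Prime.coprime_iff_not_dvd hp.out).2 hm).symm
  have h4 : orderOf (z⁻¹ * κ z) ∣ 1 := by
    have := Nat.dvd_gcd (orderOf_dvd_of_pow_eq_one h3) (orderOf_dvd_of_pow_eq_one hk)
    rwa [hcop] at this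
  have h5 : z⁻¹ * κ z = 1 := orderOf_eq_one_iff.1 (Nat.dvd_one.1 h4)
  exact (inv_mul_eq_one.1 h5).symm

theorem cw_frattini [Finite S] {p : ℕ} [hp : Fact p.Prime] (hS : IsPGroup p S)
    {F : FusionSystem S} (hF : F.IsSaturated p) {P Q : Subgroup Ω} (hP : F.IsFullyNormalized P)
    (hQP : Q ≤ P) (hsc : F.StronglyClosed Q) {z : Ω} (hzP : z ∈ P)
    (hzc : ∀ s ∈ S, s * z * s⁻¹ = z)
    (hmodz : ∀ f, IsMap F P f → z⁻¹ * f z ∈ Q) {c : Ω} (hcS : c ∈ S)
    (hcN : c ∈ Subgroup.normalizer (P : Set Ω)) (hcQ : ∀ q ∈ Q, c * q * c⁻¹ = q) (hcP : c ∉ P)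
    (hbig : ∀ (D : Subgroup Ω) (k : Ω → Ω), Nat.card P < Nat.card D → IsMap F D k → z ∈ D →
      k z = z) {f : Ω → Ω} (hf : IsMap F P f) (hi : img P f = P) : f z = z := by
  have hPS := hP.1
  have hfP : Finite P := finite_of_le hPS
  obtain ⟨-, hfa, hrec⟩ := sat_props hS hF hP
  obtain ⟨-, hsyl⟩ := isFullyAutomized_iff.1 hfa
  have hKA : fixSub F P Q ≤ F.autGroup P := fun β hβ => hβ.1
  have hKn : F.autGroup P ≤ Subgroup.normalizer ((fixSub F P Q : Subgroup (MulAut P)) : Set _) := by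
    intro γ hγ
    rw [Subgroup.mem_normalizer_iff]
    intro α
    constructor
    · intro hα
      exact fixSub_conj hPS hQP hsc hγ hα
    · intro hα
      have h2 := fixSub_conj hPS hQP hsc (inv_mem hγ) hα
      have e : γ⁻¹ * (γ * α * γ⁻¹) * γ⁻¹⁻¹ = α := by group
      rwa [e] at h2
  have hsylK := SylIn.inf_normal (autInducedBy_le_autGroup F hPS) hsyl hKA hKn
  have hfK : Finite (fixSub F P Q) := inferInstance
  have hmodz' : ∀ α ∈ F.autGroup P, ((⟨z, hzP⟩ : P) : Ω)⁻¹ * (α ⟨z, hzP⟩ : P) ∈ Q := by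
    intro α hα
    have := hmodz _ ((mem_autGroup_iff hPS).1 hα)
    rwa [autFun_apply α hzP] at this
  have hKfix := fixSub_fix hS hF hP hQP hsc (z := ⟨z, hzP⟩) hzc hmodz'
  obtain ⟨α, hα, eα⟩ := hf.exists_aut hi
  have mc := isMap_conj F hPS hcS
  obtain ⟨γ, hγ, eγ⟩ := mc.exists_aut
    (mc.img_eq_of_forall_mem fun x hx => conj_mem_of_mem_normalizer hcN hx)
  have hγ1 : γ ∈ fixSub F P Q := ⟨hγ, fun x hx => Subtype.ext (by rw [eγ]; exact hcQ x hx)⟩
  have hγS : γ ∈ autInducedBy S P := mem_autInducedBy_iff.2 ⟨c, hcS, eγ⟩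
  obtain ⟨k, hk⟩ := (isPGroup_autInducedBy hS P) ⟨γ, hγS⟩
  have hk' : γ ^ p ^ k = 1 := congrArg Subtype.val hk
  have hk'' : (α * γ * α⁻¹) ^ p ^ k = 1 := by
    rw [conj_pow, hk']; group
  obtain ⟨κ, hκK, hκ⟩ := sylow_conj hsylK
    (Subgroup.zpowers_le.2 (fixSub_conj hPS hQP hsc hα hγ1)) (isPGroup_zpowers hk'')
  obtain ⟨ha1, -⟩ := hκ _ (Subgroup.mem_zpowers (α * γ * α⁻¹))
  obtain ⟨s, hs, es⟩ := mem_autInducedBy_iff.1 ha1
  -- `ν = κ α`
  have hν : κ * α ∈ F.autGroup P := mul_mem (hKA hκK) hα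
  have mν := (mem_autGroup_iff hPS).1 hν
  have hcNN : c ∈ NN S P (autFun (κ * α)) := by
    refine mem_NN_iff.2 ⟨hcS, hcN, s, hs, fun x hx => ?_⟩
    have h1 := es ((κ * α) ⟨x, hx⟩)
    simp only [MulAut.mul_apply, MulAut.inv_apply_self] at h1
    have hx' : c * x * c⁻¹ ∈ P := conj_mem_of_mem_normalizer hcN hx
    rw [autFun_apply _ hx', autFun_apply _ hx]
    have e1 : (⟨c * x * c⁻¹, hx'⟩ : P) = γ ⟨x, hx⟩ := Subtype.ext (eγ ⟨x, hx⟩).symm
    rw [e1]
    exact h1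
  obtain ⟨ν', hν', eν⟩ := (isReceptive_iff.1 hrec).2 P _ mν (img_autFun _)
  have hlt : P < NN S P (autFun (κ * α)) := lt_of_le_of_ne mν.le_NN (fun h => hcP (h ▸ hcNN))
  have h2 := hbig _ ν' (card_lt_of_lt hν'.le hlt) hν' (mν.le_NN hzP)
  rw [eν z hzP, autFun_apply _ hzP, MulAut.mul_apply] at h2
  have h3 : κ (α ⟨z, hzP⟩) = ⟨z, hzP⟩ := Subtype.ext h2
  have h4 : α ⟨z, hzP⟩ = ⟨z, hzP⟩ := by
    have := hKfix κ hκK
    exact κ.injective (h3.trans this.symm)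
  rw [← eα ⟨z, hzP⟩, h4]

end

end Cfsg.Agent.H8
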