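import Cfsg.Agent.Lib_helper8_FusDR

set_option autoImplicit false

namespace Cfsg.Agent.H8
open Cfsg Cfsg.FusionSystem

universe u

section
variable {W : ∀ (Q : Type u) [Group Q], Subgroup Q} {Ω : Type u} [Group Ω] {S : Subgroup Ω}

theorem cwB {p : ℕ} [Fact p.Prime] (h : PFun p W) (hC : CenC p W) {n : ℕ}
    (IH : ∀ m < n, CWn.{u} p W m)
    [Finite S] (hn : Nat.card S = n) (hS : IsPGroup p S) {F : FusionSystem S}
    (hF : F.IsSaturated p) {z : Ω} (hzS : z ∈ S) (hzc : ∀ s ∈ S, s * z * s⁻¹ = z)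
    (hfix : FixN F (WW W S) z) (n₀ : ℕ)
    (hbig : ∀ (Q : Subgroup Ω) (k : Ω → Ω), n₀ < Nat.card Q → IsMap F Q k → z ∈ Q → k z = z) :
    ∀ (m : ℕ) (U D : Subgroup Ω) (g : Ω → Ω), U ≠ ⊥ → U ≤ D → D ≤ normalizerIn S U →
      n₀ < Nat.card (normalizerIn S U) →
      Nat.card S - Nat.card (normalizerIn S U) = m → IsMap F D g → z ∈ D → img U g = U →
      g z = z := by
  have hzcomm : ∀ x ∈ S, z * x * z⁻¹ = x := fun x hx => by
    have := hzc x hx
    calc z * x * z⁻¹ = (x * z * x⁻¹) * x * z⁻¹ := by rw [this]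
      _ = x := by group
  intro m
  induction m using Nat.strong_induction_on with
  | _ m IHm =>
    intro U D g hUne hUD hDN hlt hm hg hzD hiU
    have hUS : U ≤ S := hUD.trans hg.le
    have hfU : Finite U := finite_of_le hUS
    obtain ⟨U', hUU', hU'fn⟩ := exists_fullyNormalized_conj F hUS
    obtain ⟨-, hfa, hrec⟩ := sat_props hS hF hU'fn
    obtain ⟨χ, hχ, hχi, hχN⟩ := exists_normalizer_map hS hfa hrec hUU'
    have hzN : z ∈ normalizerIn S U := hDN hzD
    have hχz : χ z = z := hbig _ χ hlt hχ hzN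
    have hTS : normalizerIn S U' ≤ S := inf_le_left
    have hfinT : Finite (normalizerIn S U') := finite_of_le hTS
    have hpT : IsPGroup p (normalizerIn S U') := hS.to_le hTS
    have hc2 : Nat.card (normalizerIn S U) ≤ Nat.card (normalizerIn S U') := by
      rw [← hχ.card_img]
      exact card_le_of_le (normalizerIn_le S U') (img_le_iff.2 hχN)
    have hUN : U ≤ normalizerIn S U := le_normalizerIn hUS
    have hU'ne : U' ≠ ⊥ := by
      intro h0
      apply hUne
      rw [eq_bot_iff]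
      intro v hv
      have h1 : χ v ∈ img U χ := mem_img_of_mem hv
      rw [hχi, h0] at h1
      exact Subgroup.mem_bot.2 (hχ.eq_one (hUN hv) (Subgroup.mem_bot.1 h1))
    have hfU' : Finite U' := finite_of_le hU'fn.1
    obtain ⟨N', hN'⟩ := exists_normalizerSystem F hU'fn.1
    have hN'sat := normalizerSystem_saturated hS hF hU'fn hN'
    have hU'n := isNormal_normalizerSystem hU'fn.1 hN'
    have hgN : ∀ x ∈ D, g x ∈ normalizerIn S U := by
      intro x hx
      refine ⟨hg.mem hx, mem_normalizer_of_forall fun u hu => ?_⟩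
      rw [← hiU] at hu
      obtain ⟨u₀, hu₀, rfl⟩ := (hg.mono hUD).mem_img.1 hu
      rw [← hg.conj hx (hUD hu₀), ← hiU]
      exact mem_img_of_mem (conj_mem_of_mem_normalizerIn (hDN hx) hu₀)
    have hχD : IsMap F D χ := hχ.mono hDN
    obtain ⟨ψ, hψ, hψ1, hψ2⟩ := hχD.exists_inv
    have hψmem : ∀ y ∈ img D χ, ψ y ∈ D := img_le_iff.1 hψ2.le
    have m1 : IsMap F (img D χ) (χ ∘ (g ∘ ψ)) :=
      (hψ.comp hg hψmem).comp hχ (fun y hy => hgN _ (hψmem y hy))
    have hval : ∀ x ∈ D, (χ ∘ (g ∘ ψ)) (χ x) = χ (g x) := by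
      intro x hx
      show χ (g (ψ (χ x))) = _
      rw [hψ1 x hx]
    have hU'D' : U' ≤ img D χ := by rw [← hχi]; exact img_mono hUD
    have hiU' : img U' (χ ∘ (g ∘ ψ)) = U' := by
      apply (m1.mono hU'D').img_eq_of_forall_mem
      intro y hy
      rw [← hχi] at hy
      obtain ⟨v, hv, rfl⟩ := (hχ.mono hUN).mem_img.1 hy
      rw [hval v (hUD hv), ← hχi]
      apply mem_img_of_mem
      rw [← hiU]; exact mem_img_of_mem hv
    have hD'T : img D χ ≤ normalizerIn S U' := img_le_iff.2 fun x hx => hχN x (hDN hx)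
    have mN' : IsMap N' (img D χ) (χ ∘ (g ∘ ψ)) := (isMap_normalizerSystem hN').2
      ⟨m1, hD'T, fun y hy => hχN _ (hgN _ (hψmem y hy)), _,
        m1.mono (sup_le le_rfl hU'D'), fun _ _ => rfl, hiU'⟩
    have hzT' : z ∈ normalizerIn S U' := ⟨hzS, mem_normalizer_of_forall fun u hu => by
      rw [hzcomm u (hU'fn.1 hu)]; exact hu⟩
    suffices hall : FixAll N' z by
      have hzD' : z ∈ img D χ := by
        have : χ z ∈ img D χ := mem_img_of_mem hzD
        rwa [hχz] at this
      have h1 := hall _ _ mN' hzD'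
      have h2 := hval z hzD
      rw [hχz, h1] at h2
      exact hχ.inj (hgN z hzD) hzN (h2.symm.trans hχz.symm)
    by_cases hTc : Nat.card (normalizerIn S U') = Nat.card S
    · have hTeq : normalizerIn S U' = S := eq_of_le_of_card_le le_rfl hTS hTc.ge
      have hWeq : WW W (normalizerIn S U') = WW W S := by rw [hTeq]
      have hfixN : FixN N' (WW W (normalizerIn S U')) z := by
        rw [hWeq]
        intro D₁ g₁ hg₁ hX hz₁ hi₁
        exact hfix D₁ g₁ ((isMap_normalizerSystem hN').1 hg₁).1 hX hz₁ hi₁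
      exact cwA h hC IH _ Ω (normalizerIn S U') N' U' z (hTc.trans hn) hpT hN'sat hU'n
        hU'ne rfl hzT' hfixN
    have hTle : Nat.card (normalizerIn S U') ≤ Nat.card S := card_le_of_le le_rfl hTS
    have hlt' : Nat.card (normalizerIn S U') < n := by omega
    have hTltS : normalizerIn S U' < S := lt_of_le_of_ne hTS fun h => hTc (by rw [h])
    have hTne : normalizerIn S U' ≠ ⊥ := fun h0 => hU'ne (eq_bot_iff.2 (h0 ▸ hU'n.1))
    have hU₂ne := h.WW_ne_bot hpT hTne
    have hU₂S : WW W (normalizerIn S U') ≤ S := (WW_le _).trans hTS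
    have hfU₂ : Finite (WW W (normalizerIn S U')) := finite_of_le hU₂S
    have hnorm : ∀ x ∈ S, x ∈ Subgroup.normalizer ((normalizerIn S U' : Subgroup Ω) : Set Ω) →
        x ∈ normalizerIn S (WW W (normalizerIn S U')) := by
      intro x hx hxT
      exact ⟨hx, mem_normalizer_of_forall (h.conj_mem hS hTS hx fun d hd =>
        conj_mem_of_mem_normalizer hxT hd)⟩
    have hTV : normalizerIn S U' ≤ normalizerIn S (WW W (normalizerIn S U')) :=
      fun t ht => hnorm t (hTS ht) (Subgroup.le_normalizer ht)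
    obtain ⟨x₀, hx₀S, hx₀nT, hx₀N⟩ := exists_normalizer_of_lt hS hTltS
    have hTltV : normalizerIn S U' < normalizerIn S (WW W (normalizerIn S U')) :=
      lt_of_le_of_ne hTV fun h => hx₀nT (h ▸ hnorm x₀ hx₀S hx₀N)
    have hc1 := card_lt_of_lt (normalizerIn_le S _) hTltV
    have hc3 : Nat.card (normalizerIn S (WW W (normalizerIn S U'))) ≤ Nat.card S :=
      card_le_of_le le_rfl (normalizerIn_le S _)
    refine IH _ hlt' Ω (normalizerIn S U') N' z rfl hpT hN'sat hzT' ?_
    intro D₁ g₁ hg₁ hX hz₁ hi₁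
    exact IHm (Nat.card S - Nat.card (normalizerIn S (WW W (normalizerIn S U')))) (by omega)
      (WW W (normalizerIn S U')) D₁ g₁ hU₂ne hX (hg₁.le.trans hTV) (by omega) rfl
      ((isMap_normalizerSystem hN').1 hg₁).1 hz₁ hi₁

end

theorem cw_main {p : ℕ} [Fact p.Prime] {W : ∀ (Q : Type u) [Group Q], Subgroup Q} (h : PFun p W)
    (hC : CenC p W) : ∀ n, CWn.{u} p W n := by
  intro n
  induction n using Nat.strong_induction_on with
  | _ n IH =>
    intro Ω _ S _ F z hn hS hF hzS hfix
    have hXS : WW W S ≤ S := WW_le S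
    have hzc : ∀ s ∈ S, s * z * s⁻¹ = z := fun s hs => by
      have m := isMap_conj F (le_refl S) hs
      exact hfix S _ m hXS hzS (h.img_WW_eq hS m (m.img_eq_of_forall_mem fun d hd =>
        S.mul_mem (S.mul_mem hs hd) (S.inv_mem hs)))
    refine fixAll_of_alperin hS hF hzS hzc fun P hP hzP hbig f hf hi => ?_
    by_cases hPS : P = S
    · rw [hPS] at hf hi
      exact hfix S f hf hXS hzS (h.img_WW_eq hS hf hi)
    by_cases hPne : P = ⊥
    · rw [hPne] at hzP
      rw [Subgroup.mem_bot.1 hzP, hf.one]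
    have hPltS : P < S := lt_of_le_of_ne hf.le hPS
    obtain ⟨x₀, hx₀S, hx₀nP, hx₀N⟩ := exists_normalizer_of_lt hS hPltS
    have hlt : P < normalizerIn S P :=
      lt_of_le_of_ne (le_normalizerIn hf.le) fun h => hx₀nP (h ▸ ⟨hx₀S, hx₀N⟩)
    exact cwB h hC IH hn hS hF hzS hzc hfix (Nat.card P) hbig _ P P f hPne le_rfl
      (le_normalizerIn hf.le) (card_lt_of_lt (normalizerIn_le S P) hlt) rfl hf hzP hi

theorem cw_center {p : ℕ} [Fact p.Prime] {W : ∀ (Q : Type u) [Group Q], Subgroup Q}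
    (h : PFun p W) (hC : CenC p W) {Ω : Type u} [Group Ω] {S : Subgroup Ω} [Finite S]
    (hS : IsPGroup p S) (F : FusionSystem S) (hF : F.IsSaturated p)
    (N : FusionSystem (normalizerIn S (WW W S))) (hN : F.IsNormalizerSystem (WW W S) N) :
    N.center = F.center := by
  have hXS : WW W S ≤ S := WW_le S
  have hnX : ∀ s ∈ S, ∀ x ∈ WW W S, s * x * s⁻¹ ∈ WW W S := fun s hs =>
    h.conj_mem hS le_rfl hs (fun d hd => S.mul_mem (S.mul_mem hs hd) (S.inv_mem hs))
  have hT := normalizerIn_eq_of_forall hXS hnX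
  have hfinT : Finite ↥(normalizerIn S (WW W S)) := finite_of_le inf_le_left
  have hpT : IsPGroup p ↥(normalizerIn S (WW W S)) := hS.to_le inf_le_left
  have hNsat := normalizerSystem_saturated hS hF (fullyNormalized_of_forall F hXS hnX) hN
  apply le_antisymm
  · have hle : N.center ≤ S := (isCentral_center N).1.trans inf_le_left
    have hcen : F.IsCentral N.center := by
      refine (isCentral_iff_conjElt hS F hF _).2 ⟨hle, fun x hx y hxy => ?_⟩
      obtain ⟨f, hf, rfl⟩ := isConjElt_iff.1 hxy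
      have hfixx : FixN F (WW W S) x := by
        intro D g hg hXD hxD hi
        have mN : IsMap N D g := (isMap_normalizerSystem hN).2 ⟨hg, by rw [hT]; exact hg.le,
          fun y hy => by rw [hT]; exact hg.mem hy, g, hg.mono (sup_le le_rfl hXD),
          fun _ _ => rfl, hi⟩
        exact fix_of_mem_center mN hxD hx
      exact cw_main h hC _ Ω S F x rfl hS hF (hle hx) hfixx _ f hf (Subgroup.mem_zpowers x)
    exact le_sSup hcen
  · have hle : F.center ≤ normalizerIn S (WW W S) := by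
      rw [hT]; exact (isCentral_center F).1
    have hcen : N.IsCentral F.center := by
      refine (isCentral_iff_conjElt hpT N hNsat _).2 ⟨hle, fun x hx y hxy => ?_⟩
      obtain ⟨f, hf, rfl⟩ := isConjElt_iff.1 hxy
      exact fix_of_mem_center ((isMap_normalizerSystem hN).1 hf).1 (Subgroup.mem_zpowers x) hx
    exact le_sSup hcen

end Cfsg.Agent.H8
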