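import Cfsg.Agent.Lib_helper8_FusDS
import Cfsg.Agent.Lib_helper1_PMin

set_option autoImplicit false

namespace Cfsg.Agent.H8
open Cfsg Cfsg.FusionSystem
open scoped commutatorElement

universe u

/-- the quadratic condition -/
def QuadC (p : ℕ) (W : ∀ (Q : Type u) [Group Q], Subgroup Q) : Prop :=
  ∀ (G : Type u) [Group G] [Finite G] (P : Sylow p G),
    ¬ (((W ↥(P : Subgroup G)).map (P : Subgroup G).subtype : Subgroup G)).Normal →
    ∃ g : G, g ∈ (P : Subgroup G) ∧ g ∉ Cfsg.pCore p G ∧
      ⁅⁅Subgroup.center ↥(Cfsg.pCore p G) |>.map (Cfsg.pCore p G).subtype, Subgroup.zpowers g⁆,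
        Subgroup.zpowers g⁆ = ⊥

/-- the local condition with exponent `e` -/
def CenE (p : ℕ) (W : ∀ (Q : Type u) [Group Q], Subgroup Q) (e : ℕ) : Prop :=
  ∀ (G : Type u) [Group G] [Finite G] (P : Sylow p G) (y : G), y ∈ pCore p G →
    (∀ x ∈ (P : Subgroup G), x * y * x⁻¹ = y) →
    (∀ x ∈ Subgroup.normalizer ((WW W (P : Subgroup G) : Subgroup G) : Set G),
      x * y ^ e * x⁻¹ = y ^ e) → ∀ x : G, x * y ^ e * x⁻¹ = y ^ e

theorem PFun.mem_WW_subtype {p : ℕ} [Fact p.Prime] {W : ∀ (Q : Type u) [Group Q], Subgroup Q}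
    (h : PFun p W) {G : Type u} [Group G] [Finite G] (P : Sylow p G) {H : Subgroup G}
    (hPH : (P : Subgroup G) ≤ H) (w : H) :
    w ∈ WW W ((P.subtype hPH : Sylow p H) : Subgroup H) ↔ (w : G) ∈ WW W (P : Subgroup G) := by
  let e : ↥((P.subtype hPH : Sylow p H) : Subgroup H) ≃* ↥(P : Subgroup G) :=
    Subgroup.subgroupOfEquivOfLe hPH
  have he : ∀ x, ((e x : (P : Subgroup G)) : G) = ((x : H) : G) := fun x => rfl
  constructor
  · intro hw
    have hwP := WW_le _ hw
    have := (h.mem_equiv (P.subtype hPH).isPGroup' e ⟨w, hwP⟩).1 hw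
    rwa [he] at this
  · intro hw
    have hwP : w ∈ ((P.subtype hPH : Sylow p H) : Subgroup H) :=
      Subgroup.mem_subgroupOf.2 (WW_le _ hw)
    refine (h.mem_equiv (P.subtype hPH).isPGroup' e ⟨w, hwP⟩).2 ?_
    rw [he]; exact hw

theorem cenE_of_quad {p : ℕ} [hp : Fact p.Prime] {W : ∀ (Q : Type u) [Group Q], Subgroup Q}
    (h : PFun p W) (hq : QuadC p W) : CenE p W p := by
  suffices H : ∀ (n : ℕ) (G : Type u) [Group G] [Finite G] (P : Sylow p G) (y : G),
      Nat.card G = n → y ∈ pCore p G →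
      (∀ x ∈ (P : Subgroup G), x * y * x⁻¹ = y) →
      (∀ x ∈ Subgroup.normalizer ((WW W (P : Subgroup G) : Subgroup G) : Set G),
        x * y ^ p * x⁻¹ = y ^ p) → ∀ x : G, x * y ^ p * x⁻¹ = y ^ p from
    fun G _ _ P y => H _ G P y rfl
  intro n
  induction n using Nat.strong_induction_on with
  | _ n IH =>
    intro G _ _ P y hn hyO hyP hyN
    have hOn := pCore_normal' p G
    have hOP : pCore p G ≤ (P : Subgroup G) := (pCore_isPGroup' p G).le_sylow_of_normal P
    have hprop : ∀ H : Subgroup G, (P : Subgroup G) ≤ H → H ≠ ⊤ →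
        ∀ x ∈ H, x * y ^ p * x⁻¹ = y ^ p := by
      intro H hPH hH x hx
      have hcard : Nat.card H < n := by
        rw [← hn]
        by_contra hc
        exact hH (Subgroup.eq_top_of_le_card H (not_lt.1 hc))
      have key := IH _ hcard H (P.subtype hPH) ⟨y, hPH (hOP hyO)⟩ rfl ?_ ?_ ?_ ⟨x, hx⟩
      · exact congrArg Subtype.val key
      · have hle : (pCore p G).subgroupOf H ≤ pCore p H :=
          le_sSup ⟨hOn.subgroupOf H,
            (pCore_isPGroup' p G).comap_of_injective H.subtype H.subtype_injective⟩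
        exact hle hyO
      · intro x hx
        exact Subtype.ext (hyP x hx)
      · intro x hx
        refine Subtype.ext (hyN x (mem_normalizer_of_forall fun w hw => ?_))
        have hwH : w ∈ H := hPH (WW_le _ hw)
        have h1 := (h.mem_WW_subtype P hPH ⟨w, hwH⟩).2 hw
        exact (h.mem_WW_subtype P hPH _).1 (conj_mem_of_mem_normalizer hx h1)
    by_contra hcon
    push Not at hcon
    obtain ⟨x₀, hx₀⟩ := hcon
    have hWn : ¬ (WW W (P : Subgroup G)).Normal := by
      intro hnor
      apply hx₀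
      apply hyN
      rw [Subgroup.normalizer_eq_top_iff.2 hnor]
      exact Subgroup.mem_top _
    obtain ⟨g₀, hg₀P, hg₀O, hg₀q⟩ := hq G P hWn
    set V := (Subgroup.center ↥(Cfsg.pCore p G)).map (Cfsg.pCore p G).subtype with hVdef
    have hV : ∀ w, w ∈ V ↔ w ∈ pCore p G ∧ ∀ o ∈ pCore p G, o * w = w * o := by
      intro w
      constructor
      · rintro ⟨c, hc, rfl⟩
        exact ⟨c.2, fun o ho => congrArg Subtype.val (Subgroup.mem_center_iff.1 hc ⟨o, ho⟩)⟩
      · rintro ⟨hw, hc⟩
        exact ⟨⟨w, hw⟩, Subgroup.mem_center_iff.2 fun o => Subtype.ext (hc o o.2), rfl⟩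
    have hVconj : ∀ (t : G), ∀ w ∈ V, t * w * t⁻¹ ∈ V := by
      intro t w hw
      obtain ⟨h1, h2⟩ := (hV w).1 hw
      refine (hV _).2 ⟨hOn.conj_mem w h1 t, fun o ho => ?_⟩
      have h3 := h2 (t⁻¹ * o * t⁻¹⁻¹) (hOn.conj_mem o ho t⁻¹)
      calc o * (t * w * t⁻¹) = t * ((t⁻¹ * o * t⁻¹⁻¹) * w) * t⁻¹ := by group
        _ = t * (w * (t⁻¹ * o * t⁻¹⁻¹)) * t⁻¹ := by rw [h3]
        _ = t * w * t⁻¹ * o := by group
    have hyV : y ∈ V := (hV y).2 ⟨hyO, fun o ho => by
      have := hyP o (hOP ho)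
      calc o * y = (o * y * o⁻¹) * o := by group
        _ = y * o := by rw [this]⟩
    let 𝒬 : G → Prop := fun g => g ∈ (P : Subgroup G) ∧ g ∉ pCore p G ∧
      ∀ w ∈ V, g * (w⁻¹ * (g * w * g⁻¹)) * g⁻¹ = w⁻¹ * (g * w * g⁻¹)
    have h𝒬₀ : 𝒬 g₀ := by
      refine ⟨hg₀P, hg₀O, fun w hw => ?_⟩
      have h1 : ⁅w⁻¹, g₀⁆ ∈ ⁅V, Subgroup.zpowers g₀⁆ :=
        Subgroup.commutator_mem_commutator (inv_mem hw) (Subgroup.mem_zpowers g₀)
      have h2 : ⁅⁅w⁻¹, g₀⁆, g₀⁆ ∈ ⁅⁅V, Subgroup.zpowers g₀⁆, Subgroup.zpowers g₀⁆ :=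
        Subgroup.commutator_mem_commutator h1 (Subgroup.mem_zpowers g₀)
      rw [hg₀q, Subgroup.mem_bot, commutatorElement_eq_one_iff_mul_comm] at h2
      have e : ⁅w⁻¹, g₀⁆ = w⁻¹ * (g₀ * w * g₀⁻¹) := by
        rw [commutatorElement_def]; group
      rw [e] at h2
      rw [← h2]; group
    have step : ∀ g, 𝒬 g → 𝒬 (g ^ p) := by
      rintro g ⟨hgP, hgO, hgq⟩
      have hpow : ∀ w ∈ V, ∀ k : ℕ,
          g ^ k * w * (g ^ k)⁻¹ = w * (w⁻¹ * (g * w * g⁻¹)) ^ k := by
        intro w hw k
        induction k with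
        | zero => simp
        | succ k ih =>
          have hn' := hgq w hw
          calc g ^ (k + 1) * w * (g ^ (k + 1))⁻¹ = g * (g ^ k * w * (g ^ k)⁻¹) * g⁻¹ := by
                rw [pow_succ']; group
            _ = g * (w * (w⁻¹ * (g * w * g⁻¹)) ^ k) * g⁻¹ := by rw [ih]
            _ = (g * w * g⁻¹) * (g * (w⁻¹ * (g * w * g⁻¹)) * g⁻¹) ^ k := by
                rw [conj_pow]; group
            _ = (g * w * g⁻¹) * (w⁻¹ * (g * w * g⁻¹)) ^ k := by rw [hn']
            _ = w * (w⁻¹ * (g * w * g⁻¹)) ^ (k + 1) := by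
                rw [pow_succ', ← mul_assoc w, mul_inv_cancel_left]
      have hex : ∃ t : G, g * (t * y ^ p * t⁻¹) * g⁻¹ ≠ t * y ^ p * t⁻¹ := by
        by_contra hall
        push Not at hall
        have hCn : (Subgroup.centralizer
            ((Subgroup.normalClosure ({y ^ p} : Set G) : Subgroup G) : Set G)).Normal :=
          inferInstance
        have hgC : g ∈ Subgroup.centralizer
            ((Subgroup.normalClosure ({y ^ p} : Set G) : Subgroup G) : Set G) := by
          have hle : Subgroup.normalClosure ({y ^ p} : Set G) ≤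
              Subgroup.centralizer ({g} : Set G) := by
            rw [Subgroup.normalClosure, Subgroup.closure_le]
            intro c hc
            obtain ⟨a, ha, hac⟩ := Group.mem_conjugatesOfSet_iff.1 hc
            rw [Set.mem_singleton_iff.1 ha] at hac
            obtain ⟨t, rfl⟩ := _root_.isConj_iff.1 hac
            refine Subgroup.mem_centralizer_iff.2 fun x hx => ?_
            rw [Set.mem_singleton_iff.1 hx]
            have := hall t
            calc g * (t * y ^ p * t⁻¹) = (g * (t * y ^ p * t⁻¹) * g⁻¹) * g := by group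
              _ = t * y ^ p * t⁻¹ * g := by rw [this]
          refine Subgroup.mem_centralizer_iff.2 fun x hx => ?_
          exact (Subgroup.mem_centralizer_iff.1 (hle hx) g rfl).symm
        have hfr := H1.frattini_sylow_inf P hCn
        set C := Subgroup.centralizer
            ((Subgroup.normalClosure ({y ^ p} : Set G) : Subgroup G) : Set G) with hC
        by_cases hNt : Subgroup.normalizer (((P : Subgroup G) ⊓ C : Subgroup G) : Set G) = ⊤
        · have hle : (P : Subgroup G) ⊓ C ≤ pCore p G :=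
            le_sSup ⟨Subgroup.normalizer_eq_top_iff.1 hNt, P.isPGroup'.to_le inf_le_left⟩
          exact hgO (hle ⟨hgP, hgC⟩)
        · have hPN : (P : Subgroup G) ≤
              Subgroup.normalizer (((P : Subgroup G) ⊓ C : Subgroup G) : Set G) := fun x hx =>
            mem_normalizer_of_forall fun w hw =>
              ⟨(P : Subgroup G).mul_mem ((P : Subgroup G).mul_mem hx hw.1)
                ((P : Subgroup G).inv_mem hx), hCn.conj_mem w hw.2 x⟩
          have h1 := hprop _ hPN hNt
          have hle : (⊤ : Subgroup G) ≤ Subgroup.centralizer ({y ^ p} : Set G) := by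
            rw [← hfr]
            refine sup_le (fun c hc => ?_) (fun c hc => ?_)
            · refine Subgroup.mem_centralizer_iff.2 fun x hx => ?_
              rw [Set.mem_singleton_iff.1 hx]
              exact Subgroup.mem_centralizer_iff.1 hc _
                (Subgroup.subset_normalClosure (Set.mem_singleton _))
            · refine Subgroup.mem_centralizer_iff.2 fun x hx => ?_
              rw [Set.mem_singleton_iff.1 hx]
              have := h1 c hc
              calc y ^ p * c = (c * y ^ p * c⁻¹) * c := by rw [this]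
                _ = c * y ^ p := by group
          have h2 := Subgroup.mem_centralizer_iff.1 (hle (Subgroup.mem_top x₀)) _ rfl
          apply hx₀
          rw [← h2]; group
      obtain ⟨t, ht⟩ := hex
      have hy'V : t * y * t⁻¹ ∈ V := hVconj t y hyV
      have hz' : t * y ^ p * t⁻¹ = (t * y * t⁻¹) ^ p := (conj_pow).symm
      set y' := t * y * t⁻¹ with hy'
      set n' := y'⁻¹ * (g * y' * g⁻¹) with hn'
      have hn'O : n' ∈ pCore p G :=
        mul_mem (inv_mem ((hV y').1 hy'V).1) (hOn.conj_mem _ ((hV y').1 hy'V).1 g)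
      have hcomm : Commute y' n' := (((hV y').1 hy'V).2 n' hn'O).symm
      have h1 := hpow y' hy'V p
      have h2 : g * y' ^ p * g⁻¹ = y' ^ p * n' ^ p := by
        rw [← conj_pow, ← hcomm.mul_pow]
        congr 1
        rw [hn']; group
      have hn'p : n' ^ p ≠ 1 := by
        intro h0
        apply ht
        rw [hz', h2, h0, mul_one]
      refine ⟨pow_mem hgP p, fun hgpO => ?_, fun w hw => ?_⟩
      · apply hn'p
        have h3 := ((hV y').1 hy'V).2 _ hgpO
        rw [h3, mul_inv_cancel_right] at h1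
        exact (mul_eq_left.1 h1.symm)
      · have h3 := hpow w hw p
        have h4 : w⁻¹ * (g ^ p * w * (g ^ p)⁻¹) = (w⁻¹ * (g * w * g⁻¹)) ^ p := by
          rw [h3, inv_mul_cancel_left]
        rw [h4]
        have h5 : Commute g (w⁻¹ * (g * w * g⁻¹)) := by
          have := hgq w hw
          show g * _ = _ * g
          calc g * (w⁻¹ * (g * w * g⁻¹)) = (g * (w⁻¹ * (g * w * g⁻¹)) * g⁻¹) * g := by group
            _ = (w⁻¹ * (g * w * g⁻¹)) * g := by rw [this]
        have h6 : Commute (g ^ p) ((w⁻¹ * (g * w * g⁻¹)) ^ p) := h5.pow_pow p p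
        rw [h6.eq, mul_inv_cancel_right]
    have hall : ∀ k : ℕ, 𝒬 (g₀ ^ p ^ k) := by
      intro k
      induction k with
      | zero => simpa using h𝒬₀
      | succ k ih =>
        have := step _ ih
        rwa [← pow_mul, ← pow_succ] at this
    obtain ⟨k, hk⟩ := P.isPGroup' ⟨g₀, hg₀P⟩
    have hk' : g₀ ^ p ^ k = 1 := congrArg Subtype.val hk
    have := (hall k).2.1
    rw [hk'] at this
    exact this (one_mem _)

end Cfsg.Agent.H8
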