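import Cfsg.Agent.Lib_helper8_FusDT

set_option autoImplicit false

namespace Cfsg.Agent.H8
open Cfsg Cfsg.FusionSystem

universe u

/-- the statement proved by induction on the order of `S` -/
def CEn (p : ℕ) (W : ∀ (Q : Type u) [Group Q], Subgroup Q) (e n : ℕ) : Prop :=
  ∀ (Ω : Type u) [Group Ω] (S : Subgroup Ω) [Finite S] (F : FusionSystem S) (y : Ω),
    Nat.card S = n → IsPGroup p S → F.IsSaturated p → y ∈ S → (∀ s ∈ S, s * y * s⁻¹ = y) →
    FixN F (WW W S) (y ^ e) → FixAll F (y ^ e)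

theorem extH_pow' {Ω Ω' : Type*} [Group Ω] [Group Ω'] {S : Subgroup Ω} (α : S →* Ω') {x : Ω}
    (hx : x ∈ S) (n : ℕ) : extH α (x ^ n) = extH α x ^ n := by
  rw [extH_apply α hx, extH_apply α (S.pow_mem hx n), ← map_pow]; rfl

section
variable {W : ∀ (Q : Type u) [Group Q], Subgroup Q} {Ω : Type u} [Group Ω] {S : Subgroup Ω}

theorem ce_of_centric {p : ℕ} [Fact p.Prime] (h : PFun p W) {e : ℕ} (hC : CenE p W e) [Finite S]
    (hS : IsPGroup p S) {F : FusionSystem S} (hF : F.IsSaturated p) {U : Subgroup Ω}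
    (hfn : F.IsFullyNormalized U) (hc : F.IsCentric U) {N : FusionSystem (normalizerIn S U)}
    (hN : F.IsNormalizerSystem U N) {y : Ω} (hyU : y ∈ U)
    (hyc : ∀ s ∈ normalizerIn S U, s * y * s⁻¹ = y)
    (hfix : FixN N (WW W (normalizerIn S U)) (y ^ e)) : FixAll N (y ^ e) := by
  have hzU : y ^ e ∈ U := pow_mem hyU e
  set z := y ^ e with hz
  have hfinT : Finite ↥(normalizerIn S U) := finite_of_le inf_le_left
  have hpT : IsPGroup p ↥(normalizerIn S U) := hS.to_le inf_le_left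
  have hNsat := normalizerSystem_saturated hS hF hfn hN
  have hUn := isNormal_normalizerSystem hfn.1 hN
  have hUc : N.IsCentric U := by
    refine ⟨hUn.1, fun R' hR' => ?_⟩
    obtain ⟨f, hf, rfl⟩ := isConj_iff.1 hR'
    rw [(weaklyClosed_iff.1 (weaklyClosed_of_stronglyClosed (stronglyClosed_of_isNormal hUn))).2 f
      hf]
    intro c hc'
    exact hc.2 U (isConj_refl F hfn.1) ⟨hc'.1.1, hc'.2⟩
  obtain ⟨G, _, ι, hG⟩ := exists_model_of_constrained hpT ⟨hNsat, U, hUn, hUc⟩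
  obtain ⟨hfin, hr, ⟨PG, hPG⟩, hcG⟩ := id hG
  obtain ⟨hb, ha⟩ := invHom_spec ι hr.1 hPG
  set a := extH (invHom ι hr.1 hPG) with hadef
  have hpre : preimageAlong ι (WW W (PG : Subgroup G)) = WW W (normalizerIn S U) :=
    h.preimage_WW hpT hr.1 hPG
  have hWGle : WW W (PG : Subgroup G) ≤ PG := WW_le _
  have hW1 : ∀ w ∈ WW W (normalizerIn S U), extH ι w ∈ WW W (PG : Subgroup G) := by
    intro w hw
    rw [← hpre] at hw
    exact (mem_preimageAlong.1 hw).2
  have hW2 : ∀ w ∈ WW W (PG : Subgroup G), a w ∈ WW W (normalizerIn S U) := by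
    intro w hw
    obtain ⟨h3, h4⟩ := ha w (hWGle hw)
    rw [← hpre]
    exact mem_preimageAlong.2 ⟨h3, by rw [h4]; exact hw⟩
  have hPGp : IsPGroup p (PG : Subgroup G) := PG.isPGroup'
  have hzT : z ∈ normalizerIn S U := hUn.1 hzU
  have hzO : extH ι z ∈ pCore p G :=
    le_pCore_of_isNormal_model hpT hG hUn ⟨⟨z, hzT⟩, hzU, (extH_apply ι hzT).symm⟩
  have hOn := pCore_normal' p G
  have hOP : pCore p G ≤ (PG : Subgroup G) := (pCore_isPGroup' p G).le_sylow_of_normal PG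
  have key : ∀ g ∈ Subgroup.normalizer ((WW W (PG : Subgroup G) : Subgroup G) : Set G),
      g * extH ι z * g⁻¹ = extH ι z := by
    intro g hgN
    set U₀ := preimageAlong ι (pCore p G) with hU₀
    have hUT : U₀ ≤ normalizerIn S U := preimageAlong_le ι _
    have hWT : WW W (normalizerIn S U) ≤ normalizerIn S U := WW_le _
    have hcU : ∀ x ∈ U₀, g * extH ι x * g⁻¹ ∈ pCore p G := fun x hx =>
      hOn.conj_mem _ (mem_preimageAlong.1 hx).2 g
    have hcW : ∀ x ∈ WW W (normalizerIn S U), g * extH ι x * g⁻¹ ∈ WW W (PG : Subgroup G) :=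
      fun x hx => conj_mem_of_mem_normalizer hgN (hW1 x hx)
    have hle : U₀ ⊔ WW W (normalizerIn S U) ≤ preimageAlong ι (cjs g⁻¹ (PG : Subgroup G)) := by
      refine sup_le (fun x hx => mem_preimageAlong.2 ⟨hUT hx, mem_cjs.2 ?_⟩)
        (fun x hx => mem_preimageAlong.2 ⟨hWT hx, mem_cjs.2 ?_⟩)
      · rw [inv_inv]; exact hOP (hcU x hx)
      · rw [inv_inv]; exact hWGle (hcW x hx)
    have hc' : ∀ x ∈ U₀ ⊔ WW W (normalizerIn S U), g * extH ι x * g⁻¹ ∈ (PG : Subgroup G) := by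
      intro x hx
      have := mem_cjs.1 (mem_preimageAlong.1 (hle hx)).2
      rwa [inv_inv] at this
    have m : IsMap N (U₀ ⊔ WW W (normalizerIn S U)) (fun x => a (g * extH ι x * g⁻¹)) :=
      (isMap_realized_iff hr).2 ⟨sup_le hUT hWT, fun x hx => (ha _ (hc' x hx)).1, g,
        fun x hx => (ha _ (hc' x hx)).2⟩
    have hfW : Finite (WW W (normalizerIn S U)) := finite_of_le (hWT.trans inf_le_left)
    have hiW : img (WW W (normalizerIn S U)) (fun x => a (g * extH ι x * g⁻¹))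
        = WW W (normalizerIn S U) :=
      (m.mono le_sup_right).img_eq_of_forall_mem fun x hx => hW2 _ (hcW x hx)
    have hzU₀ : z ∈ U₀ := mem_preimageAlong.2 ⟨hzT, hzO⟩
    have h1 := hfix _ _ m le_sup_right (Subgroup.mem_sup_left hzU₀) hiW
    have h2 := (ha _ (hc' z (Subgroup.mem_sup_left hzU₀))).2
    rw [h1] at h2
    exact h2.symm
  have hyT : y ∈ normalizerIn S U := hUn.1 hyU
  have hyO : extH ι y ∈ pCore p G :=
    le_pCore_of_isNormal_model hpT hG hUn ⟨⟨y, hyT⟩, hyU, (extH_apply ι hyT).symm⟩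
  have hpowι : extH ι z = extH ι y ^ e := extH_pow' ι hyT e
  have hcenP : ∀ x ∈ (PG : Subgroup G), x * extH ι y * x⁻¹ = extH ι y := by
    intro x hx
    obtain ⟨h3, h4⟩ := ha x hx
    rw [← h4, ← extH_conj ι h3 hyT, hyc _ h3]
  have hcen := hC G PG (extH ι y) hyO hcenP (fun x hx => by rw [← hpowι]; exact key x hx)
  intro D g hg hzD
  obtain ⟨-, hgS, x, hx⟩ := (isMap_realized_iff hr).1 hg
  have h1 := hx z hzD
  rw [hpowι, hcen x, ← hpowι] at h1
  have h3 := congrArg a h1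
  rwa [(hb _ (hgS z hzD)).2, (hb _ hzT).2] at h3

theorem ce_R_case {p : ℕ} [Fact p.Prime] (h : PFun p W) {e : ℕ} (hC : CenE p W e) [Finite S]
    (hS : IsPGroup p S) {F : FusionSystem S} (hF : F.IsSaturated p)
    {Q : Subgroup Ω} (hQ : F.IsNormal Q) {y : Ω} (hzS : y ∈ S) (hzc : ∀ s ∈ S, s * y * s⁻¹ = y)
    (hfix : FixN F (WW W S) (y ^ e)) {P : Subgroup Ω} {f : Ω → Ω}
    (hRP : Q ⊔ centralizerIn S Q ≤ P) (hf : IsMap F P f) : f (y ^ e) = y ^ e := by
  have hQS := hQ.1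
  have hsc := stronglyClosed_of_isNormal hQ
  have hwc := (weaklyClosed_iff.1 (weaklyClosed_of_stronglyClosed hsc)).2
  have hnQ : ∀ s ∈ S, ∀ x ∈ Q, s * x * s⁻¹ ∈ Q := fun s hs x hx =>
    conj_mem_of_mem_normalizer (stronglyClosed_le_normalizer hsc hs) hx
  set R := Q ⊔ centralizerIn S Q with hR
  have hQR : Q ≤ R := le_sup_left
  have hRS : R ≤ S := sup_le hQS (centralizerIn_le S Q)
  have hfinR : Finite R := finite_of_le hRS
  have hwR : ∀ f', IsMap F R f' → img R f' = R := by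
    intro f' m
    apply m.img_eq_of_forall_mem
    rw [← img_le_iff, hR, m.img_sup le_sup_left le_sup_right]
    apply sup_le_sup
    · rw [hwc f' (m.mono hQR)]
    · refine img_le_iff.2 fun c hc => ?_
      have := m.map_centralizerIn hQR (Subgroup.mem_sup_right hc) hc
      rwa [hwc f' (m.mono hQR)] at this
  have hnR : ∀ s ∈ S, ∀ x ∈ R, s * x * s⁻¹ ∈ R := by
    intro s hs x hx
    have := hwR _ (isMap_conj F hRS hs)
    rw [← this]
    exact mem_img_of_mem (f := fun x => s * x * s⁻¹) hx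
  have hT₂ : normalizerIn S R = S := normalizerIn_eq_of_forall hRS hnR
  have hfnR := fullyNormalized_of_forall F hRS hnR
  have hRc : F.IsCentric R := by
    refine ⟨hRS, fun R' hR' => ?_⟩
    obtain ⟨f', hf', rfl⟩ := isConj_iff.1 hR'
    rw [hwR f' hf']
    intro c hc
    exact Subgroup.mem_sup_right ⟨hc.1, Subgroup.centralizer_le hQR hc.2⟩
  obtain ⟨M, hM⟩ := exists_normalizerSystem F hRS
  have hzR : y ∈ R := Subgroup.mem_sup_right (mem_centralizerIn'.2 ⟨hzS, fun x hx => by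
    have := hzc x (hQS hx)
    calc y * x * y⁻¹ = (x * y * x⁻¹) * x * y⁻¹ := by rw [this]
      _ = x := by group⟩)
  have hWeq : WW W (normalizerIn S R) = WW W S := by rw [hT₂]
  have hfixM : FixN M (WW W (normalizerIn S R)) (y ^ e) := by
    rw [hWeq]
    intro D g hg hX hz hi
    exact hfix D g ((isMap_normalizerSystem hM).1 hg).1 hX hz hi
  have key := ce_of_centric h hC hS hF hfnR hRc hM hzR (fun s hs => hzc s hs.1) hfixM
  have mM : IsMap M P f := (isMap_normalizerSystem hM).2 ⟨hf, by rw [hT₂]; exact hf.le,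
    fun x hx => by rw [hT₂]; exact hf.mem hx, f, hf.mono (sup_le le_rfl hRP), fun _ _ => rfl,
    hwR f (hf.mono hRP)⟩
  exact key P f mM (pow_mem (hRP hzR) e)

theorem ce_quotient_step {p : ℕ} [Fact p.Prime] (h : PFun p W) {e : ℕ} [Finite S] (hS : IsPGroup p S)
    {F : FusionSystem S} (hF : F.IsSaturated p)
    {Q : Subgroup Ω} (hQ : F.IsNormal Q) (hQne : Q ≠ ⊥) (hSQ : ¬ S ≤ Q)
    (IH : ∀ m < Nat.card S, CEn.{u} p W e m) {y : Ω} (hyS : y ∈ S)
    (hyc : ∀ s ∈ S, s * y * s⁻¹ = y) :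
    ∃ V, Q < V ∧ V ≤ S ∧ (∀ s ∈ S, ∀ x ∈ V, s * x * s⁻¹ ∈ V) ∧
      (FixN F V (y ^ e) → ∀ P f, IsMap F P f → y ^ e ∈ P → (y ^ e)⁻¹ * f (y ^ e) ∈ Q) := by
  have hzS : y ^ e ∈ S := pow_mem hyS e
  set z := y ^ e with hz
  have hQS := hQ.1
  have hscQ := stronglyClosed_of_isNormal hQ
  have hnQ : ∀ s ∈ S, ∀ x ∈ Q, s * x * s⁻¹ ∈ Q := fun s hs x hx =>
    conj_mem_of_mem_normalizer (stronglyClosed_le_normalizer hscQ hs) hx
  have hQn : (Q.subgroupOf S).Normal := ⟨fun x hx g => hnQ g g.2 x hx⟩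
  let θ : S →* (S ⧸ Q.subgroupOf S) := QuotientGroup.mk' _
  have hθs : Function.Surjective θ := QuotientGroup.mk'_surjective _
  have hr : θ.range = (⊤ : Subgroup (S ⧸ Q.subgroupOf S)) := MonoidHom.range_eq_top.2 hθs
  have hker : ∀ s ∈ S, extH θ s = 1 ↔ s ∈ Q := fun s hs => by
    rw [extH_apply θ hs]; exact QuotientGroup.eq_one_iff _
  obtain ⟨E, hE⟩ := exists_factorSystem F hscQ hker hr
  have SD := surjData_of_factor hS hF hscQ hE
  have hfin' : Finite (⊤ : Subgroup (S ⧸ Q.subgroupOf S)) := SD.finite'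
  have hpg' := SD.isPGroup' hS
  have hEsat := SD.saturated hS hF
  have hcard : Nat.card (⊤ : Subgroup (S ⧸ Q.subgroupOf S)) < Nat.card S := by
    rw [Subgroup.card_top, Subgroup.card_eq_card_quotient_mul_card_subgroup (Q.subgroupOf S)]
    have h2 : 1 < Nat.card (Q.subgroupOf S) := by
      rw [Subgroup.one_lt_card_iff_ne_bot]
      intro h
      apply hQne
      rw [eq_bot_iff]
      intro q hq
      have : (⟨q, hQS hq⟩ : S) ∈ Q.subgroupOf S := hq
      rw [h] at this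
      exact Subgroup.mem_bot.2 (congrArg Subtype.val (Subgroup.mem_bot.1 this))
    exact lt_mul_of_one_lt_right Nat.card_pos h2
  have htop : (⊤ : Subgroup (S ⧸ Q.subgroupOf S)) ≠ ⊥ := by
    intro h0
    apply hSQ
    intro d hd
    have : extH θ d ∈ (⊤ : Subgroup (S ⧸ Q.subgroupOf S)) := Subgroup.mem_top _
    rw [h0] at this
    exact (hker d hd).1 (Subgroup.mem_bot.1 this)
  have hW'ne := h.WW_ne_bot hpg' htop
  set W' := WW W (⊤ : Subgroup (S ⧸ Q.subgroupOf S)) with hW'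
  set V := preimageAlong θ W' with hV
  have hQV : Q ≤ V := SD.le_pre W'
  have hVS : V ≤ S := preimageAlong_le θ W'
  have hQltV : Q < V := by
    refine lt_of_le_of_ne hQV fun h => hW'ne ?_
    rw [eq_bot_iff]
    intro w hw
    obtain ⟨s, rfl⟩ := hθs w
    have hsV : (s : Ω) ∈ V := mem_preimageAlong.2 ⟨s.2, by rw [extH_coe]; exact hw⟩
    rw [← h] at hsV
    have := (hker s s.2).2 hsV
    rw [extH_coe] at this
    exact Subgroup.mem_bot.2 this
  have hcW' : ∀ t : S ⧸ Q.subgroupOf S, ∀ w ∈ W', t * w * t⁻¹ ∈ W' := fun t =>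
    h.conj_mem hpg' le_rfl (Subgroup.mem_top t) (fun _ _ => Subgroup.mem_top _)
  have hnV : ∀ s ∈ S, ∀ x ∈ V, s * x * s⁻¹ ∈ V := by
    intro s hs x hx
    obtain ⟨hxS, hxW⟩ := mem_preimageAlong.1 hx
    refine mem_preimageAlong.2 ⟨S.mul_mem (S.mul_mem hs hxS) (S.inv_mem hs), ?_⟩
    rw [extH_conj θ hs hxS]
    exact hcW' _ _ hxW
  refine ⟨V, hQltV, hVS, hnV, fun hVfix P f hf hzP => ?_⟩
  have hfixE : FixN E W' (extH θ z) := by
    intro D' g' hg' hWD hz' hi'
    obtain ⟨ρ, hρ, eρ⟩ := SD.M4 D' le_top g' hg'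
    have hVD : V ≤ preimageAlong θ D' := fun x hx =>
      mem_preimageAlong.2 ⟨(mem_preimageAlong.1 hx).1, hWD (mem_preimageAlong.1 hx).2⟩
    have hiV : img V ρ = V := by
      have := SD.img_lift (P' := W') le_top (hg'.mono hWD) (hρ.mono hVD)
        (fun x hx => eρ x (hVD hx))
      rw [this, hi']
    have hzD : z ∈ preimageAlong θ D' := mem_preimageAlong.2 ⟨hzS, hz'⟩
    have := hVfix _ ρ hρ hVD hzD hiV
    rw [eρ z hzD, this]
  have hpowθ : extH θ z = extH θ y ^ e := extH_pow' θ hyS e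
  rw [hpowθ] at hfixE
  have hall := IH _ hcard (S ⧸ Q.subgroupOf S) ⊤ E (extH θ y) rfl hpg' hEsat (Subgroup.mem_top _)
    (fun t _ => by
      obtain ⟨s, rfl⟩ := hθs t
      rw [← extH_coe θ s, ← extH_conj θ s.2 hyS, hyc s s.2]) hfixE
  rw [← hpowθ] at hall
  obtain ⟨f', hf', ef⟩ := SD.M2 P f hf
  have := hall _ f' hf' (mem_imageAlong_of_mem hf.le hzP)
  rw [ef z hzP] at this
  exact (SD.eq_iff hzS (hf.mem hzP)).1 this.symm

end

theorem ceA {p : ℕ} [Fact p.Prime] {W : ∀ (Q : Type u) [Group Q], Subgroup Q} (h : PFun p W)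
    {e : ℕ} (hC : CenE p W e) {n : ℕ} (IH : ∀ m < n, CEn.{u} p W e m) :
    ∀ (k : ℕ) (Ω : Type u) [Group Ω] (S : Subgroup Ω) [Finite S] (F : FusionSystem S)
      (Q : Subgroup Ω) (y : Ω), Nat.card S = n → IsPGroup p S → F.IsSaturated p →
      F.IsNormal Q → Q ≠ ⊥ → Nat.card S - Nat.card Q = k → y ∈ S → (∀ s ∈ S, s * y * s⁻¹ = y) →
      FixN F (WW W S) (y ^ e) → FixAll F (y ^ e) := by
  intro k
  induction k using Nat.strong_induction_on with
  | _ k IHk =>
    intro Ω _ S _ F Q y hn hS hF hQ hQne hk hyS hyc hfix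
    have hXS : WW W S ≤ S := WW_le S
    have hzS : y ^ e ∈ S := pow_mem hyS e
    have hzc : ∀ s ∈ S, s * y ^ e * s⁻¹ = y ^ e := fun s hs => by
      rw [← conj_pow, hyc s hs]
    refine fixAll_of_alperin hS hF hzS hzc fun P hP hzP hbig f hf hi => ?_
    by_cases hPS : P = S
    · rw [hPS] at hf hi
      exact hfix S f hf hXS hzS (h.img_WW_eq hS hf hi)
    have hess := hP.resolve_left hPS
    have hfnP := hess.2.1
    have hfP : Finite P := finite_of_le hf.le
    by_cases hQP : Q ≤ P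
    swap
    · obtain ⟨g, hg, e1, e2⟩ := (isNormal_iff.1 hQ).2 P f hf
      have hlt : P < P ⊔ Q := lt_of_le_of_ne le_sup_left (fun h => hQP (h ▸ le_sup_right))
      rw [← e1 _ hzP]
      exact hbig _ g (card_lt_of_lt hg.le hlt) hg (Subgroup.mem_sup_left hzP)
    have hSQ : ¬ S ≤ Q := fun h => hPS (le_antisymm hf.le (h.trans hQP))
    by_cases hRP : Q ⊔ centralizerIn S Q ≤ P
    · exact ce_R_case h hC hS hF hQ hyS hyc hfix hRP hf
    obtain ⟨c, hcS, hcN, hcQ, hcP⟩ := exists_c hS hQ hf.le hQP hRP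
    obtain ⟨V, hQV, hVS, hnV, hV⟩ := ce_quotient_step h hS hF hQ hQne hSQ (hn ▸ IH) hyS hyc
    have hTV : normalizerIn S V = S := normalizerIn_eq_of_forall hVS hnV
    have hfnV := fullyNormalized_of_forall F hVS hnV
    obtain ⟨MV, hMV⟩ := exists_normalizerSystem F hVS
    have hfin₂ : Finite ↥(normalizerIn S V) := finite_of_le inf_le_left
    have hp₂ : IsPGroup p ↥(normalizerIn S V) := hS.to_le inf_le_left
    have hMVsat := normalizerSystem_saturated hS hF hfnV hMV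
    have hVn := isNormal_normalizerSystem hVS hMV
    have hcQV := card_lt_of_lt hVS hQV
    have hcVS : Nat.card V ≤ Nat.card S := card_le_of_le le_rfl hVS
    have hWeq : WW W (normalizerIn S V) = WW W S := by rw [hTV]
    have hfixM : FixN MV (WW W (normalizerIn S V)) (y ^ e) := by
      rw [hWeq]
      intro D g hg hX hz hi
      exact hfix D g ((isMap_normalizerSystem hMV).1 hg).1 hX hz hi
    have key := IHk (Nat.card ↥(normalizerIn S V) - Nat.card V) (by rw [hTV]; omega) Ω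
      (normalizerIn S V) MV V y (by rw [hTV]; exact hn) hp₂ hMVsat hVn (ne_bot_of_gt hQV) rfl
      (by rw [hTV]; exact hyS) (fun s hs => hyc s hs.1) hfixM
    have hFixV : FixN F V (y ^ e) := by
      intro D g hg hVD hzD hiV
      exact key D g ((isMap_normalizerSystem hMV).2 ⟨hg, by rw [hTV]; exact hg.le,
        fun x hx => by rw [hTV]; exact hg.mem hx, g, hg.mono (sup_le le_rfl hVD), fun _ _ => rfl,
        hiV⟩) hzD
    exact cw_frattini hS hF hfnP hQP (stronglyClosed_of_isNormal hQ) hzP hzc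
      (fun f hf => hV hFixV P f hf hzP) hcS hcN hcQ hcP hbig hf hi

end Cfsg.Agent.H8
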