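import Cfsg.Agent.Lib_helper8_FusCS
import Cfsg.Agent.Lib_helper8_FusDA
import Cfsg.Prelude.Def_Local

set_option autoImplicit false

namespace Cfsg.Agent.H8
open Cfsg

section bridge
variable {G : Type*} [Group G]

theorem le_pPrimePCore [Finite G] {p : ℕ} [Fact p.Prime] {B : Subgroup G} (hBn : B.Normal)
    (hB : IsPGroup p B) : B ≤ pPrimePCore p G := by
  intro x hx
  have h1 : B.map (QuotientGroup.mk' (pPrimeCore p G)) ≤ pCore p (G ⧸ pPrimeCore p G) :=
    H1.le_pCore p (hBn.map _ (QuotientGroup.mk'_surjective _)) (hB.map _)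
  exact h1 ⟨x, hx, rfl⟩

theorem quadratic_of_ab' {A B : Subgroup G} (hab : Ab A)
    (hN : B ≤ Subgroup.normalizer (A : Set G)) : ⁅⁅B, A⁆, A⁆ = ⊥ := by
  have h1 : ⁅B, A⁆ ≤ A := by
    rw [Subgroup.commutator_le]
    intro y hy z hz'
    have h2 : y * z * y⁻¹ ∈ A := (Subgroup.mem_normalizer_iff.1 (hN hy) z).1 hz'
    exact A.mul_mem h2 (A.inv_mem hz')
  rw [eq_bot_iff, Subgroup.commutator_le]
  intro y hy z hz'
  rw [Subgroup.mem_bot]
  exact cm_eq_one_iff.2 (hab y (h1 hy) z hz')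

theorem pst_of_isPStable [Finite G] {p : ℕ} [Fact p.Prime] (hs : IsPStable p G) (S : Sylow p G)
    (B : Subgroup G) [hBn : B.Normal] (hB : B ≤ S) : PSt (S : Subgroup G) B := by
  set C := Subgroup.centralizer (B : Set G) with hC
  have hpn := H1.pCore_normal (G := G ⧸ C) p
  set L := (pCore p (G ⧸ C)).comap (QuotientGroup.mk' C) with hLdef
  have hL : L.Normal := hpn.comap _
  refine pst_of_normal (sylIn_top S) hL ?_ ?_
  · intro x hx
    have hsurj := QuotientGroup.mk'_surjective C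
    have h4 : pCore p (G ⧸ C) ≤ (S : Subgroup G).map (QuotientGroup.mk' C) := by
      have := (H1.pCore_isPGroup (G := G ⧸ C) p).le_sylow_of_normal (S.mapSurjective hsurj)
      simpa using this
    obtain ⟨y, hy, hyx⟩ := h4 hx
    have hyL : y ∈ L := by
      show QuotientGroup.mk' C y ∈ pCore p (G ⧸ C)
      rw [hyx]; exact hx
    have hc' : x * y⁻¹ ∈ C := by
      have h5 : QuotientGroup.mk' C (x * y⁻¹) = 1 := by
        rw [map_mul, map_inv, hyx, mul_inv_cancel]
      exact (QuotientGroup.eq_one_iff _).1 h5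
    exact ⟨x * y⁻¹, hc', y, ⟨hy, hyL⟩, by group⟩
  · intro A hA hab hN a ha
    have hBp : IsPGroup p B := S.2.to_le hB
    have h1 := hs.2.2 A B (S.2.to_le hA) hBp (fun a _ x hx => hBn.conj_mem x hx a)
      (le_pPrimePCore hBn hBp) inferInstance (quadratic_of_ab' hab hN)
    have hNt : Subgroup.normalizer (B : Set G) = ⊤ := Subgroup.normalizer_eq_top_iff.2 hBn
    set N := Subgroup.normalizer (B : Set G) with hNdef
    let f : ↥N ⧸ C.subgroupOf N →* G ⧸ C :=
      QuotientGroup.map (C.subgroupOf N) C N.subtype (fun x hx => hx)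
    have hf : Function.Surjective f := by
      intro y
      induction y using QuotientGroup.induction_on with
      | H z => exact ⟨QuotientGroup.mk (⟨z, by rw [hNt]; trivial⟩ : N), rfl⟩
    have h2 : (pCore p (↥N ⧸ C.subgroupOf N)).map f ≤ pCore p (G ⧸ C) :=
      H1.le_pCore p ((H1.pCore_normal p).map f hf) ((H1.pCore_isPGroup p).map f)
    have haN : a ∈ N := by rw [hNt]; trivial
    exact h2 ⟨_, h1 ⟨(⟨a, haN⟩ : N), Subgroup.mem_subgroupOf.2 ha, rfl⟩, rfl⟩

theorem centralizer_pCore_le_of_constrained [Finite G] {p : ℕ} [Fact p.Prime]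
    (hO : pPrimeCore p G = ⊥) (hc : IsPConstrained p G) :
    Subgroup.centralizer (pCore p G : Set G) ≤ pCore p G := by
  have hK : IsPGroup p (pPrimePCore p G) := by
    unfold pPrimePCore
    apply IsPGroup.comap_of_ker_isPGroup (H1.pCore_isPGroup p)
    rw [QuotientGroup.ker_mk', hO]; exact IsPGroup.of_bot
  have hKn : (pPrimePCore p G).Normal := (H1.pCore_normal p).comap _
  have hKle : pPrimePCore p G ≤ pCore p G := H1.le_pCore p hKn hK
  obtain ⟨P⟩ : Nonempty (Sylow p (pPrimePCore p G)) := inferInstance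
  refine le_trans (Subgroup.centralizer_le ?_) ((hc P).trans hKle)
  rintro _ ⟨y, -, rfl⟩; exact hKle y.2

theorem zj_normal_of_isPStable [Finite G] {p : ℕ} [Fact p.Prime] (hp : p ≠ 2)
    (hO : pPrimeCore p G = ⊥) (hc : IsPConstrained p G) (hs : IsPStable p G) (S : Sylow p G) :
    (centerThompsonAOf (S : Subgroup G)).Normal := by
  have hax := zjax_maxE hp (e := 0) (Or.inl rfl) S.2 (le_refl (S : Subgroup G))
    (fun x _ g hg => hg)
  have := hax.normal S.2 (fun B hB hBn => by have := hBn; exact pst_of_isPStable hs S B hB)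
    ((H1.pCore_isPGroup p).le_sylow_of_normal S) (H1.pCore_normal p)
    (centralizer_pCore_le_of_constrained hO hc)
  rwa [sInf_maxE_zero] at this

theorem local_le_normalizer_ZJ [Finite G] {p : ℕ} [Fact p.Prime] (hp : p ≠ 2) {N T : Subgroup G}
    (hO : pPrimeCore p ↥N = ⊥) (hc : IsPConstrained p ↥N) (hs : IsPStable p ↥N) (hTN : T ≤ N)
    (hT : SylIn p T N) : N ≤ Subgroup.normalizer (centerThompsonAOf T : Set G) := by
  obtain ⟨R, hR⟩ := hT
  have h := zj_normal_of_isPStable hp hO hc hs R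
  let f : ↥(R : Subgroup N) ≃* ↥T :=
    (MulEquiv.subgroupCongr hR).trans (Subgroup.subgroupOfEquivOfLe hTN)
  intro n hn
  refine mem_normalizer_of_forall fun z hz => ?_
  have hzT : z ∈ T := ZJ_le T hz
  have h1 := ZJ_equiv f.symm (d := ⟨z, hzT⟩) hz
  have h2 := h.conj_mem _ h1 ⟨n, hn⟩
  have h3 := ZJ_le _ h2
  exact ZJ_equiv f (d := ⟨_, h3⟩) h2

theorem exists_sylIn_ge {p : ℕ} [Fact p.Prime] {A R : Subgroup G} (hRA : R ≤ A)
    (hR : IsPGroup p R) : ∃ T, R ≤ T ∧ T ≤ A ∧ SylIn p T A := by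
  have hR' : IsPGroup p (R.subgroupOf A) := hR.comap_of_injective A.subtype A.subtype_injective
  obtain ⟨T₀, hT₀⟩ := hR'.exists_le_sylow
  refine ⟨(T₀ : Subgroup A).map A.subtype, ?_, ?_, T₀, ?_⟩
  · intro x hx; exact ⟨⟨x, hRA hx⟩, hT₀ (Subgroup.mem_subgroupOf.2 hx), rfl⟩
  · rintro _ ⟨y, -, rfl⟩; exact y.2
  · ext x
    rw [Subgroup.mem_subgroupOf]
    constructor
    · intro h; exact ⟨x, h, rfl⟩
    · rintro ⟨y, hy, e⟩
      have : y = x := Subtype.ext e
      rwa [← this]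

end bridge

end Cfsg.Agent.H8
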