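import Cfsg.Agent.Lib_helper8_FusDW

set_option autoImplicit false

namespace Cfsg.Agent.H8
open Cfsg

section quot
variable {G : Type*} [Group G]

/-- general packaging: quadratic abelian subgroups land in `O_p(G/C_G(B))` -/
theorem pst_of_quad [Finite G] {p : ℕ} [Fact p.Prime] (S : Sylow p G) (B : Subgroup G)
    [B.Normal]
    (hq : ∀ A : Subgroup G, A ≤ S → Ab A → B ≤ Subgroup.normalizer (A : Set G) → ∀ a ∈ A,
      (QuotientGroup.mk a : G ⧸ Subgroup.centralizer (B : Set G)) ∈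
        pCore p (G ⧸ Subgroup.centralizer (B : Set G))) : PSt (S : Subgroup G) B := by
  set C := Subgroup.centralizer (B : Set G) with hC
  have hpn := H1.pCore_normal (G := G ⧸ C) p
  set L := (pCore p (G ⧸ C)).comap (QuotientGroup.mk' C) with hLdef
  have hL : L.Normal := hpn.comap _
  refine pst_of_normal (sylIn_top S) hL ?_ ?_
  · intro x hx
    have hsurj := QuotientGroup.mk'_surjective C
    have h4 : pCore p (G ⧸ C) ≤ (S : Subgroup G).map (QuotientGroup.mk' C) := by
      have := (H1.pCore_isPGroup (G := G ⧸ C) p).le_sylow_of_normal (S.mapSurjective hsurj)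
      simpa using this
    obtain ⟨y, hy, hyx⟩ := h4 hx
    have hyL : y ∈ L := by
      show QuotientGroup.mk' C y ∈ pCore p (G ⧸ C)
      rw [hyx]; exact hx
    have hc' : x * y⁻¹ ∈ C := by
      have h5 : QuotientGroup.mk' C (x * y⁻¹) = 1 := by
        rw [map_mul, map_inv, hyx, mul_inv_cancel]
      exact (QuotientGroup.eq_one_iff _).1 h5
    exact ⟨x * y⁻¹, hc', y, ⟨hy, hyL⟩, by group⟩
  · intro A hA hab hN a ha
    exact hq A hA hab hN a ha

variable [Finite G] {p : ℕ} [Fact p.Prime] {K : Subgroup G} [hKn : K.Normal]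

theorem mk_inj_on_sylow (hK : (Nat.card K).Coprime p) (P : Sylow p G) {x y : G}
    (hx : x ∈ P) (hy : y ∈ P) (h : QuotientGroup.mk' K x = QuotientGroup.mk' K y) : x = y := by
  have h1 : x⁻¹ * y ∈ K := QuotientGroup.eq.1 h
  have h2 : x⁻¹ * y ∈ (P : Subgroup G) := mul_mem (inv_mem hx) hy
  have h3 : K ⊓ (P : Subgroup G) = ⊥ := by
    apply Subgroup.inf_eq_bot_of_coprime
    obtain ⟨n, hn⟩ := (IsPGroup.iff_card.1 P.2)
    rw [hn]; exact hK.pow_right n
  have h4 : x⁻¹ * y ∈ K ⊓ (P : Subgroup G) := ⟨h1, h2⟩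
  rw [h3, Subgroup.mem_bot] at h4
  exact (inv_mul_eq_one.1 h4)

/-- the lift to `P` of a subgroup of the image of `P` -/
def liftP (K : Subgroup G) [K.Normal] (P : Subgroup G) (Y : Subgroup (G ⧸ K)) : Subgroup G :=
  P ⊓ Y.comap (QuotientGroup.mk' K)

theorem exists_lift {P : Subgroup G} {Y : Subgroup (G ⧸ K)}
    (hY : Y ≤ P.map (QuotientGroup.mk' K)) {y : G ⧸ K} (hy : y ∈ Y) :
    ∃ x ∈ liftP K P Y, QuotientGroup.mk' K x = y := by
  obtain ⟨x, hx, rfl⟩ := hY hy
  exact ⟨x, ⟨hx, hy⟩, rfl⟩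

theorem frattini_lift (P : Sylow p G) {Y : Subgroup (G ⧸ K)} (hYn : Y.Normal)
    (hY : Y ≤ (P : Subgroup G).map (QuotientGroup.mk' K)) (g : G) :
    ∃ ν ∈ Subgroup.normalizer (liftP K (P : Subgroup G) Y : Set G),
      QuotientGroup.mk' K ν = QuotientGroup.mk' K g := by
  have hXn : (Y.comap (QuotientGroup.mk' K)).Normal := hYn.comap _
  have hn : (⊤ : Subgroup G) ≤ Subgroup.normalizer ((Y.comap (QuotientGroup.mk' K) : Subgroup G) : Set G) := by
    rw [Subgroup.normalizer_eq_top_iff.2 hXn]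
  obtain ⟨k, hk, ν, -, hν, rfl⟩ := frattini_lattice (A := ⊤) (N := Y.comap (QuotientGroup.mk' K))
    le_top hn inf_le_right ((sylIn_top P).inf_normal le_top le_top hn) (Subgroup.mem_top g)
  obtain ⟨y, hy, hyk⟩ := exists_lift hY (show QuotientGroup.mk' K k ∈ Y from hk)
  exact ⟨y * ν, mul_mem (Subgroup.le_normalizer hy) hν, by rw [map_mul, map_mul, hyk]⟩

theorem comm_le_of_le {H₁ H₂ P : Subgroup G} (h1 : H₁ ≤ P) (h2 : H₂ ≤ P) : ⁅H₁, H₂⁆ ≤ P :=
  Subgroup.commutator_le.2 fun a ha b hb => by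
    rw [commutatorElement_def]
    exact P.mul_mem (P.mul_mem (P.mul_mem (h1 ha) (h2 hb)) (P.inv_mem (h1 ha))) (P.inv_mem (h2 hb))

theorem quot_constrained (hc : IsPConstrained p G) (P : Sylow p G) :
    Subgroup.centralizer (pCore p (G ⧸ pPrimeCore p G) : Set (G ⧸ pPrimeCore p G)) ≤
      pCore p (G ⧸ pPrimeCore p G) := by
  set K := pPrimeCore p G with hKdef
  have hK : (Nat.card K).Coprime p := H1.card_pPrimeCore_coprime p
  set π := QuotientGroup.mk' K with hπ
  have hsurj : Function.Surjective π := QuotientGroup.mk'_surjective K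
  have hOn : (pCore p (G ⧸ K)).Normal := H1.pCore_normal p
  have hOle : pCore p (G ⧸ K) ≤ (P : Subgroup G).map π := by
    have := (H1.pCore_isPGroup (G := G ⧸ K) p).le_sylow_of_normal (P.mapSurjective hsurj)
    simpa using this
  set P0 := liftP K (P : Subgroup G) (pCore p (G ⧸ K)) with hP0
  have hK1n : (pPrimePCore p G).Normal := hOn.comap _
  have hsyl : SylIn p P0 (pPrimePCore p G) :=
    (sylIn_top P).inf_normal le_top le_top (Subgroup.normalizer_eq_top_iff.2 hK1n).ge
  obtain ⟨R, hR⟩ := hsyl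
  have hcR := hc R
  have hmap : (R : Subgroup (pPrimePCore p G)).map (pPrimePCore p G).subtype = P0 := by
    rw [hR]; exact map_subgroupOf_self inf_le_right
  rw [hmap] at hcR
  intro xb hxb
  obtain ⟨x, rfl⟩ := hsurj xb
  obtain ⟨ν, hν, hνx⟩ := frattini_lift P hOn hOle x
  rw [← hνx] at hxb ⊢
  have hνC : ν ∈ Subgroup.centralizer (P0 : Set G) := by
    rw [Subgroup.mem_centralizer_iff]
    intro t ht
    have h1 : ν * t * ν⁻¹ ∈ P0 := (Subgroup.mem_normalizer_iff.1 hν t).1 ht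
    have h2 : π (ν * t * ν⁻¹) = π t := by
      have : π t * π ν = π ν * π t := Subgroup.mem_centralizer_iff.1 hxb (π t) ht.2
      rw [map_mul, map_mul, map_inv, ← this]; group
    have h3 := mk_inj_on_sylow hK P h1.1 ht.1 h2
    calc t * ν = (ν * t * ν⁻¹) * ν := by rw [h3]
      _ = ν * t := by group
  exact hcR hνC

theorem quot_pst (hs : IsPStable p G) (P : Sylow p G) (Bb : Subgroup (G ⧸ pPrimeCore p G))
    [hBn : Bb.Normal] (hB : Bb ≤ (P : Subgroup G).map (QuotientGroup.mk' (pPrimeCore p G))) :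
    PSt ((P.mapSurjective (QuotientGroup.mk'_surjective (pPrimeCore p G)) :
      Sylow p (G ⧸ pPrimeCore p G)) : Subgroup (G ⧸ pPrimeCore p G)) Bb := by
  set K := pPrimeCore p G with hKdef
  have hK : (Nat.card K).Coprime p := H1.card_pPrimeCore_coprime p
  set π := QuotientGroup.mk' K with hπ
  have hsurj : Function.Surjective π := QuotientGroup.mk'_surjective K
  refine pst_of_quad _ Bb ?_
  intro Ab' hA hab hN ab hab'
  have hA' : Ab' ≤ (P : Subgroup G).map π := by simpa using hA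
  set A := liftP K (P : Subgroup G) Ab' with hAdef
  set B := liftP K (P : Subgroup G) Bb with hBdef
  have hAp : IsPGroup p A := P.2.to_le inf_le_left
  have hBp : IsPGroup p B := P.2.to_le inf_le_left
  have hnorm : ∀ a ∈ A, ∀ x ∈ B, a * x * a⁻¹ ∈ B := fun a ha x hx =>
    ⟨(P : Subgroup G).mul_mem ((P : Subgroup G).mul_mem ha.1 hx.1)
      ((P : Subgroup G).inv_mem ha.1), by
      show π (a * x * a⁻¹) ∈ Bb
      rw [map_mul, map_mul, map_inv]; exact hBn.conj_mem _ hx.2 _⟩
  have hBbp : IsPGroup p Bb := (P.2.map π).to_le hB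
  have hBle : B ≤ pPrimePCore p G := fun x hx => (H1.le_pCore p hBn hBbp) hx.2
  have hsup : K ⊔ B = Bb.comap π := by
    apply le_antisymm
    · refine sup_le ?_ inf_le_right
      intro k hk
      show π k ∈ Bb
      have : π k = 1 := (QuotientGroup.eq_one_iff k).2 hk
      rw [this]; exact Bb.one_mem
    · intro x hx
      obtain ⟨y, hy, hyx⟩ := exists_lift hB (show π x ∈ Bb from hx)
      have : x * y⁻¹ ∈ K := by
        apply (QuotientGroup.eq_one_iff _).1
        show π (x * y⁻¹) = 1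
        rw [map_mul, map_inv, hyx, mul_inv_cancel]
      have e : x = (x * y⁻¹) * y := by group
      rw [e]
      exact mul_mem (Subgroup.mem_sup_left this) (Subgroup.mem_sup_right hy)
  have hsupn : (K ⊔ B).Normal := by rw [hsup]; exact hBn.comap _
  have hBmap : B.map π ≤ Bb := by rintro _ ⟨y, hy, rfl⟩; exact hy.2
  have hAmap : A.map π ≤ Ab' := by rintro _ ⟨y, hy, rfl⟩; exact hy.2
  have hquad : ⁅⁅B, A⁆, A⁆ = ⊥ := by
    rw [eq_bot_iff]
    intro x hx
    have hxP : x ∈ (P : Subgroup G) :=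
      comm_le_of_le (comm_le_of_le inf_le_left inf_le_left) inf_le_left hx
    have h1 : (⁅⁅B, A⁆, A⁆).map π ≤ ⁅⁅Bb, Ab'⁆, Ab'⁆ := by
      rw [Subgroup.map_commutator, Subgroup.map_commutator]
      exact Subgroup.commutator_mono (Subgroup.commutator_mono hBmap hAmap) hAmap
    rw [quadratic_of_ab' hab hN] at h1
    have hxK : π x = 1 := Subgroup.mem_bot.1 (h1 ⟨x, hx, rfl⟩)
    exact Subgroup.mem_bot.2 (mk_inj_on_sylow hK P hxP (one_mem _) (by rw [hxK, map_one]))
  have h1 := hs.2.2 A B hAp hBp hnorm hBle hsupn hquad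
  set N := Subgroup.normalizer (B : Set G) with hNdef
  set C := Subgroup.centralizer (B : Set G) with hCdef
  set Cb := Subgroup.centralizer (Bb : Set (G ⧸ K)) with hCb
  let f : ↥N ⧸ C.subgroupOf N →* (G ⧸ K) ⧸ Cb :=
    QuotientGroup.map (C.subgroupOf N) Cb (π.comp N.subtype) (by
      intro c hc
      show π c ∈ Cb
      rw [Subgroup.mem_centralizer_iff]
      intro yb hyb
      obtain ⟨y, hy, rfl⟩ := exists_lift hB hyb
      have := Subgroup.mem_centralizer_iff.1 (Subgroup.mem_subgroupOf.1 hc) y hy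
      rw [← map_mul, ← map_mul, this])
  have hf : Function.Surjective f := by
    intro y
    induction y using QuotientGroup.induction_on with
    | H z =>
      obtain ⟨g, rfl⟩ := hsurj z
      obtain ⟨ν, hν, hνg⟩ := frattini_lift P hBn hB g
      refine ⟨QuotientGroup.mk (⟨ν, hν⟩ : N), ?_⟩
      show (QuotientGroup.mk (π ν) : (G ⧸ K) ⧸ Cb) = QuotientGroup.mk (π g)
      rw [hνg]
  have h2 : (pCore p (↥N ⧸ C.subgroupOf N)).map f ≤ pCore p ((G ⧸ K) ⧸ Cb) :=
    H1.le_pCore p ((H1.pCore_normal p).map f hf) ((H1.pCore_isPGroup p).map f)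
  obtain ⟨a, ha, rfl⟩ := exists_lift hA' hab'
  have haN : a ∈ N := mem_normalizer_of_forall (hnorm a ha)
  exact h2 ⟨_, h1 ⟨(⟨a, haN⟩ : N), Subgroup.mem_subgroupOf.2 ha, rfl⟩, rfl⟩

theorem zj_factorization (hp : p ≠ 2) (hc : IsPConstrained p G) (hs : IsPStable p G)
    (P : Sylow p G) :
    pPrimeCore p G ⊔ Subgroup.normalizer (centerThompsonAOf (P : Subgroup G) : Set G) = ⊤ := by
  set K := pPrimeCore p G with hKdef
  have hK : (Nat.card K).Coprime p := H1.card_pPrimeCore_coprime p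
  set π := QuotientGroup.mk' K with hπ
  have hsurj : Function.Surjective π := QuotientGroup.mk'_surjective K
  set Pb : Sylow p (G ⧸ K) := P.mapSurjective hsurj with hPbdef
  have hPb : (Pb : Subgroup (G ⧸ K)) = (P : Subgroup G).map π := by simp [Pb]
  have hax := zjax_maxE hp (e := 0) (Or.inl rfl) Pb.2 (le_refl (Pb : Subgroup (G ⧸ K)))
    (fun x _ g hg => hg)
  have hn := hax.normal Pb.2
    (fun B hB hBn => by have := hBn; exact quot_pst hs P B (hPb ▸ hB))
    ((H1.pCore_isPGroup p).le_sylow_of_normal Pb) (H1.pCore_normal p) (quot_constrained hc P)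
  rw [sInf_maxE_zero, hPb] at hn
  set D' := (P : Subgroup G).map π with hD'
  have hZb : centerThompsonAOf D' ≤ D' := ZJ_le _
  let f : ↥(P : Subgroup G) ≃* ↥D' := MulEquiv.ofBijective (π.subgroupMap (P : Subgroup G))
    ⟨fun x y h => Subtype.ext (mk_inj_on_sylow hK P x.2 y.2 (congrArg Subtype.val h)),
      π.subgroupMap_surjective _⟩
  have hlift : liftP K (P : Subgroup G) (centerThompsonAOf D') =
      centerThompsonAOf (P : Subgroup G) := by
    ext x
    constructor
    · rintro ⟨hx, hx'⟩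
      have hx2 : π x ∈ centerThompsonAOf D' := hx'
      have h1 := ZJ_equiv f.symm (d := ⟨π x, hZb hx2⟩) hx2
      have h2 : f ⟨x, hx⟩ = ⟨π x, hZb hx2⟩ := rfl
      rw [← h2, f.symm_apply_apply] at h1
      exact h1
    · intro hx
      have hxP : x ∈ (P : Subgroup G) := ZJ_le _ hx
      exact ⟨hxP, ZJ_equiv f (d := ⟨x, hxP⟩) hx⟩
  rw [eq_top_iff]
  intro g _
  obtain ⟨ν, hν, hνg⟩ := frattini_lift P hn hZb g
  rw [hlift] at hν
  have h1 : g * ν⁻¹ ∈ K := (QuotientGroup.eq_one_iff _).1 (by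
    show π (g * ν⁻¹) = 1
    rw [map_mul, map_inv, hνg, mul_inv_cancel])
  have e : g = (g * ν⁻¹) * ν := by group
  rw [e]; exact mul_mem (Subgroup.mem_sup_left h1) (Subgroup.mem_sup_right hν)

end quot

end Cfsg.Agent.H8
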