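import Cfsg.Agent.Lib_helper8_FusDX
import Cfsg.Agent.Lib_helper1_Cores2

set_option autoImplicit false

namespace Cfsg.Agent.H8
open Cfsg

section quot2
variable {G : Type*} [Group G] [Finite G] {p : ℕ} [Fact p.Prime]

theorem exists_sylow_map_ge {K : Subgroup G} [K.Normal] {Ab : Subgroup (G ⧸ K)}
    (hAb : IsPGroup p Ab) : ∃ S : Sylow p G, Ab ≤ (S : Subgroup G).map (QuotientGroup.mk' K) := by
  have hsurj : Function.Surjective (QuotientGroup.mk' K) := QuotientGroup.mk'_surjective K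
  obtain ⟨Tb, hTb⟩ := hAb.exists_le_sylow
  obtain ⟨S₀⟩ : Nonempty (Sylow p G) := inferInstance
  obtain ⟨gb, hgb⟩ := MulAction.exists_smul_eq (G ⧸ K) (S₀.mapSurjective hsurj) Tb
  obtain ⟨g, rfl⟩ := hsurj gb
  refine ⟨g • S₀, ?_⟩
  intro x hx
  have h1 : x ∈ (Tb : Subgroup (G ⧸ K)) := hTb hx
  rw [← hgb, Sylow.coe_subgroup_smul] at h1
  obtain ⟨y, hy, rfl⟩ := h1
  have hy' : y ∈ (S₀ : Subgroup G).map (QuotientGroup.mk' K) := hy
  obtain ⟨s, hs, rfl⟩ := hy'
  refine ⟨g * s * g⁻¹, ?_, ?_⟩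
  · rw [Sylow.coe_subgroup_smul]; exact ⟨s, hs, rfl⟩
  · rw [map_mul, map_mul, map_inv]; rfl

theorem isPStable_quot (hO : pCore p G ≠ ⊥) (hs : IsPStable p G) :
    IsPStable p (G ⧸ pPrimeCore p G) := by
  set K := pPrimeCore p G with hKdef
  have hK : (Nat.card K).Coprime p := H1.card_pPrimeCore_coprime p
  set π := QuotientGroup.mk' K with hπ
  have hsurj : Function.Surjective π := QuotientGroup.mk'_surjective K
  refine ⟨hs.1, ?_, ?_⟩
  · intro hbot
    apply hO
    obtain ⟨S⟩ : Nonempty (Sylow p G) := inferInstance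
    have hle : pCore p G ≤ S := (H1.pCore_isPGroup p).le_sylow_of_normal S
    have hmap : (pCore p G).map π ≤ pCore p (G ⧸ K) :=
      H1.le_pCore p ((H1.pCore_normal p).map π hsurj) ((H1.pCore_isPGroup p).map π)
    rw [eq_bot_iff]
    intro x hx
    have h1 : π x ∈ pCore p (G ⧸ K) := hmap ⟨x, hx, rfl⟩
    rw [hbot, Subgroup.mem_bot] at h1
    exact Subgroup.mem_bot.2 (mk_inj_on_sylow hK S (hle hx) (one_mem _) (by rw [h1, map_one]))
  · intro Ab' Bb hAbp hBbp hnormb hleb hsupnb hquadb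
    rw [H1.pPrimeCore_quotient_eq_bot, bot_sup_eq] at hsupnb
    have hBn : Bb.Normal := hsupnb
    obtain ⟨P, hA'⟩ := exists_sylow_map_ge hAbp
    have hB : Bb ≤ (P : Subgroup G).map π := by
      have := hBbp.le_sylow_of_normal (P.mapSurjective hsurj)
      simpa using this
    set A := liftP K (P : Subgroup G) Ab' with hAdef
    set B := liftP K (P : Subgroup G) Bb with hBdef
    have hAp : IsPGroup p A := P.2.to_le inf_le_left
    have hBp : IsPGroup p B := P.2.to_le inf_le_left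
    have hnorm : ∀ a ∈ A, ∀ x ∈ B, a * x * a⁻¹ ∈ B := fun a ha x hx =>
      ⟨(P : Subgroup G).mul_mem ((P : Subgroup G).mul_mem ha.1 hx.1)
        ((P : Subgroup G).inv_mem ha.1), by
        show π (a * x * a⁻¹) ∈ Bb
        rw [map_mul, map_mul, map_inv]; exact hBn.conj_mem _ hx.2 _⟩
    have hBle : B ≤ pPrimePCore p G := fun x hx => (H1.le_pCore p hBn hBbp) hx.2
    have hsup : K ⊔ B = Bb.comap π := by
      apply le_antisymm
      · refine sup_le ?_ inf_le_right
        intro k hk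
        show π k ∈ Bb
        have : π k = 1 := (QuotientGroup.eq_one_iff k).2 hk
        rw [this]; exact Bb.one_mem
      · intro x hx
        obtain ⟨y, hy, hyx⟩ := exists_lift hB (show π x ∈ Bb from hx)
        have : x * y⁻¹ ∈ K := by
          apply (QuotientGroup.eq_one_iff _).1
          show π (x * y⁻¹) = 1
          rw [map_mul, map_inv, hyx, mul_inv_cancel]
        have e : x = (x * y⁻¹) * y := by group
        rw [e]
        exact mul_mem (Subgroup.mem_sup_left this) (Subgroup.mem_sup_right hy)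
    have hsupn : (K ⊔ B).Normal := by rw [hsup]; exact hBn.comap _
    have hBmap : B.map π ≤ Bb := by rintro _ ⟨y, hy, rfl⟩; exact hy.2
    have hAmap : A.map π ≤ Ab' := by rintro _ ⟨y, hy, rfl⟩; exact hy.2
    have hquad : ⁅⁅B, A⁆, A⁆ = ⊥ := by
      rw [eq_bot_iff]
      intro x hx
      have hxP : x ∈ (P : Subgroup G) :=
        comm_le_of_le (comm_le_of_le inf_le_left inf_le_left) inf_le_left hx
      have h1 : (⁅⁅B, A⁆, A⁆).map π ≤ ⁅⁅Bb, Ab'⁆, Ab'⁆ := by
        rw [Subgroup.map_commutator, Subgroup.map_commutator]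
        exact Subgroup.commutator_mono (Subgroup.commutator_mono hBmap hAmap) hAmap
      rw [hquadb] at h1
      have hxK : π x = 1 := Subgroup.mem_bot.1 (h1 ⟨x, hx, rfl⟩)
      exact Subgroup.mem_bot.2 (mk_inj_on_sylow hK P hxP (one_mem _) (by rw [hxK, map_one]))
    have h1 := hs.2.2 A B hAp hBp hnorm hBle hsupn hquad
    set N := Subgroup.normalizer (B : Set G) with hNdef
    set C := Subgroup.centralizer (B : Set G) with hCdef
    set Nb := Subgroup.normalizer (Bb : Set (G ⧸ K)) with hNb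
    set Cb := Subgroup.centralizer (Bb : Set (G ⧸ K)) with hCb
    have hNbt : Nb = ⊤ := Subgroup.normalizer_eq_top_iff.2 hBn
    let φ : ↥N →* ↥Nb := (π.comp N.subtype).codRestrict Nb (fun n => by rw [hNbt]; trivial)
    let f : ↥N ⧸ C.subgroupOf N →* ↥Nb ⧸ Cb.subgroupOf Nb :=
      QuotientGroup.map (C.subgroupOf N) (Cb.subgroupOf Nb) φ (by
        intro c hc
        show π c ∈ Cb
        rw [Subgroup.mem_centralizer_iff]
        intro yb hyb
        obtain ⟨y, hy, rfl⟩ := exists_lift hB hyb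
        have := Subgroup.mem_centralizer_iff.1 (Subgroup.mem_subgroupOf.1 hc) y hy
        rw [← map_mul, ← map_mul, this])
    have hf : Function.Surjective f := by
      intro y
      induction y using QuotientGroup.induction_on with
      | H z =>
        obtain ⟨z, hz⟩ := z
        obtain ⟨g, rfl⟩ := hsurj z
        obtain ⟨ν, hν, hνg⟩ := frattini_lift P hBn hB g
        refine ⟨QuotientGroup.mk (⟨ν, hν⟩ : N), ?_⟩
        show (QuotientGroup.mk (φ ⟨ν, hν⟩) : ↥Nb ⧸ Cb.subgroupOf Nb) = QuotientGroup.mk _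
        congr 1
        exact Subtype.ext hνg
    have h2 : (pCore p (↥N ⧸ C.subgroupOf N)).map f ≤ pCore p (↥Nb ⧸ Cb.subgroupOf Nb) :=
      H1.le_pCore p ((H1.pCore_normal p).map f hf) ((H1.pCore_isPGroup p).map f)
    rintro _ ⟨⟨ab, habN⟩, hab, rfl⟩
    obtain ⟨a, ha, hab'⟩ := exists_lift hA' (Subgroup.mem_subgroupOf.1 hab)
    have haN : a ∈ N := mem_normalizer_of_forall (hnorm a ha)
    have h3 := h2 ⟨_, h1 ⟨(⟨a, haN⟩ : N), Subgroup.mem_subgroupOf.2 ha, rfl⟩, rfl⟩
    have e : φ ⟨a, haN⟩ = ⟨ab, habN⟩ := Subtype.ext hab'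
    have e2 : f (QuotientGroup.mk' (C.subgroupOf N) ⟨a, haN⟩) =
        QuotientGroup.mk' (Cb.subgroupOf Nb) (φ ⟨a, haN⟩) := rfl
    rw [e2, e] at h3
    exact h3

theorem isPStable_of_quot (hO : pCore p G ≠ ⊥) (hs' : IsPStable p (G ⧸ pPrimeCore p G)) :
    IsPStable p G := by
  set K := pPrimeCore p G with hKdef
  have hK : (Nat.card K).Coprime p := H1.card_pPrimeCore_coprime p
  set π := QuotientGroup.mk' K with hπ
  have hsurj : Function.Surjective π := QuotientGroup.mk'_surjective K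
  refine ⟨hs'.1, hO, ?_⟩
  intro A P0 hA hP0 hnorm hle hsupn hquad
  have hPbn : (P0.map π).Normal := by
    have := hsupn.map π hsurj
    rwa [Subgroup.map_sup, QuotientGroup.map_mk'_self, bot_sup_eq] at this
  have h1 := hs'.2.2 (A.map π) (P0.map π) (hA.map π) (hP0.map π)
    (by
      rintro _ ⟨a, ha, rfl⟩ _ ⟨x, hx, rfl⟩
      exact ⟨a * x * a⁻¹, hnorm a ha x hx, by rw [map_mul, map_mul, map_inv]⟩)
    (le_pPrimePCore hPbn (hP0.map π))
    (by rw [H1.pPrimeCore_quotient_eq_bot, bot_sup_eq]; exact hPbn)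
    (by rw [← Subgroup.map_commutator, ← Subgroup.map_commutator, hquad, Subgroup.map_bot])
  obtain ⟨S, hS⟩ := hP0.exists_le_sylow
  set N := Subgroup.normalizer (P0 : Set G) with hNdef
  set C := Subgroup.centralizer (P0 : Set G) with hCdef
  set Nb := Subgroup.normalizer ((P0.map π : Subgroup (G ⧸ K)) : Set (G ⧸ K)) with hNb
  set Cb := Subgroup.centralizer ((P0.map π : Subgroup (G ⧸ K)) : Set (G ⧸ K)) with hCb
  have hNbt : Nb = ⊤ := Subgroup.normalizer_eq_top_iff.2 hPbn
  let φ : ↥N →* ↥Nb := (π.comp N.subtype).codRestrict Nb (fun n => by rw [hNbt]; trivial)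
  let f : ↥N ⧸ C.subgroupOf N →* ↥Nb ⧸ Cb.subgroupOf Nb :=
    QuotientGroup.map (C.subgroupOf N) (Cb.subgroupOf Nb) φ (by
      intro c hc
      show π c ∈ Cb
      rw [Subgroup.mem_centralizer_iff]
      rintro _ ⟨y, hy, rfl⟩
      have := Subgroup.mem_centralizer_iff.1 (Subgroup.mem_subgroupOf.1 hc) y hy
      rw [← map_mul, ← map_mul, this])
  have hf : Function.Injective f := by
    rw [injective_iff_map_eq_one]
    intro y
    induction y using QuotientGroup.induction_on with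
    | H n =>
      intro hn
      have h2 : φ n ∈ Cb.subgroupOf Nb := (QuotientGroup.eq_one_iff _).1 hn
      have h3 : π n ∈ Cb := h2
      apply (QuotientGroup.eq_one_iff _).2
      rw [Subgroup.mem_subgroupOf, Subgroup.mem_centralizer_iff]
      intro t ht
      have h4 : (n : G) * t * (n : G)⁻¹ ∈ P0 := (Subgroup.mem_normalizer_iff.1 n.2 t).1 ht
      have h5 : π ((n : G) * t * (n : G)⁻¹) = π t := by
        have : π t * π n = π n * π t := Subgroup.mem_centralizer_iff.1 h3 (π t) ⟨t, ht, rfl⟩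
        rw [map_mul, map_mul, map_inv, ← this]; group
      have h6 := mk_inj_on_sylow hK S (hS h4) (hS ht) h5
      calc t * (n : G) = ((n : G) * t * (n : G)⁻¹) * n := by rw [h6]
        _ = n * t := by group
  have h2 : (pCore p (↥Nb ⧸ Cb.subgroupOf Nb)).comap f ≤ pCore p (↥N ⧸ C.subgroupOf N) :=
    H1.le_pCore p ((H1.pCore_normal p).comap f) ((H1.pCore_isPGroup p).comap_of_injective f hf)
  rintro _ ⟨⟨a, haN⟩, ha, rfl⟩
  apply h2
  show f _ ∈ pCore p _
  exact h1 ⟨φ ⟨a, haN⟩, Subgroup.mem_subgroupOf.2 ⟨a, Subgroup.mem_subgroupOf.1 ha, rfl⟩, rfl⟩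

end quot2

end Cfsg.Agent.H8
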