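import Cfsg.Agent.Lib_helper8_FusDX
import Cfsg.Agent.Lib_helper8_FusAR

set_option autoImplicit false

namespace Cfsg.Agent.H8
open Cfsg Cfsg.FusionSystem

section pp
variable {G : Type*} [Group G] [Finite G] {p : ℕ} [Fact p.Prime]

/-- `S ∩ O_{p',p}(G)` is normal in the fusion system of `G` on `S` -/
theorem isNormal_inf_pPrimePCore (S : Sylow p G) :
    (fusionSystemOfSubgroup ⊤ (S : Subgroup G) le_top).IsNormal
      ((S : Subgroup G) ⊓ pPrimePCore p G) := by
  set K := pPrimeCore p G with hKdef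
  have hK : (Nat.card K).Coprime p := H1.card_pPrimeCore_coprime p
  set π := QuotientGroup.mk' K with hπ
  have hsurj : Function.Surjective π := QuotientGroup.mk'_surjective K
  have hOn : (pCore p (G ⧸ K)).Normal := H1.pCore_normal p
  have hOle : pCore p (G ⧸ K) ≤ (S : Subgroup G).map π := by
    have := (H1.pCore_isPGroup (G := G ⧸ K) p).le_sylow_of_normal (S.mapSurjective hsurj)
    simpa using this
  have hK1n : (pPrimePCore p G).Normal := hOn.comap _
  set Q := (S : Subgroup G) ⊓ pPrimePCore p G with hQ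
  refine isNormal_iff.2 ⟨inf_le_left, fun P f hf => ?_⟩
  obtain ⟨hPS, g, -, hg⟩ := isMap_ofSubgroup_iff.1 hf
  set X := ((S : Subgroup G).map π).comap π with hX
  have hSX : (S : Subgroup G) ≤ X := Subgroup.le_comap_map _ _
  have hRS : P ⊔ Q ≤ (S : Subgroup G) := sup_le hPS inf_le_left
  have hRX : cjs g (P ⊔ Q) ≤ X := by
    have e0 : cjs g (P ⊔ Q) = cjs g P ⊔ cjs g Q := Subgroup.map_sup _ _ _
    rw [e0]
    refine sup_le ?_ ?_
    · rintro _ ⟨x, hx, rfl⟩
      exact hSX (hg x hx).2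
    · rintro _ ⟨x, hx, rfl⟩
      show π (g * x * g⁻¹) ∈ (S : Subgroup G).map π
      apply hOle
      rw [map_mul, map_mul, map_inv]
      exact hOn.conj_mem _ hx.2 _
  have hsyl : SylIn p (S : Subgroup G) X := (sylIn_top S).of_le le_top hSX le_top
  obtain ⟨γ, hγX, hγ⟩ := sylow_conj hsyl hRX (isPGroup_cjs (S.2.to_le hRS) g)
  obtain ⟨s, hs, hsγ⟩ : π γ ∈ (S : Subgroup G).map π := hγX
  set k := s⁻¹ * γ with hk
  have hk1 : π k = 1 := by rw [hk, map_mul, map_inv, hsγ, inv_mul_cancel]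
  have hkS : ∀ h ∈ cjs g (P ⊔ Q), k * h * k⁻¹ ∈ (S : Subgroup G) := by
    intro h hh
    have e : k * h * k⁻¹ = s⁻¹ * (γ * h * γ⁻¹) * s := by rw [hk]; group
    rw [e]
    exact (S : Subgroup G).mul_mem ((S : Subgroup G).mul_mem ((S : Subgroup G).inv_mem hs)
      (hγ h hh)) hs
  have hconj : ∀ x, (k * g) * x * (k * g)⁻¹ = k * (g * x * g⁻¹) * k⁻¹ := fun x => by group
  have hle : cjs (k * g) (P ⊔ Q) ≤ (S : Subgroup G) := by
    rintro _ ⟨x, hx, rfl⟩
    show (k * g) * x * (k * g)⁻¹ ∈ _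
    rw [hconj]
    exact hkS _ (cj_mem_cjs hx)
  refine ⟨cj (k * g), isMap_cj hRS (Subgroup.mem_top _) hle, fun x hx => ?_, ?_⟩
  · rw [(hg x hx).1, cj_apply, hconj]
    refine mk_inj_on_sylow hK S (hkS _ (cj_mem_cjs (Subgroup.mem_sup_left hx))) (hg x hx).2 ?_
    rw [map_mul, map_mul, map_inv, hk1]; group
  · rw [img_cj]
    apply Subgroup.eq_of_le_of_card_ge
    · rintro _ ⟨x, hx, rfl⟩
      exact ⟨hle (cj_mem_cjs (Subgroup.mem_sup_right hx)), hK1n.conj_mem _ hx.2 _⟩
    · rw [card_cjs]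

/-- the centre of the fusion system of `G`: elements with a single conjugate in `S` -/
theorem mem_center_group_iff (S : Sylow p G) {x : G} :
    x ∈ (fusionSystemOfSubgroup ⊤ (S : Subgroup G) le_top).center ↔
      (x ∈ (S : Subgroup G) ∧ ∀ g : G, g * x * g⁻¹ ∈ (S : Subgroup G) → g * x * g⁻¹ = x) := by
  set F := fusionSystemOfSubgroup ⊤ (S : Subgroup G) le_top with hFdef
  have hF : F.IsSaturated p := saturated_ofSubgroup le_top (sylIn_top S)
  constructor
  · intro hx
    have hxS : x ∈ (S : Subgroup G) := (isCentral_center F).1 hx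
    refine ⟨hxS, fun g hg => ?_⟩
    have hz : Subgroup.zpowers x ≤ (S : Subgroup G) := by rw [Subgroup.zpowers_le]; exact hxS
    have hm : IsMap F (Subgroup.zpowers x) (cj g) := by
      refine isMap_cj hz (Subgroup.mem_top g) ?_
      have e0 : cjs g (Subgroup.zpowers x) = Subgroup.zpowers (g * x * g⁻¹) :=
        MonoidHom.map_zpowers _ _
      rw [e0, Subgroup.zpowers_le]
      exact hg
    exact fix_of_mem_center hm (Subgroup.mem_zpowers x) hx
  · rintro ⟨hxS, hx⟩
    have hz : Subgroup.zpowers x ≤ (S : Subgroup G) := by rw [Subgroup.zpowers_le]; exact hxS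
    have hxc : ∀ s ∈ (S : Subgroup G), s * x = x * s := by
      intro s hs
      have h1 := hx s ((S : Subgroup G).mul_mem ((S : Subgroup G).mul_mem hs hxS)
        ((S : Subgroup G).inv_mem hs))
      calc s * x = (s * x * s⁻¹) * s := by group
        _ = x * s := by rw [h1]
    have hc : F.IsCentral (Subgroup.zpowers x) := by
      refine (isCentral_iff_conjElt S.2 F hF _).2 ⟨hz, fun y hy y' hyy' => ?_⟩
      obtain ⟨f, hf, rfl⟩ := isConjElt_iff.1 hyy'
      obtain ⟨-, g, -, hg⟩ := isMap_ofSubgroup_iff.1 hf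
      obtain ⟨e1, e2⟩ := hg y (Subgroup.mem_zpowers y)
      rw [e1]
      -- commuting facts
      have hcomm : ∀ u : G, u * x = x * u → u * y = y * u := by
        intro u hu
        obtain ⟨n, rfl⟩ := Subgroup.mem_zpowers_iff.1 hy
        exact ((Commute.zpow_right (show Commute u x from hu) n)).eq
      set A := Subgroup.centralizer ({g * y * g⁻¹} : Set G) with hA
      have h0 : SylIn p (cjs g (S : Subgroup G)) ⊤ := by
        have := (sylIn_top S).cjs le_top g
        rwa [cjs_of_mem (Subgroup.mem_top g)] at this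
      have hle : cjs g (S : Subgroup G) ≤ A := by
        rintro _ ⟨s, hs, rfl⟩
        rw [hA, Subgroup.mem_centralizer_singleton_iff]
        show g * s * g⁻¹ * (g * y * g⁻¹) = g * y * g⁻¹ * (g * s * g⁻¹)
        have := hcomm s (hxc s hs)
        calc g * s * g⁻¹ * (g * y * g⁻¹) = g * (s * y) * g⁻¹ := by group
          _ = g * (y * s) * g⁻¹ := by rw [this]
          _ = g * y * g⁻¹ * (g * s * g⁻¹) := by group
      have hsyl : SylIn p (cjs g (S : Subgroup G)) A := h0.of_le le_top hle le_top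
      have hxA : Subgroup.zpowers x ≤ A := by
        rw [Subgroup.zpowers_le, hA, Subgroup.mem_centralizer_singleton_iff]
        exact (hxc _ e2).symm
      obtain ⟨γ, hγA, hγ⟩ := sylow_conj hsyl hxA (S.2.to_le hz)
      have h1 := mem_cjs.1 (hγ x (Subgroup.mem_zpowers x))
      have h2 : (g⁻¹ * γ) * x * (g⁻¹ * γ)⁻¹ = x := by
        apply hx
        have e : (g⁻¹ * γ) * x * (g⁻¹ * γ)⁻¹ = g⁻¹ * (γ * x * γ⁻¹) * g := by group
        rw [e]; exact h1
      have h3 : (g⁻¹ * γ) * y = y * (g⁻¹ * γ) := by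
        apply hcomm
        calc (g⁻¹ * γ) * x = ((g⁻¹ * γ) * x * (g⁻¹ * γ)⁻¹) * (g⁻¹ * γ) := by group
          _ = x * (g⁻¹ * γ) := by rw [h2]
      have h4 : γ * (g * y * g⁻¹) = g * y * g⁻¹ * γ :=
        (Subgroup.mem_centralizer_singleton_iff.1 hγA)
      calc g * y * g⁻¹ = γ⁻¹ * (γ * (g * y * g⁻¹)) := by group
        _ = γ⁻¹ * (g * y * g⁻¹ * γ) := by rw [h4]
        _ = γ⁻¹ * g * (y * (g⁻¹ * γ)) := by group
        _ = γ⁻¹ * g * (g⁻¹ * γ * y) := by rw [h3]
        _ = y := by group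
    exact (le_sSup hc : Subgroup.zpowers x ≤ F.center) (Subgroup.mem_zpowers x)

end pp

end Cfsg.Agent.H8
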