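import Cfsg.Agent.Lib_helper8_FusDK

set_option autoImplicit false

namespace Cfsg.Agent.H8
open Cfsg

theorem involves_self (H : Type*) [Group H] : Involves H H := by
  have hn : ((⊥ : Subgroup H).subgroupOf ⊤).Normal := by
    rw [Subgroup.bot_subgroupOf]; infer_instance
  refine ⟨⊤, ⊥, hn, ⟨?_⟩⟩
  have e : (⊥ : Subgroup H).subgroupOf ⊤ = ⊥ := Subgroup.bot_subgroupOf _
  exact ((QuotientGroup.quotientMulEquivOfEq e).trans (QuotientGroup.quotientBot)).trans
    Subgroup.topEquiv

theorem involves_of_surj {H L : Type*} [Group H] [Group L] (j : L →* H)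
    (hj : Function.Surjective j) : Involves H L :=
  involves_of_surjective j hj (involves_self H)

/-- unfolding an involvement into a surjection from a subgroup -/
theorem involves_exists_surj {H L : Type*} [Group H] [Group L] (h : Involves H L) :
    ∃ (K : Subgroup L) (f : K →* H), Function.Surjective f := by
  obtain ⟨K, R, hn, ⟨e⟩⟩ := h
  exact ⟨K, e.toMonoidHom.comp (QuotientGroup.mk' _),
    e.surjective.comp (QuotientGroup.mk'_surjective _)⟩

theorem involves_trans {A B C : Type*} [Group A] [Group B] [Group C] (h1 : Involves A B)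
    (h2 : Involves B C) : Involves A C := by
  obtain ⟨K, f, hf⟩ := involves_exists_surj h2
  exact involves_of_injective K.subtype K.subtype_injective (involves_of_surjective f hf h1)

/-- a `p`-group involved in a finite group is involved in its Sylow `p`-subgroups -/
theorem involves_sylow {Q L : Type*} [Group Q] [Group L] [Finite L] {p : ℕ} [Fact p.Prime]
    (hQ : IsPGroup p Q) (h : Involves Q L) (T : Sylow p L) : Involves Q ↥(T : Subgroup L) := by
  obtain ⟨K, f, hf⟩ := involves_exists_surj h
  obtain ⟨P₂⟩ : Nonempty (Sylow p K) := inferInstance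
  have htop : (P₂ : Subgroup K).map f = ⊤ := by
    have h1 := (P₂.mapSurjective hf).is_maximal' (hQ.to_subgroup ⊤) le_top
    rw [h1]; rfl
  have hsurj : Function.Surjective (f.comp (P₂ : Subgroup K).subtype) := by
    intro y
    have : y ∈ (P₂ : Subgroup K).map f := by rw [htop]; trivial
    obtain ⟨x, hx, rfl⟩ := this
    exact ⟨⟨x, hx⟩, rfl⟩
  have h2 : Involves Q ↥(P₂ : Subgroup K) := involves_of_surj _ hsurj
  -- embed `P₂` into `T`
  have hp' : IsPGroup p ((P₂ : Subgroup K).map K.subtype) := P₂.2.map _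
  obtain ⟨T', hT'⟩ := hp'.exists_le_sylow
  obtain ⟨g, hg⟩ := MulAction.exists_smul_eq L T' T
  let j₀ : ↥(P₂ : Subgroup K) →* L :=
    (MulAut.conj g).toMonoidHom.comp (K.subtype.comp (P₂ : Subgroup K).subtype)
  have hj₀ : ∀ x, j₀ x ∈ (T : Subgroup L) := by
    intro x
    have h3 : ((x : K) : L) ∈ (T' : Subgroup L) := hT' ⟨x, x.2, rfl⟩
    rw [← hg, Sylow.coe_subgroup_smul]
    exact ⟨_, h3, rfl⟩
  let j : ↥(P₂ : Subgroup K) →* ↥(T : Subgroup L) := j₀.codRestrict _ hj₀
  have hj : Function.Injective j := by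
    intro x y hxy
    have h4 : j₀ x = j₀ y := congrArg Subtype.val hxy
    have h5 : ((x : K) : L) = ((y : K) : L) := (MulAut.conj g).injective h4
    exact Subtype.ext (Subtype.ext h5)
  exact involves_of_injective j hj h2

end Cfsg.Agent.H8
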