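import Cfsg.Agent.Lib_helper8_FusDP

set_option autoImplicit false

namespace Cfsg.Agent.H8.Fam
open Cfsg Cfsg.FusionSystem

universe u

/-- Glauberman functors -/
structure GFun (p : ℕ) (𝓗 : ∀ (H : Type u) [Group H], Prop)
    (W : ∀ (Q : Type u) [Group Q], Subgroup Q) : Prop where
  ne : ∀ (Q : Type u) [Group Q] [Finite Q], IsPGroup p Q → Nontrivial Q → W Q ≠ ⊥
  iso : ∀ (Q R : Type u) [Group Q] [Group R] [Finite Q], IsPGroup p Q → ∀ φ : Q ≃* R,
    (W Q).map φ.toMonoidHom = W R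
  nor : ∀ (L : Type u) [Group L] [Finite L] (P : Sylow p L),
    Subgroup.centralizer ((Cfsg.pCore p L : Subgroup L) : Set L) =
      Cfsg.pCore p L ⊓ Subgroup.centralizer ((Cfsg.pCore p L : Subgroup L) : Set L) →
    (∀ (H : Type u) [Group H], 𝓗 H → ¬ Cfsg.Involves H L) →
    (((W ↥(P : Subgroup L)).map (P : Subgroup L).subtype : Subgroup L)).Normal

/-- freeness with respect to a family of groups -/
def FF {Ω : Type u} [Group Ω] {S : Subgroup Ω} (p : ℕ) (𝓗 : ∀ (H : Type u) [Group H], Prop)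
    (F : FusionSystem S) : Prop := ∀ (H : Type u) [Group H], 𝓗 H → F.IsSectionFree p H

section
variable {𝓗 : ∀ (H : Type u) [Group H], Prop} {W : ∀ (Q : Type u) [Group Q], Subgroup Q} {Ω : Type u} [Group Ω]

theorem GFun.WW_ne_bot {p : ℕ} (h : GFun p 𝓗 W) {T : Subgroup Ω} [Finite T] (hT : IsPGroup p T)
    (hne : T ≠ ⊥) : WW W T ≠ ⊥ := by
  intro h0
  have hnt : Nontrivial T := (Subgroup.nontrivial_iff_ne_bot T).2 hne
  apply h.ne T hT hnt
  rw [eq_bot_iff]
  intro x hx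
  have : (x : Ω) ∈ WW W T := (mem_WW x).2 hx
  rw [h0] at this
  exact Subgroup.mem_bot.2 (Subtype.ext (Subgroup.mem_bot.1 this))

theorem GFun.mem_equiv {p : ℕ} (h : GFun p 𝓗 W) {Ω' : Type u} [Group Ω'] {T : Subgroup Ω}
    {T' : Subgroup Ω'} [Finite T] (hT : IsPGroup p T) (e : T ≃* T') (x : T) :
    (x : Ω) ∈ WW W T ↔ ((e x : T') : Ω') ∈ WW W T' := by
  rw [mem_WW, mem_WW, ← h.iso T T' hT e]
  constructor
  · intro hx
    exact ⟨x, hx, rfl⟩
  · rintro ⟨y, hy, e'⟩
    have : y = x := e.injective e'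
    rwa [← this]

variable {S : Subgroup Ω}

theorem GFun.img_WW {p : ℕ} (h : GFun p 𝓗 W) [Finite S] (hS : IsPGroup p S) {F : FusionSystem S}
    {D : Subgroup Ω} {g : Ω → Ω} (hg : IsMap F D g) : img (WW W D) g = WW W (img D g) := by
  have hfD : Finite D := finite_of_le hg.le
  have hpD : IsPGroup p D := hS.to_le hg.le
  obtain ⟨f, hf⟩ := hg.exists_equiv
  apply le_antisymm
  · refine img_le_iff.2 fun x hx => ?_
    have := (h.mem_equiv hpD f ⟨x, WW_le D hx⟩).1 hx
    rwa [hf] at this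
  · intro y hy
    have hy' : y ∈ img D g := WW_le _ hy
    have h1 : ((f.symm ⟨y, hy'⟩ : D) : Ω) ∈ WW W D := by
      rw [h.mem_equiv hpD f, MulEquiv.apply_symm_apply]; exact hy
    have h2 : g (f.symm ⟨y, hy'⟩ : D) = y := by
      rw [← hf, MulEquiv.apply_symm_apply]
    rw [← h2]
    exact mem_img_of_mem h1

theorem GFun.img_WW_eq {p : ℕ} (h : GFun p 𝓗 W) [Finite S] (hS : IsPGroup p S) {F : FusionSystem S}
    {D : Subgroup Ω} {g : Ω → Ω} (hg : IsMap F D g) (hi : img D g = D) :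
    img (WW W D) g = WW W D := by
  rw [h.img_WW hS hg, hi]

theorem GFun.conj_mem {p : ℕ} (h : GFun p 𝓗 W) [Finite S] (hS : IsPGroup p S) {D : Subgroup Ω}
    (hD : D ≤ S) {x : Ω} (hx : x ∈ S) (hn : ∀ d ∈ D, x * d * x⁻¹ ∈ D) :
    ∀ w ∈ WW W D, x * w * x⁻¹ ∈ WW W D := by
  have hfD : Finite D := finite_of_le hD
  have m := isMap_conj (innerFusionSystem S) hD hx
  have h1 := h.img_WW_eq hS m (m.img_eq_of_forall_mem hn)
  intro w hw
  rw [← h1]
  exact mem_img_of_mem (f := fun y => x * y * x⁻¹) hw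

/-- the model case -/
theorem GFun.isNormal_of_centric {p : ℕ} [Fact p.Prime] (h : GFun p 𝓗 W) [Finite S]
    (hS : IsPGroup p S) {F : FusionSystem S} (hF : F.IsSaturated p)
    (hfree : FF p 𝓗 F) {U : Subgroup Ω} (hfn : F.IsFullyNormalized U)
    (hc : F.IsCentric U) {N : FusionSystem (normalizerIn S U)} (hN : F.IsNormalizerSystem U N) :
    N.IsNormal (WW W (normalizerIn S U)) := by
  have hfinT : Finite ↥(normalizerIn S U) := finite_of_le inf_le_left
  have hpT : IsPGroup p ↥(normalizerIn S U) := hS.to_le inf_le_left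
  have hNsat := normalizerSystem_saturated hS hF hfn hN
  have hUn := isNormal_normalizerSystem hfn.1 hN
  have hUc : N.IsCentric U := by
    refine ⟨hUn.1, fun R' hR' => ?_⟩
    obtain ⟨f, hf, rfl⟩ := isConj_iff.1 hR'
    rw [(weaklyClosed_iff.1 (weaklyClosed_of_stronglyClosed (stronglyClosed_of_isNormal hUn))).2 f
      hf]
    intro c hc'
    exact hc.2 U (isConj_refl F hfn.1) ⟨hc'.1.1, hc'.2⟩
  obtain ⟨G, _, ι, hG⟩ := exists_model_of_constrained hpT ⟨hNsat, U, hUn, hUc⟩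
  have hnI : ∀ (H : Type u) [Group H], 𝓗 H → ¬ Involves H G :=
    fun H _ hH => hfree H hH U hfn hc N hN G ι hG
  obtain ⟨hfin, hr, ⟨PG, hPG⟩, hcG⟩ := id hG
  have hnor := h.nor G PG (le_antisymm (le_inf hcG le_rfl) inf_le_right) hnI
  have hle : ((W ↥(PG : Subgroup G)).map (PG : Subgroup G).subtype : Subgroup G) ≤ ι.range := by
    rw [← hPG]; exact WW_le (W := W) (PG : Subgroup G)
  have key := isNormal_preimage_of_realized hr hnor hle
  have heq : preimageAlong ι ((W ↥(PG : Subgroup G)).map (PG : Subgroup G).subtype)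
      = WW W (normalizerIn S U) := by
    let e : ↥(normalizerIn S U) ≃* ↥(PG : Subgroup G) :=
      (MonoidHom.ofInjective hr.1).trans (MulEquiv.subgroupCongr hPG.symm)
    have he : ∀ x : ↥(normalizerIn S U), ((e x : ↥(PG : Subgroup G)) : G) = ι x := fun x => rfl
    ext x
    rw [mem_preimageAlong]
    constructor
    · rintro ⟨hx, hx'⟩
      rw [extH_apply ι hx, ← he] at hx'
      exact (h.mem_equiv hpT e ⟨x, hx⟩).2 hx'
    · intro hx
      have hxT := WW_le _ hx
      refine ⟨hxT, ?_⟩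
      rw [extH_apply ι hxT, ← he]
      exact (h.mem_equiv hpT e ⟨x, hxT⟩).1 hx
  rwa [heq] at key

end

end Cfsg.Agent.H8.Fam
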