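import Cfsg.Agent.Lib_helper8_FusEB

set_option autoImplicit false

namespace Cfsg.Agent.H8.Fam
open Cfsg Cfsg.FusionSystem

universe u

/-- the statement proved by induction on the order of `S` -/
def ZJn (p : ℕ) (𝓗 : ∀ (H : Type u) [Group H], Prop)
    (W : ∀ (Q : Type u) [Group Q], Subgroup Q) (n : ℕ) : Prop :=
  ∀ (Ω : Type u) [Group Ω] (S : Subgroup Ω) [Finite S] (F : FusionSystem S),
    Nat.card S = n → IsPGroup p S → F.IsSaturated p → FF p 𝓗 F →
      F.IsNormal (WW W S)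

section
variable {𝓗 : ∀ (H : Type u) [Group H], Prop} {W : ∀ (Q : Type u) [Group Q], Subgroup Q} {Ω : Type u} [Group Ω] {S : Subgroup Ω}

theorem conj_mem_centralizerIn {Q : Subgroup Ω} (hnQ : ∀ s ∈ S, ∀ x ∈ Q, s * x * s⁻¹ ∈ Q)
    {s : Ω} (hs : s ∈ S) {y : Ω} (hy : y ∈ centralizerIn S Q) :
    s * y * s⁻¹ ∈ centralizerIn S Q := by
  obtain ⟨hyS, hyc⟩ := mem_centralizerIn'.1 hy
  refine mem_centralizerIn'.2 ⟨S.mul_mem (S.mul_mem hs hyS) (S.inv_mem hs), fun q hq => ?_⟩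
  have h1 := hyc _ (hnQ s⁻¹ (S.inv_mem hs) q hq)
  have h2 := congrArg (fun t => s * t * s⁻¹) h1
  simp only [inv_inv] at h2
  calc s * y * s⁻¹ * q * (s * y * s⁻¹)⁻¹ = s * (y * (s⁻¹ * q * s) * y⁻¹) * s⁻¹ := by group
    _ = s * (s⁻¹ * q * s) * s⁻¹ := h2
    _ = q := by group

theorem exists_c [Finite S] {p : ℕ} [Fact p.Prime] (hS : IsPGroup p S) {F : FusionSystem S}
    {Q : Subgroup Ω} (hQ : F.IsNormal Q) {P : Subgroup Ω} (hPS : P ≤ S) (hQP : Q ≤ P)
    (hRP : ¬ Q ⊔ centralizerIn S Q ≤ P) :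
    ∃ c ∈ S, c ∈ Subgroup.normalizer (P : Set Ω) ∧ (∀ q ∈ Q, c * q * c⁻¹ = q) ∧ c ∉ P := by
  have hsc := stronglyClosed_of_isNormal hQ
  have hnQ : ∀ s ∈ S, ∀ x ∈ Q, s * x * s⁻¹ ∈ Q := fun s hs x hx =>
    conj_mem_of_mem_normalizer (stronglyClosed_le_normalizer hsc hs) hx
  have hCS : centralizerIn S Q ≤ S := centralizerIn_le S Q
  have hfC : Finite (centralizerIn S Q) := finite_of_le hCS
  have hC : ¬ centralizerIn S Q ≤ P := fun h => hRP (sup_le hQP h)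
  have hPN : P ≤ Subgroup.normalizer ((centralizerIn S Q : Subgroup Ω) : Set Ω) := fun a ha =>
    mem_normalizer_of_forall fun y hy => conj_mem_centralizerIn hnQ (hPS ha) hy
  have hle : P ⊔ centralizerIn S Q ≤ S := sup_le hPS hCS
  have hfin : Finite ↥(P ⊔ centralizerIn S Q) := finite_of_le hle
  have hlt : P < P ⊔ centralizerIn S Q :=
    lt_of_le_of_ne le_sup_left fun h => hC (h ▸ le_sup_right)
  obtain ⟨x, hx, hxP, hxN⟩ := exists_normalizer_of_lt (hS.to_le hle) hlt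
  obtain ⟨s, hs, c, hc, rfl⟩ := mem_sup_of_le_normalizer hPN hx
  refine ⟨c, hCS hc, ?_, (mem_centralizerIn'.1 hc).2, fun hcP => hxP (mul_mem hs hcP)⟩
  have e : c = s⁻¹ * (s * c) := by group
  rw [e]
  exact mul_mem (inv_mem (Subgroup.le_normalizer hs)) hxN

theorem zj_R_case {p : ℕ} [Fact p.Prime] (h : GFun p 𝓗 W) [Finite S] (hS : IsPGroup p S)
    {F : FusionSystem S} (hF : F.IsSaturated p) (hfree : FF p 𝓗 F)
    {Q : Subgroup Ω} (hQ : F.IsNormal Q) {P : Subgroup Ω} {f : Ω → Ω}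
    (hRP : Q ⊔ centralizerIn S Q ≤ P) (hf : IsMap F P f) :
    ∃ g, IsMap F (P ⊔ WW W S) g ∧ (∀ x ∈ P, g x = f x) ∧ img (WW W S) g = WW W S := by
  have hQS := hQ.1
  have hsc := stronglyClosed_of_isNormal hQ
  have hwc := (weaklyClosed_iff.1 (weaklyClosed_of_stronglyClosed hsc)).2
  have hnQ : ∀ s ∈ S, ∀ x ∈ Q, s * x * s⁻¹ ∈ Q := fun s hs x hx =>
    conj_mem_of_mem_normalizer (stronglyClosed_le_normalizer hsc hs) hx
  set R := Q ⊔ centralizerIn S Q with hR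
  have hQR : Q ≤ R := le_sup_left
  have hRS : R ≤ S := sup_le hQS (centralizerIn_le S Q)
  have hfinR : Finite R := finite_of_le hRS
  have hwR : ∀ f', IsMap F R f' → img R f' = R := by
    intro f' m
    apply m.img_eq_of_forall_mem
    rw [← img_le_iff, hR, m.img_sup le_sup_left le_sup_right]
    apply sup_le_sup
    · rw [hwc f' (m.mono hQR)]
    · refine img_le_iff.2 fun c hc => ?_
      have := m.map_centralizerIn hQR (Subgroup.mem_sup_right hc) hc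
      rwa [hwc f' (m.mono hQR)] at this
  have hnR : ∀ s ∈ S, ∀ x ∈ R, s * x * s⁻¹ ∈ R := by
    intro s hs x hx
    have := hwR _ (isMap_conj F hRS hs)
    rw [← this]
    exact mem_img_of_mem (f := fun x => s * x * s⁻¹) hx
  have hT₂ : normalizerIn S R = S := normalizerIn_eq_of_forall hRS hnR
  have hfnR := fullyNormalized_of_forall F hRS hnR
  have hRc : F.IsCentric R := by
    refine ⟨hRS, fun R' hR' => ?_⟩
    obtain ⟨f', hf', rfl⟩ := isConj_iff.1 hR'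
    rw [hwR f' hf']
    intro c hc
    exact Subgroup.mem_sup_right ⟨hc.1, Subgroup.centralizer_le hQR hc.2⟩
  obtain ⟨M, hM⟩ := exists_normalizerSystem F hRS
  have key := h.isNormal_of_centric hS hF hfree hfnR hRc hM
  have hWeq : WW W (normalizerIn S R) = WW W S := by rw [hT₂]
  rw [hWeq] at key
  have mM : IsMap M P f := (isMap_normalizerSystem hM).2 ⟨hf, by rw [hT₂]; exact hf.le,
    fun x hx => by rw [hT₂]; exact hf.mem hx, f, hf.mono (sup_le le_rfl hRP), fun _ _ => rfl,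
    hwR f (hf.mono hRP)⟩
  obtain ⟨g, hg, e1, e2⟩ := (isNormal_iff.1 key).2 P f mM
  exact ⟨g, ((isMap_normalizerSystem hM).1 hg).1, e1, e2⟩

theorem zj_quotient_step {p : ℕ} [Fact p.Prime] (h : GFun p 𝓗 W) [Finite S] (hS : IsPGroup p S)
    {F : FusionSystem S} (hF : F.IsSaturated p) (hfree : FF p 𝓗 F)
    {Q : Subgroup Ω} (hQ : F.IsNormal Q) (hQne : Q ≠ ⊥) (hSQ : ¬ S ≤ Q)
    (IH : ∀ m < Nat.card S, ZJn.{u} p 𝓗 W m) :
    ∃ V, Q < V ∧ V ≤ S ∧ (∀ s ∈ S, ∀ x ∈ V, s * x * s⁻¹ ∈ V) ∧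
      ∀ P f, IsMap F P f → ∃ ρ, IsMap F (P ⊔ V) ρ ∧ img V ρ = V ∧
        ∀ x ∈ P, (ρ x)⁻¹ * f x ∈ Q := by
  have hQS := hQ.1
  have hscQ := stronglyClosed_of_isNormal hQ
  have hnQ : ∀ s ∈ S, ∀ x ∈ Q, s * x * s⁻¹ ∈ Q := fun s hs x hx =>
    conj_mem_of_mem_normalizer (stronglyClosed_le_normalizer hscQ hs) hx
  have hQn : (Q.subgroupOf S).Normal := ⟨fun x hx g => hnQ g g.2 x hx⟩
  let θ : S →* (S ⧸ Q.subgroupOf S) := QuotientGroup.mk' _
  have hθs : Function.Surjective θ := QuotientGroup.mk'_surjective _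
  have hr : θ.range = (⊤ : Subgroup (S ⧸ Q.subgroupOf S)) := MonoidHom.range_eq_top.2 hθs
  have hker : ∀ s ∈ S, extH θ s = 1 ↔ s ∈ Q := fun s hs => by
    rw [extH_apply θ hs]; exact QuotientGroup.eq_one_iff _
  obtain ⟨E, hE⟩ := exists_factorSystem F hscQ hker hr
  have SD := surjData_of_factor hS hF hscQ hE
  have hfin' : Finite (⊤ : Subgroup (S ⧸ Q.subgroupOf S)) := SD.finite'
  have hpg' := SD.isPGroup' hS
  have hEsat := SD.saturated hS hF
  have hcard : Nat.card (⊤ : Subgroup (S ⧸ Q.subgroupOf S)) < Nat.card S := by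
    rw [Subgroup.card_top, Subgroup.card_eq_card_quotient_mul_card_subgroup (Q.subgroupOf S)]
    have h2 : 1 < Nat.card (Q.subgroupOf S) := by
      rw [Subgroup.one_lt_card_iff_ne_bot]
      intro h
      apply hQne
      rw [eq_bot_iff]
      intro q hq
      have : (⟨q, hQS hq⟩ : S) ∈ Q.subgroupOf S := hq
      rw [h] at this
      exact Subgroup.mem_bot.2 (congrArg Subtype.val (Subgroup.mem_bot.1 this))
    exact lt_mul_of_one_lt_right Nat.card_pos h2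
  have htop : (⊤ : Subgroup (S ⧸ Q.subgroupOf S)) ≠ ⊥ := by
    intro h0
    apply hSQ
    intro d hd
    have : extH θ d ∈ (⊤ : Subgroup (S ⧸ Q.subgroupOf S)) := Subgroup.mem_top _
    rw [h0] at this
    exact (hker d hd).1 (Subgroup.mem_bot.1 this)
  have hW'ne := h.WW_ne_bot hpg' htop
  have hW'n := IH _ hcard (S ⧸ Q.subgroupOf S) ⊤ E rfl hpg' hEsat (fun H _ hH => sectionFree_factor hS hF (hfree H hH) SD)
  set W' := WW W (⊤ : Subgroup (S ⧸ Q.subgroupOf S)) with hW'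
  set V := preimageAlong θ W' with hV
  have hQV : Q ≤ V := SD.le_pre W'
  have hVS : V ≤ S := preimageAlong_le θ W'
  have hQltV : Q < V := by
    refine lt_of_le_of_ne hQV fun h => hW'ne ?_
    rw [eq_bot_iff]
    intro w hw
    obtain ⟨s, rfl⟩ := hθs w
    have hsV : (s : Ω) ∈ V := mem_preimageAlong.2 ⟨s.2, by rw [extH_coe]; exact hw⟩
    rw [← h] at hsV
    have := (hker s s.2).2 hsV
    rw [extH_coe] at this
    exact Subgroup.mem_bot.2 this
  have hcW' : ∀ t : S ⧸ Q.subgroupOf S, ∀ w ∈ W', t * w * t⁻¹ ∈ W' := fun t =>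
    h.conj_mem hpg' le_rfl (Subgroup.mem_top t) (fun _ _ => Subgroup.mem_top _)
  have hnV : ∀ s ∈ S, ∀ x ∈ V, s * x * s⁻¹ ∈ V := by
    intro s hs x hx
    obtain ⟨hxS, hxW⟩ := mem_preimageAlong.1 hx
    refine mem_preimageAlong.2 ⟨S.mul_mem (S.mul_mem hs hxS) (S.inv_mem hs), ?_⟩
    rw [extH_conj θ hs hxS]
    exact hcW' _ _ hxW
  refine ⟨V, hQltV, hVS, hnV, fun P f hf => ?_⟩
  obtain ⟨f', hf', ef⟩ := SD.M2 P f hf
  obtain ⟨g', hg', e1', e2'⟩ := (isNormal_iff.1 hW'n).2 _ f' hf'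
  obtain ⟨ρ, hρ, eρ⟩ := SD.M4 (imageAlong θ P ⊔ W') le_top g' hg'
  have hPN₁ : P ≤ preimageAlong θ (imageAlong θ P ⊔ W') := fun x hx =>
    mem_preimageAlong.2 ⟨hf.le hx, Subgroup.mem_sup_left (mem_imageAlong_of_mem hf.le hx)⟩
  have hVN₁ : V ≤ preimageAlong θ (imageAlong θ P ⊔ W') := fun x hx =>
    mem_preimageAlong.2 ⟨(mem_preimageAlong.1 hx).1,
      Subgroup.mem_sup_right (mem_preimageAlong.1 hx).2⟩
  have hiV : img V ρ = V := by
    have := SD.img_lift (P' := W') le_top (hg'.mono le_sup_right) (hρ.mono hVN₁)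
      (fun x hx => eρ x (hVN₁ hx))
    rw [this, e2']
  refine ⟨ρ, hρ.mono (sup_le hPN₁ hVN₁), hiV, fun x hx => ?_⟩
  refine (SD.eq_iff (hρ.mem (hPN₁ hx)) (hf.mem hx)).1 ?_
  rw [← eρ x (hPN₁ hx), e1' _ (mem_imageAlong_of_mem hf.le hx), ef x hx]

end

theorem zjA {p : ℕ} [Fact p.Prime] {𝓗 : ∀ (H : Type u) [Group H], Prop}
    {W : ∀ (Q : Type u) [Group Q], Subgroup Q} (h : GFun p 𝓗 W)
    {n : ℕ} (IH : ∀ m < n, ZJn.{u} p 𝓗 W m) :
    ∀ (k : ℕ) (Ω : Type u) [Group Ω] (S : Subgroup Ω) [Finite S] (F : FusionSystem S)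
      (Q : Subgroup Ω), Nat.card S = n → IsPGroup p S → F.IsSaturated p →
      FF p 𝓗 F → F.IsNormal Q → Q ≠ ⊥ → Nat.card S - Nat.card Q = k →
      F.IsNormal (WW W S) := by
  intro k
  induction k using Nat.strong_induction_on with
  | _ k IHk =>
    intro Ω _ S _ F Q hn hS hF hfree hQ hQne hk
    have hXS : WW W S ≤ S := WW_le S
    have hnX : ∀ s ∈ S, ∀ x ∈ WW W S, s * x * s⁻¹ ∈ WW W S := fun s hs =>
      h.conj_mem hS le_rfl hs (fun d hd => S.mul_mem (S.mul_mem hs hd) (S.inv_mem hs))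
    refine isNormal_of_alperin hS hF hXS hnX fun E hE P hP hbig f hf hi => ?_
    by_cases hPS : P = S
    · rw [hPS] at hf hi ⊢
      exact (hE _ f).2 ⟨f, hf.mono (sup_le le_rfl hXS), fun _ _ => rfl, h.img_WW_eq hS hf hi⟩
    have hess := hP.resolve_left hPS
    have hfnP := hess.2.1
    have hfP : Finite P := finite_of_le hf.le
    by_cases hQP : Q ≤ P
    swap
    · obtain ⟨g, hg, e1, e2⟩ := (isNormal_iff.1 hQ).2 P f hf
      have hlt : P < P ⊔ Q := lt_of_le_of_ne le_sup_left (fun h => hQP (h ▸ le_sup_right))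
      exact ((hbig _ g (card_lt_of_lt hg.le hlt) hg).mono le_sup_left).congr e1
    have hSQ : ¬ S ≤ Q := fun h => hPS (le_antisymm hf.le (h.trans hQP))
    by_cases hRP : Q ⊔ centralizerIn S Q ≤ P
    · exact (hE P f).2 (zj_R_case h hS hF hfree hQ hRP hf)
    obtain ⟨c, hcS, hcN, hcQ, hcP⟩ := exists_c hS hQ hf.le hQP hRP
    obtain ⟨V, hQV, hVS, hnV, hV⟩ := zj_quotient_step h hS hF hfree hQ hQne hSQ (hn ▸ IH)
    have hTV : normalizerIn S V = S := normalizerIn_eq_of_forall hVS hnV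
    have hfnV := fullyNormalized_of_forall F hVS hnV
    obtain ⟨MV, hMV⟩ := exists_normalizerSystem F hVS
    have hfin₂ : Finite ↥(normalizerIn S V) := finite_of_le inf_le_left
    have hp₂ : IsPGroup p ↥(normalizerIn S V) := hS.to_le inf_le_left
    have hMVsat := normalizerSystem_saturated hS hF hfnV hMV
    have hVn := isNormal_normalizerSystem hVS hMV
    have hMVfree := (fun (H : Type u) [Group H] (hH : 𝓗 H) => sectionFree_normalizerSystem hS hF (hfree H hH) hfnV hMV)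
    have hcQV := card_lt_of_lt hVS hQV
    have hcVS : Nat.card V ≤ Nat.card S := card_le_of_le le_rfl hVS
    have key := IHk (Nat.card ↥(normalizerIn S V) - Nat.card V) (by rw [hTV]; omega) Ω
      (normalizerIn S V) MV V (by rw [hTV]; exact hn) hp₂ hMVsat hMVfree hVn (ne_bot_of_gt hQV) rfl
    have hWeq : WW W (normalizerIn S V) = WW W S := by rw [hTV]
    rw [hWeq] at key
    obtain ⟨ρ, hρ, hiV, hmod⟩ := hV P f hf
    have mρ : IsMap MV P ρ := (isMap_normalizerSystem hMV).2 ⟨hρ.mono le_sup_left, by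
      rw [hTV]; exact hf.le, fun x hx => by rw [hTV]; exact hρ.mem (Subgroup.mem_sup_left hx), ρ,
      hρ, fun _ _ => rfl, hiV⟩
    obtain ⟨g, hg, e1, e2⟩ := (isNormal_iff.1 key).2 P ρ mρ
    have mEρ : IsMap E P ρ := (hE P ρ).2 ⟨g, ((isMap_normalizerSystem hMV).1 hg).1, e1, e2⟩
    have hρP : IsMap F P ρ := hρ.mono le_sup_left
    have hfmem : ∀ x ∈ P, f x ∈ P := fun x hx => by
      have : f x ∈ img P f := mem_img_of_mem hx
      rwa [hi] at this
    have hiρ : img P ρ = P := hρP.img_eq_of_forall_mem fun x hx => by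
      have h2 := hQP (hmod x hx)
      have e : ρ x = f x * ((ρ x)⁻¹ * f x)⁻¹ := by group
      rw [e]; exact mul_mem (hfmem x hx) (inv_mem h2)
    obtain ⟨ψ, hψ, hψ1, hψ2⟩ := hρP.exists_inv
    rw [hiρ] at hψ hψ2
    have hψmem : ∀ y ∈ P, ψ y ∈ P := img_le_iff.1 hψ2.le
    have mκ : IsMap F P (f ∘ ψ) := hψ.comp hf hψmem
    have hκmod : ∀ y ∈ P, y⁻¹ * (f ∘ ψ) y ∈ Q := by
      intro y hy
      rw [← hiρ] at hy
      obtain ⟨x, hx, rfl⟩ := hρP.mem_img.1 hy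
      show (ρ x)⁻¹ * f (ψ (ρ x)) ∈ Q
      rw [hψ1 x hx]; exact hmod x hx
    have hiκ : img P (f ∘ ψ) = P :=
      mκ.img_eq_of_forall_mem fun y hy => hfmem _ (hψmem y hy)
    have hcNN := mem_NN_of_mod hS hF hfnP hQP (stronglyClosed_of_isNormal hQ) mκ hiκ hκmod hcS hcN
      hcQ
    obtain ⟨-, -, hrec⟩ := sat_props hS hF hfnP
    obtain ⟨κ', hκ', eκ⟩ := (isReceptive_iff.1 hrec).2 P _ mκ hiκ
    have hlt : P < NN S P (f ∘ ψ) := lt_of_le_of_ne mκ.le_NN (fun h => hcP (h ▸ hcNN))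
    have mEκ : IsMap E P (f ∘ ψ) :=
      ((hbig _ κ' (card_lt_of_lt hκ'.le hlt) hκ').mono mκ.le_NN).congr eκ
    refine (mEρ.comp mEκ (fun x hx => ?_)).congr fun x hx => ?_
    · have : ρ x ∈ img P ρ := mem_img_of_mem hx
      rwa [hiρ] at this
    · show f (ψ (ρ x)) = f x
      rw [hψ1 x hx]

end Cfsg.Agent.H8.Fam
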