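import Cfsg.Agent.Lib_helper8_FusEC

set_option autoImplicit false

namespace Cfsg.Agent.H8.Fam
open Cfsg Cfsg.FusionSystem

universe u

section
variable {𝓗 : ∀ (H : Type u) [Group H], Prop} {W : ∀ (Q : Type u) [Group Q], Subgroup Q} {Ω : Type u} [Group Ω] {S : Subgroup Ω}

theorem zjB {p : ℕ} [Fact p.Prime] (h : GFun p 𝓗 W) {n : ℕ} (IH : ∀ m < n, ZJn.{u} p 𝓗 W m)
    [Finite S] (hn : Nat.card S = n) (hS : IsPGroup p S) {F : FusionSystem S}
    (hF : F.IsSaturated p) (hfree : FF p 𝓗 F) (E : FusionSystem S)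
    (hE : ∀ P f, IsMap E P f ↔
      ∃ g, IsMap F (P ⊔ WW W S) g ∧ (∀ x ∈ P, g x = f x) ∧ img (WW W S) g = WW W S)
    (n₀ : ℕ) (hbig : ∀ (Q : Subgroup Ω) (k : Ω → Ω), n₀ < Nat.card Q → IsMap F Q k → IsMap E Q k) :
    ∀ (m : ℕ) (U P : Subgroup Ω) (f : Ω → Ω), U ≠ ⊥ → U ≤ P → P ≤ normalizerIn S U →
      Nat.card P = n₀ → n₀ < Nat.card (normalizerIn S U) →
      Nat.card S - Nat.card (normalizerIn S U) = m → IsMap F P f → img P f = P → img U f = U →
      IsMap E P f := by
  have hEF : ∀ P f, IsMap E P f → IsMap F P f := fun P f hf => by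
    obtain ⟨g, hg, e, -⟩ := (hE P f).1 hf
    exact (hg.mono le_sup_left).congr e
  intro m
  induction m using Nat.strong_induction_on with
  | _ m IHm =>
    intro U P f hUne hUP hPN hcP hlt hm hf hiP hiU
    have hUS : U ≤ S := hUP.trans hf.le
    have hfP : Finite P := finite_of_le hf.le
    have hfU : Finite U := finite_of_le hUS
    obtain ⟨U', hUU', hU'fn⟩ := exists_fullyNormalized_conj F hUS
    obtain ⟨-, hfa, hrec⟩ := sat_props hS hF hU'fn
    obtain ⟨χ, hχ, hχi, hχN⟩ := exists_normalizer_map hS hfa hrec hUU'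
    have mEχ : IsMap E (normalizerIn S U) χ := hbig _ χ hlt hχ
    have hTS : normalizerIn S U' ≤ S := inf_le_left
    have hfinT : Finite (normalizerIn S U') := finite_of_le hTS
    have hpT : IsPGroup p (normalizerIn S U') := hS.to_le hTS
    have hc2 : Nat.card (normalizerIn S U) ≤ Nat.card (normalizerIn S U') := by
      rw [← hχ.card_img]
      exact card_le_of_le (normalizerIn_le S U') (img_le_iff.2 hχN)
    have hUN : U ≤ normalizerIn S U := le_normalizerIn hUS
    have hU'ne : U' ≠ ⊥ := by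
      intro h0
      apply hUne
      rw [eq_bot_iff]
      intro v hv
      have h1 : χ v ∈ img U χ := mem_img_of_mem hv
      rw [hχi, h0] at h1
      exact Subgroup.mem_bot.2 (hχ.eq_one (hUN hv) (Subgroup.mem_bot.1 h1))
    have hfU' : Finite U' := finite_of_le hU'fn.1
    obtain ⟨N', hN'⟩ := exists_normalizerSystem F hU'fn.1
    have hN'sat := normalizerSystem_saturated hS hF hU'fn hN'
    have hU'n := isNormal_normalizerSystem hU'fn.1 hN'
    have hN'free := (fun (H : Type u) [Group H] (hH : 𝓗 H) => sectionFree_normalizerSystem hS hF (hfree H hH) hU'fn hN')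
    have mEχP : IsMap E P χ := mEχ.mono hPN
    have hχP : IsMap F P χ := hχ.mono hPN
    obtain ⟨ψ, hψE, hψ1, hψ2⟩ := mEχP.exists_inv
    have hψ := hEF _ _ hψE
    have hfmem : ∀ x ∈ P, f x ∈ P := fun x hx => by
      have : f x ∈ img P f := mem_img_of_mem hx
      rwa [hiP] at this
    have hψmem : ∀ y ∈ img P χ, ψ y ∈ P := img_le_iff.1 hψ2.le
    have m1 : IsMap F (img P χ) (χ ∘ (f ∘ ψ)) :=
      (hψ.comp hf hψmem).comp hχP (fun y hy => hfmem _ (hψmem y hy))
    have hval : ∀ x ∈ P, (χ ∘ (f ∘ ψ)) (χ x) = χ (f x) := by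
      intro x hx
      show χ (f (ψ (χ x))) = _
      rw [hψ1 x hx]
    have hfP' : Finite (img P χ) := finite_of_le m1.le
    have hiP' : img (img P χ) (χ ∘ (f ∘ ψ)) = img P χ :=
      m1.img_eq_of_forall_mem fun y hy => mem_img_of_mem (hfmem _ (hψmem y hy))
    have hU'P' : U' ≤ img P χ := by rw [← hχi]; exact img_mono hUP
    have hiU' : img U' (χ ∘ (f ∘ ψ)) = U' := by
      apply (m1.mono hU'P').img_eq_of_forall_mem
      intro y hy
      rw [← hχi] at hy
      obtain ⟨v, hv, rfl⟩ := (hχ.mono hUN).mem_img.1 hy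
      rw [hval v (hUP hv), ← hχi]
      apply mem_img_of_mem
      rw [← hiU]; exact mem_img_of_mem hv
    have hP'T : img P χ ≤ normalizerIn S U' := img_le_iff.2 fun x hx => hχN x (hPN hx)
    have mN' : IsMap N' (img P χ) (χ ∘ (f ∘ ψ)) := (isMap_normalizerSystem hN').2
      ⟨m1, hP'T, fun y hy => hχN _ (hPN (hfmem _ (hψmem y hy))), _,
        m1.mono (sup_le le_rfl hU'P'), fun _ _ => rfl, hiU'⟩
    suffices hsuff : IsMap E (img P χ) (χ ∘ (f ∘ ψ)) by
      refine ((mEχP.comp hsuff (fun x hx => mem_img_of_mem hx)).comp hψE (fun x hx => ?_)).congr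
        fun x hx => ?_
      · show (χ ∘ (f ∘ ψ)) (χ x) ∈ img P χ
        rw [hval x hx]; exact mem_img_of_mem (hfmem x hx)
      · show ψ ((χ ∘ (f ∘ ψ)) (χ x)) = f x
        rw [hval x hx, hψ1 _ (hfmem x hx)]
    by_cases hTc : Nat.card (normalizerIn S U') = Nat.card S
    · have hTeq : normalizerIn S U' = S := eq_of_le_of_card_le le_rfl hTS hTc.ge
      have key := zjA h IH _ Ω (normalizerIn S U') N' U' (hTc.trans hn) hpT hN'sat hN'free hU'n
        hU'ne rfl
      have hWeq : WW W (normalizerIn S U') = WW W S := by rw [hTeq]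
      rw [hWeq] at key
      obtain ⟨g, hg, e1, e2⟩ := (isNormal_iff.1 key).2 _ _ mN'
      exact (hE _ _).2 ⟨g, ((isMap_normalizerSystem hN').1 hg).1, e1, e2⟩
    have hTle : Nat.card (normalizerIn S U') ≤ Nat.card S := card_le_of_le le_rfl hTS
    have hlt' : Nat.card (normalizerIn S U') < n := by omega
    have hTltS : normalizerIn S U' < S := lt_of_le_of_ne hTS fun h => hTc (by rw [h])
    have key := IH _ hlt' Ω (normalizerIn S U') N' rfl hpT hN'sat hN'free
    obtain ⟨g, hg, e1, e2⟩ := (isNormal_iff.1 key).2 _ _ mN'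
    have hgF := ((isMap_normalizerSystem hN').1 hg).1
    have hcP' : Nat.card (img P χ) = n₀ := by rw [hχP.card_img, hcP]
    by_cases hU₂P : WW W (normalizerIn S U') ≤ img P χ
    swap
    · have hlt₂ : img P χ < img P χ ⊔ WW W (normalizerIn S U') :=
        lt_of_le_of_ne le_sup_left (fun h => hU₂P (h ▸ le_sup_right))
      have := card_lt_of_lt hgF.le hlt₂
      rw [hcP'] at this
      exact ((hbig _ g this hgF).mono le_sup_left).congr e1
    have hTne : normalizerIn S U' ≠ ⊥ := fun h0 => hU'ne (eq_bot_iff.2 (h0 ▸ hU'n.1))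
    have hU₂ne := h.WW_ne_bot hpT hTne
    have hU₂S : WW W (normalizerIn S U') ≤ S := (WW_le _).trans hTS
    have hfU₂ : Finite (WW W (normalizerIn S U')) := finite_of_le hU₂S
    have hnorm : ∀ x ∈ S, x ∈ Subgroup.normalizer ((normalizerIn S U' : Subgroup Ω) : Set Ω) →
        x ∈ normalizerIn S (WW W (normalizerIn S U')) := by
      intro x hx hxT
      exact ⟨hx, mem_normalizer_of_forall (h.conj_mem hS hTS hx fun d hd =>
        conj_mem_of_mem_normalizer hxT hd)⟩
    have hTV : normalizerIn S U' ≤ normalizerIn S (WW W (normalizerIn S U')) :=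
      fun t ht => hnorm t (hTS ht) (Subgroup.le_normalizer ht)
    obtain ⟨x₀, hx₀S, hx₀nT, hx₀N⟩ := exists_normalizer_of_lt hS hTltS
    have hTltV : normalizerIn S U' < normalizerIn S (WW W (normalizerIn S U')) :=
      lt_of_le_of_ne hTV fun h => hx₀nT (h ▸ hnorm x₀ hx₀S hx₀N)
    have hc1 := card_lt_of_lt (normalizerIn_le S _) hTltV
    have hc3 : Nat.card (normalizerIn S (WW W (normalizerIn S U'))) ≤ Nat.card S :=
      card_le_of_le le_rfl (normalizerIn_le S _)
    refine IHm (Nat.card S - Nat.card (normalizerIn S (WW W (normalizerIn S U')))) (by omega)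
      (WW W (normalizerIn S U')) (img P χ) _ hU₂ne hU₂P (hP'T.trans hTV) hcP' (by omega) rfl m1 hiP'
      ?_
    rw [← img_congr (fun x hx => e1 x (hU₂P hx)), e2]

end

theorem zj_main {p : ℕ} [Fact p.Prime] {𝓗 : ∀ (H : Type u) [Group H], Prop}
    {W : ∀ (Q : Type u) [Group Q], Subgroup Q} (h : GFun p 𝓗 W) :
    ∀ n, ZJn.{u} p 𝓗 W n := by
  intro n
  induction n using Nat.strong_induction_on with
  | _ n IH =>
    intro Ω _ S _ F hn hS hF hfree
    have hXS : WW W S ≤ S := WW_le S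
    have hnX : ∀ s ∈ S, ∀ x ∈ WW W S, s * x * s⁻¹ ∈ WW W S := fun s hs =>
      h.conj_mem hS le_rfl hs (fun d hd => S.mul_mem (S.mul_mem hs hd) (S.inv_mem hs))
    refine isNormal_of_alperin hS hF hXS hnX fun E hE P hP hbig f hf hi => ?_
    by_cases hPS : P = S
    · rw [hPS] at hf hi ⊢
      exact (hE _ f).2 ⟨f, hf.mono (sup_le le_rfl hXS), fun _ _ => rfl, h.img_WW_eq hS hf hi⟩
    by_cases hPne : P = ⊥
    · refine (isMap_id E hf.le).congr fun x hx => ?_
      rw [hPne] at hx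
      rw [Subgroup.mem_bot.1 hx, hf.one]; rfl
    have hPltS : P < S := lt_of_le_of_ne hf.le hPS
    obtain ⟨x₀, hx₀S, hx₀nP, hx₀N⟩ := exists_normalizer_of_lt hS hPltS
    have hlt : P < normalizerIn S P :=
      lt_of_le_of_ne (le_normalizerIn hf.le) fun h => hx₀nP (h ▸ ⟨hx₀S, hx₀N⟩)
    exact zjB h IH hn hS hF hfree E hE (Nat.card P) hbig _ P P f hPne le_rfl
      (le_normalizerIn hf.le) rfl (card_lt_of_lt (normalizerIn_le S P) hlt) rfl hf hi hi

end Cfsg.Agent.H8.Fam
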