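import Cfsg.Agent.Lib_helper8_FusDX
import Cfsg.Agent.Lib_helper8_FusEA
import Cfsg.Agent.Lib_helper8_FusDG

set_option autoImplicit false

namespace Cfsg.Agent.H8
open Cfsg Cfsg.FusionSystem

section realq
variable {Ω : Type*} [Group Ω] {S : Subgroup Ω} {G : Type*} [Group G] [Finite G]
  {p : ℕ} [Fact p.Prime]

/-- a realization on a Sylow subgroup survives the quotient by `O_{p'}` -/
theorem realized_quot {F : FusionSystem S} {ι : S →* G} (hr : F.IsRealizedBy ι) (T : Sylow p G)
    (hT : (T : Subgroup G) = ι.range) :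
    F.IsRealizedBy ((QuotientGroup.mk' (pPrimeCore p G)).comp ι) ∧
      ∃ T' : Sylow p (G ⧸ pPrimeCore p G),
        (T' : Subgroup (G ⧸ pPrimeCore p G)) = ((QuotientGroup.mk' (pPrimeCore p G)).comp ι).range := by
  set K := pPrimeCore p G with hKdef
  have hK : (Nat.card K).Coprime p := H1.card_pPrimeCore_coprime p
  set π := QuotientGroup.mk' K with hπ
  have hsurj : Function.Surjective π := QuotientGroup.mk'_surjective K
  have hιT : ∀ x : S, ι x ∈ (T : Subgroup G) := fun x => by rw [hT]; exact ⟨x, rfl⟩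
  refine ⟨⟨?_, ?_⟩, T.mapSurjective hsurj, ?_⟩
  · intro x y hxy
    exact hr.1 (mk_inj_on_sylow hK T (hιT x) (hιT y) hxy)
  · intro P hP φ hφ
    rw [hr.2 P hP φ hφ]
    constructor
    · rintro ⟨g, hg⟩
      refine ⟨π g, fun x => ?_⟩
      show π (ι _) = π g * π (ι _) * (π g)⁻¹
      rw [hg x, map_mul, map_mul, map_inv]
    · rintro ⟨gb, hg⟩
      obtain ⟨g, rfl⟩ := hsurj gb
      have hg' : ∀ x : P, π (ι ⟨φ x, hφ x⟩) = π (g * ι ⟨x, hP x.2⟩ * g⁻¹) := fun x => by
        rw [map_mul, map_mul, map_inv]; exact hg x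
      set A : Subgroup G := (P.subgroupOf S).map ι with hA
      have hAT : A ≤ (T : Subgroup G) := by
        rintro _ ⟨x, -, rfl⟩; exact hιT x
      set X := ((T : Subgroup G).map π).comap π with hX
      have hTX : (T : Subgroup G) ≤ X := Subgroup.le_comap_map _ _
      have hAX : cjs g A ≤ X := by
        rintro _ ⟨_, ⟨x, hx, rfl⟩, rfl⟩
        show π (g * ι x * g⁻¹) ∈ (T : Subgroup G).map π
        have := hg' ⟨x, hx⟩
        rw [← this]
        exact ⟨_, hιT _, rfl⟩
      have hsyl : SylIn p (T : Subgroup G) X := (sylIn_top T).of_le le_top hTX le_top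
      obtain ⟨γ, hγX, hγ⟩ := sylow_conj hsyl hAX (isPGroup_cjs (T.2.to_le hAT) g)
      obtain ⟨s, hs, hsγ⟩ : π γ ∈ (T : Subgroup G).map π := hγX
      set k := s⁻¹ * γ with hk
      have hk1 : π k = 1 := by rw [hk, map_mul, map_inv, hsγ, inv_mul_cancel]
      refine ⟨k * g, fun x => ?_⟩
      have hmem : g * ι ⟨x, hP x.2⟩ * g⁻¹ ∈ cjs g A :=
        cj_mem_cjs ⟨⟨x, hP x.2⟩, Subgroup.mem_subgroupOf.2 x.2, rfl⟩
      have h1 : k * (g * ι ⟨x, hP x.2⟩ * g⁻¹) * k⁻¹ ∈ (T : Subgroup G) := by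
        have e : k * (g * ι ⟨x, hP x.2⟩ * g⁻¹) * k⁻¹ =
            s⁻¹ * (γ * (g * ι ⟨x, hP x.2⟩ * g⁻¹) * γ⁻¹) * s := by rw [hk]; group
        rw [e]
        exact (T : Subgroup G).mul_mem ((T : Subgroup G).mul_mem ((T : Subgroup G).inv_mem hs)
          (hγ _ hmem)) hs
      have h2 : ι ⟨φ x, hφ x⟩ = k * (g * ι ⟨x, hP x.2⟩ * g⁻¹) * k⁻¹ := by
        refine mk_inj_on_sylow hK T (hιT _) h1 ?_
        rw [hg' x, map_mul (f := π) (k * _), map_mul (f := π) k, map_inv, hk1]; group
      rw [h2]; group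
  · rw [MonoidHom.range_comp, ← hT]; rfl

/-- constraint of `Y/O_{p'}(Y)` from a normal `p`-subgroup containing its centralizer in a Sylow -/
theorem quot_constrained_of_centric {Y : Type*} [Group Y] [Finite Y] (R : Sylow p Y)
    {Q : Subgroup Y} (hQn : Q.Normal) (hQR : Q ≤ R)
    (hc : (R : Subgroup Y) ⊓ Subgroup.centralizer (Q : Set Y) ≤ Q) :
    Subgroup.centralizer (pCore p (Y ⧸ pPrimeCore p Y) : Set (Y ⧸ pPrimeCore p Y)) ≤
      pCore p (Y ⧸ pPrimeCore p Y) := by
  set K := pPrimeCore p Y with hKdef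
  have hK : (Nat.card K).Coprime p := H1.card_pPrimeCore_coprime p
  set π := QuotientGroup.mk' K with hπ
  have hsurj : Function.Surjective π := QuotientGroup.mk'_surjective K
  have hQp : IsPGroup p Q := R.2.to_le hQR
  have hQle : Q.map π ≤ pCore p (Y ⧸ K) := H1.le_pCore p (hQn.map π hsurj) (hQp.map π)
  set C := Subgroup.centralizer (Q : Set Y) with hC
  have hCn : C.Normal := inferInstance
  -- `C ≤ Q K`
  have key : ∀ c ∈ C, π c ∈ Q.map π := by
    have hn : (⊤ : Subgroup Y) ≤ Subgroup.normalizer (C : Set Y) :=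
      (Subgroup.normalizer_eq_top_iff.2 hCn).ge
    obtain ⟨PC, hPC⟩ := (sylIn_top R).inf_normal le_top le_top hn
    have hcen : ∀ z ∈ (PC : Subgroup C), ∀ c : C, c * z = z * c := by
      intro z hz c
      rw [hPC, Subgroup.mem_subgroupOf] at hz
      have hzQ : (z : Y) ∈ Q := hc hz
      exact Subtype.ext (Subgroup.mem_centralizer_iff.1 c.2 _ hzQ).symm
    have hP : Subgroup.normalizer ((PC : Subgroup C) : Set C) ≤
        Subgroup.centralizer ((PC : Subgroup C) : Set C) := by
      intro c _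
      rw [Subgroup.mem_centralizer_iff]
      intro z hz
      exact (hcen z hz c).symm
    have hcomp := MonoidHom.ker_transferSylow_isComplement' PC hP
    set D := (MonoidHom.transferSylow PC hP).ker with hD
    have hDcop : (Nat.card D).Coprime p := by
      have h1 : Nat.card D = (PC : Subgroup C).index := hcomp.index_eq_card.symm
      rw [h1, Nat.coprime_comm, Nat.Prime.coprime_iff_not_dvd Fact.out]
      exact PC.not_dvd_index
    have hDle : D ≤ pPrimeCore p C := H1.le_pPrimeCore p inferInstance hDcop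
    have hchar : (pPrimeCore p C).Characteristic := H1.pPrimeCore_characteristic p
    have hEn : ((pPrimeCore p C).map C.subtype).Normal :=
      ConjAct.normal_of_characteristic_of_normal
    have hEle : (pPrimeCore p C).map C.subtype ≤ K := by
      apply H1.le_pPrimeCore p hEn
      rw [Subgroup.card_map_of_injective C.subtype_injective]
      exact H1.card_pPrimeCore_coprime p
    intro c hcC
    obtain ⟨⟨d, z⟩, hdz⟩ := hcomp.2 ⟨c, hcC⟩
    have hdz' : (d : C) * (z : C) = ⟨c, hcC⟩ := hdz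
    have hdK : ((d : C) : Y) ∈ K := hEle ⟨d, hDle d.2, rfl⟩
    have hz : (z : C) ∈ (PC : Subgroup C) := z.2
    have hz' : (z : C) ∈ ((R : Subgroup Y) ⊓ C).subgroupOf C := hPC ▸ hz
    have hzQ : ((z : C) : Y) ∈ Q := hc (Subgroup.mem_subgroupOf.1 hz')
    have e : c = ((d : C) : Y) * ((z : C) : Y) := (congrArg Subtype.val hdz').symm
    refine ⟨((z : C) : Y), hzQ, ?_⟩
    have hd1 : π ((d : C) : Y) = 1 := (QuotientGroup.eq_one_iff _).2 hdK
    rw [e, map_mul, hd1, one_mul]
  intro xb hxb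
  obtain ⟨x, rfl⟩ := hsurj xb
  apply hQle
  apply key
  rw [hC, Subgroup.mem_centralizer_iff]
  intro q hq
  have h1 : x * q * x⁻¹ ∈ Q := hQn.conj_mem q hq x
  have h2 : π (x * q * x⁻¹) = π q := by
    have : π q * π x = π x * π q :=
      Subgroup.mem_centralizer_iff.1 hxb (π q) (hQle ⟨q, hq, rfl⟩)
    rw [map_mul, map_mul, map_inv, ← this]; group
  have h3 := mk_inj_on_sylow hK R (hQR h1) (hQR hq) h2
  calc q * x = (x * q * x⁻¹) * x := by rw [h3]
    _ = x * q := by group

end realq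

end Cfsg.Agent.H8
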