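import Cfsg.Agent.Lib_helper8_FusEE

set_option autoImplicit false

namespace Cfsg.Agent.H8
open Cfsg Cfsg.FusionSystem

section gf
universe u
variable {X : Type u} [Group X] [Finite X] {p : ℕ} [Fact p.Prime]

omit [Finite X] in
theorem cjs_eq_of_mem_normalizer {Q : Subgroup X} {h : X}
    (hh : h ∈ Subgroup.normalizer (Q : Set X)) : cjs h Q = Q := by
  ext x
  rw [mem_cjs]
  have h1 := Subgroup.mem_normalizer_iff.1 (Subgroup.inv_mem _ hh) x
  rw [inv_inv] at h1
  exact h1.symm

theorem normalizerSystem_realized (T : Subgroup X) {Q : Subgroup X} (hQT : Q ≤ T)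
    {N : FusionSystem (normalizerIn T Q)}
    (hN : (fusionSystemOfSubgroup ⊤ T le_top).IsNormalizerSystem Q N) :
    N.IsRealizedBy (Subgroup.inclusion
      (inf_le_right : normalizerIn T Q ≤ Subgroup.normalizer (Q : Set X))) := by
  refine ⟨Subgroup.inclusion_injective _, fun P hP φ hφ => ?_⟩
  rw [hN P, mem_normalizerHom_iff]
  constructor
  · rintro ⟨h1, h2, h3, k, hk, h4, h5⟩
    obtain ⟨-, g, -, hg⟩ := isMap_ofSubgroup_iff.1 hk
    have hgN : g ∈ Subgroup.normalizer (Q : Set X) := by
      apply mem_normalizer_of_forall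
      intro q hq
      rw [← (hg q (Subgroup.mem_sup_right hq)).1, ← h5]
      exact mem_img_of_mem hq
    refine ⟨⟨g, hgN⟩, fun x => Subtype.ext ?_⟩
    show φ x = g * x * g⁻¹
    rw [← (hg x (Subgroup.mem_sup_left x.2)).1, h4 x x.2, ext_coe]
  · rintro ⟨⟨h, hh⟩, hx⟩
    have e : ∀ x : P, φ x = h * x * h⁻¹ := fun x => congrArg Subtype.val (hx x)
    have hPT : P ≤ T := hP.trans inf_le_left
    have hcP : cjs h P ≤ T := by
      rintro _ ⟨x, hx', rfl⟩
      have := (hφ ⟨x, hx'⟩).1
      rw [e] at this; exact this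
    have hle : cjs h (P ⊔ Q) ≤ T := by
      have e0 : cjs h (P ⊔ Q) = cjs h P ⊔ cjs h Q := Subgroup.map_sup _ _ _
      rw [e0, cjs_eq_of_mem_normalizer hh]
      exact sup_le hcP hQT
    refine ⟨isMap_ofSubgroup_iff.2 ⟨hPT, h, Subgroup.mem_top h, fun x hx' =>
        ⟨by rw [ext_apply φ hx', e], hcP (cj_mem_cjs hx')⟩⟩, hP,
      fun x hx' => by rw [ext_apply φ hx']; exact hφ _, cj h,
      isMap_cj (sup_le hPT hQT) (Subgroup.mem_top h) hle,
      fun x hx' => by rw [ext_apply φ hx', e]; rfl, ?_⟩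
    rw [img_cj, cjs_eq_of_mem_normalizer hh]

/-- the local models of the fusion system of a group are sections of the group -/
theorem involves_of_model_group (T : Sylow p X) {Q : Subgroup X}
    (hfn : (fusionSystemOfSubgroup ⊤ (T : Subgroup X) le_top).IsFullyNormalized Q)
    (hc : (fusionSystemOfSubgroup ⊤ (T : Subgroup X) le_top).IsCentric Q)
    {N : FusionSystem (normalizerIn (T : Subgroup X) Q)}
    (hN : (fusionSystemOfSubgroup ⊤ (T : Subgroup X) le_top).IsNormalizerSystem Q N)
    {L : Type u} [Group L] {ι : ↥(normalizerIn (T : Subgroup X) Q) →* L}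
    (hL : N.IsModel p L ι) : Involves L X := by
  have hQT : Q ≤ T := hfn.1
  set H := Subgroup.normalizer (Q : Set X) with hH
  have hsyl : SylIn p (normalizerIn (T : Subgroup X) Q) H := by
    have := (fullyNormalized_ofSubgroup_iff le_top (sylIn_top T) hQT).1 hfn
    have e : normalizerIn (⊤ : Subgroup X) Q = H := top_inf_eq _
    rwa [e] at this
  obtain ⟨R', hR'⟩ := hsyl
  have hr₁ := normalizerSystem_realized (T : Subgroup X) hQT hN
  have hrange : (R' : Subgroup H) = (Subgroup.inclusion (inf_le_right : normalizerIn (T : Subgroup X) Q ≤ H)).range := by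
    rw [hR']
    ext x
    rw [Subgroup.mem_subgroupOf]
    constructor
    · intro hx; exact ⟨⟨x, hx⟩, Subtype.ext rfl⟩
    · rintro ⟨y, rfl⟩; exact y.2
  obtain ⟨hr₂, hT₂⟩ := realized_quot hr₁ R' hrange
  have hQn : (Q.subgroupOf H).Normal := Subgroup.normal_in_normalizer
  have hcon := quot_constrained_of_centric R' (Q := Q.subgroupOf H) hQn
    (by
      intro x hx
      rw [hR']
      exact Subgroup.mem_subgroupOf.2 ⟨hQT (Subgroup.mem_subgroupOf.1 hx), x.2⟩)
    (by
      rintro x ⟨hx1, hx2⟩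
      have hx1' : x ∈ (normalizerIn (T : Subgroup X) Q).subgroupOf H := hR' ▸ hx1
      refine Subgroup.mem_subgroupOf.2 (hc.2 Q (isConj_refl _ hQT)
        ⟨(Subgroup.mem_subgroupOf.1 hx1').1, Subgroup.mem_centralizer_iff.2 fun q hq => ?_⟩)
      have := Subgroup.mem_centralizer_iff.1 hx2 ⟨q, Subgroup.le_normalizer hq⟩
        (Subgroup.mem_subgroupOf.2 hq)
      exact congrArg Subtype.val this)
  have hmodel : N.IsModel p (↥H ⧸ pPrimeCore p ↥H)
      ((QuotientGroup.mk' _).comp (Subgroup.inclusion (inf_le_right : normalizerIn (T : Subgroup X) Q ≤ H))) :=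
    ⟨inferInstance, hr₂, hT₂, hcon⟩
  have hfinR : Finite (normalizerIn (T : Subgroup X) Q) := inferInstance
  obtain ⟨e, -⟩ := model_unique (T.2.to_le inf_le_left) hmodel hL
  have h1 : Involves L ↥H := involves_of_surj (e.toMonoidHom.comp (QuotientGroup.mk' _))
    (e.surjective.comp (QuotientGroup.mk'_surjective _))
  exact involves_of_injective H.subtype H.subtype_injective h1

end gf

end Cfsg.Agent.H8
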