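import Cfsg.Agent.Lib_helper8_FusED
import Cfsg.Agent.Lib_helper8_FusEF
import Cfsg.Agent.Lib_helper8_FusDQ
import Cfsg.Prelude.Def_ConjugacyFunctors

set_option autoImplicit false

namespace Cfsg.Agent.H8
open Cfsg Cfsg.FusionSystem

universe u

/-- normality in the group fusion system gives control of strong fusion -/
theorem controls_of_isNormal {X : Type*} [Group X] [Finite X] {p : ℕ} [Fact p.Prime]
    (T : Sylow p X) {U : Subgroup X}
    (hU : (fusionSystemOfSubgroup ⊤ (T : Subgroup X) le_top).IsNormal U) :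
    ControlsStrongFusion p U := by
  obtain ⟨hUT, H⟩ := isNormal_iff.1 hU
  refine ⟨T, hUT, fun A hA => ⟨hA, fun g hg => ?_⟩⟩
  have hPT : Subgroup.closure A ≤ (T : Subgroup X) := (Subgroup.closure_le _).2 hA
  have hc : cjs g (Subgroup.closure A) ≤ (T : Subgroup X) := by
    have e0 : cjs g (Subgroup.closure A) = Subgroup.closure ((MulAut.conj g).toMonoidHom '' A) :=
      MonoidHom.map_closure _ _
    rw [e0, Subgroup.closure_le]
    rintro _ ⟨a, ha, rfl⟩
    exact hg ⟨a, ha, rfl⟩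
  obtain ⟨g', hg', e1, e2⟩ := H _ (cj g) (isMap_cj hPT (Subgroup.mem_top g) hc)
  obtain ⟨-, x, -, hx⟩ := isMap_ofSubgroup_iff.1 hg'
  refine ⟨x, mem_normalizer_of_forall fun u hu => ?_, fun a ha => ?_⟩
  · have h1 : g' u ∈ img U g' := mem_img_of_mem hu
    rw [e2, (hx u (Subgroup.mem_sup_right hu)).1] at h1
    exact h1
  · have haP : a ∈ Subgroup.closure A := Subgroup.subset_closure ha
    rw [← (hx a (Subgroup.mem_sup_left haP)).1, e1 a haP]; rfl

section main
variable {G : Type u} [Group G] [Finite G] {p : ℕ} [Fact p.Prime]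
  {W : ∀ (Q : Type u) [Group Q], Subgroup Q}

theorem gfun_of_sections (hW : IsCharPFunctor.{u} p W)
    (hloc : ∀ (K R : Subgroup G) [hR : (R.subgroupOf K).Normal],
      Subgroup.centralizer ((pCore p (↥K ⧸ R.subgroupOf K) : Subgroup (↥K ⧸ R.subgroupOf K)) :
        Set (↥K ⧸ R.subgroupOf K)) ≤ pCore p (↥K ⧸ R.subgroupOf K) →
      ∀ T : Sylow p (↥K ⧸ R.subgroupOf K),
        (inducedFunctor (G := (↥K ⧸ R.subgroupOf K)) W
          ((T : Subgroup (↥K ⧸ R.subgroupOf K)))).Normal) :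
    Fam.GFun p (fun (H : Type u) [Group H] => ¬ Involves H G) W := by
  have hPF : PFun p W := ⟨hW.1, hW.2⟩
  refine ⟨hW.1, hW.2, ?_⟩
  intro L _ _ P hcen hfreeL
  have hinv : Involves L G := by
    by_contra h
    exact hfreeL L h (involves_self L)
  obtain ⟨K₁, R₁, hn, ⟨e⟩⟩ := hinv
  have hpc : ∀ y ∈ pCore p L, e.symm y ∈ pCore p (↥K₁ ⧸ R₁.subgroupOf K₁) := by
    intro y hy
    have : (pCore p L).map e.symm.toMonoidHom ≤ pCore p (↥K₁ ⧸ R₁.subgroupOf K₁) :=
      H1.le_pCore p ((H1.pCore_normal p).map _ e.symm.surjective) ((H1.pCore_isPGroup p).map _)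
    exact this ⟨y, hy, rfl⟩
  have hconM : Subgroup.centralizer ((pCore p (↥K₁ ⧸ R₁.subgroupOf K₁) :
      Subgroup (↥K₁ ⧸ R₁.subgroupOf K₁)) : Set (↥K₁ ⧸ R₁.subgroupOf K₁)) ≤
      pCore p (↥K₁ ⧸ R₁.subgroupOf K₁) := by
    intro x hx
    have h1 : e x ∈ Subgroup.centralizer (pCore p L : Set L) := by
      rw [Subgroup.mem_centralizer_iff]
      intro y hy
      have h2 := Subgroup.mem_centralizer_iff.1 hx _ (hpc y hy)
      have h3 := congrArg e h2
      simpa using h3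
    rw [hcen] at h1
    have h4 := hpc _ h1.1
    simpa using h4
  let T₁ : Sylow p (↥K₁ ⧸ R₁.subgroupOf K₁) :=
    P.mapSurjective (f := e.symm.toMonoidHom) e.symm.surjective
  have hn₁ := hloc K₁ R₁ hconM T₁
  let e'' : ↥(P : Subgroup L) ≃* ↥(T₁ : Subgroup (↥K₁ ⧸ R₁.subgroupOf K₁)) :=
    e.symm.subgroupMap (P : Subgroup L)
  have hmap : (inducedFunctor (G := (↥K₁ ⧸ R₁.subgroupOf K₁)) W
      (T₁ : Subgroup (↥K₁ ⧸ R₁.subgroupOf K₁))).map e.toMonoidHom =
      (W ↥(P : Subgroup L)).map (P : Subgroup L).subtype := by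
    ext y
    constructor
    · rintro ⟨m, hm, rfl⟩
      have hmT : m ∈ (T₁ : Subgroup (↥K₁ ⧸ R₁.subgroupOf K₁)) := WW_le (W := W) _ hm
      obtain ⟨x, hx, rfl⟩ : m ∈ (P : Subgroup L).map e.symm.toMonoidHom := hmT
      have h5 := (hPF.mem_equiv P.2 e'' ⟨x, hx⟩).2 hm
      have e6 : e.toMonoidHom (e.symm.toMonoidHom x) = x := e.apply_symm_apply x
      rw [e6]; exact h5
    · intro hy
      have hyP : y ∈ (P : Subgroup L) := WW_le (W := W) _ hy
      exact ⟨e.symm y, (hPF.mem_equiv P.2 e'' ⟨y, hyP⟩).1 hy, e.apply_symm_apply y⟩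
  rw [← hmap]
  exact hn₁.map _ e.surjective

theorem functor_controls_sections (hW : IsCharPFunctor.{u} p W)
    (hloc : ∀ (K R : Subgroup G) [hR : (R.subgroupOf K).Normal],
      Subgroup.centralizer ((pCore p (↥K ⧸ R.subgroupOf K) : Subgroup (↥K ⧸ R.subgroupOf K)) :
        Set (↥K ⧸ R.subgroupOf K)) ≤ pCore p (↥K ⧸ R.subgroupOf K) →
      ∀ T : Sylow p (↥K ⧸ R.subgroupOf K),
        (inducedFunctor (G := (↥K ⧸ R.subgroupOf K)) W
          ((T : Subgroup (↥K ⧸ R.subgroupOf K)))).Normal)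
    (K R : Subgroup G) [hR : (R.subgroupOf K).Normal] (T : Sylow p (↥K ⧸ R.subgroupOf K)) :
    ControlsStrongFusion p (inducedFunctor (G := (↥K ⧸ R.subgroupOf K)) W
      ((T : Subgroup (↥K ⧸ R.subgroupOf K)))) := by
  have h := gfun_of_sections hW hloc
  have hfree : Fam.FF p (fun (H : Type u) [Group H] => ¬ Involves H G)
      (fusionSystemOfSubgroup ⊤ (T : Subgroup (↥K ⧸ R.subgroupOf K)) le_top) := by
    intro H _ hH Q hfn hc N hN L _ ι hL hinv
    have h1 : Involves L (↥K ⧸ R.subgroupOf K) := involves_of_model_group T hfn hc hN hL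
    have h2 : Involves H (↥K ⧸ R.subgroupOf K) := involves_trans hinv h1
    have h3 : Involves H ↥K :=
      involves_of_surjective (QuotientGroup.mk' _) (QuotientGroup.mk'_surjective _) h2
    exact hH (involves_of_injective K.subtype K.subtype_injective h3)
  have key := Fam.zj_main h _ (↥K ⧸ R.subgroupOf K) (T : Subgroup (↥K ⧸ R.subgroupOf K)) _ rfl T.2
    (saturated_ofSubgroup le_top (sylIn_top T)) hfree
  exact controls_of_isNormal T key

end main

end Cfsg.Agent.H8
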