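import Cfsg.Agent.Lib_helper8_FusEE
import Cfsg.Agent.Lib_helper7_PSolv
import Cfsg.Agent.Lib_helper1_Cores2

set_option autoImplicit false

namespace Cfsg.Agent.H8
open Cfsg Cfsg.FusionSystem

/-- extension of a `p`-solvable group by a finite `p`-group -/
theorem isPSolvable_of_ker {G A : Type*} [Group G] [Group A] {p : ℕ} (ψ : G →* A)
    (hψ : Function.Surjective ψ) (hA : IsPSolvable p A) (hk : ∃ m : ℕ, Nat.card ψ.ker = p ^ m) :
    IsPSolvable p G := by
  obtain ⟨n, H, h0, hl, hmono, hnorm, hstep⟩ := hA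
  refine ⟨n + 1, Fin.cons ⊥ (fun i => (H i).comap ψ), ?_, ?_, ?_, ?_, ?_⟩
  · rfl
  · rw [← Fin.succ_last, Fin.cons_succ, hl, Subgroup.comap_top]
  · apply Fin.monotone_iff_le_succ.2
    intro i
    refine Fin.cases ?_ (fun j => ?_) i
    · rw [Fin.castSucc_zero, Fin.cons_zero]; exact bot_le
    · rw [← Fin.succ_castSucc, Fin.cons_succ, Fin.cons_succ]
      exact Subgroup.comap_mono (hmono (Fin.castSucc_le_succ j))
  · intro i
    refine Fin.cases ?_ (fun j => ?_) i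
    · rw [Fin.cons_zero]; infer_instance
    · rw [Fin.cons_succ]; exact (hnorm j).comap ψ
  · intro i
    refine Fin.cases ?_ (fun j => ?_) i
    · left
      obtain ⟨m, hm⟩ := hk
      refine ⟨m, ?_⟩
      rw [Fin.castSucc_zero, Fin.cons_zero, Fin.cons_succ, h0, Subgroup.relIndex_bot_left]
      exact hm
    · rw [← Fin.succ_castSucc, Fin.cons_succ, Fin.cons_succ, Subgroup.relIndex_comap,
        Subgroup.map_comap_eq_self_of_surjective hψ]
      exact hstep j

section aut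
variable {Ω : Type*} [Group Ω] {S : Subgroup Ω} {G : Type*} [Group G]

/-- the image of `Q ≤ S` in `G` -/
def imG (ι : S →* G) (Q : Subgroup Ω) : Subgroup G := (Q.subgroupOf S).map ι

theorem mem_imG_of_mem (ι : S →* G) {Q : Subgroup Ω} (hQ : Q ≤ S) {x : Ω} (hx : x ∈ Q) :
    ι ⟨x, hQ hx⟩ ∈ imG ι Q := ⟨⟨x, hQ hx⟩, Subgroup.mem_subgroupOf.2 hx, rfl⟩

noncomputable def imEquiv (ι : S →* G) (hinj : Function.Injective ι) {Q : Subgroup Ω}
    (hQ : Q ≤ S) : ↥Q ≃* ↥(imG ι Q) :=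
  (Subgroup.subgroupOfEquivOfLe hQ).symm.trans ((Q.subgroupOf S).equivMapOfInjective ι hinj)

theorem imEquiv_coe (ι : S →* G) (hinj : Function.Injective ι) {Q : Subgroup Ω} (hQ : Q ≤ S)
    (x : Q) : ((imEquiv ι hinj hQ x : imG ι Q) : G) = ι ⟨x, hQ x.2⟩ := rfl

noncomputable def autHom₀ (ι : S →* G) (hinj : Function.Injective ι) {Q : Subgroup Ω}
    (hQ : Q ≤ S) : ↥(Subgroup.normalizer (imG ι Q : Set G)) →* MulAut ↥Q :=
  (MulAut.congr (imEquiv ι hinj hQ).symm).toMonoidHom.comp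
    (Subgroup.normalizerMonoidHom (imG ι Q))

theorem autHom₀_spec (ι : S →* G) (hinj : Function.Injective ι) {Q : Subgroup Ω} (hQ : Q ≤ S)
    (n : ↥(Subgroup.normalizer (imG ι Q : Set G))) (x : Q) :
    ι ⟨(autHom₀ ι hinj hQ n x : Q), hQ (autHom₀ ι hinj hQ n x).2⟩ =
      n * ι ⟨x, hQ x.2⟩ * (n : G)⁻¹ := by
  have h1 : imEquiv ι hinj hQ (autHom₀ ι hinj hQ n x) =
      Subgroup.normalizerMonoidHom (imG ι Q) n (imEquiv ι hinj hQ x) :=
    (imEquiv ι hinj hQ).apply_symm_apply _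
  exact congrArg Subtype.val h1

variable {F : FusionSystem S} {ι : S →* G}

theorem autHom₀_mem (hr : F.IsRealizedBy ι) {Q : Subgroup Ω} (hQ : Q ≤ S)
    (n : ↥(Subgroup.normalizer (imG ι Q : Set G))) : autHom₀ ι hr.1 hQ n ∈ F.autGroup Q := by
  rw [mem_autGroup_iff hQ, isMap_realized_iff hr]
  refine ⟨hQ, fun x hx => by rw [autFun_apply _ hx]; exact hQ (Subtype.mem _), n,
    fun x hx => ?_⟩
  rw [autFun_apply _ hx, extH_apply ι (hQ (Subtype.mem _)), extH_apply ι (hQ hx)]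
  exact autHom₀_spec ι hr.1 hQ n ⟨x, hx⟩

noncomputable def autHom (hr : F.IsRealizedBy ι) {Q : Subgroup Ω} (hQ : Q ≤ S) :
    ↥(Subgroup.normalizer (imG ι Q : Set G)) →* ↥(F.autGroup Q) :=
  (autHom₀ ι hr.1 hQ).codRestrict _ (autHom₀_mem hr hQ)

theorem autHom_surjective [Finite S] (hr : F.IsRealizedBy ι) {Q : Subgroup Ω} (hQ : Q ≤ S) :
    Function.Surjective (autHom hr hQ) := by
  rintro ⟨α, hα⟩
  obtain ⟨-, -, g, hg⟩ := (isMap_realized_iff hr).1 ((mem_autGroup_iff hQ).1 hα)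
  have hg' : ∀ x : Q, ι ⟨(α x : Q), hQ (α x).2⟩ = g * ι ⟨x, hQ x.2⟩ * g⁻¹ := fun x => by
    have := hg x x.2
    rwa [autFun_apply _ x.2, extH_apply ι (hQ (Subtype.mem _)), extH_apply ι (hQ x.2)] at this
  have hfin : Finite (imG ι Q) := by
    have : Finite Q := finite_of_le hQ
    exact Finite.of_equiv _ (imEquiv ι hr.1 hQ).toEquiv
  have hgN : g ∈ Subgroup.normalizer (imG ι Q : Set G) := mem_normalizer_of_forall (by
    rintro _ ⟨x, hx, rfl⟩
    have := hg' ⟨x, hx⟩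
    rw [← this]
    exact mem_imG_of_mem ι hQ (α ⟨x, hx⟩).2)
  refine ⟨⟨g, hgN⟩, Subtype.ext ?_⟩
  ext x
  have := (autHom₀_spec ι hr.1 hQ ⟨g, hgN⟩ x).trans (hg' x).symm
  have h4 : ((autHom₀ ι hr.1 hQ ⟨g, hgN⟩ x : Q) : Ω) = ((α x : Q) : Ω) :=
    congrArg (fun z : S => (z : Ω)) (hr.1 this)
  exact h4

theorem autHom_ker_le (hr : F.IsRealizedBy ι) {Q : Subgroup Ω} (hQ : Q ≤ S)
    {n : ↥(Subgroup.normalizer (imG ι Q : Set G))} (hn : n ∈ (autHom hr hQ).ker) :
    (n : G) ∈ Subgroup.centralizer (imG ι Q : Set G) := by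
  rw [Subgroup.mem_centralizer_iff]
  rintro _ ⟨x, hx, rfl⟩
  have h1 : autHom₀ ι hr.1 hQ n = 1 := congrArg Subtype.val hn
  have h2 := autHom₀_spec ι hr.1 hQ n ⟨x, hx⟩
  rw [h1] at h2
  have h3 : ι x = n * ι x * (n : G)⁻¹ := h2
  calc ι x * n = (n * ι x * (n : G)⁻¹) * n := by rw [← h3]
    _ = n * ι x := by group

end aut

section model
variable {Ω : Type*} [Group Ω] {S : Subgroup Ω} [Finite S] {G : Type*} [Group G]
  {F : FusionSystem S} {ι : S →* G} {p : ℕ} [Fact p.Prime]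

theorem model_pCore_le_range (hM : F.IsModel p G ι) : pCore p G ≤ ι.range := by
  obtain ⟨hfin, hr, ⟨T, hT⟩, hc⟩ := hM
  rw [← hT]
  exact (H1.pCore_isPGroup p).le_sylow_of_normal T

theorem model_isNormal (hM : F.IsModel p G ι) : F.IsNormal (preimageAlong ι (pCore p G)) :=
  isNormal_preimage_of_realized hM.2.1 (pCore_normal' p G) (model_pCore_le_range hM)

theorem model_isCentric (hM : F.IsModel p G ι) : F.IsCentric (preimageAlong ι (pCore p G)) := by
  have hUn := model_isNormal hM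
  refine ⟨hUn.1, fun R' hR' => ?_⟩
  obtain ⟨f, hf, rfl⟩ := isConj_iff.1 hR'
  rw [(weaklyClosed_iff.1 (weaklyClosed_of_stronglyClosed (stronglyClosed_of_isNormal hUn))).2 f
    hf]
  rintro c ⟨hcS, hcc⟩
  refine mem_preimageAlong.2 ⟨hcS, hM.2.2.2 (Subgroup.mem_centralizer_iff.2 fun y hy => ?_)⟩
  obtain ⟨u, rfl⟩ := model_pCore_le_range hM hy
  have huU : (u : Ω) ∈ preimageAlong ι (pCore p G) :=
    mem_preimageAlong.2 ⟨u.2, by rw [extH_coe]; exact hy⟩
  have h1 := Subgroup.mem_centralizer_iff.1 hcc _ huU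
  rw [extH_apply ι hcS, ← map_mul, ← map_mul]
  exact congrArg ι (Subtype.ext h1)

theorem model_isConstrained (hM : F.IsModel p G ι) : F.IsConstrained p := by
  obtain ⟨hfin, hr, ⟨T, hT⟩, hc⟩ := id hM
  exact ⟨saturated_of_realized hr T hT, _, model_isNormal hM, model_isCentric hM⟩

theorem model_pCore_le_imG (hM : F.IsModel p G ι) : pCore p G ≤ imG ι F.core := by
  intro y hy
  obtain ⟨u, rfl⟩ := model_pCore_le_range hM hy
  have huU : (u : Ω) ∈ preimageAlong ι (pCore p G) :=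
    mem_preimageAlong.2 ⟨u.2, by rw [extH_coe]; exact hy⟩
  have hle : preimageAlong ι (pCore p G) ≤ F.core := le_sSup (model_isNormal hM)
  exact ⟨u, Subgroup.mem_subgroupOf.2 (hle huU), rfl⟩

theorem model_core_normal (hM : F.IsModel p G ι) :
    Subgroup.normalizer (imG ι F.core : Set G) = ⊤ := by
  have hr := hM.2.1
  have hcn := isNormal_core F
  have hcS : F.core ≤ S := hcn.1
  have hUn := model_isNormal hM
  set U := preimageAlong ι (pCore p G) with hU
  have hfin : Finite (imG ι F.core) := by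
    have : Finite F.core := finite_of_le hcS
    exact Finite.of_equiv _ (imEquiv ι hr.1 hcS).toEquiv
  rw [eq_top_iff]
  intro g _
  obtain ⟨hb, ha⟩ := invHom_spec ι hr.1 rfl
  -- the map induced by `g` on `U`
  have hval : ∀ x ∈ U, g * extH ι x * g⁻¹ ∈ pCore p G := fun x hx =>
    (pCore_normal' p G).conj_mem _ (mem_preimageAlong.1 hx).2 g
  choose! f hf using fun (x : Ω) (hx : x ∈ U) => model_pCore_le_range hM (hval x hx)
  have hmap : IsMap F U (fun x => (f x : Ω)) := by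
    refine (isMap_realized_iff hr).2 ⟨hUn.1, fun x _ => (f x).2, g, fun x hx => ?_⟩
    rw [extH_coe, hf x hx]
  obtain ⟨g', hg', e1, e2⟩ := (isNormal_iff.1 hcn).2 U _ hmap
  obtain ⟨-, hS', h, hh⟩ := (isMap_realized_iff hr).1 hg'
  have hhN : h ∈ Subgroup.normalizer (imG ι F.core : Set G) := mem_normalizer_of_forall (by
    rintro _ ⟨x, hx, rfl⟩
    have hx' : (x : Ω) ∈ F.core := hx
    have h1 := hh x (Subgroup.mem_sup_right hx')
    rw [extH_coe] at h1
    rw [← h1]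
    have h2 : g' x ∈ F.core := by
      have : g' x ∈ img F.core g' := mem_img_of_mem hx'
      rwa [e2] at this
    rw [extH_apply ι (hcS h2)]
    exact mem_imG_of_mem ι hcS h2)
  have hc : h⁻¹ * g ∈ Subgroup.centralizer (pCore p G : Set G) := by
    rw [Subgroup.mem_centralizer_iff]
    intro y hy
    obtain ⟨u, rfl⟩ := model_pCore_le_range hM hy
    have huU : (u : Ω) ∈ U := mem_preimageAlong.2 ⟨u.2, by rw [extH_coe]; exact hy⟩
    have h1 := hh u (Subgroup.mem_sup_left huU)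
    rw [e1 u huU, extH_coe, hf u huU, extH_coe] at h1
    calc ι u * (h⁻¹ * g) = h⁻¹ * (h * ι u * h⁻¹) * g := by group
      _ = h⁻¹ * (g * ι u * g⁻¹) * g := by rw [h1]
      _ = h⁻¹ * g * ι u := by group
  have h3 : h⁻¹ * g ∈ Subgroup.normalizer (imG ι F.core : Set G) :=
    Subgroup.le_normalizer (model_pCore_le_imG hM (hM.2.2.2 hc))
  have e : g = h * (h⁻¹ * g) := by group
  rw [e]
  exact mul_mem hhN h3

end model

end Cfsg.Agent.H8
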