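import Cfsg.Agent.Lib_helper8_FusEI
import Cfsg.Agent.Lib_helper8_FusEA
import Cfsg.Prelude.Def_ConjugacyFunctors

set_option autoImplicit false
universe u

namespace Cfsg.Agent.H8
open Cfsg
open scoped commutatorElement

section ct
variable {p : ℕ} [Fact p.Prime] (W : ∀ (Q : Type u) [Group Q], Subgroup Q)

/-- control of transfer by the induced functor in the whole group -/
def CT (p : ℕ) (W : ∀ (Q : Type u) [Group Q], Subgroup Q) (Y : Type u) [Group Y] : Prop :=
  ControlsTransferIn p (inducedFunctor (G := Y) W) ⊤

variable {W}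

theorem induced_map (hW : IsCharPFunctor.{u} p W) {Y Z : Type u} [Group Y] [Group Z] [Finite Y]
    (e : Y ≃* Z) (T : Subgroup Y) (hT : IsPGroup p T) :
    inducedFunctor (G := Z) W (T.map e.toMonoidHom) =
      (inducedFunctor (G := Y) W T).map e.toMonoidHom := by
  unfold inducedFunctor
  have h1 := hW.2 ↥T ↥(T.map e.toMonoidHom) hT (e.subgroupMap T)
  rw [← h1, Subgroup.map_map, Subgroup.map_map]
  rfl

theorem ct_iso (hW : IsCharPFunctor.{u} p W) {Y Z : Type u} [Group Y] [Group Z] [Finite Y]
    (e : Y ≃* Z) (h : CT p W Y) : CT p W Z := by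
  obtain ⟨T, -, hTp, hTi, hT⟩ := h
  refine ⟨T.map e.toMonoidHom, le_top, hTp.map _, ?_, ?_⟩
  · rw [Subgroup.relIndex_top_right] at hTi ⊢
    have := Subgroup.index_map_equiv (H := T) e
    rw [show (T.map e.toMonoidHom).index = T.index from this]
    exact hTi
  · have hinj : Function.Injective e.toMonoidHom := e.injective
    have hsurj : Function.Surjective e.toMonoidHom := e.surjective
    have htop : (⊤ : Subgroup Z) = (⊤ : Subgroup Y).map e.toMonoidHom :=
      (Subgroup.map_top_of_surjective _ hsurj).symm
    rw [induced_map hW e T hTp, ← Subgroup.map_equiv_normalizer_eq, htop,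
      ← Subgroup.map_inf _ _ _ hinj, ← Subgroup.map_commutator, ← Subgroup.map_commutator,
      ← Subgroup.map_inf _ _ _ hinj, ← Subgroup.map_inf _ _ _ hinj, hT]

theorem le_normalizer_induced (hW : IsCharPFunctor.{u} p W) {Y : Type u} [Group Y] [Finite Y]
    (T : Subgroup Y) (hT : IsPGroup p T) :
    T ≤ Subgroup.normalizer ((inducedFunctor (G := Y) W T : Subgroup Y) : Set Y) := by
  have hn : (W ↥T).Normal := by
    constructor
    intro w hw t
    have h1 := hW.2 ↥T ↥T hT (MulAut.conj t)
    rw [← h1]
    exact ⟨w, hw, rfl⟩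
  have h2 := Subgroup.le_normalizer_map (H := W ↥T) T.subtype
  rw [Subgroup.normalizer_eq_top_iff.2 hn] at h2
  intro t ht
  exact h2 ⟨⟨t, ht⟩, trivial, rfl⟩

theorem index_p_main (hW : IsCharPFunctor.{u} p W) : ∀ (n : ℕ) (X : Type u) [Group X] [Finite X],
    Nat.card X ≤ n →
    (∀ (Y : Type u) [Group Y], Involves Y X → CT p W Y) →
    p ∣ Nat.card X →
    (∀ S : Sylow p X, ∀ g ∈ Subgroup.normalizer ((S : Subgroup X) : Set X),
      (orderOf g).Coprime p → g ∈ Subgroup.centralizer ((S : Subgroup X) : Set X)) →
    ∃ N : Subgroup X, N.Normal ∧ N.index = p := by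
  intro n
  induction n with
  | zero =>
    intro X _ _ hc
    exact absurd hc (by have := Nat.card_pos (α := X); omega)
  | succ n ih =>
    intro X _ _ hcard hCT hdvd hN
    have hp := (Fact.out : p.Prime)
    obtain ⟨T, -, hTp, hTi, hT⟩ := hCT X (involves_self X)
    rw [Subgroup.relIndex_top_right] at hTi
    set V := inducedFunctor (G := X) W T with hV
    have hTM := le_normalizer_induced hW T hTp
    rw [← hV] at hTM
    have hdT : p ∣ Nat.card T := by
      have h1 := T.card_mul_index
      rw [← h1] at hdvd
      exact (hp.dvd_mul.1 hdvd).resolve_right hTi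
    have hTne : Nontrivial T := by
      rw [← Finite.one_lt_card_iff_nontrivial]
      have h1 := Nat.le_of_dvd Nat.card_pos hdT
      have h2 := hp.two_le
      omega
    have hVne : V ≠ ⊥ := by
      intro h
      exact hW.1 ↥T hTp hTne ((Subgroup.map_eq_bot_iff_of_injective _ T.subtype_injective).1 h)
    have hVT : V ≤ T := Subgroup.map_subtype_le _
    have hVp : IsPGroup p V := hTp.to_le hVT
    set M := Subgroup.normalizer (V : Set X) with hM
    simp only [top_inf_eq] at hT
    by_cases hMtop : M = ⊤
    · have hVn : V.Normal := Subgroup.normalizer_eq_top_iff.1 hMtop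
      by_cases hVi : p ∣ V.index
      · set π := QuotientGroup.mk' V with hπdef
        have hπ : Function.Surjective π := QuotientGroup.mk'_surjective V
        have hlt : Nat.card (X ⧸ V) ≤ n := by
          rw [← Subgroup.index_eq_card]
          have h1 := V.card_mul_index
          have h2 : 1 < Nat.card V := by
            rw [Finite.one_lt_card_iff_nontrivial]
            exact (Subgroup.nontrivial_iff_ne_bot V).2 hVne
          have h3 : 0 < V.index := Nat.pos_of_ne_zero Subgroup.index_ne_zero_of_finite
          nlinarith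
        have hNq : ∀ S : Sylow p (X ⧸ V), ∀ g ∈ Subgroup.normalizer ((S : Subgroup (X ⧸ V)) : Set (X ⧸ V)),
            (orderOf g).Coprime p → g ∈ Subgroup.centralizer ((S : Subgroup (X ⧸ V)) : Set (X ⧸ V)) := by
          intro Pb gb hgb hgo
          obtain ⟨g, rfl, hgo'⟩ := exists_coprime_lift π hπ hgo
          have hPp : IsPGroup p ((Pb : Subgroup (X ⧸ V)).comap π) :=
            IsPGroup.comap_of_ker_isPGroup Pb.2 π (by rw [hπdef, QuotientGroup.ker_mk']; exact hVp)
          have hPi : ¬ p ∣ ((Pb : Subgroup (X ⧸ V)).comap π).index := by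
            rw [Subgroup.index_comap_of_surjective _ hπ]; exact Pb.not_dvd_index
          have hgN : g ∈ Subgroup.normalizer (((hPp.toSylow hPi : Sylow p X) : Subgroup X) : Set X) := by
            rw [Subgroup.mem_normalizer_iff]
            intro x
            have := Subgroup.mem_normalizer_iff.1 hgb (π x)
            rw [← map_inv, ← map_mul, ← map_mul] at this
            exact this
          have hgC := hN (hPp.toSylow hPi) g hgN hgo'
          rw [Subgroup.mem_centralizer_iff]
          intro y hy
          obtain ⟨x, rfl⟩ := hπ y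
          have := Subgroup.mem_centralizer_iff.1 hgC x hy
          rw [← map_mul, ← map_mul, this]
        obtain ⟨N, hNn, hNi⟩ := ih (X ⧸ V) hlt
          (fun Y _ hY => hCT Y (involves_of_surjective π hπ hY))
          (by rwa [← Subgroup.index_eq_card]) hNq
        exact ⟨N.comap π, hNn.comap _, by rw [Subgroup.index_comap_of_surjective _ hπ, hNi]⟩
      · refine exists_index_p_of_normal_sylow V hVp hVne hVi ?_
        intro g hg
        have hgN : g ∈ Subgroup.normalizer (((hVp.toSylow hVi : Sylow p X) : Subgroup X) : Set X) := by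
          show g ∈ M
          rw [hMtop]; trivial
        exact hN (hVp.toSylow hVi) g hgN hg
    · have hlt : Nat.card M ≤ n := by
        have h1 : Nat.card M < Nat.card X := by
          by_contra hcon
          exact hMtop (Subgroup.eq_top_of_le_card M (not_lt.1 hcon))
        omega
      have hMi : ¬ p ∣ M.index := fun h => hTi (dvd_trans h (Subgroup.index_dvd_of_le hTM))
      have hNM : ∀ S : Sylow p M, ∀ g ∈ Subgroup.normalizer ((S : Subgroup M) : Set M),
          (orderOf g).Coprime p → g ∈ Subgroup.centralizer ((S : Subgroup M) : Set M) := by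
        intro P g hg hgo
        have hP1p : IsPGroup p ((P : Subgroup M).map M.subtype) := P.2.map _
        have hP1i : ¬ p ∣ ((P : Subgroup M).map M.subtype).index := by
          rw [Subgroup.index_map_subtype]
          intro h
          rcases hp.dvd_mul.1 h with h | h
          · exact P.not_dvd_index h
          · exact hMi h
        have hgN : (g : X) ∈ Subgroup.normalizer
            (((hP1p.toSylow hP1i : Sylow p X) : Subgroup X) : Set X) := by
          have := Subgroup.le_normalizer_map (H := (P : Subgroup M)) M.subtype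
          exact this ⟨g, hg, rfl⟩
        have hgC := hN (hP1p.toSylow hP1i) (g : X) hgN (by rwa [Subgroup.orderOf_coe])
        rw [Subgroup.mem_centralizer_iff]
        intro y hy
        have := Subgroup.mem_centralizer_iff.1 hgC (y : X) ⟨y, hy, rfl⟩
        exact Subtype.ext this
      obtain ⟨N₀, hN₀n, hN₀i⟩ := ih ↥M hlt
        (fun Y _ hY => hCT Y (involves_of_injective M.subtype M.subtype_injective hY))
        (dvd_trans hdT (Subgroup.card_dvd_of_le hTM)) hNM
      set N₁ := N₀.map M.subtype with hN₁
      have hcomm : ⁅M, M⁆ ≤ N₁ := by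
        rw [Subgroup.commutator_le]
        intro a ha b hb
        have hcard : Nat.card (M ⧸ N₀) = p := by rw [← Subgroup.index_eq_card, hN₀i]
        have hcyc : IsCyclic (M ⧸ N₀) := isCyclic_of_prime_card hcard
        have h1 : (⁅(⟨a, ha⟩ : M), ⟨b, hb⟩⁆ : M) ∈ N₀ := by
          rw [← QuotientGroup.eq_one_iff]
          have h2 := map_commutatorElement (QuotientGroup.mk' N₀) (⟨a, ha⟩ : M) ⟨b, hb⟩
          have h3 : ⁅QuotientGroup.mk' N₀ (⟨a, ha⟩ : M), QuotientGroup.mk' N₀ ⟨b, hb⟩⁆ = 1 := by
            rw [commutatorElement_eq_one_iff_mul_comm]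
            letI := hcyc.commGroup
            exact mul_comm _ _
          exact h2.trans h3
        exact ⟨_, h1, rfl⟩
      have hTN : ¬ T ≤ N₁ := by
        intro h
        apply hTi
        have h1 := Subgroup.index_dvd_of_le h
        have h2 : N₁.index = N₀.index * M.index := Subgroup.index_map_subtype _
        rw [h2, hN₀i] at h1
        exact dvd_trans (dvd_mul_right _ _) h1
      obtain ⟨t, ht, htN⟩ := SetLike.not_le_iff_exists.1 hTN
      obtain ⟨k, hk⟩ := hTp ⟨t, ht⟩
      refine exists_index_p_of_not_mem_commutator (t := t) (k := k)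
        (by simpa using congrArg Subtype.val hk) ?_
      intro hc
      have h1 : t ∈ T ⊓ ⁅(⊤ : Subgroup X), ⊤⁆ := ⟨ht, hc⟩
      rw [hT] at h1
      exact htN (hcomm h1.2)

end ct

end Cfsg.Agent.H8
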