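import Cfsg.Agent.Lib_helper8_FusEE

set_option autoImplicit false

namespace Cfsg.Agent.H8
open Cfsg

section cr
variable {p : ℕ} [Fact p.Prime]

/-- `C_Y(Q) ≤ Q O_{p'}(Y)` for a normal `p`-subgroup containing its centralizer in a Sylow -/
theorem centralizer_le_of_centric {Y : Type*} [Group Y] [Finite Y] (R : Sylow p Y)
    {Q : Subgroup Y} (hQn : Q.Normal)
    (hc : (R : Subgroup Y) ⊓ Subgroup.centralizer (Q : Set Y) ≤ Q) :
    ∀ c ∈ Subgroup.centralizer (Q : Set Y),
      QuotientGroup.mk' (pPrimeCore p Y) c ∈ Q.map (QuotientGroup.mk' (pPrimeCore p Y)) := by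
  set K := pPrimeCore p Y with hKdef
  set π := QuotientGroup.mk' K with hπ
  set C := Subgroup.centralizer (Q : Set Y) with hC
  have hCn : C.Normal := inferInstance
  have hn : (⊤ : Subgroup Y) ≤ Subgroup.normalizer (C : Set Y) :=
    (Subgroup.normalizer_eq_top_iff.2 hCn).ge
  obtain ⟨PC, hPC⟩ := (sylIn_top R).inf_normal le_top le_top hn
  have hcen : ∀ z ∈ (PC : Subgroup C), ∀ c : C, c * z = z * c := by
    intro z hz c
    rw [hPC, Subgroup.mem_subgroupOf] at hz
    have hzQ : (z : Y) ∈ Q := hc hz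
    exact Subtype.ext (Subgroup.mem_centralizer_iff.1 c.2 _ hzQ).symm
  have hP : Subgroup.normalizer ((PC : Subgroup C) : Set C) ≤
      Subgroup.centralizer ((PC : Subgroup C) : Set C) := by
    intro c _
    rw [Subgroup.mem_centralizer_iff]
    intro z hz
    exact (hcen z hz c).symm
  have hcomp := MonoidHom.ker_transferSylow_isComplement' PC hP
  set D := (MonoidHom.transferSylow PC hP).ker with hD
  have hDcop : (Nat.card D).Coprime p := by
    have h1 : Nat.card D = (PC : Subgroup C).index := hcomp.index_eq_card.symm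
    rw [h1, Nat.coprime_comm, Nat.Prime.coprime_iff_not_dvd Fact.out]
    exact PC.not_dvd_index
  have hDle : D ≤ pPrimeCore p C := H1.le_pPrimeCore p inferInstance hDcop
  have hchar : (pPrimeCore p C).Characteristic := H1.pPrimeCore_characteristic p
  have hEn : ((pPrimeCore p C).map C.subtype).Normal :=
    ConjAct.normal_of_characteristic_of_normal
  have hEle : (pPrimeCore p C).map C.subtype ≤ K := by
    apply H1.le_pPrimeCore p hEn
    rw [Subgroup.card_map_of_injective C.subtype_injective]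
    exact H1.card_pPrimeCore_coprime p
  intro c hcC
  obtain ⟨⟨d, z⟩, hdz⟩ := hcomp.2 ⟨c, hcC⟩
  have hdz' : (d : C) * (z : C) = ⟨c, hcC⟩ := hdz
  have hdK : ((d : C) : Y) ∈ K := hEle ⟨d, hDle d.2, rfl⟩
  have hz : (z : C) ∈ (PC : Subgroup C) := z.2
  have hz' : (z : C) ∈ ((R : Subgroup Y) ⊓ C).subgroupOf C := hPC ▸ hz
  have hzQ : ((z : C) : Y) ∈ Q := hc (Subgroup.mem_subgroupOf.1 hz')
  have e : c = ((d : C) : Y) * ((z : C) : Y) := (congrArg Subtype.val hdz').symm
  refine ⟨((z : C) : Y), hzQ, ?_⟩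
  have hd1 : π ((d : C) : Y) = 1 := (QuotientGroup.eq_one_iff _).2 hdK
  rw [e, map_mul, hd1, one_mul]

theorem centric_radical_iff {Y : Type*} [Group Y] [Finite Y] (R : Sylow p Y) (Q : Subgroup Y)
    (hQn : Q.Normal) (hQR : Q ≤ R) (C : Subgroup Y) [hCn : C.Normal]
    (hC : C = Subgroup.centralizer (Q : Set Y)) :
    (Q ≤ (pCore p (Y ⧸ C)).comap (QuotientGroup.mk' C) ∧
      ¬ p ∣ Q.relIndex ((pCore p (Y ⧸ C)).comap (QuotientGroup.mk' C))) ↔
      ((R : Subgroup Y) ⊓ C ≤ Q ∧ pPrimePCore p Y = Q ⊔ C) := by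
  have hp := (Fact.out : p.Prime)
  have hQp : IsPGroup p Q := R.2.to_le hQR
  set L := (pCore p (Y ⧸ C)).comap (QuotientGroup.mk' C) with hL
  set ρ := QuotientGroup.mk' C with hρ
  have hρs : Function.Surjective ρ := QuotientGroup.mk'_surjective C
  have hLn : L.Normal := (H1.pCore_normal p).comap _
  have hCL : C ≤ L := by
    intro c hc
    show ρ c ∈ pCore p (Y ⧸ C)
    have : ρ c = 1 := (QuotientGroup.eq_one_iff c).2 hc
    rw [this]; exact one_mem _
  have hQL : Q ≤ L := by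
    intro q hq
    exact H1.le_pCore p (hQn.map ρ hρs) (hQp.map ρ) ⟨q, hq, rfl⟩
  have hOR : pCore p (Y ⧸ C) ≤ (R : Subgroup Y).map ρ := by
    have := (H1.pCore_isPGroup (G := Y ⧸ C) p).le_sylow_of_normal (R.mapSurjective hρs)
    simpa using this
  -- reduction of the left side
  have hn : (⊤ : Subgroup Y) ≤ Subgroup.normalizer (L : Set Y) :=
    (Subgroup.normalizer_eq_top_iff.2 hLn).ge
  obtain ⟨RL, hRL⟩ := (sylIn_top R).inf_normal le_top le_top hn
  have hRLi : ¬ p ∣ ((R : Subgroup Y) ⊓ L).relIndex L := by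
    have := RL.not_dvd_index
    rwa [hRL] at this
  have hleft : (Q ≤ L ∧ ¬ p ∣ Q.relIndex L) ↔ (R : Subgroup Y) ⊓ L ≤ Q := by
    constructor
    · rintro ⟨-, h⟩
      have h1 := Subgroup.relIndex_mul_relIndex Q ((R : Subgroup Y) ⊓ L) L (le_inf hQR hQL)
        inf_le_right
      have hRp : IsPGroup p ((R : Subgroup Y) ⊓ L : Subgroup Y) := R.2.to_le inf_le_left
      obtain ⟨k, hk⟩ := hRp.index (Q.subgroupOf ((R : Subgroup Y) ⊓ L))
      have hk' : Q.relIndex ((R : Subgroup Y) ⊓ L) = p ^ k := hk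
      have hk0 : k = 0 := by
        by_contra hne
        apply h
        rw [← h1, hk']
        exact dvd_mul_of_dvd_left (dvd_pow_self p hne) _
      rw [hk0, pow_zero] at hk'
      exact Subgroup.relIndex_eq_one.1 hk'
    · intro h
      have : Q = (R : Subgroup Y) ⊓ L := le_antisymm (le_inf hQR hQL) h
      refine ⟨hQL, ?_⟩
      rw [this]; exact hRLi
  rw [hleft]
  set K := pPrimeCore p Y with hKdef
  have hK : (Nat.card K).Coprime p := H1.card_pPrimeCore_coprime p
  have hKch : K.Characteristic := H1.pPrimeCore_characteristic p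
  have hKn : K.Normal := inferInstance
  set π := QuotientGroup.mk' K with hπ
  have hπs : Function.Surjective π := QuotientGroup.mk'_surjective K
  have hKC : K ≤ C := by
    intro k hk
    rw [hC, Subgroup.mem_centralizer_iff]
    intro q hq
    have h1 : k * q * k⁻¹ ∈ Q := hQn.conj_mem q hq k
    have h2 : π (k * q * k⁻¹) = π q := by
      have : π k = 1 := (QuotientGroup.eq_one_iff k).2 hk
      rw [map_mul, map_mul, map_inv, this]; simp
    have h3 := mk_inj_on_sylow hK R (hQR h1) (hQR hq) h2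
    calc q * k = (k * q * k⁻¹) * k := by rw [h3]
      _ = k * q := by group
  have hOp : ∀ x : Y, π x ∈ pCore p (Y ⧸ K) → ∃ j : ℕ, x ^ p ^ j ∈ K := by
    intro x hx
    obtain ⟨j, hj⟩ := (H1.pCore_isPGroup (G := Y ⧸ K) p) ⟨π x, hx⟩
    refine ⟨j, ?_⟩
    have : (π x) ^ p ^ j = 1 := by simpa using congrArg Subtype.val hj
    rw [← map_pow] at this
    exact (QuotientGroup.eq_one_iff _).1 this
  have hOp' : ∀ x : Y, ρ x ∈ pCore p (Y ⧸ C) → ∃ j : ℕ, x ^ p ^ j ∈ C := by
    intro x hx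
    obtain ⟨j, hj⟩ := (H1.pCore_isPGroup (G := Y ⧸ C) p) ⟨ρ x, hx⟩
    refine ⟨j, ?_⟩
    have : (ρ x) ^ p ^ j = 1 := by simpa using congrArg Subtype.val hj
    rw [← map_pow] at this
    exact (QuotientGroup.eq_one_iff _).1 this
  have hMn : (pPrimePCore p Y).Normal := (H1.pCore_normal p).comap _
  have hML : pPrimePCore p Y ≤ L := by
    have hpg : IsPGroup p ((pPrimePCore p Y).map ρ) := by
      rintro ⟨_, m, hm, rfl⟩
      obtain ⟨j, hj⟩ := hOp m hm
      refine ⟨j, Subtype.ext ?_⟩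
      show (ρ m) ^ p ^ j = 1
      rw [← map_pow]
      exact (QuotientGroup.eq_one_iff _).2 (hKC hj)
    intro m hm
    exact H1.le_pCore p (hMn.map ρ hρs) hpg ⟨m, hm, rfl⟩
  have hQM : Q ≤ pPrimePCore p Y := le_pPrimePCore hQn hQp
  constructor
  · intro h
    have h1 : (R : Subgroup Y) ⊓ C ≤ Q := le_trans (inf_le_inf_left _ hCL) h
    refine ⟨h1, le_antisymm ?_ (sup_le hQM ?_)⟩
    · intro m hm
      have hmL := hML hm
      obtain ⟨r, hr, hrm⟩ := hOR hmL
      have hc : r⁻¹ * m ∈ C := QuotientGroup.eq.1 hrm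
      have hrL : r ∈ L := by
        have : r = m * (r⁻¹ * m)⁻¹ := by group
        rw [this]; exact mul_mem hmL (inv_mem (hCL hc))
      have : m = r * (r⁻¹ * m) := by group
      rw [this]
      exact mul_mem (Subgroup.mem_sup_left (h ⟨hr, hrL⟩)) (Subgroup.mem_sup_right hc)
    · intro c hc
      have h2 := centralizer_le_of_centric R hQn (hC ▸ h1) c (hC ▸ hc)
      exact H1.le_pCore p (hQn.map π hπs) (hQp.map π) h2
  · rintro ⟨h1, h2⟩
    have hCM : C ≤ pPrimePCore p Y := by rw [h2]; exact le_sup_right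
    have hLM : L ≤ pPrimePCore p Y := by
      have hpg : IsPGroup p (L.map π) := by
        rintro ⟨_, l, hl, rfl⟩
        obtain ⟨j, hj⟩ := hOp' l hl
        obtain ⟨i, hi⟩ := hOp _ (hCM hj)
        refine ⟨j + i, Subtype.ext ?_⟩
        show (π l) ^ p ^ (j + i) = 1
        rw [← map_pow, pow_add, pow_mul]
        exact (QuotientGroup.eq_one_iff _).2 hi
      intro l hl
      exact H1.le_pCore p (hLn.map π hπs) hpg ⟨l, hl, rfl⟩
    rintro l ⟨hlR, hlL⟩
    have hlM := hLM hlL
    rw [h2] at hlM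
    obtain ⟨q, hq, c, hc, rfl⟩ := Subgroup.mem_sup_of_normal_right.1 hlM
    have hcR : c ∈ (R : Subgroup Y) := by
      have : c = q⁻¹ * (q * c) := by group
      rw [this]; exact mul_mem (inv_mem (hQR hq)) hlR
    exact mul_mem hq (h1 ⟨hcR, hc⟩)

end cr

end Cfsg.Agent.H8
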