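import Mathlib
import Cfsg.Prelude.Def_Characters
import Cfsg.Agent.Lib_lead_Br12

set_option autoImplicit false
set_option linter.style.haveILetI false

/-! Generalized characters of norm one; Galois conjugates of characters via power maps. -/

namespace Cfsg.Agent.LeadBr

open Cfsg Cfsg.Agent.H4 MulAction Subgroup
open scoped commutatorElement ComplexConjugate

universe u

variable {G : Type u} [Group G]

theorem IsGeneralizedCharacter.exists_int_mult [Fintype G] [Fintype (IrrCharacter G)] {θ : G → ℂ}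
    (h : IsGeneralizedCharacter G θ) :
    ∃ c : IrrCharacter G → ℤ, θ = ∑ ψ : IrrCharacter G, (c ψ : ℂ) • (ψ : G → ℂ) := by
  obtain ⟨α, β, hα, hβ, rfl⟩ := h
  obtain ⟨a, rfl⟩ := IsCharacter.exists_mult hα
  obtain ⟨b, rfl⟩ := IsCharacter.exists_mult hβ
  refine ⟨fun ψ => (a ψ : ℤ) - b ψ, ?_⟩
  rw [← Finset.sum_sub_distrib]
  apply Finset.sum_congr rfl
  intro ψ _
  push_cast
  rw [sub_smul]

theorem int_sum_sq_eq_one {ι : Type*} [Fintype ι] [DecidableEq ι] (c : ι → ℤ)
    (h : ∑ i, c i * c i = 1) : ∃ i, (c i = 1 ∨ c i = -1) ∧ ∀ j, j ≠ i → c j = 0 := by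
  have hex : ∃ i, c i ≠ 0 := by
    by_contra hcon
    push Not at hcon
    simp [hcon] at h
  obtain ⟨i, hi⟩ := hex
  rw [← Finset.add_sum_erase Finset.univ _ (Finset.mem_univ i)] at h
  have h1 : 1 ≤ c i * c i := by
    have : 0 < c i * c i := mul_self_pos.mpr hi
    omega
  have h2 : 0 ≤ ∑ j ∈ Finset.univ.erase i, c j * c j :=
    Finset.sum_nonneg (fun j _ => mul_self_nonneg _)
  have h3 : ∑ j ∈ Finset.univ.erase i, c j * c j = 0 := by omega
  have h4 : c i * c i = 1 := by omega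
  refine ⟨i, ?_, ?_⟩
  · exact mul_self_eq_one_iff.mp h4
  · intro j hj
    have := (Finset.sum_eq_zero_iff_of_nonneg (fun j _ => mul_self_nonneg (c j))).mp h3 j
      (Finset.mem_erase.mpr ⟨hj, Finset.mem_univ j⟩)
    exact mul_self_eq_zero.mp this

theorem irr_or_neg_of_norm_one [Fintype G] {θ : G → ℂ} (h : IsGeneralizedCharacter G θ)
    (h1 : classInner θ θ = 1) : ∃ ψ : IrrCharacter G, θ = ψ ∨ θ = -(ψ : G → ℂ) := by
  classical
  haveI := Fintype.ofFinite (IrrCharacter G)
  obtain ⟨c, rfl⟩ := IsGeneralizedCharacter.exists_int_mult h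
  rw [classInner_sum_sum] at h1
  have h2 : ∑ ψ : IrrCharacter G, c ψ * c ψ = 1 := by
    have : ((∑ ψ : IrrCharacter G, c ψ * c ψ : ℤ) : ℂ) = 1 := by
      rw [← h1]
      push_cast
      apply Finset.sum_congr rfl
      intro ψ _
      rw [map_intCast]
    exact_mod_cast this
  obtain ⟨ψ, hψ, hoth⟩ := int_sum_sq_eq_one c h2
  refine ⟨ψ, ?_⟩
  have h3 : ∑ φ : IrrCharacter G, (c φ : ℂ) • (φ : G → ℂ) = (c ψ : ℂ) • (ψ : G → ℂ) := by
    apply Finset.sum_eq_single ψ
    · intro φ _ hφ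
      rw [hoth φ hφ]; simp
    · intro hn; exact absurd (Finset.mem_univ ψ) hn
  rw [h3]
  rcases hψ with h | h
  · left; rw [h]; simp
  · right; rw [h]; simp

theorem irr_of_norm_one [Fintype G] {θ : G → ℂ} (h : IsGeneralizedCharacter G θ)
    (h1 : classInner θ θ = 1) {n : ℕ} (hn : θ 1 = n) : IsIrrCharacter G θ := by
  obtain ⟨ψ, hψ | hψ⟩ := irr_or_neg_of_norm_one h h1
  · rw [hψ]; exact ψ.2
  · exfalso
    obtain ⟨k, hk, hk1⟩ := IsIrrCharacter.apply_one ψ.2
    rw [hψ, Pi.neg_apply, hk1] at hn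
    have : ((k + n : ℕ) : ℂ) = 0 := by
      push_cast
      rw [← hn]; ring
    have h0 : k + n = 0 := by exact_mod_cast this
    omega

theorem indFun_pow [Fintype G] (H : Subgroup G) (lam : H →* ℂˣ) (m : ℕ)
    (hm : m.Coprime (Nat.card G)) (g : G) :
    indFun H (fun h => (lam h : ℂ)) (g ^ m) = indFun H (fun h => ((lam ^ m) h : ℂ)) g := by
  unfold indFun
  congr 1
  apply Finset.sum_congr rfl
  intro x _
  have h1 : x⁻¹ * g ^ m * x = (x⁻¹ * g * x) ^ m := by
    have := conj_pow (a := x⁻¹) (b := g) (i := m)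
    simpa using this.symm
  rw [h1]
  set y := x⁻¹ * g * x with hy
  by_cases hyH : y ∈ H
  · rw [extendByZero_mem H _ hyH, extendByZero_mem H _ (H.pow_mem hyH m)]
    have : (⟨y ^ m, H.pow_mem hyH m⟩ : H) = (⟨y, hyH⟩ : H) ^ m := rfl
    rw [this, map_pow]
    simp
  · rw [extendByZero_not_mem H _ hyH, extendByZero_not_mem]
    intro h2
    apply hyH
    refine mem_of_pow_mem_of_coprime hm h2 ?_
    rw [pow_card_eq_one']; exact one_mem H

theorem RL_pow [Fintype G] {F : Subgroup G → Prop} {f : G → ℂ} (hf : f ∈ RL F) (m : ℕ)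
    (hm : m.Coprime (Nat.card G)) : (fun g => f (g ^ m)) ∈ RL F := by
  induction hf using AddSubgroup.closure_induction with
  | mem f hf =>
    obtain ⟨H, hH, lam, rfl⟩ := hf
    have : (fun g => indFun H (fun h => (lam h : ℂ)) (g ^ m))
        = indFun H (fun h => ((lam ^ m) h : ℂ)) := by
      funext g; exact indFun_pow H lam m hm g
    rw [this]
    exact AddSubgroup.subset_closure ⟨H, hH, lam ^ m, rfl⟩
  | zero => exact AddSubgroup.zero_mem _
  | add x y _ _ hx hy => exact AddSubgroup.add_mem _ hx hy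
  | neg x _ hx => exact AddSubgroup.neg_mem _ hx

theorem RL_isGeneralized [Fintype G] {F : Subgroup G → Prop} {f : G → ℂ} (hf : f ∈ RL F) :
    IsGeneralizedCharacter G f := by
  induction hf using AddSubgroup.closure_induction with
  | mem f hf =>
    obtain ⟨H, _, lam, rfl⟩ := hf
    exact IsCharacter.isGeneralized (IsCharacter.ind H (isCharacter_of_hom lam))
  | zero => exact IsCharacter.isGeneralized IsCharacter.zero
  | add x y _ _ hx hy => exact IsGeneralizedCharacter.add' hx hy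
  | neg x _ hx => exact IsGeneralizedCharacter.neg' hx

theorem IsIrrCharacter.pow_coprime [Finite G] {χ : G → ℂ} (hχ : IsIrrCharacter G χ) (m : ℕ)
    (hm : m.Coprime (Nat.card G)) : IsIrrCharacter G (fun g => χ (g ^ m)) := by
  haveI := Fintype.ofFinite G
  have h1 := RL_isGeneralized (RL_pow (brauer_induction χ (IsIrrCharacter.isCharacter hχ)) m hm)
  obtain ⟨n, _, hn⟩ := IsIrrCharacter.apply_one hχ
  refine irr_of_norm_one h1 ?_ (n := n) (by simp only [one_pow]; exact hn)
  rw [← IsIrrCharacter.norm_one hχ]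
  unfold classInner
  congr 1
  exact Equiv.sum_comp (powCoprime hm.symm) (fun g => χ g * conj (χ g))

theorem IsCharacter.pow_coprime [Finite G] {χ : G → ℂ} (hχ : IsCharacter G χ) (m : ℕ)
    (hm : m.Coprime (Nat.card G)) : IsCharacter G (fun g => χ (g ^ m)) := by
  haveI := Fintype.ofFinite G
  haveI := Fintype.ofFinite (IrrCharacter G)
  obtain ⟨a, rfl⟩ := IsCharacter.exists_mult hχ
  have : (fun g => (∑ ψ : IrrCharacter G, (a ψ : ℂ) • (ψ : G → ℂ)) (g ^ m))
      = ∑ ψ : IrrCharacter G, (a ψ : ℂ) • (fun g => (ψ : G → ℂ) (g ^ m)) := by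
    funext g
    simp [Finset.sum_apply]
  rw [this]
  apply IsCharacter.sum
  intro ψ _
  exact IsCharacter.nsmul (a ψ) (IsIrrCharacter.isCharacter (IsIrrCharacter.pow_coprime ψ.2 m hm))

end Cfsg.Agent.LeadBr
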