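import Mathlib
import Cfsg.Prelude.Def_Characters
import Cfsg.Agent.Lib_lead_Br13

set_option autoImplicit false
set_option linter.style.haveILetI false

/-! The conjugation action on functions on a normal subgroup; Galois action by power maps. -/

namespace Cfsg.Agent.LeadBr

open Cfsg Cfsg.Agent.H4 MulAction Subgroup
open scoped commutatorElement ComplexConjugate

universe u

variable {G : Type u} [Group G]

/-- the conjugation action of `G` on the functions on a normal subgroup -/
@[reducible] def conjAction {N : Subgroup G} (hN : N.Normal) : MulAction G (N → ℂ) where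
  smul g θ := conjFun hN θ g⁻¹
  one_smul θ := by
    show conjFun hN θ 1⁻¹ = θ
    rw [inv_one, conjFun_one]
  mul_smul g h θ := by
    show conjFun hN θ (g * h)⁻¹ = conjFun hN (conjFun hN θ h⁻¹) g⁻¹
    rw [conjFun_mul, mul_inv_rev]

theorem card_orbit_dvd_index [Finite G] {N : Subgroup G} (hN : N.Normal) {θ : N → ℂ}
    (hθ : IsClassFunction N θ) :
    letI := conjAction hN
    Nat.card (MulAction.orbit G θ) ∣ N.index := by
  letI := conjAction hN
  have h1 : N ≤ MulAction.stabilizer G θ := by
    intro g hg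
    rw [MulAction.mem_stabilizer_iff]
    show conjFun hN θ g⁻¹ = θ
    exact (mem_inertia hN θ g⁻¹).mp (le_inertia hN hθ (N.inv_mem hg))
  have h2 := MulAction.index_stabilizer G θ
  rw [← Nat.card_coe_set_eq] at h2
  rw [← h2]
  exact index_dvd_of_le h1

/-- composition with the `k`-th power map -/
def powFun {K : Type*} [Monoid K] (k : ℕ) (f : K → ℂ) : K → ℂ := fun n => f (n ^ k)

theorem powFun_conjFun {N : Subgroup G} (hN : N.Normal) (θ : N → ℂ) (k : ℕ) (h : G) :
    powFun k (conjFun hN θ h) = conjFun hN (powFun k θ) h := by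
  funext n
  simp only [powFun, conjFun_apply]
  congr 1
  apply Subtype.ext
  simp [conj_pow]

theorem classInner_powFun {K : Type*} [Group K] [Fintype K] (k : ℕ) (hk : k.Coprime (Nat.card K))
    (a b : K → ℂ) : classInner (powFun k a) (powFun k b) = classInner a b := by
  unfold classInner
  congr 1
  exact Equiv.sum_comp (powCoprime hk.symm) (fun g => a g * conj (b g))

theorem gal_fixed_constituent [Fintype G] (p : ℕ) [Fact p.Prime] (N : Subgroup G) [hN : N.Normal]
    [Fintype N] (hidx : ¬ p ∣ N.index) (k e : ℕ) (hk : Nat.Coprime k (Nat.card G))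
    (hke : k ^ (p ^ e) ≡ 1 [MOD Nat.card G]) (χ : IrrCharacter G)
    (hχ : ∀ g : G, (χ : G → ℂ) (g ^ k) = (χ : G → ℂ) g) (θ : IrrCharacter N)
    (hθ : classInner (fun n : N => (χ : G → ℂ) n) (θ : N → ℂ) ≠ 0) :
    ∀ n : N, (θ : N → ℂ) (n ^ k) = (θ : N → ℂ) n := by
  classical
  letI act : MulAction G (N → ℂ) := conjAction hN
  have hkN : k.Coprime (Nat.card N) := Nat.Coprime.coprime_dvd_right (card_subgroup_dvd_card N) hk
  set X : Set (N → ℂ) := MulAction.orbit G (θ : N → ℂ) with hX
  haveI : Finite X := (Set.finite_range _).to_subtype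
  haveI : Fintype X := Fintype.ofFinite _
  have hσθ : powFun k (θ : N → ℂ) ∈ X := by
    have h1 : IsIrrCharacter N (powFun k (θ : N → ℂ)) := IsIrrCharacter.pow_coprime θ.2 k hkN
    have h2 : classInner (fun n : N => (χ : G → ℂ) n) (powFun k (θ : N → ℂ)) ≠ 0 := by
      have h3 : (fun n : N => (χ : G → ℂ) n) = powFun k (fun n : N => (χ : G → ℂ) n) := by
        funext n
        simp only [powFun, coe_pow, hχ]
      rw [h3, classInner_powFun k hkN]
      exact hθ
    obtain ⟨g, hg⟩ := clifford_conj hN χ.2 θ.2 h1 hθ h2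
    refine ⟨g⁻¹, ?_⟩
    show conjFun hN (θ : N → ℂ) g⁻¹⁻¹ = _
    rw [inv_inv, hg]
  have hσsmul : ∀ (g : G) (f : N → ℂ), powFun k (g • f) = g • powFun k f :=
    fun g f => powFun_conjFun hN f k g⁻¹
  have hσX : ∀ f ∈ X, powFun k f ∈ X := by
    rintro f ⟨g, rfl⟩
    obtain ⟨g0, hg0⟩ := hσθ
    refine ⟨g * g0, ?_⟩
    show (g * g0) • (θ : N → ℂ) = powFun k (g • (θ : N → ℂ))
    rw [hσsmul, mul_smul]
    congr 1
  let F : Function.End X := fun x => ⟨powFun k x.1, hσX x.1 x.2⟩
  have hFpow : ∀ (j : ℕ) (x : X), ((F ^ j) x).1 = powFun (k ^ j) x.1 := by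
    intro j
    induction j with
    | zero =>
      intro x; funext n
      simp only [powFun, pow_zero, pow_one]
      rfl
    | succ j ih =>
      intro x
      rw [pow_succ]
      show ((F ^ j) (F x)).1 = _
      rw [ih]
      funext n
      simp only [powFun, F, ← pow_mul, pow_succ]
  have hF : F ^ p ^ e = 1 := by
    funext x
    apply Subtype.ext
    rw [hFpow]
    funext n
    simp only [powFun]
    show x.1 (n ^ k ^ p ^ e) = x.1 n
    have h7 : n ^ k ^ p ^ e = n ^ 1 := by
      rw [pow_eq_pow_iff_modEq]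
      exact hke.of_dvd (dvd_trans (orderOf_dvd_natCard n) (card_subgroup_dvd_card N))
    rw [h7, pow_one]
  have hcard : ¬ p ∣ Fintype.card X := by
    intro h
    apply hidx
    refine dvd_trans h ?_
    rw [← Nat.card_eq_fintype_card]
    exact card_orbit_dvd_index hN (IsCharacter.isClassFunction (IsIrrCharacter.isCharacter θ.2))
  have hmod := Equiv.Perm.card_fixedPoints_modEq hF
  have hne : Fintype.card (Function.fixedPoints F) ≠ 0 := by
    intro h0
    rw [h0] at hmod
    exact hcard ((Nat.modEq_zero_iff_dvd).mp hmod)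
  obtain ⟨⟨x, hx⟩⟩ := Fintype.card_pos_iff.mp (Nat.pos_of_ne_zero hne)
  have hx' : powFun k x.1 = x.1 := congrArg Subtype.val hx
  obtain ⟨g, hg⟩ := x.2
  have hg' : g • (θ : N → ℂ) = x.1 := hg
  have h5 : powFun k (θ : N → ℂ) = θ := by
    have h6 : (θ : N → ℂ) = g⁻¹ • x.1 := by rw [← hg', inv_smul_smul]
    rw [h6, hσsmul, hx']
  intro n
  exact congrFun h5 n

end Cfsg.Agent.LeadBr
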