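import Mathlib
import Cfsg.Prelude.Def_Solvable

set_option autoImplicit false

namespace Cfsg.Agent.LeadCharP

variable {G : Type*} [Group G]

/-- `O_p(L)` viewed inside the ambient group. -/
def pc (p : ℕ) (L : Subgroup G) : Subgroup G := (Cfsg.pCore p ↥L).map L.subtype

theorem pCore_normal' (p : ℕ) (X : Type*) [Group X] : (Cfsg.pCore p X).Normal :=
  Subgroup.sSup_normal _ (fun _ h => h.1)

theorem pCore_isPGroup' (p : ℕ) (X : Type*) [Group X] : IsPGroup p (Cfsg.pCore p X) :=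
  Sylow.sSup_of_normal _ (fun _ h => h.2) (fun _ h => h.1)

theorem le_pCore' {p : ℕ} {X : Type*} [Group X] {N : Subgroup X} (h1 : N.Normal) (h2 : IsPGroup p N) :
    N ≤ Cfsg.pCore p X := le_sSup ⟨h1, h2⟩

theorem pc_le (p : ℕ) (L : Subgroup G) : pc p L ≤ L := by
  rintro _ ⟨x, _, rfl⟩
  exact x.2

theorem pc_isPGroup (p : ℕ) (L : Subgroup G) : IsPGroup p (pc p L) :=
  (pCore_isPGroup' p L).map _

theorem conj_mem_pc (p : ℕ) (L : Subgroup G) {l q : G} (hl : l ∈ L) (hq : q ∈ pc p L) :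
    l * q * l⁻¹ ∈ pc p L := by
  obtain ⟨x, hx, rfl⟩ := hq
  exact ⟨⟨l, hl⟩ * x * ⟨l, hl⟩⁻¹, (pCore_normal' p L).conj_mem x hx _, rfl⟩

theorem le_pc {p : ℕ} {L R : Subgroup G} (hRL : R ≤ L) (hR : IsPGroup p R)
    (hn : ∀ l ∈ L, ∀ r ∈ R, l * r * l⁻¹ ∈ R) : R ≤ pc p L := by
  have h1 : (R.subgroupOf L).Normal := by
    constructor
    intro n hn' g
    exact hn g g.2 n hn'
  have h2 : IsPGroup p (R.subgroupOf L) := hR.comap_subtype
  intro r hr
  exact ⟨⟨r, hRL hr⟩, le_pCore' h1 h2 hr, rfl⟩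

theorem mem_pc_iff {p : ℕ} {L : Subgroup G} (x : L) : (x : G) ∈ pc p L ↔ x ∈ Cfsg.pCore p ↥L := by
  constructor
  · rintro ⟨y, hy, hxy⟩
    have : y = x := Subtype.ext hxy
    exact this ▸ hy
  · intro h
    exact ⟨x, h, rfl⟩

/-- `L` has characteristic `p`, stated in the ambient group. -/
def CharP (p : ℕ) (L : Subgroup G) : Prop :=
  ∀ g ∈ L, (∀ q ∈ pc p L, q * g = g * q) → g ∈ pc p L

theorem charP_iff (p : ℕ) (L : Subgroup G) :
    Subgroup.centralizer (Cfsg.pCore p ↥L : Set ↥L) ≤ Cfsg.pCore p ↥L ↔ CharP p L := by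
  constructor
  · intro h g hg hc
    have : (⟨g, hg⟩ : L) ∈ Cfsg.pCore p ↥L := by
      apply h
      rw [Subgroup.mem_centralizer_iff]
      intro q hq
      apply Subtype.ext
      exact hc q ((mem_pc_iff q).mpr hq)
    exact (mem_pc_iff (⟨g, hg⟩ : L)).mpr this
  · intro h g hg
    rw [Subgroup.mem_centralizer_iff] at hg
    rw [← mem_pc_iff]
    apply h g g.2
    rintro _ ⟨q, hq, rfl⟩
    exact congrArg Subtype.val (hg q hq)

theorem pc_top (p : ℕ) : pc p (⊤ : Subgroup G) = Cfsg.pCore p G := by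
  apply le_antisymm
  · apply le_pCore' _ (pc_isPGroup p ⊤)
    constructor
    intro n hn g
    exact conj_mem_pc p ⊤ (Subgroup.mem_top g) hn
  · apply le_pc le_top (pCore_isPGroup' p G)
    intro l _ r hr
    exact (pCore_normal' p G).conj_mem r hr l

theorem charP_top_iff (p : ℕ) :
    Subgroup.centralizer (Cfsg.pCore p G : Set G) ≤ Cfsg.pCore p G ↔ CharP p (⊤ : Subgroup G) := by
  unfold CharP
  rw [pc_top]
  constructor
  · intro h g _ hc
    apply h
    rw [Subgroup.mem_centralizer_iff]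
    exact hc
  · intro h g hg
    rw [Subgroup.mem_centralizer_iff] at hg
    exact h g (Subgroup.mem_top g) hg

theorem conj_pow_of_comm {c q z : G} (h1 : c * q * c⁻¹ = q * z) (h2 : c * z = z * c) (n : ℕ) :
    c ^ n * q * (c ^ n)⁻¹ = q * z ^ n := by
  induction n with
  | zero => simp
  | succ n ih =>
    have h3 : c * z ^ n * c⁻¹ = z ^ n := by
      have : Commute c (z ^ n) := Commute.pow_right h2 n
      rw [this.eq]; group
    calc c ^ (n + 1) * q * (c ^ (n + 1))⁻¹ = c * (c ^ n * q * (c ^ n)⁻¹) * c⁻¹ := by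
          rw [pow_succ']; group
      _ = c * (q * z ^ n) * c⁻¹ := by rw [ih]
      _ = (c * q * c⁻¹) * (c * z ^ n * c⁻¹) := by group
      _ = q * z ^ (n + 1) := by rw [h1, h3, pow_succ', mul_assoc]

/-- Main lemma: a subgroup `L` of a group `K` of characteristic `p` that is normalised by
`O_p(K)` has characteristic `p`. -/
theorem charP_of_normalized [Finite G] {p : ℕ} [Fact p.Prime] {K L : Subgroup G} (hK : CharP p K)
    (hLK : L ≤ K) (hn : ∀ q ∈ pc p K, ∀ l ∈ L, q * l * q⁻¹ ∈ L) : CharP p L := by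
  have hp : p.Prime := Fact.out
  set Q := pc p K with hQ
  set R := pc p L with hR
  have hQL : Q ⊓ L ≤ R := by
    apply le_pc inf_le_right ((pc_isPGroup p K).to_le inf_le_left)
    intro l hl r hr
    exact ⟨conj_mem_pc p K (hLK hl) hr.1, L.mul_mem (L.mul_mem hl hr.2) (L.inv_mem hl)⟩
  let D : Subgroup G := L ⊓ Subgroup.centralizer (R : Set G)
  have hDn : ∀ l ∈ L, ∀ d ∈ D, l * d * l⁻¹ ∈ D := by
    intro l hl d hd
    refine ⟨L.mul_mem (L.mul_mem hl hd.1) (L.inv_mem hl), ?_⟩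
    show l * d * l⁻¹ ∈ Subgroup.centralizer (R : Set G)
    rw [Subgroup.mem_centralizer_iff]
    intro r hr
    have h1 : l⁻¹ * r * l⁻¹⁻¹ ∈ R := conj_mem_pc p L (L.inv_mem hl) hr
    have h2 := (Subgroup.mem_centralizer_iff.mp hd.2) _ h1
    calc r * (l * d * l⁻¹) = l * ((l⁻¹ * r * l⁻¹⁻¹) * d) * l⁻¹ := by group
      _ = l * (d * (l⁻¹ * r * l⁻¹⁻¹)) * l⁻¹ := by rw [h2]
      _ = l * d * l⁻¹ * r := by group
  have hDp : IsPGroup p D := by
    rw [IsPGroup.iff_orderOf]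
    intro d
    obtain ⟨s, t, ht, hst⟩ := Nat.exists_eq_pow_mul_and_not_dvd (orderOf_pos (d : G)).ne' p hp.ne_one
    have ht0 : t ≠ 0 := by rintro rfl; simp at ht
    set c : G := (d : G) ^ (p ^ s) with hc
    have hcD : c ∈ D := D.pow_mem d.2 _
    have hct : c ^ t = 1 := by
      rw [hc, ← pow_mul, ← hst, pow_orderOf_eq_one]
    have hcQ : ∀ q ∈ Q, q * c = c * q := by
      intro q hq
      set z := q⁻¹ * c * q * c⁻¹ with hz
      have hzQ : z ∈ Q := by
        have : z = q⁻¹ * (c * q * c⁻¹) := by rw [hz]; group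
        rw [this]
        exact Q.mul_mem (Q.inv_mem hq) (conj_mem_pc p K (hLK hcD.1) hq)
      have hzL : z ∈ L := by
        have h1 := hn q⁻¹ (Q.inv_mem hq) c hcD.1
        rw [inv_inv] at h1
        exact L.mul_mem h1 (L.inv_mem hcD.1)
      have hzR : z ∈ R := hQL ⟨hzQ, hzL⟩
      have hcz : c * z = z * c := ((Subgroup.mem_centralizer_iff.mp hcD.2) z hzR).symm
      have h1 : c * q * c⁻¹ = q * z := by rw [hz]; group
      have h2 := conj_pow_of_comm h1 hcz t
      rw [hct] at h2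
      have h3 : z ^ t = 1 := by simpa using h2.symm
      obtain ⟨j, hj⟩ := (IsPGroup.iff_orderOf.mp (pc_isPGroup p K)) ⟨z, hzQ⟩
      have h4 : orderOf z = p ^ j := by rw [← hj, Subgroup.orderOf_mk]
      have h5 : orderOf z ∣ t := orderOf_dvd_of_pow_eq_one h3
      have h6 : orderOf z = 1 := by
        have hcop : Nat.Coprime (p ^ j) t := Nat.Coprime.pow_left j ((Nat.Prime.coprime_iff_not_dvd hp).mpr ht)
        rw [h4] at h5 ⊢
        exact Nat.Coprime.eq_one_of_dvd hcop h5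
      have h7 : z = 1 := orderOf_eq_one_iff.mp h6
      rw [h7, mul_one] at h1
      calc q * c = (c * q * c⁻¹) * c := by rw [h1]
        _ = c * q := by group
    have hcQ' : c ∈ Q := hK c (hLK hcD.1) hcQ
    obtain ⟨j, hj⟩ := (IsPGroup.iff_orderOf.mp (pc_isPGroup p K)) ⟨c, hcQ'⟩
    have h4 : orderOf c = p ^ j := by rw [← hj, Subgroup.orderOf_mk]
    have h5 : orderOf c ∣ t := orderOf_dvd_of_pow_eq_one hct
    have h6 : orderOf c = 1 := by
      have hcop : Nat.Coprime (p ^ j) t := Nat.Coprime.pow_left j ((Nat.Prime.coprime_iff_not_dvd hp).mpr ht)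
      rw [h4] at h5 ⊢
      exact Nat.Coprime.eq_one_of_dvd hcop h5
    have h7 : c = 1 := orderOf_eq_one_iff.mp h6
    have h8 : orderOf (d : G) ∣ p ^ s := orderOf_dvd_of_pow_eq_one h7
    obtain ⟨i, _, hi⟩ := (Nat.dvd_prime_pow hp).mp h8
    exact ⟨i, by rw [← hi, Subgroup.orderOf_coe]⟩
  have hDR : D ≤ R := le_pc inf_le_left hDp hDn
  intro g hg hc
  apply hDR
  refine ⟨hg, ?_⟩
  show g ∈ Subgroup.centralizer (R : Set G)
  rw [Subgroup.mem_centralizer_iff]
  exact hc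

end Cfsg.Agent.LeadCharP
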