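import Mathlib

set_option autoImplicit false

/-! Small facts on cycle types used for element orders of alternating groups. -/

namespace Cfsg.Agent.LeadCyc

theorem prime_dvd_multiset_lcm {r : ℕ} (hr : r.Prime) (m : Multiset ℕ) (h : r ∣ m.lcm) :
    ∃ a ∈ m, r ∣ a := by
  induction m using Multiset.induction_on with
  | empty =>
    rw [Multiset.lcm_zero] at h
    exact absurd (Nat.dvd_one.mp h) hr.one_lt.ne'
  | cons a m ih =>
    rw [Multiset.lcm_cons] at h
    have h2 : r ∣ a * m.lcm := h.trans (Nat.lcm_dvd_mul a m.lcm)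
    rcases (Nat.Prime.dvd_mul hr).mp h2 with h3 | h3
    · exact ⟨a, Multiset.mem_cons_self a m, h3⟩
    · obtain ⟨b, hb, hb2⟩ := ih h3
      exact ⟨b, Multiset.mem_cons_of_mem hb, hb2⟩

theorem add_le_sum_of_mem_of_ne {m : Multiset ℕ} {a b : ℕ} (ha : a ∈ m) (hb : b ∈ m) (hab : a ≠ b) :
    a + b ≤ m.sum := by
  obtain ⟨m', rfl⟩ := Multiset.exists_cons_of_mem ha
  have hb' : b ∈ m' := by
    rcases Multiset.mem_cons.mp hb with h | h
    · exact absurd h.symm hab
    · exact h
  obtain ⟨m'', rfl⟩ := Multiset.exists_cons_of_mem hb'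
  simp only [Multiset.sum_cons]
  omega

theorem sign_prod_eq (m : Multiset ℕ) :
    (m.map fun n => -(-1 : ℤˣ) ^ n).prod = (-1) ^ (Multiset.card (m.filter Even)) := by
  induction m using Multiset.induction_on with
  | empty => simp
  | cons a m ih =>
    rw [Multiset.map_cons, Multiset.prod_cons, ih]
    by_cases ha : Even a
    · rw [Multiset.filter_cons_of_pos _ ha, Multiset.card_cons, ha.neg_one_pow, pow_succ]
      simp
    · rw [Multiset.filter_cons_of_neg _ ha, (Nat.not_even_iff_odd.mp ha).neg_one_pow]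
      simp

end Cfsg.Agent.LeadCyc
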