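import Mathlib
import Cfsg.Agent.Lib_helper3_FrobB
import Cfsg.Agent.Lib_helper1_Basic

set_option autoImplicit false

namespace Cfsg.Agent.LeadFrob

open scoped Pointwise

/-- partition lemma: a conjugation-invariant trivially intersecting cover by "self-normalizing"
subgroups contains the whole group. -/
theorem top_mem_of_partition {L : Type*} [Group L] [Finite L] (𝒞 : Set (Subgroup L)) (hnt : Nontrivial L)
    (hcov : ∀ x : L, ∃ C ∈ 𝒞, x ∈ C)
    (hdisj : ∀ C ∈ 𝒞, ∀ D ∈ 𝒞, C ≠ D → C ⊓ D = ⊥)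
    (hconj : ∀ C ∈ 𝒞, ∀ l : L, MulAut.conj l • C ∈ 𝒞)
    (hself : ∀ C ∈ 𝒞, C ≠ ⊥ → ∀ l : L, MulAut.conj l • C = C → l ∈ C) : ⊤ ∈ 𝒞 := by
  classical
  by_contra htop
  have hfrob : ∀ C ∈ 𝒞, C ≠ ⊥ → Cfsg.IsFrobeniusComplement C := by
    intro C hC hCb
    refine ⟨hCb, fun h => htop (h ▸ hC), fun g hg => ?_⟩
    apply hdisj C hC _ (hconj C hC g)
    intro h; exact hg (hself C hC hCb g h.symm)
  obtain ⟨x, hx⟩ := exists_ne (1 : L)
  obtain ⟨C, hC, hxC⟩ := hcov x
  have hCb : C ≠ ⊥ := fun h => hx (by rw [h] at hxC; exact Subgroup.mem_bot.1 hxC)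
  have fC := hfrob C hC hCb
  have kC := H3.frob_card_kernel fC
  have hidx : 2 ≤ C.index := by
    have h0 : C.index ≠ 0 := Subgroup.index_ne_zero_of_finite
    have h1 : C.index ≠ 1 := fun h => fC.2.1 (Subgroup.index_eq_one.1 h)
    omega
  obtain ⟨y, hyk, hy1⟩ : ∃ y ∈ Cfsg.frobeniusKernel C, y ≠ 1 := by
    by_contra hcon
    push Not at hcon
    have : Nat.card (Cfsg.frobeniusKernel C) ≤ 1 := by
      rw [Finite.card_le_one_iff_subsingleton]
      exact ⟨fun a b => Subtype.ext ((hcon a a.2).trans (hcon b b.2).symm)⟩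
    omega
  obtain ⟨D, hD, hyD⟩ := hcov y
  have hDb : D ≠ ⊥ := fun h => hy1 (by rw [h] at hyD; exact Subgroup.mem_bot.1 hyD)
  have fD := hfrob D hD hDb
  have nD := H3.frob_card_nonkernel fD
  have hsub : insert 1 {z : L | z ≠ 1 ∧ ∃ g : L, z ∈ MulAut.conj g • D} ⊆ Cfsg.frobeniusKernel C := by
    intro z hz
    rcases hz with rfl | ⟨hz1, g, hzg⟩
    · exact Or.inl rfl
    · right
      intro m hzm
      have heq : MulAut.conj g • D = MulAut.conj m • C := by
        by_contra hne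
        have h1 := hdisj _ (hconj D hD g) _ (hconj C hC m) hne
        have h2 : z ∈ MulAut.conj g • D ⊓ MulAut.conj m • C := ⟨hzg, hzm⟩
        rw [h1, Subgroup.mem_bot] at h2
        exact hz1 h2
      have hD' : D = MulAut.conj (g⁻¹ * m) • C := by
        rw [map_mul, mul_smul, ← heq, ← mul_smul, ← map_mul]; simp
      rcases hyk with h | h
      · exact hy1 h
      · exact h _ (hD' ▸ hyD)
  have hcount : D.index * (Nat.card D - 1) + 1 ≤ C.index := by
    rw [← kC, ← nD]
    have h1 : (1 : L) ∉ {z : L | z ≠ 1 ∧ ∃ g : L, z ∈ MulAut.conj g • D} := fun h => h.1 rfl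
    have h2 := Set.ncard_le_ncard hsub (Set.toFinite _)
    rw [Set.ncard_insert_of_notMem h1 (Set.toFinite _)] at h2
    exact h2
  have cD := D.card_mul_index
  have cC := C.card_mul_index
  have hD2 : 2 ≤ Nat.card D := by
    have : Nontrivial D := (Subgroup.nontrivial_iff_ne_bot D).2 hDb
    exact Finite.one_lt_card
  have hC2 : 2 ≤ Nat.card C := by
    have : Nontrivial C := (Subgroup.nontrivial_iff_ne_bot C).2 hCb
    exact Finite.one_lt_card
  obtain ⟨e, he⟩ : ∃ e, Nat.card D = e + 2 := ⟨Nat.card D - 2, by omega⟩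
  obtain ⟨f, hf⟩ : ∃ f, Nat.card C = f + 2 := ⟨Nat.card C - 2, by omega⟩
  rw [he] at cD hcount
  rw [hf] at cC
  have h3 : e + 2 - 1 = e + 1 := by omega
  rw [h3] at hcount
  nlinarith [Nat.zero_le (D.index * e), Nat.zero_le (f * C.index)]

theorem subgroupOf_conj {G : Type*} [Group G] (L K : Subgroup G) (l : L) :
    MulAut.conj l • (K.subgroupOf L) = (MulAut.conj (l : G) • K).subgroupOf L := by
  ext x
  rw [H1.mem_conj_smul, Subgroup.mem_subgroupOf, Subgroup.mem_subgroupOf, H1.mem_conj_smul]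
  rfl

/-- application form: `L` is contained in a conjugate of the TI-subgroup `H`. -/
theorem le_conj_of_TI {G : Type*} [Group G] [Finite G] (H L : Subgroup G)
    (ha : ∀ x ∈ L, x ≠ 1 → ∃ g : G, x ∈ MulAut.conj g • H)
    (hb : ∀ g x : G, x ∈ H → x ≠ 1 → x ∈ MulAut.conj g • H → MulAut.conj g • H = H)
    (hc : ∀ l ∈ L, ∀ g : G, MulAut.conj l • (MulAut.conj g • H) = MulAut.conj g • H →
      l ∈ MulAut.conj g • H) :
    ∃ g : G, L ≤ MulAut.conj g • H := by
  classical
  by_cases hL : L = ⊥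
  · exact ⟨1, by rw [hL]; exact bot_le⟩
  have hb2 : ∀ a b x : G, x ≠ 1 → x ∈ MulAut.conj a • H → x ∈ MulAut.conj b • H →
      MulAut.conj a • H = MulAut.conj b • H := by
    intro a b x hx1 hxa hxb
    rw [H1.mem_conj_smul] at hxa hxb
    have h1 : a⁻¹ * x * a ≠ 1 := by
      intro h
      apply hx1
      have : x = a * (a⁻¹ * x * a) * a⁻¹ := by group
      rw [this, h]; group
    have h2 : a⁻¹ * x * a ∈ MulAut.conj (a⁻¹ * b) • H := by
      rw [H1.mem_conj_smul]
      have : (a⁻¹ * b)⁻¹ * (a⁻¹ * x * a) * (a⁻¹ * b) = b⁻¹ * x * b := by group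
      rw [this]; exact hxb
    have h3 := hb _ _ hxa h1 h2
    calc MulAut.conj a • H = MulAut.conj a • (MulAut.conj (a⁻¹ * b) • H) := by rw [h3]
      _ = MulAut.conj b • H := by rw [← mul_smul, ← map_mul, mul_inv_cancel_left]
  have hnt : Nontrivial L := (Subgroup.nontrivial_iff_ne_bot L).2 hL
  have key := top_mem_of_partition (L := L) {C | ∃ g : G, C = (MulAut.conj g • H).subgroupOf L} hnt
    (by
      intro x
      by_cases hx : x = 1
      · exact ⟨_, ⟨1, rfl⟩, by rw [hx]; exact Subgroup.one_mem _⟩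
      · obtain ⟨g, hg⟩ := ha x x.2 (fun h => hx (Subtype.ext h))
        exact ⟨_, ⟨g, rfl⟩, Subgroup.mem_subgroupOf.2 hg⟩)
    (by
      rintro _ ⟨a, rfl⟩ _ ⟨b, rfl⟩ hne
      rw [eq_bot_iff]
      rintro x ⟨hxa, hxb⟩
      rw [Subgroup.mem_bot]
      by_contra hx1
      apply hne
      rw [hb2 a b (x : G) (fun h => hx1 (Subtype.ext h)) (Subgroup.mem_subgroupOf.1 hxa)
        (Subgroup.mem_subgroupOf.1 hxb)])
    (by
      rintro _ ⟨a, rfl⟩ l
      refine ⟨(l : G) * a, ?_⟩
      rw [subgroupOf_conj, map_mul, mul_smul])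
    (by
      rintro _ ⟨a, rfl⟩ hne l hl
      rw [subgroupOf_conj] at hl
      obtain ⟨x, hx1⟩ := (Subgroup.ne_bot_iff_exists_ne_one).1 hne
      have hxa : ((x : L) : G) ∈ MulAut.conj a • H := Subgroup.mem_subgroupOf.1 x.2
      have hxl : ((x : L) : G) ∈ MulAut.conj (l : G) • MulAut.conj a • H := by
        have : (x : L) ∈ (MulAut.conj (l : G) • MulAut.conj a • H).subgroupOf L := by rw [hl]; exact x.2
        exact Subgroup.mem_subgroupOf.1 this
      rw [← mul_smul, ← map_mul] at hxl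
      have hx1' : ((x : L) : G) ≠ 1 := fun h => hx1 (Subtype.ext (Subtype.ext h))
      have h4 := hb2 _ _ _ hx1' hxl hxa
      rw [map_mul, mul_smul] at h4
      exact Subgroup.mem_subgroupOf.2 (hc l l.2 a h4))
  obtain ⟨g, hg⟩ := key
  exact ⟨g, Subgroup.subgroupOf_eq_top.1 hg.symm⟩

/-- Frobenius complement version -/
theorem le_conj_of_frob {G : Type*} [Group G] [Finite G] (H L : Subgroup G)
    (hH : Cfsg.IsFrobeniusComplement H)
    (ha : ∀ x ∈ L, x ≠ 1 → x ∉ Cfsg.frobeniusKernel H) :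
    ∃ g : G, L ≤ MulAut.conj g • H := by
  apply le_conj_of_TI H L
  · intro x hx hx1
    have := ha x hx hx1
    by_contra hcon
    push Not at hcon
    exact this (Or.inr hcon)
  · intro g x hx hx1 hxg
    by_cases hg : g ∈ H
    · exact Subgroup.conj_smul_eq_self_of_mem hg
    · exfalso
      have h1 := hH.2.2 g hg
      have h2 : x ∈ H ⊓ MulAut.conj g • H := ⟨hx, hxg⟩
      rw [h1, Subgroup.mem_bot] at h2
      exact hx1 h2
  · intro l _ g hl
    rw [H1.mem_conj_smul]
    by_contra hcon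
    have h1 := hH.2.2 _ hcon
    have h2 : MulAut.conj (g⁻¹ * l * g) • H = H := by
      rw [map_mul, map_mul, mul_smul, mul_smul, hl, ← mul_smul, ← map_mul]; simp
    rw [h2, inf_idem] at h1
    exact hH.1 h1

theorem frob_coprime {G : Type*} [Group G] [Finite G] {H : Subgroup G}
    (hH : Cfsg.IsFrobeniusComplement H) : (H.index).Coprime (Nat.card H) := by
  obtain ⟨t, ht⟩ := H3.frob_index_mod hH
  have hi : H.index = Nat.card H * t + 1 := by
    have := Subgroup.index_ne_zero_of_finite (H := H); omega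
  rw [hi]
  simp

theorem card_kernel_subgroup {G : Type*} [Group G] [Finite G] {H N : Subgroup G}
    (hH : Cfsg.IsFrobeniusComplement H) (hN : (N : Set G) = Cfsg.frobeniusKernel H) :
    Nat.card N = H.index := by
  rw [← H3.frob_card_kernel hH, ← hN]; rfl

end Cfsg.Agent.LeadFrob
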