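import Mathlib
import Cfsg.Agent.Lib_lead_Frob

set_option autoImplicit false

namespace Cfsg.Agent.LeadFrob

open scoped Pointwise

/-- averaging argument for a "Frobenius-like" group `M ⋊ B` acting on an abelian group. -/
theorem pow_card_eq_one_of_action {V A : Type*} [CommGroup V] [Group A] [Finite A]
    (φ : A →* MulAut V) (M B : Subgroup A) [M.Normal]
    (hM : ∀ v : V, (∀ m ∈ M, φ m v = v) → v = 1)
    (hB : ∀ v : V, (∀ b ∈ B, φ b v = v) → v = 1)
    (hcent : ∀ b ∈ B, b ≠ 1 → ∀ m ∈ M, m * b = b * m → m = 1) (v : V) : v ^ Nat.card M = 1 := by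
  classical
  have := Fintype.ofFinite M
  have := Fintype.ofFinite B
  have hP : ∀ (S : Subgroup A) [Fintype S], (∀ v : V, (∀ m ∈ S, φ m v = v) → v = 1) →
      ∀ u : V, ∏ m : S, φ (m : A) u = 1 := by
    intro S _ hS u
    apply hS
    intro m0 hm0
    rw [map_prod]
    have h1 : ∀ m : S, φ m0 (φ (m : A) u) = φ ((Equiv.mulLeft (⟨m0, hm0⟩ : S) m : S) : A) u := by
      intro m
      simp [map_mul]
    simp_rw [h1]
    exact Equiv.prod_comp (Equiv.mulLeft (⟨m0, hm0⟩ : S)) (fun m : S => φ (m : A) u)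
  have hPM := hP M hM
  have hPB := hP B hB
  have hdouble : ∏ m : M, ∏ b : B, φ ((m : A) * b * (m : A)⁻¹) v = 1 := by
    apply Finset.prod_eq_one
    intro m _
    have : ∏ b : B, φ ((m : A) * b * (m : A)⁻¹) v = φ (m : A) (∏ b : B, φ (b : A) (φ (m : A)⁻¹ v)) := by
      rw [map_prod]
      apply Finset.prod_congr rfl
      intro b _
      simp [map_mul]
    rw [this, hPB, map_one]
  rw [Finset.prod_comm, Finset.prod_eq_single (1 : B)] at hdouble
  · simpa [Nat.card_eq_fintype_card] using hdouble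
  · intro b _ hb1
    have hmem : ∀ m : M, (m : A) * b * (m : A)⁻¹ * (b : A)⁻¹ ∈ M := by
      intro m
      have h1 : (b : A) * (m : A)⁻¹ * (b : A)⁻¹ ∈ M :=
        Subgroup.Normal.conj_mem inferInstance _ (M.inv_mem m.2) _
      have h2 := M.mul_mem m.2 h1
      have e : (m : A) * ((b : A) * (m : A)⁻¹ * (b : A)⁻¹) = (m : A) * b * (m : A)⁻¹ * (b : A)⁻¹ := by group
      rwa [e] at h2
    let ψ : M → M := fun m => ⟨(m : A) * b * (m : A)⁻¹ * (b : A)⁻¹, hmem m⟩
    have hψ : Function.Injective ψ := by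
      intro m n hmn
      have h1 : (m : A) * b * (m : A)⁻¹ * (b : A)⁻¹ = (n : A) * b * (n : A)⁻¹ * (b : A)⁻¹ :=
        congrArg Subtype.val hmn
      have h2 : ((n : A)⁻¹ * m) * b = b * ((n : A)⁻¹ * m) := by
        have h3 : (m : A) * b * (m : A)⁻¹ = (n : A) * b * (n : A)⁻¹ := mul_right_cancel h1
        calc ((n : A)⁻¹ * m) * b = (n : A)⁻¹ * ((m : A) * b * (m : A)⁻¹) * m := by group
          _ = (n : A)⁻¹ * ((n : A) * b * (n : A)⁻¹) * m := by rw [h3]
          _ = b * ((n : A)⁻¹ * m) := by group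
      have h4 := hcent b b.2 (fun h => hb1 (Subtype.ext h)) _ (M.mul_mem (M.inv_mem n.2) m.2) h2
      apply Subtype.ext
      exact (inv_mul_eq_one.1 h4).symm
    have hbij := Finite.injective_iff_bijective.1 hψ
    calc ∏ m : M, φ ((m : A) * b * (m : A)⁻¹) v = ∏ m : M, φ ((ψ m : M) : A) (φ (b : A) v) := by
          apply Finset.prod_congr rfl
          intro m _
          rw [← MulAut.mul_apply, ← map_mul]
          congr 2
          simp [ψ]
      _ = ∏ m : M, φ (m : A) (φ (b : A) v) := hbij.prod_comp (fun m : M => φ (m : A) (φ (b : A) v))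
      _ = 1 := hPM _
  · intro h; exact absurd (Finset.mem_univ _) h

end Cfsg.Agent.LeadFrob
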