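import Mathlib
import Cfsg.Agent.Lib_lead_Frob2
import Cfsg.Agent.Lib_helper5_PGrp

set_option autoImplicit false

namespace Cfsg.Agent.LeadFrob

open scoped Pointwise

/-- the norm of `v` along a cyclic group of order dividing `p` is fixed -/
theorem norm_fixed {V A : Type*} [CommGroup V] [Group A] (φ : A →* MulAut V) (p : ℕ) (x : A)
    (hx : x ^ p = 1) (v : V) :
    φ x (∏ i ∈ Finset.range p, φ (x ^ i) v) = ∏ i ∈ Finset.range p, φ (x ^ i) v := by
  rw [map_prod]
  have h1 : ∀ i, φ x (φ (x ^ i) v) = φ (x ^ (i + 1)) v := by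
    intro i
    rw [pow_succ', map_mul]; rfl
  simp_rw [h1]
  have e1 := Finset.prod_range_succ (fun i => φ (x ^ i) v) p
  have e2 := Finset.prod_range_succ' (fun i => φ (x ^ i) v) p
  rw [e1] at e2
  simp only [hx, pow_zero] at e2
  exact (mul_right_cancel e2).symm

/-- `C_p × C_p` cannot act fixed-point-freely on an abelian group unless it has exponent `p`. -/
theorem pow_prime_eq_one_of_rank_two {V A : Type*} [CommGroup V] [Group A] (φ : A →* MulAut V)
    (p : ℕ) (hp : p.Prime) (a b : A) (hab : a * b = b * a) (ha : a ^ p = 1) (hb : b ^ p = 1)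
    (hb1 : b ≠ 1) (hnot : a ∉ Subgroup.zpowers b)
    (hfpf : ∀ x : A, x ≠ 1 → ∀ v : V, φ x v = v → v = 1) (v : V) : v ^ p = 1 := by
  classical
  have hN : ∀ x : A, x ≠ 1 → x ^ p = 1 → ∀ u : V, ∏ i ∈ Finset.range p, φ (x ^ i) u = 1 :=
    fun x hx1 hxp u => hfpf x hx1 _ (norm_fixed φ p x hxp u)
  have hcomm : Commute a b := hab
  have : Fact p.Prime := ⟨hp⟩
  have hob : orderOf b = p := orderOf_eq_prime hb hb1
  have h1 : ∏ j ∈ Finset.range p, ∏ i ∈ Finset.range p, φ ((a * b ^ j) ^ i) v = 1 := by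
    apply Finset.prod_eq_one
    intro j _
    apply hN
    · intro h
      apply hnot
      have : a = (b ^ j)⁻¹ := eq_inv_of_mul_eq_one_left h
      rw [this]
      exact Subgroup.inv_mem _ (Subgroup.pow_mem _ (Subgroup.mem_zpowers b) j)
    · rw [(hcomm.pow_right j).mul_pow, ha, ← pow_mul, mul_comm, pow_mul, hb, one_pow, one_mul]
  rw [Finset.prod_comm, Finset.prod_eq_single_of_mem 0 (Finset.mem_range.2 hp.pos)] at h1
  · simpa using h1
  · intro i hi hi0
    have h2 : ∀ j, φ ((a * b ^ j) ^ i) v = φ (a ^ i) (φ ((b ^ i) ^ j) v) := by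
      intro j
      rw [(hcomm.pow_right j).mul_pow, map_mul, ← pow_mul, ← pow_mul, mul_comm j i]; rfl
    simp_rw [h2]
    rw [← map_prod, hN (b ^ i) _ _ v, map_one]
    · apply pow_ne_one_of_lt_orderOf hi0
      rw [hob]; exact Finset.mem_range.1 hi
    · rw [← pow_mul, mul_comm, pow_mul, hb, one_pow]

/-- a `p`-group normalizing a nontrivial `p`-group has a nontrivial fixed point -/
theorem exists_fixed_of_pgroups {G : Type*} [Group G] [Finite G] {p : ℕ} [Fact p.Prime]
    {V E : Subgroup G} (hV : IsPGroup p V) (hE : IsPGroup p E) (hV1 : V ≠ ⊥)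
    (hEV : E ≤ Subgroup.normalizer (V : Set G)) : ∃ v ∈ V, v ≠ 1 ∧ ∀ e ∈ E, e * v = v * e := by
  have hT : IsPGroup p (E ⊔ V : Subgroup G) := hE.to_sup_of_normal_right' hV hEV
  have hn : E ⊔ V ≤ Subgroup.normalizer (V : Set G) := sup_le hEV Subgroup.le_normalizer
  have h1 := H5.inf_centralizer_ne_bot_of_pgroup hT le_sup_right hn hV1
  obtain ⟨v, hv1⟩ := (Subgroup.ne_bot_iff_exists_ne_one).1 h1
  have hv := Subgroup.mem_inf.1 v.2
  refine ⟨v, hv.1, fun h => hv1 (Subtype.ext h), fun e he => ?_⟩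
  exact Subgroup.mem_centralizer_iff.1 hv.2 e ((le_sup_left : E ≤ E ⊔ V) he)

end Cfsg.Agent.LeadFrob
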