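import Cfsg.Statements.S3180
import Mathlib

set_option autoImplicit false
open Cfsg

namespace Cfsg.Agent.S3180

open Pointwise in
theorem conj_into_common {J : Type*} [Group J] [Finite J] {p : ℕ} [Fact p.Prime]
    (S A B : Subgroup J) (hA : A ≤ S) (hB : B ≤ S) (hpA : IsPGroup p A) (hpB : IsPGroup p B) :
    ∃ s ∈ S, ∃ R : Sylow p J, A ≤ R ∧ B.map (MulAut.conj s).toMonoidHom ≤ R := by
  have hpA' : IsPGroup p (A.subgroupOf S) := hpA.comap_subtype
  have hpB' : IsPGroup p (B.subgroupOf S) := hpB.comap_subtype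
  obtain ⟨QA, hQA⟩ := hpA'.exists_le_sylow
  obtain ⟨QB, hQB⟩ := hpB'.exists_le_sylow
  obtain ⟨s, hs⟩ := MulAction.exists_smul_eq S QB QA
  have hpQ : IsPGroup p ((QA : Subgroup S).map S.subtype) := QA.2.map _
  obtain ⟨R, hR⟩ := hpQ.exists_le_sylow
  refine ⟨s, s.2, R, ?_, ?_⟩
  · intro a ha
    exact hR ⟨⟨a, hA ha⟩, hQA (Subgroup.mem_subgroupOf.mpr ha), rfl⟩
  · rintro _ ⟨b, hb, rfl⟩
    have h1 : (⟨b, hB hb⟩ : S) ∈ (QB : Subgroup S) := hQB (Subgroup.mem_subgroupOf.mpr hb)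
    have h2 : MulAut.conj s • (⟨b, hB hb⟩ : S) ∈ MulAut.conj s • (QB : Subgroup S) :=
      Subgroup.smul_mem_pointwise_smul _ _ _ h1
    have h3 : MulAut.conj s • (QB : Subgroup S) = (QA : Subgroup S) := by
      rw [← hs]; rfl
    rw [h3] at h2
    exact hR ⟨_, h2, rfl⟩


/-- Let P be a Sylow p-subgroup of a finite group J and P₁ a subgroup of P that is weakly closed in P with respect to J. If J acts on a set and two points, each fixed by every element of P₁, lie in one J-orbit, then they lie in one orbit of the normalizer of P₁ in J. -/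
theorem result {J : Type*} [Group J] [Finite J]
    {p : ℕ} [Fact p.Prime] (P : Sylow p J) (P₁ : Subgroup J) (hW : Cfsg.IsWeaklyClosed P₁ (P : Subgroup J))
    {Ω : Type*} [MulAction J Ω] (x y : Ω) (hx : ∀ g ∈ P₁, g • x = x) (hy : ∀ g ∈ P₁, g • y = y)
    (hc : ∃ g : J, g • x = y) :
    ∃ g ∈ Subgroup.normalizer (P₁ : Set J), g • x = y := by
  obtain ⟨g, hg⟩ := hc
  obtain ⟨hP₁P, hwc⟩ := hW
  have hpP₁ : IsPGroup p P₁ := P.2.to_le hP₁P
  have hA : P₁ ≤ MulAction.stabilizer J x := fun w hw => hx w hw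
  have hB : P₁.map (MulAut.conj g⁻¹).toMonoidHom ≤ MulAction.stabilizer J x := by
    rintro _ ⟨w, hw, rfl⟩
    show (g⁻¹ * w * g⁻¹⁻¹) • x = x
    rw [inv_inv, mul_smul, mul_smul, hg, hy w hw, ← hg, inv_smul_smul]
  obtain ⟨s, hs, R, hAR, hBR⟩ := conj_into_common (MulAction.stabilizer J x) P₁ _ hA hB hpP₁ (hpP₁.map _)
  obtain ⟨k, hk⟩ := MulAction.exists_smul_eq J R P
  -- conjugating by k sends R to P
  have hkR : ∀ r ∈ R, k * r * k⁻¹ ∈ P := by
    intro r hr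
    rw [← hk]
    exact Subgroup.smul_mem_pointwise_smul (α := MulAut J) r (MulAut.conj k) _ hr
  have h1 : P₁.map (MulAut.conj k).toMonoidHom = P₁ := by
    apply hwc
    rintro _ ⟨w, hw, rfl⟩
    exact hkR w (hAR hw)
  have h2 : P₁.map (MulAut.conj (k * s * g⁻¹)).toMonoidHom = P₁ := by
    apply hwc
    rintro _ ⟨w, hw, rfl⟩
    have h3 : s * (g⁻¹ * w * g⁻¹⁻¹) * s⁻¹ ∈ R := hBR ⟨_, ⟨w, hw, rfl⟩, rfl⟩
    have h4 := hkR _ h3
    have h5 : (MulAut.conj (k * s * g⁻¹)).toMonoidHom w = k * (s * (g⁻¹ * w * g⁻¹⁻¹) * s⁻¹) * k⁻¹ := by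
      simp [MulAut.conj_apply, mul_assoc]
    rw [h5]; exact h4
  have hk1 : k ∈ Subgroup.normalizer (P₁ : Set J) := Subgroup.mem_normalizer_iff_map_conj_eq.mpr h1
  have hk2 : k * s * g⁻¹ ∈ Subgroup.normalizer (P₁ : Set J) := Subgroup.mem_normalizer_iff_map_conj_eq.mpr h2
  refine ⟨(k⁻¹ * (k * s * g⁻¹))⁻¹, Subgroup.inv_mem _ (Subgroup.mul_mem _ (Subgroup.inv_mem _ hk1) hk2), ?_⟩
  have h6 : (k⁻¹ * (k * s * g⁻¹))⁻¹ = g * s⁻¹ := by group
  have hs' : s⁻¹ • x = x := (MulAction.stabilizer J x).inv_mem hs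
  rw [h6, mul_smul, hs', hg]

end Cfsg.Agent.S3180
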