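import Mathlib
import Cfsg.Prelude.Def_IsolatedElements
import Cfsg.Agent.S3180

set_option autoImplicit false

namespace Cfsg.Agent.LeadIso

variable {G : Type*} [Group G]

/-- An isolated element of a finite `p`-subgroup is central in it. -/
theorem central_of_mem [Finite G] {p : ℕ} [Fact p.Prime] {x : G} (hiso : Cfsg.IsIsolated x)
    (R : Subgroup G) (hR : IsPGroup p R) (hx : x ∈ R) : ∀ r ∈ R, r * x = x * r := by
  by_contra hcon
  push Not at hcon
  obtain ⟨r, hr, hrx⟩ := hcon
  have : Group.IsNilpotent R := hR.isNilpotent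
  let C : Subgroup R := Subgroup.centralizer {(⟨x, hx⟩ : R)}
  have hCtop : C < ⊤ := by
    rw [lt_top_iff_ne_top]
    intro h
    have : (⟨r, hr⟩ : R) ∈ C := h ▸ Subgroup.mem_top _
    rw [Subgroup.mem_centralizer_singleton_iff] at this
    exact hrx (congrArg Subtype.val this)
  have hN := Group.normalizerCondition_of_isNilpotent (G := R) C hCtop
  obtain ⟨n, hn, hnC⟩ := SetLike.exists_of_lt hN
  have hxC : (⟨x, hx⟩ : R) ∈ C := by
    rw [Subgroup.mem_centralizer_singleton_iff]
  have h1 : n * ⟨x, hx⟩ * n⁻¹ ∈ C := (Subgroup.mem_normalizer_iff.mp hn _).mp hxC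
  rw [Subgroup.mem_centralizer_singleton_iff] at h1
  have h2 : (n : G) * x * (n : G)⁻¹ = x := by
    apply hiso
    have := congrArg Subtype.val h1
    simp only [Subgroup.coe_mul, Subgroup.coe_inv] at this
    exact this.symm
  apply hnC
  rw [Subgroup.mem_centralizer_singleton_iff]
  apply Subtype.ext
  simp only [Subgroup.coe_mul]
  calc (n : G) * x = (n : G) * x * (n : G)⁻¹ * n := by group
    _ = x * n := by rw [h2]

/-- A conjugate of an isolated element lying in a common `p`-subgroup is the element itself. -/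
theorem conj_eq_of_mem [Finite G] {p : ℕ} [Fact p.Prime] {x : G} (hiso : Cfsg.IsIsolated x)
    (R : Subgroup G) (hR : IsPGroup p R) (hx : x ∈ R) (g : G) (hg : g * x * g⁻¹ ∈ R) :
    g * x * g⁻¹ = x := by
  apply hiso
  exact (central_of_mem hiso R hR hx _ hg).symm

theorem isPGroup_zpowers {p : ℕ} [Fact p.Prime] {x : G} (hx : ∃ k : ℕ, orderOf x = p ^ k) :
    IsPGroup p (Subgroup.zpowers x) := by
  obtain ⟨k, hk⟩ := hx
  apply IsPGroup.of_card (n := k)
  rw [Nat.card_zpowers, hk]

/-- Inside any subgroup `S` containing the isolated `p`-element `x` and a conjugate `y` of it,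
`y` is `S`-conjugate to `x`. -/
theorem exists_conj_in [Finite G] {p : ℕ} [Fact p.Prime] {x : G}
    (hx : ∃ k : ℕ, orderOf x = p ^ k) (hiso : Cfsg.IsIsolated x)
    (S : Subgroup G) (hxS : x ∈ S) (g : G) (hg : g * x * g⁻¹ ∈ S) :
    ∃ s ∈ S, s * (g * x * g⁻¹) * s⁻¹ = x := by
  have hpA := isPGroup_zpowers hx
  have hpB : IsPGroup p (Subgroup.zpowers (g * x * g⁻¹)) := by
    apply isPGroup_zpowers
    obtain ⟨k, hk⟩ := hx
    refine ⟨k, ?_⟩
    rw [← hk]
    exact (SemiconjBy.conj_mk g x).orderOf_eq.symm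
  obtain ⟨s, hs, R, hAR, hBR⟩ := Cfsg.Agent.S3180.conj_into_common S (Subgroup.zpowers x)
    (Subgroup.zpowers (g * x * g⁻¹)) (by simpa using hxS) (by simpa using hg) hpA hpB
  refine ⟨s, hs, ?_⟩
  have h1 : x ∈ (R : Subgroup G) := hAR (Subgroup.mem_zpowers x)
  have h2 : s * (g * x * g⁻¹) * s⁻¹ ∈ (R : Subgroup G) :=
    hBR ⟨_, Subgroup.mem_zpowers _, rfl⟩
  have h3 : (s * g) * x * (s * g)⁻¹ = x := by
    apply conj_eq_of_mem hiso R R.2 h1
    convert h2 using 1
    group
  calc s * (g * x * g⁻¹) * s⁻¹ = (s * g) * x * (s * g)⁻¹ := by group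
    _ = x := h3

end Cfsg.Agent.LeadIso
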