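import Mathlib
import Cfsg.Prelude.Def_Transfer
import Cfsg.Agent.Lib_helper1_Frattini

set_option autoImplicit false

/-! Extraspecial groups: basic theory. -/

namespace Cfsg.Agent.LeadXS

open scoped commutatorElement IsMulCommutative

/-- If `G/N` is elementary abelian then `Φ(G) ≤ N`. -/
theorem frattini_le {G : Type*} [Group G] [Finite G] {p : ℕ} [Fact p.Prime]
    (N : Subgroup G) (hc : commutator G ≤ N) (hp : ∀ x : G, x ^ p ∈ N) : frattini G ≤ N := by
  intro g hg
  by_contra hgN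
  have hnorm : ∀ M : Subgroup G, N ≤ M → M.Normal := by
    intro M hM
    refine ⟨fun m hm x => ?_⟩
    have h1 : ⁅x, m⁆ ∈ M := hM (hc (Subgroup.commutator_mem_commutator (Subgroup.mem_top x)
      (Subgroup.mem_top m)))
    have e : x * m * x⁻¹ = ⁅x, m⁆ * m := by
      rw [commutatorElement_def]; group
    rw [e]
    exact M.mul_mem h1 hm
  have hfin : {M : Subgroup G | N ≤ M ∧ g ∉ M}.Finite := Set.toFinite _
  obtain ⟨M, hM⟩ := hfin.exists_maximal ⟨N, le_refl _, hgN⟩
  obtain ⟨⟨hNM, hgM⟩, hmax⟩ := hM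
  have hMn : M.Normal := hnorm M hNM
  have hco : IsCoatom M := by
    refine ⟨fun h => hgM (h ▸ Subgroup.mem_top g), fun K hK => ?_⟩
    have hgK : g ∈ K := by
      by_contra hgK
      exact hK.not_ge (hmax ⟨hNM.trans hK.le, hgK⟩ hK.le)
    rw [eq_top_iff]
    intro x _
    by_contra hxK
    have hxM : x ∉ M := fun h => hxK (hK.le h)
    have hg2 : g ∈ M ⊔ Subgroup.zpowers x := by
      by_contra hg2
      have := hmax (y := M ⊔ Subgroup.zpowers x) ⟨hNM.trans le_sup_left, hg2⟩ le_sup_left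
      exact hxM (this (Subgroup.mem_sup_right (Subgroup.mem_zpowers x)))
    obtain ⟨m, hm, y, hy, e⟩ := Subgroup.mem_sup_of_normal_left.1 hg2
    obtain ⟨i, rfl⟩ := Subgroup.mem_zpowers_iff.1 hy
    have hxi : x ^ i ∈ K := by
      have e2 : x ^ i = m⁻¹ * g := by rw [← e]; group
      rw [e2]
      exact K.mul_mem (K.inv_mem (hK.le hm)) hgK
    have hpi : ¬ (p : ℤ) ∣ i := by
      rintro ⟨j, rfl⟩
      apply hgM
      rw [← e]
      refine M.mul_mem hm (hNM ?_)
      rw [zpow_mul, zpow_natCast]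
      exact N.zpow_mem (hp x) j
    have hcop : IsCoprime (p : ℤ) i :=
      (Nat.prime_iff_prime_int.1 (Fact.out : p.Prime)).coprime_iff_not_dvd.2 hpi
    obtain ⟨a, b, hab⟩ := hcop
    apply hxK
    have e3 : x = (x ^ p) ^ a * (x ^ i) ^ b := by
      rw [← zpow_natCast x p, ← zpow_mul, ← zpow_mul, ← zpow_add, mul_comm (p : ℤ) a,
        mul_comm i b, hab, zpow_one]
    rw [e3]
    exact K.mul_mem (K.zpow_mem (hK.le (hNM (hp x))) a) (K.zpow_mem hxi b)
  exact hgM ((Cfsg.Agent.H1.le_frattini_iff.1 (le_refl _)) M hco hg)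

theorem eq_of_le_of_prime_card {G : Type*} [Group G] {p : ℕ} [Fact p.Prime] {H K : Subgroup G}
    (hle : H ≤ K) (hK : Nat.card K = p) (hH : H ≠ ⊥) : H = K := by
  have : Finite K := Nat.finite_of_card_ne_zero (by rw [hK]; exact (Fact.out : p.Prime).ne_zero)
  have h1 : Nat.card H ∣ p := hK ▸ Subgroup.card_dvd_of_le hle
  rcases (Nat.dvd_prime (Fact.out : p.Prime)).1 h1 with h | h
  · exact absurd (Subgroup.card_eq_one.1 h) hH
  · exact Subgroup.eq_of_le_of_card_ge hle (by rw [hK, h])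

/-- number of homomorphisms into a group of prime order -/
theorem card_hom_le {p : ℕ} [Fact p.Prime] (A : Type*) [Group A] [Finite A] (Z : Type*)
    [CommGroup Z] (hZ : Nat.card Z = p) : Nat.card (A →* Z) ≤ Nat.card (Abelianization A) := by
  have hfZ : Finite Z :=
    Nat.finite_of_card_ne_zero (by rw [hZ]; exact (Fact.out : p.Prime).ne_zero)
  have hnz : NeZero ((Monoid.exponent Z : ℕ) : ℂ) :=
    ⟨by exact_mod_cast Monoid.exponent_ne_zero_of_finite⟩
  have hnt : Nontrivial Z := by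
    rw [← Finite.one_lt_card_iff_nontrivial, hZ]
    exact (Fact.out : p.Prime).one_lt
  obtain ⟨z, hz⟩ := exists_ne (1 : Z)
  obtain ⟨ι, hι⟩ := CommGroup.exists_apply_ne_one_of_hasEnoughRootsOfUnity Z ℂ hz
  have hinj : Function.Injective ι := by
    rw [← MonoidHom.ker_eq_bot_iff]
    by_contra hne
    have h1 : ι.ker = ⊤ := by
      apply eq_of_le_of_prime_card (p := p) le_top _ hne
      rw [Subgroup.card_top, hZ]
    have : z ∈ ι.ker := h1 ▸ Subgroup.mem_top z
    exact hι this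
  have hnz2 : NeZero ((Monoid.exponent (Abelianization A) : ℕ) : ℂ) :=
    ⟨by exact_mod_cast Monoid.exponent_ne_zero_of_finite⟩
  have hfin : Finite (Abelianization A →* ℂˣ) :=
    Finite.of_equiv _
      (CommGroup.monoidHom_mulEquiv_of_hasEnoughRootsOfUnity (Abelianization A) ℂ).some.toEquiv.symm
  rw [← CommGroup.card_monoidHom_of_hasEnoughRootsOfUnity (Abelianization A) ℂ]
  apply Nat.card_le_card_of_injective (fun f : A →* Z => Abelianization.lift (ι.comp f))
  intro f g h
  ext a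
  apply hinj
  have := congrArg (fun F : Abelianization A →* ℂˣ => F (Abelianization.of a)) h
  simpa using this

section class2

variable {E : Type*} [Group E]

theorem comm_mul_right (hc : ∀ a b : E, ⁅a, b⁆ ∈ Subgroup.center E) (g x y : E) :
    ⁅g, x * y⁆ = ⁅g, x⁆ * ⁅g, y⁆ := by
  have h := Subgroup.mem_center_iff.1 (hc g y) x
  calc ⁅g, x * y⁆ = ⁅g, x⁆ * (x * ⁅g, y⁆) * x⁻¹ := by
        simp only [commutatorElement_def]; group
    _ = ⁅g, x⁆ * ⁅g, y⁆ := by rw [h]; group

theorem comm_mul_left (hc : ∀ a b : E, ⁅a, b⁆ ∈ Subgroup.center E) (g g' x : E) :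
    ⁅g * g', x⁆ = ⁅g, x⁆ * ⁅g', x⁆ := by
  have h := Subgroup.mem_center_iff.1 (hc g' x) g
  have h2 := Subgroup.mem_center_iff.1 (hc g' x) ⁅g, x⁆
  calc ⁅g * g', x⁆ = (g * ⁅g', x⁆) * g⁻¹ * ⁅g, x⁆ := by
        simp only [commutatorElement_def]; group
    _ = ⁅g', x⁆ * ⁅g, x⁆ := by rw [h]; group
    _ = ⁅g, x⁆ * ⁅g', x⁆ := h2.symm

/-- the commutator pairing as a homomorphism -/
def commHom (hc : ∀ a b : E, ⁅a, b⁆ ∈ Subgroup.center E) : E →* (E →* Subgroup.center E) :=
  MonoidHom.mk' (fun g => MonoidHom.mk' (fun x => ⟨⁅g, x⁆, hc g x⟩)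
    (fun x y => Subtype.ext (comm_mul_right hc g x y)))
    (fun g g' => MonoidHom.ext fun x => Subtype.ext (comm_mul_left hc g g' x))

@[simp] theorem commHom_apply (hc : ∀ a b : E, ⁅a, b⁆ ∈ Subgroup.center E) (g x : E) :
    ((commHom hc g x : Subgroup.center E) : E) = ⁅g, x⁆ := rfl

theorem commHom_ker (hc : ∀ a b : E, ⁅a, b⁆ ∈ Subgroup.center E) :
    (commHom hc).ker = Subgroup.center E := by
  ext g
  rw [MonoidHom.mem_ker, Subgroup.mem_center_iff]
  constructor
  · intro h x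
    have := congrArg (fun F : E →* Subgroup.center E => ((F x : Subgroup.center E) : E)) h
    simp only [commHom_apply, MonoidHom.one_apply, OneMemClass.coe_one] at this
    exact (commutatorElement_eq_one_iff_mul_comm.1 this).symm
  · intro h
    ext x
    simp only [commHom_apply, MonoidHom.one_apply, OneMemClass.coe_one]
    exact commutatorElement_eq_one_iff_mul_comm.2 (h x).symm

end class2

/-- working form of extraspeciality -/
structure XS (p : ℕ) (E : Type*) [Group E] : Prop where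
  pgroup : IsPGroup p E
  card_center : Nat.card (Subgroup.center E) = p
  comm : commutator E = Subgroup.center E
  pow : ∀ x : E, x ^ p ∈ Subgroup.center E

variable {E : Type*} [Group E] {p : ℕ} [Fact p.Prime]

theorem XS.of_extraspecial [Finite E] (h : Cfsg.IsExtraspecial p E) : XS p E where
  pgroup := h.1.1
  card_center := h.2
  comm := h.1.2.2
  pow := fun x => h.1.2.1 ▸ (Cfsg.Agent.H1.pgroup_frattini p h.1.1).2 x

theorem XS.to_extraspecial [Finite E] (h : XS p E) : Cfsg.IsExtraspecial p E := by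
  refine ⟨⟨h.pgroup, le_antisymm ?_ ?_, h.comm⟩, h.card_center⟩
  · exact frattini_le (p := p) _ h.comm.le h.pow
  · rw [← h.comm]
    exact (Cfsg.Agent.H1.pgroup_frattini p h.pgroup).1

omit [Fact p.Prime] in
theorem XS.comm_mem (h : XS p E) (a b : E) : ⁅a, b⁆ ∈ Subgroup.center E :=
  h.comm ▸ Subgroup.commutator_mem_commutator (Subgroup.mem_top a) (Subgroup.mem_top b)

/-- Duality: every homomorphism `E → Z(E)` is `x ↦ [g, x]`. -/
theorem XS.exists_comm_eq [Finite E] (h : XS p E) (l : E →* Subgroup.center E) :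
    ∃ g : E, ∀ x : E, ((l x : Subgroup.center E) : E) = ⁅g, x⁆ := by
  have hinj := QuotientGroup.kerLift_injective (commHom h.comm_mem)
  have hfin : Finite (E →* Subgroup.center E) :=
    Finite.of_injective (fun f : E →* Subgroup.center E => (f : E → Subgroup.center E))
      DFunLike.coe_injective
  have hcard : Nat.card (E →* Subgroup.center E) ≤ Nat.card (E ⧸ (commHom h.comm_mem).ker) := by
    have h1 : Nat.card (E ⧸ (commHom h.comm_mem).ker) = Nat.card (Abelianization E) := by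
      have e : (commHom h.comm_mem).ker = commutator E := by rw [commHom_ker, h.comm]
      rw [e]
      rfl
    rw [h1]
    exact card_hom_le E _ h.card_center
  obtain ⟨q, hq⟩ := (hinj.bijective_of_nat_card_le hcard).2 l
  induction q using QuotientGroup.induction_on with | H g => ?_
  refine ⟨g, fun x => ?_⟩
  rw [← hq]
  rfl

/-- An endomorphism trivial modulo the centre is inner. -/
theorem XS.inner_of_mod_center [Finite E] (h : XS p E) (φ : E →* E)
    (hφ : ∀ x : E, φ x * x⁻¹ ∈ Subgroup.center E) : ∃ g : E, ∀ x : E, φ x = g * x * g⁻¹ := by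
  let l : E →* Subgroup.center E := MonoidHom.mk' (fun x => ⟨φ x * x⁻¹, hφ x⟩) (by
    intro x y
    apply Subtype.ext
    show φ (x * y) * (x * y)⁻¹ = (φ x * x⁻¹) * (φ y * y⁻¹)
    have h1 := Subgroup.mem_center_iff.1 (hφ y) x⁻¹
    calc φ (x * y) * (x * y)⁻¹ = φ x * ((φ y * y⁻¹) * x⁻¹) := by rw [map_mul]; group
      _ = φ x * (x⁻¹ * (φ y * y⁻¹)) := by rw [h1]
      _ = _ := by group)
  obtain ⟨g, hg⟩ := h.exists_comm_eq l
  refine ⟨g, fun x => ?_⟩
  have h1 : φ x * x⁻¹ = ⁅g, x⁆ := hg x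
  calc φ x = (φ x * x⁻¹) * x := by group
    _ = g * x * g⁻¹ := by rw [h1, commutatorElement_def]; group

/-- Subgroup version: an element acting trivially on `Q / Z(Q)` lies in `Q C(Q)`. -/
theorem XS.mem_sup_centralizer {G : Type*} [Group G] (Q : Subgroup G) [Finite Q] (h : XS p Q)
    (g : G) (hg : ∀ x ∈ Q, ⁅g, x⁆ ∈ Q ∧ ∀ y ∈ Q, y * ⁅g, x⁆ = ⁅g, x⁆ * y) :
    g ∈ Q ⊔ Subgroup.centralizer (Q : Set G) := by
  have hconj : ∀ x ∈ Q, g * x * g⁻¹ ∈ Q := by
    intro x hx
    have e : g * x * g⁻¹ = ⁅g, x⁆ * x := by rw [commutatorElement_def]; group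
    rw [e]
    exact Q.mul_mem (hg x hx).1 hx
  let φ : Q →* Q := MonoidHom.mk' (fun x => ⟨g * x * g⁻¹, hconj x x.2⟩) (by
    intro x y
    apply Subtype.ext
    show g * (x * y : G) * g⁻¹ = (g * x * g⁻¹) * (g * y * g⁻¹)
    group)
  obtain ⟨e, he⟩ := h.inner_of_mod_center φ (by
    intro x
    rw [Subgroup.mem_center_iff]
    intro y
    apply Subtype.ext
    show (y : G) * ((g * x * g⁻¹) * (x : G)⁻¹) = ((g * x * g⁻¹) * (x : G)⁻¹) * y
    exact (hg x x.2).2 y y.2)
  have hc : (e : G)⁻¹ * g ∈ Subgroup.centralizer (Q : Set G) := by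
    rw [Subgroup.mem_centralizer_iff]
    intro x hx
    have h1 : g * x * g⁻¹ = (e : G) * x * (e : G)⁻¹ := congrArg Subtype.val (he ⟨x, hx⟩)
    have h2 : g * x = (e : G) * x * (e : G)⁻¹ * g := by rw [← h1]; group
    calc x * ((e : G)⁻¹ * g) = (e : G)⁻¹ * ((e : G) * x * (e : G)⁻¹ * g) := by group
      _ = (e : G)⁻¹ * g * x := by rw [← h2]; group
  have e2 : g = (e : G) * ((e : G)⁻¹ * g) := by group
  rw [e2]
  exact Subgroup.mul_mem_sup e.2 hc

end Cfsg.Agent.LeadXS
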