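import Mathlib
import Cfsg.Prelude.Def_Transfer
import Cfsg.Agent.Lib_lead_XS1

set_option autoImplicit false

/-! Extraspecial groups: orders. -/

namespace Cfsg.Agent.LeadXS

open scoped commutatorElement IsMulCommutative

variable {E : Type*} [Group E] {p : ℕ} [Fact p.Prime]

theorem exists_zpow (hc : ∀ a b : E, ⁅a, b⁆ ∈ Subgroup.center E)
    (hZ : Nat.card (Subgroup.center E) = p) {x y : E} (hxy : x * y ≠ y * x)
    (u v : Subgroup.center E) :
    ∃ a b : ℤ, commHom hc x (y ^ a * x ^ b) = u ∧ commHom hc y (y ^ a * x ^ b) = v := by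
  have hz0 : commHom hc x y ≠ 1 := by
    intro h
    apply hxy
    have : ⁅x, y⁆ = 1 := congrArg Subtype.val h
    exact commutatorElement_eq_one_iff_mul_comm.1 this
  obtain ⟨a, ha⟩ := Subgroup.mem_zpowers_iff.1 (mem_zpowers_of_prime_card hZ hz0 (g' := u))
  obtain ⟨b, hb⟩ := Subgroup.mem_zpowers_iff.1 (mem_zpowers_of_prime_card hZ hz0 (g' := v))
  have hxx : ∀ t : E, commHom hc t t = 1 := fun t => Subtype.ext (commutatorElement_self t)
  have hyx : commHom hc y x = (commHom hc x y)⁻¹ :=
    Subtype.ext (commutatorElement_inv x y).symm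
  refine ⟨a, -b, ?_, ?_⟩
  · rw [map_mul, map_zpow, map_zpow, hxx, one_zpow, mul_one, ha]
  · rw [map_mul, map_zpow, map_zpow, hxx, one_zpow, one_mul, hyx, inv_zpow, zpow_neg, inv_inv, hb]

theorem card_nondeg [Finite E] (hc : ∀ a b : E, ⁅a, b⁆ ∈ Subgroup.center E)
    (hZ : Nat.card (Subgroup.center E) = p) :
    ∀ (n : ℕ) (H : Subgroup E), Nat.card H ≤ n → Subgroup.center E ≤ H →
      (∀ g ∈ H, (∀ h ∈ H, g * h = h * g) → g ∈ Subgroup.center E) →
      ∃ m : ℕ, Nat.card H = p ^ (2 * m + 1) := by
  intro n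
  induction n with
  | zero =>
    intro H hH
    exact absurd hH (by have := Nat.card_pos (α := H); omega)
  | succ n ih =>
    intro H hH hZH hnd
    by_cases hHZ : H ≤ Subgroup.center E
    · refine ⟨0, ?_⟩
      rw [le_antisymm hHZ hZH, hZ]; simp
    obtain ⟨x, hxH, hxZ⟩ := SetLike.not_le_iff_exists.1 hHZ
    have : ∃ y ∈ H, x * y ≠ y * x := by
      by_contra hcon
      push Not at hcon
      exact hxZ (hnd x hxH hcon)
    obtain ⟨y, hyH, hxy⟩ := this
    let f : H →* Subgroup.center E × Subgroup.center E :=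
      ((commHom hc x).prod (commHom hc y)).comp H.subtype
    have hsurj : Function.Surjective f := by
      rintro ⟨u, v⟩
      obtain ⟨a, b, h1, h2⟩ := exists_zpow hc hZ hxy u v
      exact ⟨⟨y ^ a * x ^ b, H.mul_mem (H.zpow_mem hyH a) (H.zpow_mem hxH b)⟩, Prod.ext h1 h2⟩
    set H' : Subgroup E := f.ker.map H.subtype with hH'
    have hmem : ∀ g, g ∈ H' ↔ g ∈ H ∧ x * g = g * x ∧ y * g = g * y := by
      intro g
      rw [hH', Subgroup.mem_map]
      constructor
      · rintro ⟨k, hk, rfl⟩
        rw [MonoidHom.mem_ker] at hk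
        have h1 : ⁅x, (k : E)⁆ = 1 := congrArg (fun t => ((Prod.fst t : Subgroup.center E) : E)) hk
        have h2 : ⁅y, (k : E)⁆ = 1 := congrArg (fun t => ((Prod.snd t : Subgroup.center E) : E)) hk
        exact ⟨k.2, commutatorElement_eq_one_iff_mul_comm.1 h1,
          commutatorElement_eq_one_iff_mul_comm.1 h2⟩
      · rintro ⟨hg, h1, h2⟩
        refine ⟨⟨g, hg⟩, ?_, rfl⟩
        rw [MonoidHom.mem_ker]
        exact Prod.ext (Subtype.ext (commutatorElement_eq_one_iff_mul_comm.2 h1))
          (Subtype.ext (commutatorElement_eq_one_iff_mul_comm.2 h2))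
    have hcard : Nat.card H = Nat.card H' * (p * p) := by
      have h1 := Subgroup.card_mul_index f.ker
      rw [Subgroup.index_ker, MonoidHom.range_eq_top.2 hsurj, Subgroup.card_top, Nat.card_prod,
        hZ] at h1
      rw [← h1, hH', Subgroup.card_subtype]
    have hpp : 4 ≤ p * p := by
      have := (Fact.out : p.Prime).two_le
      nlinarith
    have hpos := Nat.card_pos (α := H')
    have hle : Nat.card H' ≤ n := by
      have : Nat.card H' * 4 ≤ Nat.card H' * (p * p) := Nat.mul_le_mul_left _ hpp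
      omega
    obtain ⟨m, hm⟩ := ih H' hle (by
      intro z hz
      rw [hmem]
      exact ⟨hZH hz, Subgroup.mem_center_iff.1 hz x, Subgroup.mem_center_iff.1 hz y⟩) (by
      intro g hg hgc
      obtain ⟨hgH, hgx, hgy⟩ := (hmem g).1 hg
      apply hnd g hgH
      intro h hh
      obtain ⟨a, b, h1, h2⟩ := exists_zpow hc hZ hxy (commHom hc x h) (commHom hc y h)
      set k := y ^ a * x ^ b with hk
      have hkH : k ∈ H := H.mul_mem (H.zpow_mem hyH a) (H.zpow_mem hxH b)
      have hgk : g * k = k * g := by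
        have c1 : Commute g x := hgx.symm
        have c2 : Commute g y := hgy.symm
        exact ((c2.zpow_right a).mul_right (c1.zpow_right b)).eq
      have hhk : h * k⁻¹ ∈ H' := by
        rw [hmem]
        refine ⟨H.mul_mem hh (H.inv_mem hkH), ?_, ?_⟩
        · apply commutatorElement_eq_one_iff_mul_comm.1
          have : commHom hc x (h * k⁻¹) = 1 := by rw [map_mul, map_inv, h1]; simp
          exact congrArg Subtype.val this
        · apply commutatorElement_eq_one_iff_mul_comm.1
          have : commHom hc y (h * k⁻¹) = 1 := by rw [map_mul, map_inv, h2]; simp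
          exact congrArg Subtype.val this
      have h3 := hgc _ hhk
      calc g * h = (g * (h * k⁻¹)) * k := by group
        _ = (h * k⁻¹) * (g * k) := by rw [h3]; group
        _ = h * g := by rw [hgk]; group)
    exact ⟨m + 1, by rw [hcard, hm]; ring⟩

theorem XS.card [Finite E] (h : XS p E) : ∃ n : ℕ, 1 ≤ n ∧ Nat.card E = p ^ (2 * n + 1) := by
  obtain ⟨m, hm⟩ := card_nondeg h.comm_mem h.card_center (Nat.card (⊤ : Subgroup E)) ⊤ le_rfl le_top
    (fun g _ hg => Subgroup.mem_center_iff.2 fun x => (hg x (Subgroup.mem_top x)).symm)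
  rw [Subgroup.card_top] at hm
  refine ⟨m, ?_, hm⟩
  by_contra h0
  have hm0 : m = 0 := by omega
  subst hm0
  have h1 : Subgroup.center E = ⊤ := by
    apply Subgroup.eq_top_of_card_eq
    rw [h.card_center, hm]; simp
  have h2 : commutator E = ⊥ := by
    rw [commutator_def, Subgroup.commutator_eq_bot_iff_le_centralizer, Subgroup.coe_top,
      Subgroup.centralizer_univ, h1]
  have h3 := h.card_center
  rw [← h.comm, h2, Subgroup.card_bot] at h3
  exact (Fact.out : p.Prime).one_lt.ne h3

end Cfsg.Agent.LeadXS
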