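import Mathlib
import Cfsg.Prelude.Def_Transfer
import Cfsg.Agent.Lib_lead_XS2
import Cfsg.Agent.Lib_helper7_CL

set_option autoImplicit false

/-! Extraspecial subgroups of a group. -/

namespace Cfsg.Agent.LeadXS

open scoped commutatorElement IsMulCommutative

variable {G : Type*} [Group G] {p : ℕ}

theorem map_commutator_subtype (Q : Subgroup G) : (commutator Q).map Q.subtype = ⁅Q, Q⁆ := by
  rw [commutator_def, Subgroup.map_commutator, ← MonoidHom.range_eq_map, Subgroup.range_subtype]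

theorem XS.sub_iff (Q : Subgroup G) :
    XS p ↥Q ↔ (IsPGroup p Q ∧ Nat.card (Q ⊓ Subgroup.centralizer (Q : Set G) : Subgroup G) = p ∧
      ⁅Q, Q⁆ = Q ⊓ Subgroup.centralizer (Q : Set G) ∧
      ∀ x ∈ Q, x ^ p ∈ Subgroup.centralizer (Q : Set G)) := by
  constructor
  · intro h
    refine ⟨h.pgroup, ?_, ?_, ?_⟩
    · rw [← Cfsg.Agent.H7.card_center_eq, h.card_center]
    · rw [← map_commutator_subtype, h.comm, Cfsg.Agent.H7.map_center_subtype]
    · intro x hx
      have h1 : x ^ p ∈ (Subgroup.center Q).map Q.subtype := ⟨_, h.pow ⟨x, hx⟩, rfl⟩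
      rw [Cfsg.Agent.H7.map_center_subtype] at h1
      exact h1.2
  · rintro ⟨h1, h2, h3, h4⟩
    refine ⟨h1, ?_, ?_, ?_⟩
    · rw [Cfsg.Agent.H7.card_center_eq, h2]
    · apply Subgroup.map_injective Q.subtype_injective
      rw [map_commutator_subtype, h3, Cfsg.Agent.H7.map_center_subtype]
    · intro x
      rw [Subgroup.mem_center_iff]
      intro y
      apply Subtype.ext
      exact Subgroup.mem_centralizer_iff.1 (h4 x x.2) y y.2

theorem XS.of_le [Fact p.Prime] {Q H : Subgroup G} (hQ : XS p Q) (hHQ : H ≤ Q)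
    (hnd : H ⊓ Subgroup.centralizer (H : Set G) ≤ Subgroup.centralizer (Q : Set G))
    (hna : ¬ H ≤ Subgroup.centralizer (H : Set G)) : XS p H := by
  obtain ⟨h1, h2, h3, h4⟩ := (XS.sub_iff Q).1 hQ
  have hcc : Subgroup.centralizer (Q : Set G) ≤ Subgroup.centralizer (H : Set G) :=
    Subgroup.centralizer_le hHQ
  have h5 : ⁅H, H⁆ = Q ⊓ Subgroup.centralizer (Q : Set G) := by
    apply eq_of_le_of_prime_card (p := p) _ h2
    · intro h
      exact hna (Subgroup.commutator_eq_bot_iff_le_centralizer.1 h)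
    · rw [← h3]
      exact Subgroup.commutator_mono hHQ hHQ
  have h6 : H ⊓ Subgroup.centralizer (H : Set G) = Q ⊓ Subgroup.centralizer (Q : Set G) := by
    apply le_antisymm
    · exact le_inf (inf_le_left.trans hHQ) hnd
    · refine le_inf ?_ (inf_le_right.trans hcc)
      rw [← h5]
      exact Subgroup.commutator_le_self H
  rw [XS.sub_iff]
  refine ⟨h1.to_le hHQ, by rw [h6, h2], by rw [h5, h6], fun x hx => hcc (h4 x (hHQ hx))⟩

theorem XS.two_central {Q : Subgroup G} (h : XS 2 Q) {t : G}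
    (ht : t ∈ Subgroup.normalizer (Q : Set G)) {z : G}
    (hz : z ∈ Q ⊓ Subgroup.centralizer (Q : Set G)) : t * z = z * t := by
  obtain ⟨-, h2, -, -⟩ := (XS.sub_iff Q).1 h
  have hN : ∀ x, x ∈ Q ↔ t * x * t⁻¹ ∈ Q := fun x => Subgroup.mem_normalizer_iff.1 ht x
  by_cases h1 : z = 1
  · subst h1; simp
  have hz'' : t * z * t⁻¹ ∈ Q ⊓ Subgroup.centralizer (Q : Set G) := by
    refine Subgroup.mem_inf.2 ⟨(hN z).1 hz.1, ?_⟩
    rw [Subgroup.mem_centralizer_iff]
    intro y hy
    have hy' : t⁻¹ * y * t ∈ Q := by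
      rw [hN]
      have : t * (t⁻¹ * y * t) * t⁻¹ = y := by group
      rw [this]; exact hy
    have h3 := Subgroup.mem_centralizer_iff.1 hz.2 _ hy'
    calc (y : G) * (t * z * t⁻¹) = t * ((t⁻¹ * y * t) * z) * t⁻¹ := by group
      _ = (t * z * t⁻¹) * y := by rw [h3]; group
  obtain ⟨u, _, hu⟩ :=
    (Nat.card_eq_two_iff' (1 : (Q ⊓ Subgroup.centralizer (Q : Set G) : Subgroup G))).1 h2
  have a1 := hu ⟨_, hz⟩ (fun h => h1 (congrArg Subtype.val h))
  have a2 := hu ⟨_, hz''⟩ (by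
    intro h
    have h4 : t * z * t⁻¹ = 1 := congrArg Subtype.val h
    apply h1
    have : z = t⁻¹ * (t * z * t⁻¹) * t := by group
    rw [this, h4]; group)
  have h5 : t * z * t⁻¹ = z := congrArg Subtype.val (a2.trans a1.symm)
  calc t * z = (t * z * t⁻¹) * t := by group
    _ = z * t := by rw [h5]

end Cfsg.Agent.LeadXS
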