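import Mathlib
import Cfsg.Prelude.Def_Transfer
import Cfsg.Agent.Lib_lead_XS3

set_option autoImplicit false

/-! Extraspecial groups: abelian subgroups. -/

namespace Cfsg.Agent.LeadXS

open scoped commutatorElement IsMulCommutative

variable {E : Type*} [Group E] {p : ℕ}

theorem XS.normal_of_center_le (h : XS p E) {N : Subgroup E} (hN : Subgroup.center E ≤ N) :
    N.Normal := by
  refine ⟨fun n hn g => ?_⟩
  have e : g * n * g⁻¹ = ⁅g, n⁆ * n := by rw [commutatorElement_def]; group
  rw [e]
  exact N.mul_mem (hN (h.comm_mem g n)) hn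

variable [Fact p.Prime]

theorem XS.card_le_mul_index [Finite E] (h : XS p E) (A : Subgroup E) :
    Nat.card A ≤ Nat.card (A ⊓ Subgroup.center E : Subgroup E) *
      (Subgroup.centralizer (A : Set E)).index := by
  set N := Subgroup.centralizer (A : Set E) with hN
  have hNn : N.Normal := h.normal_of_center_le (Subgroup.center_le_centralizer _)
  have hker : ∀ a : A, N ≤ (commHom h.comm_mem (a : E)).ker := by
    intro a n hn
    rw [MonoidHom.mem_ker]
    apply Subtype.ext
    exact commutatorElement_eq_one_iff_mul_comm.2 (Subgroup.mem_centralizer_iff.1 hn a a.2)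
  let Ψ : A →* (E ⧸ N →* Subgroup.center E) :=
    MonoidHom.mk' (fun a => QuotientGroup.lift N (commHom h.comm_mem (a : E)) (hker a)) (by
      intro a b
      apply QuotientGroup.monoidHom_ext
      ext x
      simp)
  have hfin : Finite (E ⧸ N →* Subgroup.center E) :=
    Finite.of_injective (fun f : E ⧸ N →* Subgroup.center E => (f : E ⧸ N → Subgroup.center E))
      DFunLike.coe_injective
  have h1 := Subgroup.card_mul_index Ψ.ker
  rw [Subgroup.index_ker] at h1
  have h2 : Nat.card Ψ.ker ≤ Nat.card (A ⊓ Subgroup.center E : Subgroup E) := by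
    apply Nat.card_le_card_of_injective
      (fun a : Ψ.ker => (⟨((a : A) : E), by
        refine ⟨(a : A).2, ?_⟩
        have h3 : Ψ (a : A) = 1 := a.2
        show ((a : A) : E) ∈ Subgroup.center E
        have hk : ((a : A) : E) ∈ (commHom h.comm_mem).ker := by
          rw [MonoidHom.mem_ker]
          ext x
          have h4 := congrArg (fun F : E ⧸ N →* Subgroup.center E => F (QuotientGroup.mk x)) h3
          exact congrArg Subtype.val h4
        rw [commHom_ker] at hk
        exact hk⟩ : (A ⊓ Subgroup.center E : Subgroup E)))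
    intro a b hab
    apply Subtype.ext
    apply Subtype.ext
    exact congrArg (fun t : (A ⊓ Subgroup.center E : Subgroup E) => (t : E)) hab
  have h3 : Nat.card Ψ.range ≤ N.index := by
    calc Nat.card Ψ.range ≤ Nat.card (E ⧸ N →* Subgroup.center E) := Subgroup.card_le_card_group _
      _ ≤ Nat.card (Abelianization (E ⧸ N)) := card_hom_le _ _ h.card_center
      _ ≤ Nat.card (E ⧸ N) :=
          Nat.card_le_card_of_surjective _
            (QuotientGroup.mk_surjective (s := commutator (E ⧸ N)))
      _ = N.index := rfl
  rw [← h1]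
  exact Nat.mul_le_mul h2 h3

/-- abelian subgroups of an extraspecial group of order `p^(2n+1)` have order at most `p^(n+1)`. -/
theorem XS.card_abelian_le [Finite E] (h : XS p E) {n : ℕ} (hn : Nat.card E = p ^ (2 * n + 1))
    (A : Subgroup E) (hA : A ≤ Subgroup.centralizer (A : Set E)) :
    Nat.card A ≤ p ^ (n + 1) ∧
      (Nat.card A = p ^ (n + 1) → Subgroup.centralizer (A : Set E) = A) := by
  have hp := (Fact.out : p.Prime).pos
  have h1 := h.card_le_mul_index A
  have h2 : Nat.card (A ⊓ Subgroup.center E : Subgroup E) ≤ p := by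
    rw [← h.card_center]
    exact Subgroup.card_le_of_le inf_le_right
  have h3 := Subgroup.card_mul_index (Subgroup.centralizer (A : Set E))
  rw [hn] at h3
  have h4 : Nat.card A ≤ Nat.card (Subgroup.centralizer (A : Set E)) := Subgroup.card_le_of_le hA
  set a := Nat.card A
  set c := Nat.card (Subgroup.centralizer (A : Set E))
  set i := (Subgroup.centralizer (A : Set E)).index
  have h5 : a * c ≤ p ^ (n + 1) * p ^ (n + 1) := by
    calc a * c ≤ (p * i) * c := Nat.mul_le_mul_right _ (h1.trans (Nat.mul_le_mul_right _ h2))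
      _ = p * (c * i) := by ring
      _ = p ^ (n + 1) * p ^ (n + 1) := by rw [h3]; ring
  constructor
  · by_contra hcon
    push Not at hcon
    have : p ^ (n + 1) * p ^ (n + 1) < a * c :=
      Nat.mul_lt_mul_of_lt_of_le hcon (hcon.le.trans h4) Nat.card_pos
    omega
  · intro ha
    symm
    apply Subgroup.eq_of_le_of_card_ge hA
    rw [ha] at h5
    exact (Nat.le_of_mul_le_mul_left h5 (pow_pos hp _)).trans ha.ge

end Cfsg.Agent.LeadXS
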