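import Mathlib
import Cfsg.Prelude.Def_Transfer
import Cfsg.Agent.Lib_lead_XS4

set_option autoImplicit false

/-! Extraspecial 2-groups: counting involutions. -/

namespace Cfsg.Agent.LeadXS

open scoped commutatorElement IsMulCommutative

theorem card_fiber_mul {A Z : Type*} [Group A] [Group Z] [Finite A] (f : A →* Z)
    (hf : Function.Surjective f) (w : Z) :
    Nat.card {a : A // f a = w} * Nat.card Z = Nat.card A := by
  obtain ⟨a₁, ha₁⟩ := hf w
  have e : {a : A // f a = w} ≃ f.ker :=
    { toFun := fun a => ⟨a₁⁻¹ * a, by rw [MonoidHom.mem_ker, map_mul, map_inv, ha₁, a.2]; simp⟩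
      invFun := fun k => ⟨a₁ * k, by rw [map_mul, ha₁, MonoidHom.mem_ker.1 k.2]; simp⟩
      left_inv := fun a => by simp
      right_inv := fun k => by simp }
  rw [Nat.card_congr e, ← Subgroup.card_mul_index f.ker, Subgroup.index_ker,
    MonoidHom.range_eq_top.2 hf, Subgroup.card_top]

variable {E : Type*} [Group E]

theorem sq_mul (hc : ∀ a b : E, ⁅a, b⁆ ∈ Subgroup.center E) (e a : E) :
    (e * a) ^ 2 = ⁅a, e⁆ * e ^ 2 * a ^ 2 := by
  have h := Subgroup.mem_center_iff.1 (hc a e) e
  calc (e * a) ^ 2 = (e * ⁅a, e⁆) * e * a * a := by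
        rw [commutatorElement_def, pow_two]; group
    _ = ⁅a, e⁆ * e ^ 2 * a ^ 2 := by rw [h, pow_two, pow_two]; group

theorem XS.center_sq (h : XS 2 E) {z : E} (hz : z ∈ Subgroup.center E) : z ^ 2 = 1 := by
  have := pow_card_eq_one' (G := Subgroup.center E) (x := ⟨z, hz⟩)
  rw [h.card_center] at this
  exact congrArg Subtype.val this

/-- The number of solutions of `x^2 = 1` in an extraspecial group of plus type. -/
theorem XS.card_sq_eq_one_of_plus [Finite E] (h : XS 2 E) {n : ℕ}
    (hn : Nat.card E = 2 ^ (2 * n + 1)) (A : Subgroup E) (hA : Cfsg.IsElementaryAbelian 2 A)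
    (hAc : Nat.card A = 2 ^ (n + 1)) : Nat.card {x : E // x ^ 2 = 1} = 2 ^ (2 * n) + 2 ^ n := by
  classical
  have : Fact (Nat.Prime 2) := ⟨Nat.prime_two⟩
  have := Fintype.ofFinite E
  obtain ⟨hAcomm, hAsq⟩ := hA
  have hAle : A ≤ Subgroup.centralizer (A : Set E) := by
    intro a ha
    rw [Subgroup.mem_centralizer_iff]
    intro b hb
    exact congrArg Subtype.val (mul_comm' (⟨b, hb⟩ : A) ⟨a, ha⟩)
  have hCA := (h.card_abelian_le hn A hAle).2 hAc
  have c1 : ∀ e : E, e ∈ A → Nat.card {a : A // (e * a) ^ 2 = 1} = Nat.card A := by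
    intro e he
    have : ∀ a : A, (e * a) ^ 2 = 1 := fun a => hAsq _ (A.mul_mem he a.2)
    exact Nat.card_congr (Equiv.subtypeUnivEquiv this)
  have c2 : ∀ e : E, e ∉ A → Nat.card {a : A // (e * a) ^ 2 = 1} * 2 = Nat.card A := by
    intro e he
    let l : A →* Subgroup.center E := (commHom h.comm_mem e).comp A.subtype
    have hl : Function.Surjective l := by
      rw [← MonoidHom.range_eq_top]
      apply eq_of_le_of_prime_card (p := 2) le_top (by rw [Subgroup.card_top, h.card_center])
      intro hbot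
      apply he
      rw [← hCA, Subgroup.mem_centralizer_iff]
      intro a ha
      have h1 : l ⟨a, ha⟩ ∈ l.range := ⟨_, rfl⟩
      rw [hbot, Subgroup.mem_bot] at h1
      have h2 : ⁅e, a⁆ = 1 := congrArg Subtype.val h1
      exact (commutatorElement_eq_one_iff_mul_comm.1 h2).symm
    have h3 := card_fiber_mul l hl ⟨e ^ 2, h.pow e⟩
    rw [h.card_center] at h3
    rw [← h3]
    congr 1
    apply Nat.card_congr
    apply Equiv.subtypeEquivRight
    intro a
    rw [sq_mul h.comm_mem, hAsq a a.2, mul_one]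
    have h4 : ⁅(a : E), e⁆ = ⁅e, (a : E)⁆⁻¹ := (commutatorElement_inv e a).symm
    have h5 : (e ^ 2) ^ 2 = 1 := h.center_sq (h.pow e)
    constructor
    · intro h6
      apply Subtype.ext
      show ⁅e, (a : E)⁆ = e ^ 2
      rw [h4] at h6
      exact (inv_mul_eq_one.1 h6)
    · intro h6
      have h7 : ⁅e, (a : E)⁆ = e ^ 2 := congrArg Subtype.val h6
      rw [h4, h7]
      simp
  have d1 : Nat.card {q : E × A // (q.1 * q.2) ^ 2 = 1} = Nat.card {x : E // x ^ 2 = 1} * Nat.card A := by
    rw [← Nat.card_prod]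
    apply Nat.card_congr
    exact
      { toFun := fun q => (⟨q.1.1 * q.1.2, q.2⟩, q.1.2)
        invFun := fun r => ⟨(r.1.1 * (r.2 : E)⁻¹, r.2), by simpa using r.1.2⟩
        left_inv := fun q => by
          apply Subtype.ext
          simp
        right_inv := fun r => by
          simp }
  have d2 : Nat.card {q : E × A // (q.1 * q.2) ^ 2 = 1} =
      ∑ e : E, Nat.card {a : A // (e * a) ^ 2 = 1} := by
    rw [← Nat.card_sigma]
    exact Nat.card_congr (Equiv.subtypeProdEquivSigmaSubtype (fun (e : E) (a : A) => (e * a) ^ 2 = 1))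
  have d3 : (∑ e : E, Nat.card {a : A // (e * a) ^ 2 = 1}) * 2 =
      Nat.card A * Nat.card E + Nat.card A * Nat.card A := by
    rw [Finset.sum_mul]
    have : ∀ e : E, Nat.card {a : A // (e * a) ^ 2 = 1} * 2 =
        Nat.card A + (if e ∈ A then Nat.card A else 0) := by
      intro e
      by_cases he : e ∈ A
      · rw [c1 e he, if_pos he]; ring
      · rw [c2 e he, if_neg he]; ring
    rw [Finset.sum_congr rfl (fun e _ => this e), Finset.sum_add_distrib, Finset.sum_const,
      Finset.card_univ, ← Nat.card_eq_fintype_card, smul_eq_mul, ← Finset.sum_filter,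
      Finset.sum_const, smul_eq_mul]
    have h8 : (Finset.univ.filter (fun e : E => e ∈ A)).card = Nat.card A := by
      rw [Nat.card_eq_fintype_card, Fintype.card_subtype]
    rw [h8]; ring
  rw [← d2, d1, hAc, hn] at d3
  have hpos : 0 < 2 ^ (n + 1) := by positivity
  have h9 : Nat.card {x : E // x ^ 2 = 1} * 2 = 2 ^ (2 * n + 1) + 2 ^ (n + 1) := by
    apply Nat.eq_of_mul_eq_mul_left hpos
    rw [mul_add, ← d3]; ring
  have e1 : 2 ^ (2 * n + 1) = 2 ^ (2 * n) * 2 := by ring
  have e2 : 2 ^ (n + 1) = 2 ^ n * 2 := by ring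
  omega

theorem XS.orderOf_eq_four_iff (h : XS 2 E) (x : E) : orderOf x = 4 ↔ ¬ x ^ 2 = 1 := by
  have : Fact (Nat.Prime 2) := ⟨Nat.prime_two⟩
  constructor
  · intro h4 h2
    have := orderOf_dvd_of_pow_eq_one h2
    rw [h4] at this
    omega
  · intro h2
    have h4 : x ^ 2 ^ (1 + 1) = 1 := by
      have := h.center_sq (h.pow x)
      rw [← pow_mul] at this
      exact this
    have := orderOf_eq_prime_pow (p := 2) (n := 1) (by simpa using h2) h4
    simpa using this

theorem XS.card_orderOf_four [Finite E] (h : XS 2 E) :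
    Nat.card {x : E // orderOf x = 4} + Nat.card {x : E // x ^ 2 = 1} = Nat.card E := by
  classical
  have := Fintype.ofFinite E
  have e : {x : E // orderOf x = 4} ≃ {x : E // ¬ x ^ 2 = 1} :=
    Equiv.subtypeEquivRight h.orderOf_eq_four_iff
  rw [Nat.card_congr e, Nat.card_eq_fintype_card, Nat.card_eq_fintype_card,
    Nat.card_eq_fintype_card, Fintype.card_subtype_compl]
  have := Fintype.card_subtype_le (fun x : E => x ^ 2 = 1)
  omega

end Cfsg.Agent.LeadXS
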