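import Cfsg.Statements.S0016
import Cfsg.Agent.Lib_helper7_Quat2

set_option autoImplicit false
open Cfsg

namespace Cfsg.Agent.S0016

/-- A finite p-group in which only one subgroup has order p is either cyclic or (with p = 2) isomorphic to a generalized quaternion group. -/
theorem result {G : Type*} [Group G] [Finite G] (p : ℕ) [Fact p.Prime]
    (hG : IsPGroup p G) (huniq : ∀ H K : Subgroup G, Nat.card H = p → Nat.card K = p → H = K) :
    IsCyclic G ∨ (p = 2 ∧ ∃ n : ℕ, Nonempty (G ≃* QuaternionGroup (2 ^ n))) := by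
  have hpp : p.Prime := Fact.out
  by_cases hp2 : p = 2
  · subst hp2
    have main : ∃ z : G, ∀ t : G, t ^ 2 = 1 → t = 1 ∨ t = z := by
      by_cases h : ∃ z : G, orderOf z = 2
      · obtain ⟨z, hz⟩ := h
        refine ⟨z, ?_⟩
        intro t ht
        by_cases ht1 : t = 1
        · exact Or.inl ht1
        · right
          have hto : orderOf t = 2 := orderOf_eq_prime ht ht1
          have h1 : Subgroup.zpowers t = Subgroup.zpowers z :=
            huniq _ _ (by rw [Nat.card_zpowers, hto]) (by rw [Nat.card_zpowers, hz])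
          have h2 : t ∈ Subgroup.zpowers z := h1 ▸ Subgroup.mem_zpowers t
          obtain ⟨k, hk⟩ := (mem_powers_iff_mem_zpowers).2 h2
          have hk' : z ^ k = t := hk
          rw [← pow_mod_orderOf, hz] at hk'
          rcases Nat.mod_two_eq_zero_or_one k with h3 | h3
          · rw [h3, pow_zero] at hk'
            exact absurd hk'.symm ht1
          · rw [h3, pow_one] at hk'
            exact hk'.symm
      · refine ⟨1, ?_⟩
        intro t ht
        left
        by_contra ht1
        exact h ⟨t, orderOf_eq_prime ht ht1⟩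
    obtain ⟨z, hz⟩ := main
    rcases Cfsg.Agent.H7.cyclic_or_quaternion_of_unique_involution hG z hz with h | h
    · exact Or.inl h
    · exact Or.inr ⟨rfl, h⟩
  · left
    by_contra hnc
    have hnc' : ¬ IsCyclic (⊤ : Subgroup G) := by
      intro h
      exact hnc (isCyclic_of_surjective Subgroup.topEquiv.toMonoidHom Subgroup.topEquiv.surjective)
    obtain ⟨A, -, -, hAe, hAc⟩ := Cfsg.Agent.H7.exists_normal_elemAb_sq hp2 hG ⊤ inferInstance hnc'
    have hne : A ≠ ⊥ := by
      rintro rfl
      rw [Subgroup.card_bot] at hAc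
      have := Nat.one_lt_pow (n := 2) (by norm_num) hpp.one_lt
      omega
    obtain ⟨u, huA, hu1⟩ : ∃ u ∈ A, u ≠ 1 := by
      obtain ⟨u, hu⟩ := (Subgroup.ne_bot_iff_exists_ne_one).1 hne
      exact ⟨u.1, u.2, fun h => hu (Subtype.ext h)⟩
    have huo : orderOf u = p := orderOf_eq_prime (hAe.2 u huA) hu1
    have hlt : Subgroup.zpowers u < A := by
      refine lt_of_le_of_ne (Subgroup.zpowers_le.2 huA) ?_
      intro h
      rw [← h, Nat.card_zpowers, huo, pow_two] at hAc
      nlinarith [hpp.one_lt]
    obtain ⟨v, hvA, hvu⟩ := SetLike.exists_of_lt hlt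
    have hv1 : v ≠ 1 := by
      rintro rfl
      exact hvu (one_mem _)
    have hvo : orderOf v = p := orderOf_eq_prime (hAe.2 v hvA) hv1
    have h1 : Subgroup.zpowers v = Subgroup.zpowers u :=
      huniq _ _ (by rw [Nat.card_zpowers, hvo]) (by rw [Nat.card_zpowers, huo])
    exact hvu (h1 ▸ Subgroup.mem_zpowers v)

end Cfsg.Agent.S0016
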