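import Mathlib
import Cfsg.Statements.S0033
import Cfsg.Agent.Lib_helper1_Fpf2

set_option autoImplicit false
open Cfsg

namespace Cfsg.Agent.S0033


/-- Thompson's Theorem on fixed-point-free automorphisms: a finite group with an automorphism of prime order fixing only the identity is nilpotent. -/
theorem result {G : Type*} [Group G] [Finite G] (φ : G ≃* G)
    (hφ : MonoidHom.FixedPointFree (φ : G →* G)) (p : ℕ) (hp : p.Prime) (hord : orderOf φ = p) :
    Group.IsNilpotent G := by
  have hpow : ∀ (k : ℕ) (g : G), (φ ^ k : G ≃* G) g = φ^[k] g := by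
    intro k
    induction k with
    | zero => intro g; rfl
    | succ k ih =>
      intro g
      rw [pow_succ', Function.iterate_succ_apply', ← ih]
      rfl
  apply Cfsg.Agent.H1.thompson_aux p hp _ G rfl φ hφ
  intro g
  rw [← hpow, ← hord, pow_orderOf_eq_one]
  rfl

end Cfsg.Agent.S0033
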