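import Mathlib
import Cfsg.Statements.S0042
import Cfsg.Agent.Lib_helper1_Fpf2
import Cfsg.Agent.S0035
import Cfsg.Agent.S0039

set_option autoImplicit false
open Cfsg

namespace Cfsg.Agent.S0042


/-- In a finite Frobenius group, the Frobenius kernel is (the carrier of) a normal subgroup which is nilpotent. -/
theorem result {G : Type*} [Group G] [Finite G] (H : Subgroup G) (hH : Cfsg.IsFrobeniusComplement H) :
    ∃ N : Subgroup G, (N : Set G) = Cfsg.frobeniusKernel H ∧ N.Normal ∧ Group.IsNilpotent N := by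
  obtain ⟨N, hNset, hNn, hcompl⟩ := Cfsg.Agent.S0035.result H hH
  refine ⟨N, hNset, hNn, ?_⟩
  haveI := hNn
  by_cases hN1 : N = ⊥
  · haveI : Subsingleton N := by rw [hN1]; infer_instance
    infer_instance
  have hfr := (Cfsg.Agent.S0039.result N H hcompl hN1 hH.1).1 hH
  have hc1 : Nat.card H ≠ 1 := by
    intro h
    exact hH.1 (Subgroup.card_eq_one.1 h)
  obtain ⟨r, hr, hrH⟩ := Nat.exists_prime_and_dvd hc1
  haveI : Fact r.Prime := ⟨hr⟩
  obtain ⟨h, hh⟩ := exists_prime_orderOf_dvd_card' r hrH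
  have hh1 : (h : G) ≠ 1 := by
    intro h1
    have : h = 1 := Subtype.ext h1
    rw [this, orderOf_one] at hh
    exact hr.one_lt.ne hh
  have hhr : (h : G) ^ r = 1 := by
    have := pow_orderOf_eq_one h
    rw [hh] at this
    exact congrArg Subtype.val this
  let φ : N ≃* N := MulAut.conjNormal (h : G)
  have hφc : ∀ n : N, ((φ n : N) : G) = h * n * (h : G)⁻¹ := fun n => rfl
  have hiter : ∀ (k : ℕ) (n : N), ((φ^[k] n : N) : G) = (h : G) ^ k * n * ((h : G) ^ k)⁻¹ := by
    intro k
    induction k with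
    | zero => intro n; simp
    | succ k ih =>
      intro n
      rw [Function.iterate_succ_apply', hφc, ih, pow_succ']
      group
  apply Cfsg.Agent.H1.thompson_aux r hr _ N rfl φ
  · intro n hn
    have h1 : (h : G) * n * (h : G)⁻¹ = n := by rw [← hφc, hn]
    have h2 : (n : G) ∈ N ⊓ Subgroup.centralizer {(h : G)} := by
      refine Subgroup.mem_inf.2 ⟨n.2, ?_⟩
      rw [Subgroup.mem_centralizer_singleton_iff]
      exact (mul_inv_eq_iff_eq_mul.1 h1).symm
    rw [hfr h h.2 hh1, Subgroup.mem_bot] at h2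
    exact Subtype.ext h2
  · intro n
    apply Subtype.ext
    rw [hiter, hhr]
    simp

end Cfsg.Agent.S0042
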