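import Cfsg.Statements.S0093
import Mathlib.RingTheory.PrincipalIdealDomain
import Mathlib.RingTheory.Int.Basic
import Mathlib.GroupTheory.Frattini

set_option autoImplicit false
open Cfsg

namespace Cfsg.Agent.S0093

open Subgroup
open scoped commutatorElement

theorem exists_mem_center_of_normal {Q : Type*} [Group Q] [Finite Q] {p : ℕ} [Fact p.Prime]
    (hQ : IsPGroup p Q) (N : Subgroup Q) [N.Normal] (hN : N ≠ ⊥) : N ⊓ center Q ≠ ⊥ := by
  have hQ' : IsPGroup p (ConjAct Q) := hQ
  have hdvd : p ∣ Nat.card N := by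
    obtain ⟨k, hk⟩ := IsPGroup.iff_card.mp (hQ.to_subgroup N)
    rcases Nat.eq_zero_or_pos k with rfl | hk0
    · exact absurd (card_eq_one.mp (by simpa using hk)) hN
    · rw [hk]; exact dvd_pow_self p hk0.ne'
  obtain ⟨b, hb, hb1⟩ := hQ'.exists_fixed_point_of_prime_dvd_card_of_fixed_point (α := N) hdvd
    (a := 1) (by intro g; exact smul_one g)
  intro hbot
  apply hb1
  have hmem : (b : Q) ∈ N ⊓ center Q := by
    refine mem_inf.mpr ⟨b.2, ?_⟩
    rw [mem_center_iff]
    intro g
    have := congrArg Subtype.val (hb (ConjAct.toConjAct g))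
    rw [ConjAct.Subgroup.val_conj_smul, ConjAct.toConjAct_smul] at this
    exact (mul_inv_eq_iff_eq_mul.mp this)
  rw [hbot, mem_bot] at hmem
  exact (Subtype.ext hmem).symm

theorem frattini_le_of_elemAb {H : Type*} [Group H] [Finite H] {p : ℕ} [hp : Fact p.Prime]
    (K : Subgroup H) (hcomm : ∀ a b : H, ⁅a, b⁆ ∈ K) (hpow : ∀ x : H, x ^ p ∈ K) :
    frattini H ≤ K := by
  intro x hx
  by_contra hxK
  obtain ⟨L, ⟨hKL, hxL⟩, hLmax⟩ := wellFounded_gt.has_min {L : Subgroup H | K ≤ L ∧ x ∉ L}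
    ⟨K, le_rfl, hxK⟩
  have hLn : L.Normal := by
    refine ⟨fun n hn g => ?_⟩
    have : g * n * g⁻¹ = ⁅g, n⁆ * n := by
      rw [commutatorElement_def]; group
    rw [this]
    exact mul_mem (hKL (hcomm g n)) hn
  have hbig : ∀ L' : Subgroup H, L < L' → x ∈ L' := by
    intro L' hL'
    by_contra hx'
    exact hLmax L' ⟨hKL.trans hL'.le, hx'⟩ hL'
  have hco : IsCoatom L := by
    refine ⟨fun h => hxL (h ▸ mem_top x), ?_⟩
    intro L' hL'
    rw [eq_top_iff]
    intro y _
    by_cases hyL : y ∈ L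
    · exact hL'.le hyL
    have h1 : x ∈ L ⊔ zpowers y := by
      apply hbig
      refine lt_of_le_of_ne le_sup_left ?_
      intro heq
      apply hyL
      rw [heq]
      exact le_sup_right (a := L) (mem_zpowers y)
    rw [← SetLike.mem_coe, normal_mul] at h1
    obtain ⟨l, hl, w, hw, hlw⟩ := h1
    obtain ⟨k, rfl⟩ := mem_zpowers_iff.mp hw
    have hlw' : l * y ^ k = x := hlw
    have hk : ¬ (p : ℤ) ∣ k := by
      rintro ⟨m, rfl⟩
      apply hxL
      rw [← hlw', zpow_mul, zpow_natCast]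
      exact mul_mem hl (zpow_mem (hKL (hpow y)) m)
    have hcop : IsCoprime (p : ℤ) k := (Nat.prime_iff_prime_int.mp hp.out).coprime_iff_not_dvd.mpr hk
    obtain ⟨a, b, hab⟩ := hcop
    have hyk : y ^ k ∈ L' := by
      have : y ^ k = l⁻¹ * x := by rw [← hlw']; group
      rw [this]
      exact mul_mem (inv_mem (hL'.le hl)) (hbig L' hL')
    have : y = (y ^ p) ^ a * (y ^ k) ^ b := by
      rw [← zpow_natCast, ← zpow_mul, ← zpow_mul, ← zpow_add, mul_comm (p : ℤ) a, mul_comm k b, hab, zpow_one]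
    rw [this]
    exact mul_mem (zpow_mem (hL'.le (hKL (hpow y))) a) (zpow_mem hyk b)
  exact hxL (frattini_le_coatom hco hx)

/-- Every finite p-group has a critical subgroup: a characteristic subgroup H whose Frattini subgroup and whose commutator with the whole group lie in the centre of H, and whose centralizer is contained in H. -/
theorem result {P : Type*} [Group P] [Finite P] {p : ℕ} [Fact p.Prime] (hP : IsPGroup p P) : ∃ H : Subgroup P, H.Characteristic ∧ (frattini H).map H.subtype ≤ Subgroup.centralizer (H : Set P) ∧ ⁅H, (⊤ : Subgroup P)⁆ ≤ H ⊓ Subgroup.centralizer (H : Set P) ∧ Subgroup.centralizer (H : Set P) ≤ H := by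
  classical
  obtain ⟨M, ⟨hMc, hMab⟩, hMmax⟩ := wellFounded_gt.has_min
    {M : Subgroup P | M.Characteristic ∧ M ≤ centralizer (M : Set P)}
    ⟨⊥, inferInstance, bot_le⟩
  haveI := hMc
  set C := centralizer (M : Set P) with hC
  have hCc : C.Characteristic := inferInstance
  let Ωq : Subgroup (P ⧸ M) :=
    { carrier := {z | z ∈ center (P ⧸ M) ∧ z ^ p = 1}
      one_mem' := ⟨one_mem _, one_pow _⟩
      mul_mem' := by
        rintro a b ⟨ha, ha2⟩ ⟨hb, hb2⟩
        refine ⟨mul_mem ha hb, ?_⟩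
        rw [(show Commute a b from (mem_center_iff.mp ha b).symm).mul_pow, ha2, hb2, one_mul]
      inv_mem' := by
        rintro a ⟨ha, ha2⟩
        exact ⟨inv_mem ha, by rw [inv_pow, ha2, inv_one]⟩ }
  set H := C ⊓ Ωq.comap (QuotientGroup.mk' M) with hH
  have hHmem : ∀ x, x ∈ H ↔ x ∈ C ∧ (∀ g, (g * x)⁻¹ * (x * g) ∈ M) ∧ x ^ p ∈ M := by
    intro x
    have h1 : x ∈ H ↔ x ∈ C ∧ ((QuotientGroup.mk' M x) ∈ center (P ⧸ M) ∧ (QuotientGroup.mk' M x) ^ p = 1) := Iff.rfl
    rw [h1, mem_center_iff, ← map_pow]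
    refine and_congr Iff.rfl (and_congr ?_ ?_)
    · constructor
      · intro h g
        have := h (QuotientGroup.mk' M g)
        rw [← map_mul, ← map_mul] at this
        exact QuotientGroup.eq.mp this
      · intro h q
        obtain ⟨g, rfl⟩ := QuotientGroup.mk'_surjective M q
        rw [← map_mul, ← map_mul]
        exact QuotientGroup.eq.mpr (h g)
    · exact QuotientGroup.eq_one_iff _
  have hφM : ∀ (φ : P ≃* P) (m : P), m ∈ M → φ m ∈ M := by
    intro φ m hm
    have := SetLike.ext_iff.mp (hMc.fixed φ) m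
    exact this.mpr hm
  have hHc : H.Characteristic := by
    rw [characteristic_iff_map_le]
    rintro φ _ ⟨x, hx, rfl⟩
    obtain ⟨h1, h2, h3⟩ := (hHmem x).mp hx
    rw [hHmem]
    refine ⟨?_, ?_, ?_⟩
    · have := SetLike.ext_iff.mp (hCc.fixed φ) x
      exact this.mpr h1
    · intro g
      have := hφM φ _ (h2 (φ.symm g))
      simpa using this
    · have := hφM φ _ h3
      simpa using this
  have hMH : M ≤ H := by
    intro m hm
    rw [hHmem]
    refine ⟨hMab hm, ?_, pow_mem hm p⟩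
    intro g
    have : (g * m)⁻¹ * (m * g) = m⁻¹ * (g⁻¹ * m * g⁻¹⁻¹) := by group
    rw [this]
    exact mul_mem (inv_mem hm) ((inferInstance : M.Normal).conj_mem m hm g⁻¹)
  have hHC : H ≤ C := inf_le_left
  have hMcH : M ≤ centralizer (H : Set P) := le_centralizer_iff.mp hHC
  have hZ : H ⊓ centralizer (H : Set P) = M := by
    by_contra hne
    apply hMmax (H ⊓ centralizer (H : Set P))
    · refine ⟨inferInstance, ?_⟩
      intro x hx
      rw [mem_centralizer_iff]
      intro y hy
      exact mem_centralizer_iff.mp hx.2 y hy.1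
    · exact lt_of_le_of_ne (le_inf hMH hMcH) (Ne.symm hne)
  have hcommM : ∀ x ∈ H, ∀ g : P, ⁅x, g⁆ ∈ M := by
    intro x hx g
    obtain ⟨-, h2, -⟩ := (hHmem x⁻¹).mp (inv_mem hx)
    have := h2 g⁻¹
    have e : (g⁻¹ * x⁻¹)⁻¹ * (x⁻¹ * g⁻¹) = ⁅x, g⁆ := by
      rw [commutatorElement_def]; group
    rwa [e] at this
  refine ⟨H, hHc, ?_, ?_, ?_⟩
  · have h1 : frattini ↥H ≤ M.subgroupOf H := by
      apply frattini_le_of_elemAb (p := p)
      · intro a b
        exact mem_subgroupOf.mpr (hcommM a a.2 b)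
      · intro x
        exact mem_subgroupOf.mpr ((hHmem x).mp x.2).2.2
    rintro _ ⟨x, hx, rfl⟩
    exact hMcH (mem_subgroupOf.mp (h1 hx))
  · rw [hZ, commutator_le]
    intro x hx g _
    exact hcommM x hx g
  · by_contra hnle
    set Q := centralizer (H : Set P) with hQ
    have hQn : Q.Normal := inferInstance
    have hQC : Q ≤ C := centralizer_le hMH
    have hQbar : Q.map (QuotientGroup.mk' M) ≠ ⊥ := by
      intro h
      rw [Subgroup.map_eq_bot_iff, QuotientGroup.ker_mk'] at h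
      exact hnle (h.trans hMH)
    haveI : (Q.map (QuotientGroup.mk' M)).Normal := hQn.map _ (QuotientGroup.mk'_surjective M)
    have hPq : IsPGroup p (P ⧸ M) := hP.to_quotient M
    have hne := exists_mem_center_of_normal hPq _ hQbar
    have hdvd : p ∣ Nat.card ↥(Q.map (QuotientGroup.mk' M) ⊓ center (P ⧸ M)) := by
      obtain ⟨k, hk⟩ := IsPGroup.iff_card.mp (hPq.to_subgroup (Q.map (QuotientGroup.mk' M) ⊓ center (P ⧸ M)))
      rcases Nat.eq_zero_or_pos k with rfl | hk0
      · exact absurd (card_eq_one.mp (by simpa using hk)) hne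
      · rw [hk]; exact dvd_pow_self p hk0.ne'
    obtain ⟨z, hz⟩ := exists_prime_orderOf_dvd_card' p hdvd
    obtain ⟨⟨x, hxQ, hxz⟩, hzc⟩ := z.2
    have hzp : (z : P ⧸ M) ^ p = 1 := by
      have := pow_orderOf_eq_one z
      rw [hz] at this
      exact congrArg Subtype.val this
    have hxH : x ∈ H := by
      refine ⟨hQC hxQ, ?_⟩
      change QuotientGroup.mk' M x ∈ center (P ⧸ M) ∧ (QuotientGroup.mk' M x) ^ p = 1
      rw [hxz]
      exact ⟨hzc, hzp⟩
    have hxM : x ∈ M := by
      rw [← hZ]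
      exact ⟨hxH, hxQ⟩
    have hz1 : z = 1 := by
      apply Subtype.ext
      rw [← hxz]
      exact (QuotientGroup.eq_one_iff x).mpr hxM
    rw [hz1, orderOf_one] at hz
    exact (Fact.out : p.Prime).one_lt.ne hz

end Cfsg.Agent.S0093
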