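import Cfsg.Statements.S0214
import Cfsg.Agent.Lib_helper5_SE

set_option autoImplicit false
open Cfsg

namespace Cfsg.Agent.S0214


/-- Let H be a proper subgroup of the finite group G and P a nontrivial Sylow 2-subgroup of H. Then H is strongly embedded in G if and only if N_G(X) ≤ H for every nontrivial subgroup X of P. -/
theorem result {G : Type*} [Group G] [Finite G] (H : Subgroup G) (hH : H ≠ ⊤) (P : Sylow 2 ↥H) (hP : (P : Subgroup ↥H) ≠ ⊥) : Cfsg.IsStronglyEmbedded H ↔ (∀ X : Subgroup ↥H, X ≤ (P : Subgroup ↥H) → X ≠ ⊥ → Subgroup.normalizer ((X.map H.subtype : Subgroup G) : Set G) ≤ H) := by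
  constructor
  · rintro ⟨-, -, hse⟩ X hXP hX g hg
    by_contra hgH
    have h1 := hse g hgH
    -- X has an involution
    have hX2 : IsPGroup 2 X := P.2.to_le hXP
    have hXeven : Even (Nat.card X) := by
      rcases hX2.card_eq_or_dvd with h | h
      · exact absurd (Subgroup.card_eq_one.1 h) hX
      · exact even_iff_two_dvd.2 h
    have hXeven' : Even (Nat.card (X.map H.subtype)) := by
      rwa [Subgroup.card_map_of_injective H.subtype_injective]
    obtain ⟨t, ht, ht2⟩ := H5.exists_invol_of_even _ hXeven'
    have hXH : X.map H.subtype ≤ H := by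
      rintro _ ⟨y, -, rfl⟩; exact y.2
    have h2 : t ∈ H ⊓ H.map (MulAut.conj g).toMonoidHom := by
      refine Subgroup.mem_inf.2 ⟨hXH ht, ?_⟩
      rw [← H5.conj_map_eq_of_mem_normalizer hg] at ht
      exact Subgroup.map_mono hXH ht
    exact (Nat.not_even_iff_odd.2 h1) (H5.even_card_of_invol_mem _ t ht2 h2)
  · intro hN
    have hPeven : Even (Nat.card (P : Subgroup ↥H)) := by
      rcases P.2.card_eq_or_dvd with h | h
      · exact absurd (Subgroup.card_eq_one.1 h) hP
      · exact even_iff_two_dvd.2 h
    refine ⟨hH, ?_, ?_⟩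
    · exact hPeven.trans_dvd (Subgroup.card_subgroup_dvd_card _)
    · intro g hg
      by_contra hodd
      rw [Nat.not_odd_iff_even] at hodd
      obtain ⟨t, ht, ht2⟩ := H5.exists_invol_of_even _ hodd
      obtain ⟨h1, h2⟩ := Subgroup.mem_inf.1 ht
      refine H5.se_main H P (fun X => X ≠ ⊥) ?_ ?_ ?_ g hg (Subgroup.zpowers t) ?_ ?_ ?_ ?_
      · intro A B hAB hA hB
        apply hA
        rw [eq_bot_iff, ← hB]; exact hAB
      · intro A g hA hB
        apply hA
        rw [Subgroup.map_eq_bot_iff_of_injective _ (MulAut.conj g).injective] at hB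
        exact hB
      · intro A hA hAne
        have hAH : A ≤ H := by
          intro x hx
          obtain ⟨y, -, rfl⟩ := hA hx
          exact y.2
        have h3 := hN (A.subgroupOf H) ?_ ?_
        · rwa [Subgroup.map_subgroupOf_eq_of_le hAH] at h3
        · intro x hx
          obtain ⟨y, hy, hyx⟩ := hA (Subgroup.mem_subgroupOf.1 hx)
          have : y = x := Subtype.ext hyx
          rw [← this]; exact hy
        · intro h
          apply hAne
          rw [← Subgroup.map_subgroupOf_eq_of_le hAH, h, Subgroup.map_bot]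
      · apply IsPGroup.of_card (n := 1)
        rw [Nat.card_zpowers, ht2, pow_one]
      · rw [Subgroup.zpowers_le]; exact h1
      · rw [Subgroup.zpowers_le]; exact h2
      · intro h
        rw [Subgroup.zpowers_eq_bot] at h
        exact H5.ne_one_of_order_two ht2 h

end Cfsg.Agent.S0214
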