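import Cfsg.Statements.S0223
import Cfsg.Agent.Lib_helper5_Basic

set_option autoImplicit false
open Cfsg

namespace Cfsg.Agent.S0223

/-- Let H be a proper subgroup of even order of the finite group G. Then H is strongly embedded if and only if (i) C_G(t) ≤ H for every involution t of H and (ii) H controls fusion of its involutions: involutions of H conjugate in G are conjugate in H. -/
theorem result {G : Type*} [Group G] [Finite G] (H : Subgroup G) (hH : H ≠ ⊤) (heven : Even (Nat.card H)) : Cfsg.IsStronglyEmbedded H ↔ ((∀ t ∈ H, orderOf t = 2 → Subgroup.centralizer ({t} : Set G) ≤ H) ∧ (∀ t ∈ H, ∀ s ∈ H, orderOf t = 2 → orderOf s = 2 → IsConj t s → ∃ h ∈ H, h * t * h⁻¹ = s)) := by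
  constructor
  · rintro ⟨-, -, hse⟩
    have key : ∀ t ∈ H, orderOf t = 2 → ∀ g : G, g * t * g⁻¹ ∈ H → g ∈ H := by
      intro t ht ht2 g hg
      by_contra hgH
      have h1 := hse g hgH
      have h2 : g * t * g⁻¹ ∈ H ⊓ H.map (MulAut.conj g).toMonoidHom := by
        exact Subgroup.mem_inf.2 ⟨hg, (H5.conj_mem_conj_map H g t).2 ht⟩
      have h3 := H5.even_card_of_invol_mem _ _ (H5.order_two_conj ht2 g) h2
      exact (Nat.not_even_iff_odd.2 h1) h3
    constructor
    · intro t ht ht2 c hc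
      apply key t ht ht2 c
      rw [Subgroup.mem_centralizer_singleton_iff] at hc
      rw [hc, mul_inv_cancel_right]
      exact ht
    · intro t ht s hs ht2 hs2 hconj
      obtain ⟨g, hg⟩ := isConj_iff.1 hconj
      exact ⟨g, key t ht ht2 g (hg ▸ hs), hg⟩
  · rintro ⟨hC, hF⟩
    refine ⟨hH, heven, ?_⟩
    intro g hg
    by_contra hodd
    rw [Nat.not_odd_iff_even] at hodd
    obtain ⟨s, hs, hs2⟩ := H5.exists_invol_of_even _ hodd
    obtain ⟨hsH, hsg⟩ := Subgroup.mem_inf.1 hs
    rw [H5.mem_conj_map] at hsg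
    have ht2 : orderOf (g⁻¹ * s * g) = 2 := by
      have := H5.order_two_conj hs2 g⁻¹
      rwa [inv_inv] at this
    obtain ⟨h, hh, hhs⟩ := hF (g⁻¹ * s * g) hsg s hsH ht2 hs2 (isConj_iff.2 ⟨g, by group⟩)
    -- h⁻¹ * g centralizes t... use g⁻¹ h
    have h1 : h * g⁻¹ ∈ Subgroup.centralizer ({s} : Set G) := by
      rw [Subgroup.mem_centralizer_singleton_iff]
      calc h * g⁻¹ * s = h * (g⁻¹ * s * g) * h⁻¹ * (h * g⁻¹) := by group
        _ = s * (h * g⁻¹) := by rw [hhs]
    have h2 := hC s hsH hs2 h1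
    apply hg
    have h3 : g = (h * g⁻¹)⁻¹ * h := by group
    rw [h3]
    exact H.mul_mem (H.inv_mem h2) hh

end Cfsg.Agent.S0223
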