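import Cfsg.Statements.S0224
import Cfsg.Agent.Lib_helper5_Basic

set_option autoImplicit false
open Cfsg

namespace Cfsg.Agent.S0224


/-- Let H be a proper subgroup of even order of the finite group G. Then H is strongly embedded if and only if each involution of H fixes exactly one point (namely the coset H) in the action of G on the cosets of H. -/
theorem result {G : Type*} [Group G] [Finite G] (H : Subgroup G) (hH : H ≠ ⊤) (heven : Even (Nat.card H)) : Cfsg.IsStronglyEmbedded H ↔ ∀ t ∈ H, orderOf t = 2 → Nat.card {c : G ⧸ H // t • c = c} = 1 := by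
  have fix_iff : ∀ t g : G, t • (QuotientGroup.mk g : G ⧸ H) = QuotientGroup.mk g ↔ g⁻¹ * t * g ∈ H := by
    intro t g
    rw [MulAction.Quotient.smul_mk, smul_eq_mul, eq_comm, QuotientGroup.eq, ← mul_assoc]
  constructor
  · rintro ⟨-, -, hse⟩ t ht ht2
    rw [Nat.card_eq_one_iff_unique]
    constructor
    · constructor
      have key : ∀ c : {c : G ⧸ H // t • c = c}, c.1 = QuotientGroup.mk 1 := by
        rintro ⟨c, hc⟩
        obtain ⟨g, rfl⟩ := QuotientGroup.mk_surjective c
        rw [fix_iff] at hc
        show (QuotientGroup.mk g : G ⧸ H) = QuotientGroup.mk 1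
        rw [eq_comm, QuotientGroup.eq, inv_one, one_mul]
        by_contra hg
        have h1 := hse g hg
        have h2 : t ∈ H ⊓ H.map (MulAut.conj g).toMonoidHom :=
          Subgroup.mem_inf.2 ⟨ht, (H5.mem_conj_map H g t).2 hc⟩
        exact (Nat.not_even_iff_odd.2 h1) (H5.even_card_of_invol_mem _ _ ht2 h2)
      intro a b
      ext
      rw [key a, key b]
    · refine ⟨⟨QuotientGroup.mk 1, ?_⟩⟩
      rw [fix_iff]
      simpa using ht
  · intro h
    refine ⟨hH, heven, ?_⟩
    intro g hg
    by_contra hodd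
    rw [Nat.not_odd_iff_even] at hodd
    obtain ⟨t, ht, ht2⟩ := H5.exists_invol_of_even _ hodd
    obtain ⟨htH, htg⟩ := Subgroup.mem_inf.1 ht
    rw [H5.mem_conj_map] at htg
    have h1 := h t htH ht2
    rw [Nat.card_eq_one_iff_unique] at h1
    have h2 := h1.1.elim ⟨QuotientGroup.mk 1, by rw [fix_iff]; simpa using htH⟩
      ⟨QuotientGroup.mk g, by rw [fix_iff]; exact htg⟩
    have h3 : (QuotientGroup.mk 1 : G ⧸ H) = QuotientGroup.mk g := congrArg Subtype.val h2
    rw [QuotientGroup.eq, inv_one, one_mul] at h3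
    exact hg h3

end Cfsg.Agent.S0224
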