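import Cfsg.Statements.S0505
import Cfsg.Agent.Lib_helper5_CharP6
import Cfsg.Agent.Lib_helper5_PComp4
import Cfsg.Agent.S1292

set_option autoImplicit false
open Cfsg

namespace Cfsg.Agent.S0505

open Cfsg.Agent.H5

/-- Let G be a finite group of even order in which the centralizer of every involution is solvable and has trivial
core (no nontrivial normal subgroup of odd order). Then G is of characteristic 2 type. -/
theorem result {G : Type*} [Group G] [Finite G]
    (h2 : Even (Nat.card G))
    (hs : ∀ t : G, orderOf t = 2 → Group.IsSolvable (Subgroup.centralizer ({t} : Set G)))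
    (hc : ∀ t : G, orderOf t = 2 → Cfsg.oddCore (Subgroup.centralizer ({t} : Set G)) = ⊥) :
    Cfsg.IsCharacteristicTwoType G := by
  haveI : Fact (Nat.Prime 2) := ⟨Nat.prime_two⟩
  have key : ∀ t : G, orderOf t = 2 →
      Cfsg.generalizedFittingSubgroup ↥(Subgroup.centralizer ({t} : Set G)) =
        Cfsg.pCore 2 ↥(Subgroup.centralizer ({t} : Set G)) := by
    intro t ht
    have hL : Cfsg.layer ↥(Subgroup.centralizer ({t} : Set G)) = ⊥ := by
      rw [layer_eq_bot_iff]
      intro L hL
      apply perfect_not_solvable (component_perfect hL) (component_ne_bot hL)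
      haveI := hs t ht
      infer_instance
    unfold Cfsg.generalizedFittingSubgroup
    rw [hL, bot_sup_eq]
    exact H1.fitting_eq_pCore_of_pPrimeCore_eq_bot 2 (hc t ht)
  refine ⟨h2, fun T hT hT1 => ?_⟩
  unfold Cfsg.IsOfCharacteristicTwo
  rw [← charPIn_iff_centralizer_le, charPIn_iff_genFitting]
  exact Cfsg.Agent.S1292.result key T hT hT1

end Cfsg.Agent.S0505
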