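import Mathlib
import Cfsg.Statements.S0587
import Cfsg.Agent.Lib_helper1_Cores
import Cfsg.Agent.Lib_helper1_Max
import Cfsg.Agent.Lib_helper1_MinAct2
import Cfsg.Agent.Lib_helper1_PRed5

set_option autoImplicit false
open Cfsg

namespace Cfsg.Agent.S0587


/-- Let G be a finite group whose largest normal p-subgroup L is nontrivial, and M a maximal subgroup of G with trivial normal core. Then L is elementary abelian, M is a complement to L, L is a minimal normal subgroup of G, the centralizer of L is L, and for every prime q such that the largest normal q-subgroup of M is nontrivial, the order of L is congruent to 1 modulo q and q ≠ p. -/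
theorem result {G : Type*} [Group G] [Finite G] (p : ℕ) [Fact p.Prime] (hL : Cfsg.pCore p G ≠ ⊥) (M : Subgroup G) (hM : IsCoatom M) (hcore : M.normalCore = ⊥) : Cfsg.IsElementaryAbelian p (Cfsg.pCore p G) ∧ Subgroup.IsComplement' (Cfsg.pCore p G) M ∧ (∀ K : Subgroup G, K.Normal → K ≤ Cfsg.pCore p G → K = ⊥ ∨ K = Cfsg.pCore p G) ∧ Subgroup.centralizer ((Cfsg.pCore p G : Subgroup G) : Set G) = Cfsg.pCore p G ∧ ∀ (q : ℕ) [Fact q.Prime], Cfsg.pCore q ↥M ≠ ⊥ → Nat.card (Cfsg.pCore p G) % q = 1 % q ∧ q ≠ p := by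
  have hp : p.Prime := Fact.out
  set V := Cfsg.pCore p G with hV
  haveI hVn : V.Normal := H1.pCore_normal p
  have hVp : IsPGroup p V := H1.pCore_isPGroup p
  obtain ⟨A, hAn, hA1, hAV, hAmin⟩ := H1.exists_minimal_normal_le V hVn hL
  haveI := hAn
  have hAp : IsPGroup p A := hVp.to_le hAV
  obtain ⟨d, hd⟩ := IsPGroup.iff_card.1 hAp
  have hd0 : d ≠ 0 := by
    rintro rfl
    rw [pow_zero] at hd
    exact hA1 (Subgroup.card_eq_one.1 hd)
  have hcore0 : ∀ K : Subgroup G, K.Normal → K ≤ M → K = ⊥ := by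
    intro K hK hKM
    rw [eq_bot_iff, ← hcore]
    exact Subgroup.normal_le_normalCore.2 hKM
  have hAM : A ⊔ M = ⊤ := by
    apply hM.2
    apply lt_of_le_of_ne le_sup_right
    intro h
    exact hA1 (hcore0 A hAn (h ▸ le_sup_left))
  have hVA : A ≤ Subgroup.centralizer (V : Set G) := by
    have hmod := H1.card_modEq_card_inf_centralizer A V
      (by rw [Subgroup.normalizer_eq_top]; exact le_top) hVp
    have hn : (A ⊓ Subgroup.centralizer (V : Set G)).Normal := inferInstance
    rcases hAmin _ hn inf_le_left with h | h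
    · exfalso
      rw [h, Subgroup.card_bot, hd] at hmod
      have h1 : p ^ d % p = 0 := Nat.mod_eq_zero_of_dvd (dvd_pow_self p hd0)
      have h2 : 1 % p = 1 := Nat.mod_eq_of_lt hp.one_lt
      unfold Nat.ModEq at hmod
      omega
    · exact h ▸ inf_le_right
  have hAc : ∀ a ∈ A, ∀ v ∈ V, a * v = v * a := fun a ha v hv =>
    (Subgroup.mem_centralizer_iff.1 (hVA ha) v hv).symm
  have hkey : ∀ Y : Subgroup G, Y ≤ M → M ≤ Subgroup.normalizer (Y : Set G) →
      A ≤ Subgroup.normalizer (Y : Set G) → Y = ⊥ := by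
    intro Y hYM h1 h2
    apply hcore0 Y _ hYM
    rw [← Subgroup.normalizer_eq_top_iff, eq_top_iff, ← hAM]
    exact sup_le h2 h1
  have hnormal_le : ∀ (K N : Subgroup G), K.Normal → N ≤ Subgroup.normalizer (K : Set G) := by
    intro K N hK
    rw [Subgroup.normalizer_eq_top_iff.2 hK]; exact le_top
  have hAMinf : A ⊓ M = ⊥ := by
    apply hkey _ inf_le_right
    · exact H1.le_normalizer_inf (hnormal_le A M hAn) Subgroup.le_normalizer
    · apply H1.le_normalizer_of_forall
      intro a ha x hx
      rw [hAc a ha x (hAV hx.1), mul_inv_cancel_right]; exact hx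
  set C := Subgroup.centralizer (A : Set G) with hC
  have hCMinf : C ⊓ M = ⊥ := by
    apply hkey _ inf_le_right
    · exact H1.le_normalizer_inf (hnormal_le C M inferInstance) Subgroup.le_normalizer
    · apply H1.le_normalizer_of_forall
      intro a ha x hx
      rw [Subgroup.mem_centralizer_iff.1 hx.1 a ha, mul_inv_cancel_right]; exact hx
  have hAC : A ≤ C := fun a ha => Subgroup.mem_centralizer_iff.2
    (fun b hb => hAc b hb a (hAV ha))
  have hCA : C = A := by
    apply le_antisymm _ hAC
    intro x hx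
    have hx' : x ∈ A ⊔ M := by rw [hAM]; trivial
    obtain ⟨a, ha, m, hm, rfl⟩ := Subgroup.mem_sup_of_normal_left.1 hx'
    have hmC : m ∈ C := by
      have : m = a⁻¹ * (a * m) := by group
      rw [this]; exact mul_mem (inv_mem (hAC ha)) hx
    have : m ∈ C ⊓ M := ⟨hmC, hm⟩
    rw [hCMinf, Subgroup.mem_bot] at this
    rw [this, mul_one]; exact ha
  have hVeq : V = A := by
    apply le_antisymm _ hAV
    rw [← hCA]
    exact Subgroup.le_centralizer_iff.1 hVA
  rw [hVeq]
  have hAcomm : ∀ a ∈ A, ∀ b ∈ A, a * b = b * a := fun a ha b hb => hAc a ha b (hAV hb)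
  have hexp : ∀ a ∈ A, a ^ p = 1 := by
    let Ω : Subgroup G :=
      { carrier := {a | a ∈ A ∧ a ^ p = 1}
        mul_mem' := fun {a b} ha hb => ⟨mul_mem ha.1 hb.1, by
          rw [(show Commute a b from hAcomm a ha.1 b hb.1).mul_pow, ha.2, hb.2, one_mul]⟩
        one_mem' := ⟨one_mem _, one_pow _⟩
        inv_mem' := fun {a} ha => ⟨inv_mem ha.1, by rw [inv_pow, ha.2, inv_one]⟩ }
    have hΩn : Ω.Normal := ⟨fun a ha g => ⟨hAn.conj_mem a ha.1 g, by
      rw [conj_pow, ha.2]; group⟩⟩
    have hΩA : Ω ≤ A := fun a ha => ha.1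
    rcases hAmin Ω hΩn hΩA with h | h
    · exfalso
      obtain ⟨a, ha⟩ := exists_prime_orderOf_dvd_card' (G := A) p (hd ▸ dvd_pow_self p hd0)
      have h1 : (a : G) ∈ Ω := ⟨a.2, by
        have := pow_orderOf_eq_one a
        rw [ha] at this
        exact congrArg Subtype.val this⟩
      rw [h, Subgroup.mem_bot] at h1
      have : a = 1 := Subtype.ext h1
      rw [this, orderOf_one] at ha
      exact hp.ne_one ha.symm
    · intro a ha
      have : a ∈ Ω := h ▸ ha
      exact this.2
  refine ⟨⟨⟨⟨fun a b => Subtype.ext (hAcomm a a.2 b b.2)⟩⟩, hexp⟩, ?_, hAmin, hCA, ?_⟩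
  · apply Subgroup.isComplement'_of_disjoint_and_mul_eq_univ
    · rw [disjoint_iff]; exact hAMinf
    · rw [← Subgroup.normal_mul, hAM, Subgroup.coe_top]
  · intro q _ hq
    set Q := (Cfsg.pCore q ↥M).map M.subtype with hQ
    have hQM : Q ≤ M := Subgroup.map_subtype_le _
    have hQq : IsPGroup q Q := (H1.pCore_isPGroup (G := ↥M) q).map _
    have hMQ : M ≤ Subgroup.normalizer (Q : Set G) := by
      have h1 := Subgroup.le_normalizer_map (H := Cfsg.pCore q ↥M) M.subtype
      rw [Subgroup.normalizer_eq_top_iff.2 (H1.pCore_normal (G := ↥M) q),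
        ← MonoidHom.range_eq_map, Subgroup.range_subtype] at h1
      exact h1
    have hYn : (A ⊓ Subgroup.centralizer (Q : Set G)).Normal := by
      rw [← Subgroup.normalizer_eq_top_iff, eq_top_iff, ← hAM]
      apply sup_le
      · apply H1.le_normalizer_of_forall
        intro a ha x hx
        rw [hAcomm a ha x hx.1, mul_inv_cancel_right]; exact hx
      · exact H1.le_normalizer_inf (hnormal_le A M hAn)
          (hMQ.trans (H1.normalizer_le_normalizer_centralizer Q))
    have hY : A ⊓ Subgroup.centralizer (Q : Set G) = ⊥ := by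
      rcases hAmin _ hYn inf_le_left with h | h
      · exact h
      · exfalso
        apply hq
        have h1 : A ≤ Subgroup.centralizer (Q : Set G) := h ▸ inf_le_right
        have h2 : Q ≤ A := by
          rw [← hCA]; exact Subgroup.le_centralizer_iff.1 h1
        have h3 : Q = ⊥ := by
          rw [eq_bot_iff, ← hAMinf]; exact le_inf h2 hQM
        exact (Subgroup.map_eq_bot_iff_of_injective _ M.subtype_injective).1 h3
    have hmod := H1.card_modEq_card_inf_centralizer A Q (hnormal_le A Q hAn) hQq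
    rw [hY, Subgroup.card_bot] at hmod
    refine ⟨hmod, ?_⟩
    rintro rfl
    rw [hd] at hmod
    have h1 : q ^ d % q = 0 := Nat.mod_eq_zero_of_dvd (dvd_pow_self q hd0)
    have h2 : 1 % q = 1 := Nat.mod_eq_of_lt hp.one_lt
    unfold Nat.ModEq at hmod
    omega

end Cfsg.Agent.S0587
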