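import Mathlib
import Cfsg.Statements.S0599
import Cfsg.Agent.Lib_helper1_Repl2

set_option autoImplicit false
open Cfsg

namespace Cfsg.Agent.S0599


/-- The Timmesfeld replacement Theorem: replacing a best offender A by C_A([U, A]) gives a best offender with fixed points [U, A]C_V(A), still nontrivial on V if A was. -/
theorem result {G : Type*} [Group G] [Finite G] {p : ℕ} [Fact p.Prime] (V A : Subgroup G) (hV : Cfsg.IsElementaryAbelian p V) (hAV : A ≤ Subgroup.normalizer (V : Set G)) (hA : Cfsg.IsBestOffenderOn p V A) (U : Subgroup G) (hU : U ≤ V) : Cfsg.IsBestOffenderOn p V (A ⊓ Subgroup.centralizer ((⁅U, A⁆ : Subgroup G) : Set G)) ∧ V ⊓ Subgroup.centralizer ((A ⊓ Subgroup.centralizer ((⁅U, A⁆ : Subgroup G) : Set G) : Subgroup G) : Set G) = ⁅U, A⁆ ⊔ (V ⊓ Subgroup.centralizer (A : Set G)) ∧ (⁅V, A⁆ ≠ ⊥ → ⁅V, A ⊓ Subgroup.centralizer ((⁅U, A⁆ : Subgroup G) : Set G)⁆ ≠ ⊥) := by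
  obtain ⟨hmax, hab, hpow⟩ := hA
  have hact : Cfsg.Agent.H1.AbAct V A :=
    ⟨fun v hv w hw => congrArg Subtype.val (hV.1.is_comm.comm ⟨v, hv⟩ ⟨w, hw⟩), hAV, hab⟩
  have hr := hact.repl hmax hU
  refine ⟨⟨?_, (Subgroup.commutator_mono inf_le_left inf_le_left).trans hab,
    fun a ha => hpow a (Subgroup.mem_inf.mp ha).1⟩, hr.2, ?_⟩
  · intro B' hB'
    rw [hr.1]
    exact hmax B' (hB'.trans inf_le_left)
  · intro hne hbot
    apply hne
    have h1 : V ≤ Subgroup.centralizer ((A ⊓ Subgroup.centralizer ((⁅U, A⁆ : Subgroup G) : Set G) : Subgroup G) : Set G) := by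
      rw [Subgroup.commutator_eq_bot_iff_le_centralizer] at hbot; exact hbot
    have h2 : V = ⁅U, A⁆ ⊔ (V ⊓ Subgroup.centralizer (A : Set G)) := by
      rw [← hr.2]; exact (inf_eq_left.mpr h1).symm
    have h3 : ⁅V, A⁆ ≤ ⁅⁅V, A⁆, A⁆ := by
      conv_lhs => rw [h2]
      rw [hact.sup_commutator (hact.commutator_le hU) inf_le_left]
      apply sup_le
      · exact Subgroup.commutator_mono (Subgroup.commutator_mono hU le_rfl) le_rfl
      · have : ⁅V ⊓ Subgroup.centralizer (A : Set G), A⁆ = ⊥ := by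
          rw [Subgroup.commutator_eq_bot_iff_le_centralizer]; exact inf_le_right
        rw [this]; exact bot_le
    by_contra hne'
    have hVp : IsPGroup p V := fun a => ⟨1, by rw [pow_one]; exact Subtype.ext (hV.2 a a.2)⟩
    have h4 := Cfsg.Agent.H1.commutator_lt_of_pow_mem (W := ⁅V, A⁆) hVp hpow (hact.commutator_le le_rfl)
      (Subgroup.normalizer_commutator_ge_right V A) hne'
    exact absurd h3 (not_le_of_gt h4)

end Cfsg.Agent.S0599
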