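import Mathlib
import Cfsg.Statements.S0600
import Cfsg.Agent.Lib_helper1_SylGen
import Cfsg.Agent.Lib_helper1_Cores

set_option autoImplicit false
open Cfsg

namespace Cfsg.Agent.S0600


/-- A normal elementary abelian p-subgroup generated by the fixed points of the Sylow p-subgroups admits no nontrivial normal p-subgroup of G modulo its centralizer. -/
theorem result {G : Type*} [Group G] [Finite G] {p : ℕ} [Fact p.Prime] (V : Subgroup G) [V.Normal] (hV : Cfsg.IsElementaryAbelian p V) (hgen : V = ⨆ S : Sylow p G, V ⊓ Subgroup.centralizer ((S : Subgroup G) : Set G)) : Cfsg.pCore p (G ⧸ Subgroup.centralizer (V : Set G)) = ⊥ := by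
  set C := Subgroup.centralizer (V : Set G) with hC
  set f := QuotientGroup.mk' C with hf
  have hfs : Function.Surjective f := QuotientGroup.mk'_surjective C
  set X := Cfsg.pCore p (G ⧸ C) with hX
  haveI hXn : X.Normal := H1.pCore_normal p
  set D := X.comap f with hD
  have hDn : D.Normal := inferInstance
  have hmap : D.map f = X := Subgroup.map_comap_eq_self_of_surjective hfs X
  obtain ⟨k, hk⟩ := IsPGroup.iff_card.1 (H1.pCore_isPGroup (p := p) (G := G ⧸ C))
  have hCe : C = (⊥ : Subgroup (G ⧸ C)).comap f := by
    rw [MonoidHom.comap_bot, hf, QuotientGroup.ker_mk']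
  have hrel : C.relIndex D = p ^ k := by
    have h1 : C.relIndex D = ((⊥ : Subgroup (G ⧸ C)).comap f).relIndex D :=
      congrArg (fun Y => Subgroup.relIndex Y D) hCe
    rw [h1, Subgroup.relIndex_comap, hmap, Subgroup.relIndex_bot_left]
    exact hk
  have hCD : C ≤ D := by
    intro c hc
    have : f c = 1 := (QuotientGroup.eq_one_iff c).2 hc
    change f c ∈ X
    rw [this]; exact one_mem _
  have hle := H1.le_centralizer_of_sylow_gen V D hDn
    (fun S => V ⊓ Subgroup.centralizer ((S : Subgroup G) : Set G)) (fun S => inf_le_right)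
    (fun S => inf_le_left) hgen.le hCD hrel
  rw [eq_bot_iff, ← hmap]
  rintro _ ⟨d, hd, rfl⟩
  exact (QuotientGroup.eq_one_iff d).2 (hle hd)

end Cfsg.Agent.S0600
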