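import Mathlib
import Cfsg.Statements.S0601
import Cfsg.Agent.Lib_helper1_SylGen
import Cfsg.Agent.Lib_helper1_Cores

set_option autoImplicit false
open Cfsg

namespace Cfsg.Agent.S0601

theorem pow_of_mem_omegaOne {G : Type*} [Group G] {p : ℕ} {A : Subgroup G}
    (hA : ∀ a ∈ A, ∀ b ∈ A, a * b = b * a) {z : G} (hz : z ∈ Cfsg.omegaOne p A) :
    z ∈ A ∧ z ^ p = 1 := by
  unfold Cfsg.omegaOne at hz
  induction hz using Subgroup.closure_induction with
  | mem x hx => exact hx
  | one => exact ⟨A.one_mem, one_pow _⟩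
  | mul x y _ _ hx hy =>
    refine ⟨A.mul_mem hx.1 hy.1, ?_⟩
    have hc : Commute x y := hA x hx.1 y hy.1
    rw [hc.mul_pow, hx.2, hy.2, one_mul]
  | inv x _ hx => exact ⟨A.inv_mem hx.1, by rw [inv_pow, hx.2, inv_one]⟩

/-- When O_p(G) contains its centralizer, the normal closure of Ω₁(Z(S)) is elementary abelian and G has no nontrivial normal p-subgroup modulo its centralizer. -/
theorem result {G : Type*} [Group G] [Finite G] {p : ℕ} [Fact p.Prime] (hc : Subgroup.centralizer (Cfsg.pCore p G : Set G) ≤ Cfsg.pCore p G) : (⨆ S : Sylow p G, Cfsg.omegaOne p (((S : Subgroup G)) ⊓ Subgroup.centralizer ((S : Subgroup G) : Set G))).Normal ∧ Cfsg.IsElementaryAbelian p (⨆ S : Sylow p G, Cfsg.omegaOne p (((S : Subgroup G)) ⊓ Subgroup.centralizer ((S : Subgroup G) : Set G))) ∧ ∀ D : Subgroup G, D.Normal → Subgroup.centralizer ((⨆ S : Sylow p G, Cfsg.omegaOne p (((S : Subgroup G)) ⊓ Subgroup.centralizer ((S : Subgroup G) : Set G)) : Subgroup G) : Set G) ≤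 D → (∃ k : ℕ, (Subgroup.centralizer ((⨆ S : Sylow p G, Cfsg.omegaOne p (((S : Subgroup G)) ⊓ Subgroup.centralizer ((S : Subgroup G) : Set G)) : Subgroup G) : Set G)).relIndex D = p ^ k) → D = Subgroup.centralizer ((⨆ S : Sylow p G, Cfsg.omegaOne p (((S : Subgroup G)) ⊓ Subgroup.centralizer ((S : Subgroup G) : Set G)) : Subgroup G) : Set G) := by
  set W : Sylow p G → Subgroup G := fun S =>
    Cfsg.omegaOne p (((S : Subgroup G)) ⊓ Subgroup.centralizer ((S : Subgroup G) : Set G)) with hW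
  change (⨆ S, W S).Normal ∧ Cfsg.IsElementaryAbelian p (⨆ S, W S) ∧ ∀ D : Subgroup G, D.Normal →
    Subgroup.centralizer ((⨆ S, W S : Subgroup G) : Set G) ≤ D →
    (∃ k : ℕ, (Subgroup.centralizer ((⨆ S, W S : Subgroup G) : Set G)).relIndex D = p ^ k) →
    D = Subgroup.centralizer ((⨆ S, W S : Subgroup G) : Set G)
  set V := ⨆ S, W S with hV
  have hWle : ∀ S, W S ≤ (S : Subgroup G) ⊓ Subgroup.centralizer ((S : Subgroup G) : Set G) :=
    fun S => (Subgroup.closure_le _).2 (fun x hx => hx.1)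
  have hconj : ∀ (g : G) (S : Sylow p G), (W S).map (MulAut.conj g).toMonoidHom ≤ W (g • S) := by
    intro g S
    simp only [hW, Cfsg.omegaOne]
    rw [MonoidHom.map_closure]
    apply Subgroup.closure_mono
    rintro _ ⟨x, ⟨hx1, hx2⟩, rfl⟩
    have hmem : ∀ y, y ∈ ((g • S : Sylow p G) : Subgroup G) ↔ g⁻¹ * y * g ∈ (S : Subgroup G) := by
      intro y
      exact H1.mem_conj_smul
    refine ⟨Subgroup.mem_inf.2 ⟨?_, ?_⟩, ?_⟩
    · rw [hmem]
      have : g⁻¹ * ((MulAut.conj g).toMonoidHom x) * g = x := by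
        simp [MulAut.conj_apply, mul_assoc]
      rw [this]; exact hx1.1
    · rw [Subgroup.mem_centralizer_iff]
      intro y hy
      have hy' := (hmem y).1 hy
      have h1 := (Subgroup.mem_centralizer_iff.1 hx1.2) _ hy'
      have e1 : (MulAut.conj g).toMonoidHom x = g * x * g⁻¹ := rfl
      rw [e1]
      calc y * (g * x * g⁻¹) = g * ((g⁻¹ * y * g) * x) * g⁻¹ := by group
        _ = g * (x * (g⁻¹ * y * g)) * g⁻¹ := by rw [h1]
        _ = g * x * g⁻¹ * y := by group
    · rw [← map_pow, hx2, map_one]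
  have hVn : V.Normal := by
    constructor
    intro n hn g
    have h1 : V.map (MulAut.conj g).toMonoidHom ≤ V := by
      rw [hV, Subgroup.map_iSup]
      exact iSup_le (fun S => (hconj g S).trans (le_iSup W (g • S)))
    exact h1 ⟨n, hn, rfl⟩
  haveI := hVn
  set E := Cfsg.pCore p G ⊓ Subgroup.centralizer (Cfsg.pCore p G : Set G) with hE
  have hEab : ∀ a ∈ E, ∀ b ∈ E, a * b = b * a := by
    intro a ha b hb
    exact (Subgroup.mem_centralizer_iff.1 hb.2 a ha.1)
  have hZE : ∀ S : Sylow p G,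
      (S : Subgroup G) ⊓ Subgroup.centralizer ((S : Subgroup G) : Set G) ≤ E := by
    intro S x hx
    have h1 : Cfsg.pCore p G ≤ S := by
      rw [H1.pCore_eq_iInf_sylow]
      exact iInf_le _ S
    have h2 : x ∈ Subgroup.centralizer (Cfsg.pCore p G : Set G) := Subgroup.centralizer_le h1 hx.2
    exact ⟨hc h2, h2⟩
  have hVE : V ≤ Cfsg.omegaOne p E := by
    apply iSup_le
    intro S
    apply Subgroup.closure_mono
    intro x hx
    exact ⟨hZE S hx.1, hx.2⟩
  refine ⟨hVn, ⟨⟨⟨fun a b => Subtype.ext ?_⟩⟩, ?_⟩, ?_⟩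
  · exact hEab _ (pow_of_mem_omegaOne hEab (hVE a.2)).1 _ (pow_of_mem_omegaOne hEab (hVE b.2)).1
  · intro a ha
    exact (pow_of_mem_omegaOne hEab (hVE ha)).2
  · rintro D hD hCD ⟨k, hk⟩
    exact le_antisymm (H1.le_centralizer_of_sylow_gen V D hD W
      (fun S => (hWle S).trans inf_le_right) (le_iSup W) le_rfl hCD hk) hCD

end Cfsg.Agent.S0601
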