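import Mathlib
import Cfsg.Statements.S0607
import Cfsg.Agent.Lib_helper1_Repl2
import Cfsg.Agent.S0599
import Cfsg.Agent.S0606

set_option autoImplicit false
open Cfsg

namespace Cfsg.Agent.S0607

open scoped commutatorElement

/-- The replacement Theorem for the Thompson subgroup: from A of maximal order among elementary abelian p-subgroups one obtains A₀ = [V, A] C_A([V, A]) of the same kind, quadratic on V and nontrivial on V when A is. -/
theorem result {G : Type*} [Group G] [Finite G] {p : ℕ} [Fact p.Prime] (V : Subgroup G) [V.Normal] (hV : Cfsg.IsElementaryAbelian p V) (A : Subgroup G) (hA : A ∈ Cfsg.maxElementaryAbelianSubgroups p G) : (⁅V, A⁆ ⊔ (A ⊓ Subgroup.centralizer ((⁅V, A⁆ : Subgroup G) : Set G))) ∈ Cfsg.maxElementaryAbelianSubgroups p G ∧ ⁅⁅V, ⁅V, A⁆ ⊔ (A ⊓ Subgroup.centralizer ((⁅V, A⁆ : Subgroup G) : Set G))⁆, ⁅V, A⁆ ⊔ (A ⊓ Subgroup.centralizer ((⁅V, A⁆ : Subgroup G) : Set G))⁆ = ⊥ ∧ (⁅V, A⁆ ≠ ⊥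 → ⁅V, ⁅V, A⁆ ⊔ (A ⊓ Subgroup.centralizer ((⁅V, A⁆ : Subgroup G) : Set G))⁆ ≠ ⊥) := by
  have hbo := Cfsg.Agent.S0606.result V hV A hA
  have hAV : A ≤ Subgroup.normalizer (V : Set G) := by
    rw [Subgroup.normalizer_eq_top]; exact le_top
  obtain ⟨hB1, hB2, hB3⟩ := Cfsg.Agent.S0599.result V A hV hAV hbo V le_rfl
  have hact : Cfsg.Agent.H1.AbAct V A :=
    ⟨fun v hv w hw => congrArg Subtype.val (hV.1.is_comm.comm ⟨v, hv⟩ ⟨w, hw⟩), hAV, hbo.2.1⟩
  have hr := hact.repl hbo.1 (le_refl V)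
  have hWV : ⁅V, A⁆ ≤ V := hact.commutator_le le_rfl
  set W := ⁅V, A⁆ with hW
  set B := A ⊓ Subgroup.centralizer (W : Set G) with hB
  have hBA : B ≤ A := inf_le_left
  have hcomm : ∀ w ∈ W, ∀ b ∈ B, w * b = b * w := by
    intro w hw b hb
    exact Subgroup.mem_centralizer_iff.mp (Subgroup.mem_inf.mp hb).2 w hw
  have hea : Cfsg.IsElementaryAbelian p (W ⊔ B : Subgroup G) :=
    Cfsg.Agent.LeadJ.ea_sup (Cfsg.Agent.LeadJ.ea_mono hWV hV) (Cfsg.Agent.LeadJ.ea_mono hBA hA.1) hcomm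
  have hCA : V ⊓ Subgroup.centralizer (A : Set G) ≤ B := by
    intro x hx
    obtain ⟨hx1, hx2⟩ := Subgroup.mem_inf.mp hx
    refine Subgroup.mem_inf.mpr ⟨Cfsg.Agent.LeadJ.mem_of_centralizes hA (hV.2 x hx1)
      (fun a ha => Subgroup.mem_centralizer_iff.mp hx2 a ha), ?_⟩
    rw [Subgroup.mem_centralizer_iff]
    intro w hw
    exact hact.comm w (hWV hw) x hx1
  have hA0 : W ⊔ B = (V ⊓ Subgroup.centralizer (B : Set G)) ⊔ B := by
    rw [hB2]
    apply le_antisymm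
    · exact sup_le (le_sup_left.trans le_sup_left) le_sup_right
    · exact sup_le (sup_le le_sup_left (hCA.trans le_sup_right)) le_sup_right
  have hnorm : B ≤ Subgroup.normalizer ((V ⊓ Subgroup.centralizer (B : Set G) : Subgroup G) : Set G) := by
    apply Cfsg.Agent.H1.le_normalizer_of_conj_mem
    intro k hk d hd
    have : k * d * k⁻¹ = d := by
      rw [Subgroup.mem_centralizer_iff.mp (Subgroup.mem_inf.mp hd).2 k hk]; group
    rw [this]; exact hd
  have hcard := Cfsg.Agent.H1.card_sup_mul_card_inf' (V ⊓ Subgroup.centralizer (B : Set G)) B hnorm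
  have hinf : (V ⊓ Subgroup.centralizer (B : Set G)) ⊓ B ≤ V ⊓ Subgroup.centralizer (A : Set G) := by
    intro x hx
    obtain ⟨hx1, hx2⟩ := Subgroup.mem_inf.mp hx
    refine Subgroup.mem_inf.mpr ⟨(Subgroup.mem_inf.mp hx1).1, ?_⟩
    rw [Subgroup.mem_centralizer_iff]
    intro a ha
    exact Cfsg.Agent.LeadJ.comm_of hA.1.1 ha (hBA hx2)
  have hle : Nat.card A ≤ Nat.card (W ⊔ B : Subgroup G) := by
    have h1 := Subgroup.card_le_of_le hinf
    have h2 := hr.1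
    rw [hA0]
    have h3 : Nat.card A * Nat.card ↥(V ⊓ Subgroup.centralizer (A : Set G)) ≤
        Nat.card ↥((V ⊓ Subgroup.centralizer (B : Set G)) ⊔ B) * Nat.card ↥(V ⊓ Subgroup.centralizer (A : Set G)) := by
      calc Nat.card A * Nat.card ↥(V ⊓ Subgroup.centralizer (A : Set G))
          = Nat.card ↥(V ⊓ Subgroup.centralizer (B : Set G)) * Nat.card B := by rw [← h2]; ring
        _ = Nat.card ↥((V ⊓ Subgroup.centralizer (B : Set G)) ⊔ B) *
            Nat.card ↥((V ⊓ Subgroup.centralizer (B : Set G)) ⊓ B) := hcard.symm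
        _ ≤ _ := by gcongr
    exact Nat.le_of_mul_le_mul_right h3 Nat.card_pos
  have hVA0 : ⁅V, W ⊔ B⁆ ≤ W := by
    rw [Subgroup.commutator_le]
    intro v hv x hx
    have hn : W ≤ Subgroup.normalizer (B : Set G) := by
      apply Cfsg.Agent.H1.le_normalizer_of_conj_mem
      intro k hk d hd
      have : k * d * k⁻¹ = d := by rw [hcomm k hk d hd]; group
      rw [this]; exact hd
    obtain ⟨w, hw, b, hb, rfl⟩ := Cfsg.Agent.H1.exists_mul_of_mem_sup hn hx
    have h1 : ⁅v, w * b⁆ = w * ⁅v, b⁆ * w⁻¹ := by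
      rw [commutatorElement_def, commutatorElement_def]
      calc v * (w * b) * v⁻¹ * (w * b)⁻¹ = (v * w) * b * v⁻¹ * b⁻¹ * w⁻¹ := by group
        _ = (w * v) * b * v⁻¹ * b⁻¹ * w⁻¹ := by rw [hact.comm v hv w (hWV hw)]
        _ = _ := by group
    rw [h1]
    exact mul_mem (mul_mem hw (Subgroup.commutator_mem_commutator hv (hBA hb))) (inv_mem hw)
  refine ⟨⟨hea, fun C hC => (hA.2 C hC).trans hle⟩, ?_, ?_⟩
  · rw [eq_bot_iff]
    calc ⁅⁅V, W ⊔ B⁆, W ⊔ B⁆ ≤ ⁅W ⊔ B, W ⊔ B⁆ :=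
          Subgroup.commutator_mono (hVA0.trans le_sup_left) le_rfl
      _ = ⊥ := Cfsg.Agent.H1.commutator_eq_bot_of_comm hea.1 le_rfl le_rfl
      _ ≤ ⊥ := le_rfl
  · intro hne hbot
    apply hB3 hne
    rw [eq_bot_iff, ← hbot]
    exact Subgroup.commutator_mono le_rfl le_sup_right

end Cfsg.Agent.S0607
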