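import Cfsg.Statements.S0647
import Mathlib
import Cfsg.Agent.Lib_lead_Thompson

set_option autoImplicit false
open Cfsg

namespace Cfsg.Agent.S0647

/-- For a nonempty family of maximal abelian subgroups of a finite group, the intersection of the family is the centre of the subgroup it generates, which is also the full centralizer of that subgroup. -/
theorem result {S : Type*} [Group S] [Finite S] (𝒜 : Set (Subgroup S)) (hne : 𝒜.Nonempty) (hab : ∀ A ∈ 𝒜, IsMulCommutative A) (hmax : ∀ A ∈ 𝒜, ∀ B : Subgroup S, IsMulCommutative B → A ≤ B → B = A) : sInf 𝒜 = sSup 𝒜 ⊓ Subgroup.centralizer ((sSup 𝒜 : Subgroup S) : Set S) ∧ sInf 𝒜 = Subgroup.centralizer ((sSup 𝒜 : Subgroup S) : Set S) := by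
  obtain ⟨A₀, hA₀⟩ := hne
  have key1 : ∀ x : S, x ∈ Subgroup.centralizer ((sSup 𝒜 : Subgroup S) : Set S) → x ∈ sInf 𝒜 := by
    intro x hx
    rw [Subgroup.mem_sInf]
    intro A hA
    have hz : IsMulCommutative (Subgroup.zpowers x) := inferInstance
    have h1 : IsMulCommutative (A ⊔ Subgroup.zpowers x : Subgroup S) := by
      apply Cfsg.Agent.LeadJ.comm_sup (hab A hA) hz
      intro a ha b hb
      obtain ⟨i, rfl⟩ := Subgroup.mem_zpowers_iff.mp hb
      have : Commute a x := (Subgroup.mem_centralizer_iff.mp hx) a (le_sSup hA ha)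
      exact (this.zpow_right i).eq
    have h2 := hmax A hA _ h1 le_sup_left
    rw [← h2]
    exact (le_sup_right : Subgroup.zpowers x ≤ _) (Subgroup.mem_zpowers x)
  have key2 : ∀ x : S, x ∈ sInf 𝒜 → x ∈ sSup 𝒜 ∧ x ∈ Subgroup.centralizer ((sSup 𝒜 : Subgroup S) : Set S) := by
    intro x hx
    rw [Subgroup.mem_sInf] at hx
    refine ⟨le_sSup hA₀ (hx A₀ hA₀), ?_⟩
    have : sSup 𝒜 ≤ Subgroup.centralizer ({x} : Set S) := by
      apply sSup_le
      intro A hA a ha
      rw [Subgroup.mem_centralizer_singleton_iff]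
      exact Cfsg.Agent.LeadJ.comm_of (hab A hA) ha (hx A hA)
    rw [Subgroup.mem_centralizer_iff]
    intro y hy
    exact Subgroup.mem_centralizer_singleton_iff.mp (this hy)
  constructor
  · apply le_antisymm
    · intro x hx
      exact ⟨(key2 x hx).1, (key2 x hx).2⟩
    · intro x hx
      exact key1 x hx.2
  · apply le_antisymm
    · intro x hx
      exact (key2 x hx).2
    · intro x hx
      exact key1 x hx

end Cfsg.Agent.S0647
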