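import Cfsg.Statements.S0648

set_option autoImplicit false
open Cfsg

namespace Cfsg.Agent.S0648

open Subgroup
open scoped commutatorElement

lemma comm_aux {G : Type*} [Group G] (g a w : G) (e1 : a * w = w * a)
    (e2 : a * (g⁻¹ * w * g) = (g⁻¹ * w * g) * a) : w * ⁅g, a⁆ = ⁅g, a⁆ * w := by
  have e1' : a⁻¹ * w = w * a⁻¹ := (Commute.inv_left (show Commute a w from e1)).eq
  symm
  calc ⁅g, a⁆ * w = g * a * g⁻¹ * (a⁻¹ * w) := by rw [commutatorElement_def]; group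
    _ = g * a * g⁻¹ * (w * a⁻¹) := by rw [e1']
    _ = g * (a * (g⁻¹ * w * g)) * g⁻¹ * a⁻¹ := by group
    _ = g * ((g⁻¹ * w * g) * a) * g⁻¹ * a⁻¹ := by rw [e2]
    _ = w * ⁅g, a⁆ := by rw [commutatorElement_def]; group

lemma conj_eq_of_comm {G : Type*} [Group G] {g k : G} (h : k * g = g * k) : g * k * g⁻¹ = k := by
  rw [← h]; group

lemma conj_eq_of_comm' {G : Type*} [Group G] {g k : G} (h : k * g = g * k) : g⁻¹ * k * g = k := by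
  rw [mul_assoc, h]; group

lemma gen_step {G : Type*} [Group G] (S : Set G) (K : Subgroup G)
    (hK : ∀ k ∈ K, ∀ s ∈ closure S, k * s = s * k) (g : G) (h : ∀ t ∈ S, ⁅g, t⁆ ∈ K) :
    ∀ t ∈ closure S, ⁅g, t⁆ ∈ K := by
  intro t ht
  induction ht using Subgroup.closure_induction with
  | mem x hx => exact h x hx
  | one => rw [commutatorElement_one_right]; exact K.one_mem
  | mul x y hx hy ihx ihy =>
    have e : ⁅g, x * y⁆ = ⁅g, x⁆ * (x * ⁅g, y⁆ * x⁻¹) := by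
      simp only [commutatorElement_def]; group
    rw [e, conj_eq_of_comm (hK _ ihy x hx)]
    exact K.mul_mem ihx ihy
  | inv x hx ih =>
    have e : ⁅g, x⁻¹⁆ = x⁻¹ * ⁅g, x⁆⁻¹ * x := by
      simp only [commutatorElement_def]; group
    rw [e, conj_eq_of_comm' (hK _ (K.inv_mem ih) x hx)]
    exact K.inv_mem ih

lemma comm_mem_of_gens {G : Type*} [Group G] (S : Set G) (K : Subgroup G)
    (hK : ∀ k ∈ K, ∀ s ∈ closure S, k * s = s * k) (h : ∀ s ∈ S, ∀ t ∈ S, ⁅s, t⁆ ∈ K) :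
    ∀ s ∈ closure S, ∀ t ∈ closure S, ⁅s, t⁆ ∈ K := by
  intro s hs
  apply gen_step S K hK s
  intro t ht
  have := gen_step S K hK t (h t ht) s hs
  rw [← commutatorElement_inv]
  exact K.inv_mem this

/-- the key identity -/
lemma key {G : Type*} [Group G] (A B D : Subgroup G) (hDB : D ≤ B)
    (hBA : ∀ g ∈ B, ∀ a ∈ A, ⁅g, a⁆ ∈ D)
    (hB' : ∀ w ∈ ⁅B, B⁆, ∀ a ∈ A, a * w = w * a)
    (hD : ∀ d ∈ D, ∀ w ∈ ⁅B, B⁆, w * d = d * w)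
    (hZ : ∀ z ∈ ⁅D, D⁆, ∀ g ∈ B, z * g = g * z)
    (β : G) (hβ : β ∈ B) (u : G) (hu : u ∈ D) (y : G) (hy : y ∈ A) :
    ⁅(⁅u, y⁆)⁻¹, β⁆ = ⁅(⁅β, y⁆)⁻¹, (⁅u, y⁆)⁻¹ * u⁆ := by
  set e := ⁅u, y⁆ with he
  set v := ⁅β, y⁆ with hv
  have heD : e ∈ D := hBA u (hDB hu) y hy
  have hvD : v ∈ D := hBA β hβ y hy
  set w := ⁅u, β⁆ with hw
  have hwB : w ∈ ⁅B, B⁆ := commutator_mem_commutator (hDB hu) hβ
  have h1 : y * w * y⁻¹ = w := conj_eq_of_comm (hB' w hwB y hy).symm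
  have h2 : y * w * y⁻¹ = ⁅e⁻¹ * u, v⁻¹ * β⁆ := by
    simp only [hw, he, hv, commutatorElement_def]; group
  have h3 : ⁅e⁻¹ * u, v⁻¹ * β⁆ = ⁅e⁻¹ * u, v⁻¹⁆ * (v⁻¹ * ⁅e⁻¹ * u, β⁆ * v) := by
    simp only [commutatorElement_def]; group
  have hu' : e⁻¹ * u ∈ D := D.mul_mem (D.inv_mem heD) hu
  have h4 : v⁻¹ * ⁅e⁻¹ * u, β⁆ * v = ⁅e⁻¹ * u, β⁆ :=
    conj_eq_of_comm' (hD v hvD _ (commutator_mem_commutator (hDB hu') hβ))
  have h5 : ⁅e⁻¹ * u, β⁆ = (e⁻¹ * w * e) * ⁅e⁻¹, β⁆ := by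
    simp only [hw, commutatorElement_def]; group
  have h6 : e⁻¹ * w * e = w := conj_eq_of_comm' (hD e heD w hwB)
  set z := ⁅e⁻¹ * u, v⁻¹⁆ with hz
  have hzD : z ∈ ⁅D, D⁆ := commutator_mem_commutator hu' (D.inv_mem hvD)
  have hwB0 : w ∈ B := (commutator_le.2 fun a ha b hb => by
    rw [commutatorElement_def]
    exact B.mul_mem (B.mul_mem (B.mul_mem ha hb) (B.inv_mem ha)) (B.inv_mem hb) : ⁅B, B⁆ ≤ B) hwB
  have h7 : w = w * (z * ⁅e⁻¹, β⁆) := by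
    calc w = y * w * y⁻¹ := h1.symm
      _ = z * (w * ⁅e⁻¹, β⁆) := by rw [h2, h3, h4, h5, h6]
      _ = w * (z * ⁅e⁻¹, β⁆) := by rw [← mul_assoc, hZ z hzD w hwB0, mul_assoc]
  have h8 : z * ⁅e⁻¹, β⁆ = 1 := by
    have := h7.symm
    rwa [mul_eq_left] at this
  have h9 : ⁅e⁻¹, β⁆ = z⁻¹ := (eq_inv_of_mul_eq_one_right h8)
  rw [h9, hz, commutatorElement_inv]

/-- If A acts on B centralizing [B, B], then [B, A] has derived subgroup central in B, and for abelian A and b ∈ B with [[b, A], A, A] = 1 the derived subgroup of the subgroup [b, A] generated by the commutators of b with A has exponent dividing 2. -/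
theorem result {G : Type*} [Group G] [Finite G] (A B : Subgroup G) (hAB : A ≤ Subgroup.normalizer (B : Set G)) (hc : ⁅⁅B, B⁆, A⁆ = ⊥) : ⁅⁅B, A⁆, ⁅B, A⁆⁆ ≤ B ⊓ Subgroup.centralizer (B : Set G) ∧ (IsMulCommutative A → ∀ b ∈ B, ⁅⁅(Subgroup.closure {g : G | ∃ a ∈ A, g = b⁻¹ * a * b * a⁻¹}), A⁆, A⁆ = ⊥ → ∀ w ∈ ⁅(Subgroup.closure {g : G | ∃ a ∈ A, g = b⁻¹ * a * b * a⁻¹}), (Subgroup.closure {g : G | ∃ a ∈ A, g = b⁻¹ * a * b * a⁻¹})⁆, w ^ 2 = 1) := by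
  classical
  set D := ⁅B, A⁆ with hDdef
  have hBB : ⁅B, B⁆ ≤ B := commutator_le.2 fun a ha b hb => by
    rw [commutatorElement_def]
    exact B.mul_mem (B.mul_mem (B.mul_mem ha hb) (B.inv_mem ha)) (B.inv_mem hb)
  have hDB : D ≤ B := commutator_le.2 fun g hg a ha => by
    have e : ⁅g, a⁆ = g * (a * g⁻¹ * a⁻¹) := by rw [commutatorElement_def]; group
    rw [e]
    exact B.mul_mem hg ((mem_normalizer_iff.1 (hAB ha) g⁻¹).1 (B.inv_mem hg))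
  have hBA : ∀ g ∈ B, ∀ a ∈ A, ⁅g, a⁆ ∈ D := fun g hg a ha => commutator_mem_commutator hg ha
  have hB' : ∀ w ∈ ⁅B, B⁆, ∀ a ∈ A, a * w = w * a := by
    intro w hw a ha
    have h1 : ⁅w, a⁆ ∈ ⁅⁅B, B⁆, A⁆ := commutator_mem_commutator hw ha
    rw [hc, mem_bot, commutatorElement_eq_one_iff_mul_comm] at h1
    exact h1.symm
  have hDc : D ≤ centralizer ((⁅B, B⁆ : Subgroup G) : Set G) := by
    refine commutator_le.2 fun g hg a ha => ?_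
    rw [mem_centralizer_iff]
    intro w hw
    have hw' : g⁻¹ * w * g ∈ ⁅B, B⁆ := by
      have e : g⁻¹ * w * g = w * ⁅w⁻¹, g⁻¹⁆ := by rw [commutatorElement_def]; group
      rw [e]
      exact mul_mem hw (commutator_mem_commutator (B.inv_mem (hBB hw)) (B.inv_mem hg))
    exact comm_aux g a w (hB' w hw a ha) (hB' _ hw' a ha)
  have hD : ∀ d ∈ D, ∀ w ∈ ⁅B, B⁆, w * d = d * w := fun d hd w hw =>
    mem_centralizer_iff.1 (hDc hd) w hw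
  have hBBD : ⁅⁅B, B⁆, D⁆ = ⊥ := by
    rw [commutator_comm, commutator_eq_bot_iff_le_centralizer]; exact hDc
  have hDD : ⁅⁅D, D⁆, B⁆ = ⊥ := by
    apply commutator_commutator_eq_bot_of_rotate
    · exact le_bot_iff.1 (hBBD ▸ commutator_mono (commutator_mono hDB le_rfl) le_rfl)
    · exact le_bot_iff.1 (hBBD ▸ commutator_mono (commutator_mono le_rfl hDB) le_rfl)
  have hDDc : ⁅D, D⁆ ≤ centralizer (B : Set G) := commutator_eq_bot_iff_le_centralizer.1 hDD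
  have hZ : ∀ z ∈ ⁅D, D⁆, ∀ g ∈ B, z * g = g * z := fun z hz g hg =>
    (mem_centralizer_iff.1 (hDDc hz) g hg).symm
  refine ⟨le_inf ((commutator_mono hDB hDB).trans hBB) hDDc, ?_⟩
  intro hAc b hb hq
  set S : Set G := {g : G | ∃ a ∈ A, g = b⁻¹ * a * b * a⁻¹} with hS
  set T := closure S with hT
  have hβ : b⁻¹ ∈ B := B.inv_mem hb
  have hgen : ∀ a, b⁻¹ * a * b * a⁻¹ = ⁅b⁻¹, a⁆ := fun a => by
    rw [commutatorElement_def, inv_inv]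
  have hSD : ∀ s ∈ S, s ∈ D := by
    rintro s ⟨a, ha, rfl⟩
    rw [hgen]; exact hBA _ hβ a ha
  have hTD : T ≤ D := (closure_le _).2 hSD
  have htT : ∀ a ∈ A, ⁅b⁻¹, a⁆ ∈ T := fun a ha => subset_closure ⟨a, ha, (hgen a).symm⟩
  have hE : ∀ e ∈ ⁅T, A⁆, ∀ a ∈ A, ⁅e, a⁆ = 1 := by
    intro e he a ha
    have h1 : ⁅e, a⁆ ∈ ⁅⁅T, A⁆, A⁆ := commutator_mem_commutator he ha
    rwa [hq, mem_bot] at h1
  have hED : ⁅T, A⁆ ≤ D := commutator_mono (hTD.trans hDB) le_rfl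
  -- generators commute with `[T, A]`
  have hcomm : ∀ y ∈ A, ∀ e ∈ ⁅T, A⁆, ⁅b⁻¹, y⁆ * e = e * ⁅b⁻¹, y⁆ := by
    intro y hy e he
    have h1 := key A B D hDB hBA hB' hD hZ b⁻¹ hβ e (hED he) y hy
    rw [hE e he y hy] at h1
    simp only [inv_one, one_mul, commutatorElement_one_left] at h1
    have h2 := commutatorElement_eq_one_iff_mul_comm.1 h1.symm
    have := (Commute.inv_left (show Commute _ _ from h2)).eq
    rw [inv_inv] at this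
    exact this
  -- the value of the key identity on generators
  have hval : ∀ x ∈ A, ∀ y ∈ A, ⁅(⁅⁅b⁻¹, x⁆, y⁆)⁻¹, b⁻¹⁆ = ⁅⁅b⁻¹, x⁆, ⁅b⁻¹, y⁆⁆ := by
    intro x hx y hy
    have h1 := key A B D hDB hBA hB' hD hZ b⁻¹ hβ ⁅b⁻¹, x⁆ (hBA _ hβ x hx) y hy
    rw [h1]
    set u := ⁅b⁻¹, x⁆ with hu
    set v := ⁅b⁻¹, y⁆ with hv
    set e := ⁅u, y⁆ with he
    have heE : e ∈ ⁅T, A⁆ := commutator_mem_commutator (htT x hx) hy
    have hve : v * e = e * v := hcomm y hy e heE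
    have huD : u ∈ D := hBA _ hβ x hx
    have hvD : v ∈ D := hBA _ hβ y hy
    have hcD : ⁅u, v⁆ ∈ ⁅D, D⁆ := commutator_mem_commutator huD hvD
    have hve' : v⁻¹ * e⁻¹ = e⁻¹ * v⁻¹ := by
      rw [← mul_inv_rev, ← mul_inv_rev, hve]
    have hve'' : v * e = e * v := hve
    have e1 : ⁅v⁻¹, e⁻¹ * u⁆ = (v⁻¹ * e⁻¹) * u * v * u⁻¹ * e := by
      simp only [commutatorElement_def]; group
    have e2 : (e⁻¹ * v⁻¹) * u * v * u⁻¹ * e = (v * e)⁻¹ * ⁅u, v⁆ * (v * e) := by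
      simp only [commutatorElement_def]; group
    rw [e1, hve', e2]
    exact conj_eq_of_comm' (hZ _ hcD _ (B.mul_mem (hDB hvD) (hDB (hED heE))))
  -- relation from commutativity of `A`
  have hrel : ∀ x ∈ A, ∀ y ∈ A, (⁅⁅b⁻¹, x⁆, y⁆)⁻¹ = ⁅(⁅b⁻¹, x⁆)⁻¹, (⁅b⁻¹, y⁆)⁻¹⁆ * (⁅⁅b⁻¹, y⁆, x⁆)⁻¹ := by
    intro x hx y hy
    have hxy : x * y = y * x := by
      have h0 := congrArg Subtype.val (hAc.is_comm.comm ⟨x, hx⟩ ⟨y, hy⟩)
      exact h0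
    set u := ⁅b⁻¹, x⁆ with hu
    set v := ⁅b⁻¹, y⁆ with hv
    set e := ⁅u, y⁆ with he
    set f := ⁅v, x⁆ with hf
    have heE : e ∈ ⁅T, A⁆ := commutator_mem_commutator (htT x hx) hy
    have hfE : f ∈ ⁅T, A⁆ := commutator_mem_commutator (htT y hy) hx
    have r1 : (x * y) * b⁻¹ * (x * y)⁻¹ = v⁻¹ * f * u⁻¹ * b⁻¹ := by
      simp only [hf, hu, hv, commutatorElement_def]; group
    have r2 : (y * x) * b⁻¹ * (y * x)⁻¹ = u⁻¹ * e * v⁻¹ * b⁻¹ := by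
      simp only [he, hu, hv, commutatorElement_def]; group
    rw [hxy, r2] at r1
    have r3 : u⁻¹ * e * v⁻¹ = v⁻¹ * f * u⁻¹ := mul_right_cancel r1
    have hue : u * e = e * u := hcomm x hx e heE
    have hvf : v * f = f * v := hcomm y hy f hfE
    have hue' : u⁻¹ * e = e * u⁻¹ := (Commute.inv_left (show Commute u e from hue)).eq
    have hvf' : v⁻¹ * f = f * v⁻¹ := (Commute.inv_left (show Commute v f from hvf)).eq
    rw [hue', hvf'] at r3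
    -- e u⁻¹ v⁻¹ = f v⁻¹ u⁻¹
    have r4 : e = f * (v⁻¹ * u⁻¹ * v * u) := by
      calc e = (e * u⁻¹ * v⁻¹) * v * u := by group
        _ = (f * v⁻¹ * u⁻¹) * v * u := by rw [r3]
        _ = f * (v⁻¹ * u⁻¹ * v * u) := by group
    rw [r4]
    simp only [commutatorElement_def]; group
  have hsq : ∀ x ∈ A, ∀ y ∈ A, ⁅⁅b⁻¹, x⁆, ⁅b⁻¹, y⁆⁆ * ⁅⁅b⁻¹, x⁆, ⁅b⁻¹, y⁆⁆ = 1 := by
    intro x hx y hy
    have h1 := hval x hx y hy
    have h2 := hval y hy x hx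
    rw [hrel x hx y hy] at h1
    set u := ⁅b⁻¹, x⁆ with hu
    set v := ⁅b⁻¹, y⁆ with hv
    set f := ⁅v, x⁆ with hf
    have huD : u ∈ D := hBA _ hβ x hx
    have hvD : v ∈ D := hBA _ hβ y hy
    have hfE : f ∈ ⁅T, A⁆ := commutator_mem_commutator (htT y hy) hx
    set c := ⁅u⁻¹, v⁻¹⁆ with hcdef
    have hcD : c ∈ ⁅D, D⁆ := commutator_mem_commutator (D.inv_mem huD) (D.inv_mem hvD)
    have e1 : ⁅c * f⁻¹, b⁻¹⁆ = c * (f⁻¹ * b⁻¹ * f) * c⁻¹ * b := by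
      simp only [commutatorElement_def]; group
    have hfB : f ∈ B := hDB (hED hfE)
    have e2 : c * (f⁻¹ * b⁻¹ * f) = (f⁻¹ * b⁻¹ * f) * c :=
      hZ c hcD _ (B.mul_mem (B.mul_mem (B.inv_mem hfB) hβ) hfB)
    have e3 : ⁅c * f⁻¹, b⁻¹⁆ = ⁅f⁻¹, b⁻¹⁆ := by
      rw [e1, e2]; simp only [commutatorElement_def]; group
    rw [e3, h2] at h1
    -- h1 : ⁅v, u⁆ = ⁅u, v⁆
    calc ⁅u, v⁆ * ⁅u, v⁆ = ⁅v, u⁆ * ⁅u, v⁆ := by rw [h1]
      _ = 1 := by rw [← commutatorElement_inv u v]; group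
  -- the subgroup of central involutions
  let K : Subgroup G :=
    { carrier := {w | w ∈ ⁅D, D⁆ ∧ w * w = 1}
      one_mem' := ⟨one_mem _, by simp⟩
      mul_mem' := by
        rintro w₁ w₂ ⟨h1, h1'⟩ ⟨h2, h2'⟩
        refine ⟨mul_mem h1 h2, ?_⟩
        have hw2B : w₂ ∈ B := hBB (commutator_mono hDB hDB h2)
        calc w₁ * w₂ * (w₁ * w₂) = w₁ * (w₂ * w₁) * w₂ := by group
          _ = w₁ * (w₁ * w₂) * w₂ := by rw [hZ w₁ h1 w₂ hw2B]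
          _ = (w₁ * w₁) * (w₂ * w₂) := by group
          _ = 1 := by rw [h1', h2', one_mul]
      inv_mem' := by
        rintro w ⟨h1, h1'⟩
        refine ⟨inv_mem h1, ?_⟩
        rw [← mul_inv_rev, h1', inv_one] }
  have hKc : ∀ k ∈ K, ∀ s ∈ closure S, k * s = s * k := fun k hk s hs =>
    hZ k hk.1 s (hDB (hTD hs))
  have hKg : ∀ s ∈ S, ∀ t ∈ S, ⁅s, t⁆ ∈ K := by
    rintro s ⟨x, hx, rfl⟩ t ⟨y, hy, rfl⟩
    rw [hgen, hgen]
    exact ⟨commutator_mem_commutator (hBA _ hβ x hx) (hBA _ hβ y hy), hsq x hx y hy⟩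
  have hall := comm_mem_of_gens S K hKc hKg
  have hTT : ⁅T, T⁆ ≤ K := commutator_le.2 fun s hs t ht => hall s hs t ht
  intro w hw
  rw [pow_two]
  exact (hTT hw).2

end Cfsg.Agent.S0648
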