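import Cfsg.Statements.S0650
import Cfsg.Agent.S0648
import Cfsg.Agent.Lib_helper7_Omega
import Cfsg.Agent.Lib_helper1_Coprime

set_option autoImplicit false
open Cfsg

namespace Cfsg.Agent.S0650

open Subgroup
open scoped commutatorElement

theorem mem_normalizer_of_conj_mem {G : Type*} [Group G] [Finite G] (P : Subgroup G) (n : G)
    (h : ∀ q ∈ P, n * q * n⁻¹ ∈ P) : n ∈ Subgroup.normalizer (P : Set G) := by
  have h1 : P.map (MulAut.conj n).toMonoidHom ≤ P := by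
    rintro _ ⟨q, hq, rfl⟩
    simpa using h q hq
  have h2 : Nat.card (P.map (MulAut.conj n).toMonoidHom) = Nat.card P :=
    Nat.card_congr (Subgroup.equivMapOfInjective _ _ (MulAut.conj n).injective).symm.toEquiv
  have h3 := Subgroup.eq_of_le_of_card_ge h1 h2.ge
  rw [Subgroup.mem_normalizer_iff]
  intro q
  refine ⟨h q, fun hq => ?_⟩
  rw [← h3] at hq
  obtain ⟨q', hq', hh⟩ := hq
  have e : n * q' * n⁻¹ = n * q * n⁻¹ := by simpa using hh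
  have : q' = q := mul_left_cancel (mul_right_cancel e)
  exact this ▸ hq'

/-- The Glauberman replacement Theorem: from an abelian A ⊇ [B, B] not normalized by the normal subgroup B and a suitable b ∈ B one gets the abelian subgroup A* = (A ∩ b⁻¹Ab)[A, b] of the same order, containing [B, B], meeting B strictly more than A does but not containing B, mutually normalizing with A, with strictly larger normalizer containing b, and (p odd) of no larger exponent. -/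
theorem result {S : Type*} [Group S] [Finite S] {p : ℕ} [Fact p.Prime] (hS : IsPGroup p S) (B : Subgroup S) [B.Normal] (hB2 : p = 2 → IsMulCommutative B) (A : Subgroup S) (hA : IsMulCommutative A) (hBA : ⁅B, B⁆ ≤ A) (hnot : ¬ B ≤ Subgroup.normalizer (A : Set S)) (b : S) (hb : b ∈ B) (hbN : b ∈ Subgroup.normalizer ((Subgroup.normalizer (A : Set S)) : Set S)) (hbA : b ∉ Subgroup.normalizer (A : Set S)) : Nat.card ↥((A ⊓ A.map (MulAut.conj (b⁻¹)).toMonoidHom) ⊔ Subgroup.closure {g : S | ∃ a ∈ A, g = a * b⁻¹ * a⁻¹ * b}) = Nat.card A ∧ IsMulCommutative ↥((A ⊓ A.map (MulAut.conj (b⁻¹)).toMonoidHom) ⊔ Subgroup.closure {g : S | ∃ a ∈ A, g = a * b⁻¹ * a⁻¹ * b}) ∧ ⁅B, B⁆ ≤ ((A ⊓ A.map (MulAut.conj (b⁻¹)).toMonoidHom) ⊔ Subgroup.closure {g : S | ∃ a ∈ A, g = a * b⁻¹ * a⁻¹ * b}) ∧ A ⊓ B < ((A ⊓ A.map (MulAut.conj (b⁻¹)).toMonoidHom) ⊔ Subgroup.closure {g : S | ∃ a ∈ A, g = a * b⁻¹ * a⁻¹ *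 b}) ⊓ B ∧ ((A ⊓ A.map (MulAut.conj (b⁻¹)).toMonoidHom) ⊔ Subgroup.closure {g : S | ∃ a ∈ A, g = a * b⁻¹ * a⁻¹ * b}) ⊓ B < B ∧ A ≤ Subgroup.normalizer (((A ⊓ A.map (MulAut.conj (b⁻¹)).toMonoidHom) ⊔ Subgroup.closure {g : S | ∃ a ∈ A, g = a * b⁻¹ * a⁻¹ * b} : Subgroup S) : Set S) ∧ ((A ⊓ A.map (MulAut.conj (b⁻¹)).toMonoidHom) ⊔ Subgroup.closure {g : S | ∃ a ∈ A, g = a * b⁻¹ * a⁻¹ * b}) ≤ Subgroup.normalizer (A : Set S) ∧ b ∈ Subgroup.normalizer (((A ⊓ A.map (MulAut.conj (b⁻¹)).toMonoidHom) ⊔ Subgroup.closure {g : S | ∃ a ∈ A, g = a * b⁻¹ * a⁻¹ * b} : Subgroup S) : Set S) ∧ Subgroup.normalizer (A : Set S) < Subgroup.normalizer (((A ⊓ A.map (MulAut.conj (b⁻¹)).toMonoidHom) ⊔ Subgroup.closure {g : S | ∃ a ∈ A, g = a * b⁻¹ * a⁻¹ * b} : Subgroup S) : Set S) ∧ (p ≠ 2 → Monoid.exponent ↥((A ⊓ A.map (MulAut.conj (b⁻¹)).toMonoidHom) ⊔ Subgroup.closure {g : S | ∃ a ∈ A, g = a * b⁻¹ * a⁻¹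 * b}) ∣ Monoid.exponent A) := by
  classical
  have hp : p.Prime := Fact.out
  set A₁ := A.map (MulAut.conj (b⁻¹)).toMonoidHom with hA₁def
  set T := Subgroup.closure {g : S | ∃ a ∈ A, g = a * b⁻¹ * a⁻¹ * b} with hTdef
  set I := A ⊓ A₁ with hIdef
  set N := Subgroup.normalizer (A : Set S) with hNdef
  have hAc : ∀ x ∈ A, ∀ y ∈ A, x * y = y * x := by
    intro x hx y hy
    have h0 := congrArg Subtype.val (hA.is_comm.comm ⟨x, hx⟩ ⟨y, hy⟩)
    exact h0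
  have hmem₁ : ∀ x, x ∈ A₁ ↔ b * x * b⁻¹ ∈ A := by
    intro x
    constructor
    · rintro ⟨a, ha, rfl⟩
      have : b * ((MulAut.conj b⁻¹).toMonoidHom a) * b⁻¹ = a := by
        simp [MulAut.conj_apply]; group
      rw [this]; exact ha
    · intro h
      exact ⟨b * x * b⁻¹, h, by simp [MulAut.conj_apply]; group⟩
  have hAN : A ≤ N := le_normalizer
  have hNA : ∀ n ∈ N, ∀ a ∈ A, n * a * n⁻¹ ∈ A := fun n hn a ha => (mem_normalizer_iff.1 hn a).1 ha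
  have hbN1 : ∀ n ∈ N, b * n * b⁻¹ ∈ N := fun n hn => (mem_normalizer_iff.1 hbN n).1 hn
  have hbN2 : ∀ n ∈ N, b⁻¹ * n * b ∈ N := fun n hn => by
    have := (mem_normalizer_iff.1 (inv_mem hbN) n).1 hn
    simpa using this
  have hA₁N : A₁ ≤ N := by
    intro x hx
    have h1 := hbN2 _ (hAN ((hmem₁ x).1 hx))
    have e : b⁻¹ * (b * x * b⁻¹) * b = x := by group
    rwa [e] at h1
  have hNA₁ : ∀ n ∈ N, ∀ x ∈ A₁, n * x * n⁻¹ ∈ A₁ := by
    intro n hn x hx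
    rw [hmem₁]
    have e : b * (n * x * n⁻¹) * b⁻¹ = (b * n * b⁻¹) * (b * x * b⁻¹) * (b * n * b⁻¹)⁻¹ := by group
    rw [e]
    exact hNA _ (hbN1 n hn) _ ((hmem₁ x).1 hx)
  have hA₁c : ∀ x ∈ A₁, ∀ y ∈ A₁, x * y = y * x := by
    intro x hx y hy
    have h1 := hAc _ ((hmem₁ x).1 hx) _ ((hmem₁ y).1 hy)
    have e1 : b * x * b⁻¹ * (b * y * b⁻¹) = b * (x * y) * b⁻¹ := by group
    have e2 : b * y * b⁻¹ * (b * x * b⁻¹) = b * (y * x) * b⁻¹ := by group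
    rw [e1, e2] at h1
    exact mul_left_cancel (mul_right_cancel h1)
  have hcA₁ : ∀ a ∈ A, b⁻¹ * a * b ∈ A₁ := by
    intro a ha
    rw [hmem₁]
    have e : b * (b⁻¹ * a * b) * b⁻¹ = a := by group
    rw [e]; exact ha
  have hBBA : ∀ x ∈ B, ∀ y ∈ B, x * y * x⁻¹ * y⁻¹ ∈ A := fun x hx y hy =>
    hBA (by rw [← commutatorElement_def]; exact commutator_mem_commutator hx hy)
  have hbi : b⁻¹ ∈ B := B.inv_mem hb
  have hBn : ∀ x ∈ B, ∀ g : S, g * x * g⁻¹ ∈ B := fun x hx g => (inferInstance : B.Normal).conj_mem x hx g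
  -- (F5)
  have hF5a : ∀ s ∈ A, s ∈ B → b * s * b⁻¹ ∈ A := by
    intro s hs hsB
    have e : b * s * b⁻¹ = (b * s * b⁻¹ * s⁻¹) * s := by group
    rw [e]; exact A.mul_mem (hBBA b hb s hsB) hs
  have hF5b : ∀ s ∈ A, s ∈ B → b⁻¹ * s * b ∈ A := by
    intro s hs hsB
    have e : b⁻¹ * s * b = (b⁻¹ * s * b⁻¹⁻¹ * s⁻¹) * s := by group
    rw [e]; exact A.mul_mem (hBBA b⁻¹ hbi s hsB) hs
  have hABI : A ⊓ B ≤ I := fun s hs => ⟨hs.1, (hmem₁ s).2 (hF5a s hs.1 hs.2)⟩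
  -- b normalizes I
  have hI1 : ∀ a ∈ I, b * a * b⁻¹ ∈ I := by
    intro a ha
    have ha' : b * a * b⁻¹ ∈ A := (hmem₁ a).1 ha.2
    refine ⟨ha', (hmem₁ _).2 ?_⟩
    have hs'A : b * a * b⁻¹ * a⁻¹ ∈ A := A.mul_mem ha' (A.inv_mem ha.1)
    have hs'B : b * a * b⁻¹ * a⁻¹ ∈ B := by
      have e : b * a * b⁻¹ * a⁻¹ = b * (a * b⁻¹ * a⁻¹) := by group
      rw [e]; exact B.mul_mem hb (hBn _ hbi a)
    have h1 := hF5a _ hs'A hs'B
    have e : b * (b * a * b⁻¹) * b⁻¹ = (b * (b * a * b⁻¹ * a⁻¹) * b⁻¹) * (b * a * b⁻¹) := by group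
    rw [e]; exact A.mul_mem h1 ha'
  have hI2 : ∀ a ∈ I, b⁻¹ * a * b ∈ I := by
    intro a ha
    have ha' : b * a * b⁻¹ ∈ A := (hmem₁ a).1 ha.2
    refine ⟨?_, hcA₁ a ha.1⟩
    have hs'A : b * a * b⁻¹ * a⁻¹ ∈ A := A.mul_mem ha' (A.inv_mem ha.1)
    have hs'B : b * a * b⁻¹ * a⁻¹ ∈ B := by
      have e : b * a * b⁻¹ * a⁻¹ = b * (a * b⁻¹ * a⁻¹) := by group
      rw [e]; exact B.mul_mem hb (hBn _ hbi a)
    have h1 := hF5b _ hs'A hs'B
    have e : b⁻¹ * a * b = (b⁻¹ * (b * a * b⁻¹ * a⁻¹) * b)⁻¹ * a := by group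
    rw [e]; exact A.mul_mem (A.inv_mem h1) ha.1
  -- the elements t a
  let t : S → S := fun a => a * b⁻¹ * a⁻¹ * b
  have ht_def : ∀ a, t a = a * b⁻¹ * a⁻¹ * b := fun a => rfl
  have ht_eq : ∀ a, t a = a * (b⁻¹ * a⁻¹ * b) := fun a => by rw [ht_def]; group
  have htT : ∀ a ∈ A, t a ∈ T := fun a ha => subset_closure ⟨a, ha, rfl⟩
  have htB : ∀ a, t a ∈ B := fun a => by
    have e : t a = (a * b⁻¹ * a⁻¹) * b := rfl
    rw [e]; exact B.mul_mem (hBn _ hbi a) hb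
  have htN : ∀ a ∈ A, t a ∈ N := fun a ha => by
    rw [ht_eq]; exact N.mul_mem (hAN ha) (hA₁N (hcA₁ _ (A.inv_mem ha)))
  have hcommI : ∀ a ∈ A, ∀ x ∈ A₁, a * x * a⁻¹ * x⁻¹ ∈ I := by
    intro a ha x hx
    constructor
    · have e : a * x * a⁻¹ * x⁻¹ = a * (x * a⁻¹ * x⁻¹) := by group
      rw [e]; exact A.mul_mem ha (hNA x (hA₁N hx) _ (A.inv_mem ha))
    · exact A₁.mul_mem (hNA₁ a (hAN ha) x hx) (A₁.inv_mem hx)
  have hIt : ∀ i ∈ I, ∀ a ∈ A, i * t a = t a * i := by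
    intro i hi a ha
    rw [ht_eq]
    have h1 := hAc i hi.1 a ha
    have h2 := hA₁c i hi.2 _ (hcA₁ _ (A.inv_mem ha))
    calc i * (a * (b⁻¹ * a⁻¹ * b)) = (i * a) * (b⁻¹ * a⁻¹ * b) := by group
      _ = a * (i * (b⁻¹ * a⁻¹ * b)) := by rw [h1]; group
      _ = a * (b⁻¹ * a⁻¹ * b) * i := by rw [h2]; group
  have hconj_t : ∀ a ∈ A, ∀ c ∈ A, a * t c * a⁻¹ * (t c)⁻¹ ∈ I := by
    intro a ha c hc
    set y := b⁻¹ * c⁻¹ * b with hy
    have hyA₁ : y ∈ A₁ := hcA₁ _ (A.inv_mem hc)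
    have hj := hcommI a ha y hyA₁
    have e : a * t c * a⁻¹ * (t c)⁻¹ = (a * c) * (y * a⁻¹ * y⁻¹) * c⁻¹ := by
      rw [ht_eq, hy]; group
    rw [e, hAc a ha c hc]
    have e2 : c * a * (y * a⁻¹ * y⁻¹) * c⁻¹ = c * (a * y * a⁻¹ * y⁻¹) * c⁻¹ := by group
    rw [e2, hAc c hc _ hj.1]
    have e3 : a * y * a⁻¹ * y⁻¹ * c * c⁻¹ = a * y * a⁻¹ * y⁻¹ := by group
    rw [e3]; exact hj
  have ht_mul : ∀ x y : S, t (x * y) = (x * t y * x⁻¹ * (t y)⁻¹) * (t y * t x) := by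
    intro x y
    simp only [ht_def]; group
  -- the form lemma
  let Γ : Subgroup S :=
    { carrier := {x | ∃ i ∈ I, ∃ a ∈ A, x = i * t a}
      one_mem' := ⟨1, I.one_mem, 1, A.one_mem, by simp [ht_def]⟩
      mul_mem' := by
        rintro _ _ ⟨i, hi, a, ha, rfl⟩ ⟨j, hj, c, hc, rfl⟩
        have hk := hconj_t c hc a ha
        refine ⟨i * j * (c * t a * c⁻¹ * (t a)⁻¹)⁻¹, I.mul_mem (I.mul_mem hi hj) (I.inv_mem hk),
          c * a, A.mul_mem hc ha, ?_⟩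
        rw [ht_mul c a]
        calc i * t a * (j * t c) = i * (t a * j) * t c := by group
          _ = i * (j * t a) * t c := by rw [hIt j hj a ha]
          _ = _ := by group
      inv_mem' := by
        rintro _ ⟨i, hi, a, ha, rfl⟩
        have hai := A.inv_mem ha
        have hk := hconj_t a⁻¹ hai a ha
        have h1 := ht_mul a⁻¹ a
        have h0 : t (a⁻¹ * a) = 1 := by simp [ht_def]
        rw [h0] at h1
        obtain ⟨k, hkdef⟩ : ∃ k, k = a⁻¹ * t a * a⁻¹⁻¹ * (t a)⁻¹ := ⟨_, rfl⟩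
        rw [← hkdef] at hk h1
        -- 1 = k * (t a * t a⁻¹)
        refine ⟨k * i⁻¹, I.mul_mem hk (I.inv_mem hi), a⁻¹, hai, ?_⟩
        have h2 : (t a)⁻¹ = t a⁻¹ * k := by
          have h3 : k * (t a * t a⁻¹) = (t a) * (t a⁻¹ * k) := by
            rw [← mul_assoc, hIt k hk a ha, mul_assoc, hIt k hk a⁻¹ hai]
          rw [h3] at h1
          exact inv_eq_of_mul_eq_one_right h1.symm
        calc (i * t a)⁻¹ = (t a)⁻¹ * i⁻¹ := mul_inv_rev _ _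
          _ = t a⁻¹ * k * i⁻¹ := by rw [h2]
          _ = (k * t a⁻¹) * i⁻¹ := by rw [hIt k hk a⁻¹ hai]
          _ = k * (t a⁻¹ * i⁻¹) := mul_assoc _ _ _
          _ = k * (i⁻¹ * t a⁻¹) := by rw [hIt i⁻¹ (I.inv_mem hi) a⁻¹ hai]
          _ = k * i⁻¹ * t a⁻¹ := (mul_assoc _ _ _).symm }
  have hIΓ : I ≤ Γ := fun i hi => ⟨i, hi, 1, A.one_mem, by simp [ht_def]⟩
  have hTΓ : T ≤ Γ := (closure_le _).2 (by
    rintro _ ⟨a, ha, rfl⟩
    exact ⟨1, I.one_mem, a, ha, by simp [ht_def]⟩)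
  have hform : ∀ x ∈ I ⊔ T, ∃ i ∈ I, ∃ a ∈ A, x = i * t a := fun x hx => (sup_le hIΓ hTΓ) hx
  have hformmem : ∀ i ∈ I, ∀ a ∈ A, i * t a ∈ I ⊔ T := fun i hi a ha =>
    mul_mem (le_sup_left (a := I) hi) (le_sup_right (a := I) (htT a ha))
  -- the t's commute
  have hAA : ⁅A, A⁆ = ⊥ := by
    rw [commutator_eq_bot_iff_le_centralizer]
    intro x hx
    rw [mem_centralizer_iff]
    intro y hy
    exact hAc y hy x hx
  have htt : ∀ a ∈ A, ∀ c ∈ A, t a * t c = t c * t a := by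
    intro a ha c hc
    by_cases hp2 : p = 2
    · have hBc := hB2 hp2
      have h0 := congrArg Subtype.val (hBc.is_comm.comm ⟨t a, htB a⟩ ⟨t c, htB c⟩)
      exact h0
    · set T₀ := Subgroup.closure {g : S | ∃ a ∈ A, g = b⁻¹ * a * b * a⁻¹} with hT₀
      have hgen : ∀ a ∈ A, (t a)⁻¹ ∈ T₀ := fun a ha =>
        subset_closure ⟨a, ha, by rw [ht_def]; group⟩
      have hT₀N : T₀ ≤ N := (closure_le _).2 (by
        rintro _ ⟨a, ha, rfl⟩
        have e : b⁻¹ * a * b * a⁻¹ = (t a)⁻¹ := by rw [ht_def]; group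
        rw [e]; exact N.inv_mem (htN a ha))
      have h1 : ⁅T₀, A⁆ ≤ A := by
        rw [commutator_comm]; exact H1.commutator_le_of_le_normalizer hT₀N
      have h2 : ⁅⁅T₀, A⁆, A⁆ = ⊥ := le_bot_iff.1 (hAA ▸ commutator_mono h1 le_rfl)
      have h3 : ⁅⁅B, B⁆, A⁆ = ⊥ := le_bot_iff.1 (hAA ▸ commutator_mono hBA le_rfl)
      have hABn : A ≤ normalizer (B : Set S) := by rw [normalizer_eq_top]; exact le_top
      have h4 := (S0648.result A B hABn h3).2 hA b hb h2 ⁅(t a)⁻¹, (t c)⁻¹⁆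
        (commutator_mem_commutator (hgen a ha) (hgen c hc))
      obtain ⟨k, hk⟩ := hS ⁅(t a)⁻¹, (t c)⁻¹⁆
      have h5 : ⁅(t a)⁻¹, (t c)⁻¹⁆ ^ (Nat.gcd (p ^ k) 2) = 1 := pow_gcd_eq_one.2 ⟨hk, h4⟩
      have h6 : Nat.gcd (p ^ k) 2 = 1 :=
        Nat.Coprime.pow_left k ((Nat.coprime_primes hp Nat.prime_two).2 hp2)
      rw [h6, pow_one, commutatorElement_eq_one_iff_mul_comm] at h5
      have h7 : Commute (t a)⁻¹ (t c)⁻¹ := h5
      have h8 := h7.inv_inv.eq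
      simpa using h8
  have hstar_comm : ∀ x ∈ I ⊔ T, ∀ y ∈ I ⊔ T, x * y = y * x := by
    intro x hx y hy
    obtain ⟨i, hi, a, ha, rfl⟩ := hform x hx
    obtain ⟨j, hj, c, hc, rfl⟩ := hform y hy
    have hij : i * j = j * i := hAc i hi.1 j hj.1
    calc i * t a * (j * t c) = i * (t a * j) * t c := by group
      _ = i * (j * t a) * t c := by rw [hIt j hj a ha]
      _ = (i * j) * (t a * t c) := by group
      _ = (j * i) * (t c * t a) := by rw [hij, htt a ha c hc]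
      _ = j * (i * t c) * t a := by group
      _ = j * (t c * i) * t a := by rw [hIt i hi c hc]
      _ = j * t c * (i * t a) := by group
  have hTN : T ≤ N := (closure_le _).2 (by
    rintro _ ⟨a, ha, rfl⟩
    exact htN a ha)
  have hstarN : I ⊔ T ≤ N := sup_le (inf_le_left.trans hAN) hTN
  have hNnA₁ : N ≤ normalizer (A₁ : Set S) := H1.le_normalizer_of_forall hNA₁
  -- order
  have hsup : A₁ ⊔ (I ⊔ T) = A₁ ⊔ A := by
    apply le_antisymm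
    · refine sup_le le_sup_left (sup_le (inf_le_left.trans le_sup_right) ((closure_le _).2 ?_))
      rintro _ ⟨a, ha, rfl⟩
      have e : a * b⁻¹ * a⁻¹ * b = a * (b⁻¹ * a⁻¹ * b) := by group
      rw [e]
      exact mul_mem (le_sup_right (a := A₁) ha) (le_sup_left (a := A₁) (hcA₁ _ (A.inv_mem ha)))
    · refine sup_le le_sup_left ?_
      intro a ha
      have e : a = t a * (b⁻¹ * a * b) := by rw [ht_def]; group
      rw [e]
      exact mul_mem (le_sup_right (a := A₁) (le_sup_right (a := I) (htT a ha)))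
        (le_sup_left (a := A₁) (hcA₁ a ha))
  have hinf : A₁ ⊓ (I ⊔ T) = A₁ ⊓ A := by
    apply le_antisymm
    · rintro x ⟨hx1, hx2⟩
      refine ⟨hx1, ?_⟩
      obtain ⟨i, hi, a, ha, rfl⟩ := hform x hx2
      have h1 : t a ∈ A₁ := by
        have e : t a = i⁻¹ * (i * t a) := by group
        rw [e]; exact A₁.mul_mem (A₁.inv_mem hi.2) hx1
      have h2 : a ∈ A₁ := by
        have e : a = t a * (b⁻¹ * a * b) := by rw [ht_def]; group
        rw [e]; exact A₁.mul_mem h1 (hcA₁ a ha)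
      have h3 := hI2 a ⟨ha, h2⟩
      have e : t a = a * (b⁻¹ * a * b)⁻¹ := by rw [ht_def]; group
      rw [e]
      exact A.mul_mem hi.1 (A.mul_mem ha (A.inv_mem h3.1))
    · rintro x ⟨hx1, hx2⟩
      exact ⟨hx1, le_sup_left (a := I) ⟨hx2, hx1⟩⟩
  have hcard : Nat.card ↥(I ⊔ T) = Nat.card A := by
    have c1 := H1.card_sup_mul_card_inf' A₁ (I ⊔ T) (hstarN.trans hNnA₁)
    have c2 := H1.card_sup_mul_card_inf' A₁ A (hAN.trans hNnA₁)
    rw [hsup, hinf, c2] at c1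
    exact (Nat.eq_of_mul_eq_mul_left Nat.card_pos c1).symm
  have hBB : ⁅B, B⁆ ≤ B := commutator_le_left B B
  have hbstar : b ∈ normalizer ((I ⊔ T : Subgroup S) : Set S) := by
    apply mem_normalizer_of_conj_mem
    intro x hx
    obtain ⟨i, hi, a, ha, rfl⟩ := hform x hx
    have h1 : b * t a * b⁻¹ * (t a)⁻¹ ∈ I :=
      hABI ⟨hBBA b hb _ (htB a), B.mul_mem (hBn _ (htB a) b) (B.inv_mem (htB a))⟩
    have e : b * (i * t a) * b⁻¹ = ((b * i * b⁻¹) * (b * t a * b⁻¹ * (t a)⁻¹)) * t a := by group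
    rw [e]
    exact hformmem _ (I.mul_mem (hI1 i hi) h1) a ha
  have hNstar : N ≤ normalizer ((I ⊔ T : Subgroup S) : Set S) := by
    apply H1.le_normalizer_of_forall
    intro n hn x hx
    obtain ⟨i, hi, a, ha, rfl⟩ := hform x hx
    have ha' : n * a * n⁻¹ ∈ A := hNA n hn a ha
    have hni : n * i * n⁻¹ ∈ I := ⟨hNA n hn i hi.1, hNA₁ n hn i hi.2⟩
    obtain ⟨w, hw⟩ : ∃ w, w = (n * (b⁻¹ * a⁻¹ * b) * n⁻¹) * (b⁻¹ * (n * a * n⁻¹)⁻¹ * b)⁻¹ := ⟨_, rfl⟩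
    have hwA₁ : w ∈ A₁ := by
      rw [hw]
      exact A₁.mul_mem (hNA₁ n hn _ (hcA₁ _ (A.inv_mem ha))) (A₁.inv_mem (hcA₁ _ (A.inv_mem ha')))
    have hwB : w ∈ B := by
      have e : w = (n * b⁻¹ * n⁻¹) * ((n * a⁻¹) * (b * (n⁻¹ * b⁻¹ * n⁻¹⁻¹)) * (n * a⁻¹)⁻¹) * b := by
        rw [hw]; group
      rw [e]
      exact B.mul_mem (B.mul_mem (hBn _ hbi n) (hBn _ (B.mul_mem hb (hBn _ hbi n⁻¹)) _)) hb
    have hwI : w ∈ I := by
      have h1 : b * w * b⁻¹ ∈ I := hABI ⟨(hmem₁ w).1 hwA₁, hBn w hwB b⟩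
      have h2 := hI2 _ h1
      have e : b⁻¹ * (b * w * b⁻¹) * b = w := by group
      rwa [e] at h2
    have hw' : (n * a * n⁻¹) * w * (n * a * n⁻¹)⁻¹ ∈ I :=
      ⟨A.mul_mem (A.mul_mem ha' hwI.1) (A.inv_mem ha'), hNA₁ _ (hAN ha') w hwI.2⟩
    have e : n * (i * t a) * n⁻¹ =
        ((n * i * n⁻¹) * ((n * a * n⁻¹) * w * (n * a * n⁻¹)⁻¹)) * t (n * a * n⁻¹) := by
      rw [hw, ht_def, ht_def]; group
    rw [e]
    exact hformmem _ (I.mul_mem hni hw') _ ha'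
  refine ⟨hcard, ⟨⟨fun x y => Subtype.ext (hstar_comm x x.2 y y.2)⟩⟩,
    fun w hw => le_sup_left (a := I) (hABI ⟨hBA hw, hBB hw⟩), ?_, ?_, ?_, hstarN, hbstar, ?_, ?_⟩
  · -- A ⊓ B < A* ⊓ B
    refine lt_of_le_of_ne (le_inf (hABI.trans le_sup_left) inf_le_right) ?_
    intro heq
    apply hbA
    have h1 : ∀ a ∈ A, b⁻¹ * a * b ∈ A := by
      intro a ha
      have h2 : t a⁻¹ ∈ A ⊓ B := by
        rw [heq]; exact ⟨le_sup_right (a := I) (htT _ (A.inv_mem ha)), htB _⟩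
      have e : b⁻¹ * a * b = a * t a⁻¹ := by rw [ht_def]; group
      rw [e]; exact A.mul_mem ha h2.1
    have h3 : b⁻¹ ∈ normalizer (A : Set S) := by
      apply mem_normalizer_of_conj_mem
      intro q hq
      simpa using h1 q hq
    simpa using inv_mem h3
  · refine lt_of_le_of_ne inf_le_right ?_
    intro heq
    exact hnot ((inf_eq_right.1 heq).trans hstarN)
  · apply H1.le_normalizer_of_forall
    intro a ha x hx
    obtain ⟨i, hi, c, hc, rfl⟩ := hform x hx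
    have e : a * (i * t c) * a⁻¹ = ((a * i * a⁻¹) * (a * t c * a⁻¹ * (t c)⁻¹)) * t c := by group
    rw [e]
    refine hformmem _ (I.mul_mem ⟨hNA a (hAN ha) i hi.1, hNA₁ a (hAN ha) i hi.2⟩ (hconj_t a ha c hc)) c hc
  · exact lt_of_le_of_ne hNstar (fun heq => hbA (heq ▸ hbstar))
  · intro hp2
    set e := Monoid.exponent A with he
    have hAe : ∀ a ∈ A, a ^ e = 1 := fun a ha =>
      congrArg Subtype.val (Monoid.pow_exponent_eq_one (⟨a, ha⟩ : A))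
    have hA₁e : ∀ y ∈ A₁, y ^ e = 1 := by
      intro y hy
      have h1 := hAe _ ((hmem₁ y).1 hy)
      rw [conj_pow] at h1
      have h2 : y ^ e = b⁻¹ * (b * y ^ e * b⁻¹) * b := by group
      rw [h2, h1]; group
    obtain ⟨k, hk⟩ := (hS.to_subgroup A).exists_card_eq
    have hedvd : e ∣ p ^ k := hk ▸ Group.exponent_dvd_nat_card
    obtain ⟨j, _, hj⟩ := (Nat.dvd_prime_pow hp).1 hedvd
    have hodd : Odd e := by
      rw [hj]; exact (hp.odd_of_ne_two hp2).pow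
    obtain ⟨m, hm⟩ := hodd
    have hch : e.choose 2 = e * m := by
      rw [Nat.choose_two_right]
      apply Nat.div_eq_of_eq_mul_left (by norm_num)
      have : e - 1 = 2 * m := by omega
      rw [this]; ring
    apply Monoid.exponent_dvd_of_forall_pow_eq_one
    rintro ⟨x, hx⟩
    apply Subtype.ext
    show x ^ e = 1
    obtain ⟨i, hi, a, ha, rfl⟩ := hform x hx
    have hy : b⁻¹ * a⁻¹ * b ∈ A₁ := hcA₁ _ (A.inv_mem ha)
    obtain ⟨y, hydef⟩ : ∃ y, y = b⁻¹ * a⁻¹ * b := ⟨_, rfl⟩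
    rw [← hydef] at hy
    have hcI : y * a * y⁻¹ * a⁻¹ ∈ I := by
      have h1 := I.inv_mem (hcommI a ha y hy)
      have e1 : (a * y * a⁻¹ * y⁻¹)⁻¹ = y * a * y⁻¹ * a⁻¹ := by group
      rwa [e1] at h1
    have h1 := H7.mul_pow_class2 (x := a) (y := y) (c := y * a * y⁻¹ * a⁻¹) (by group)
      (hAc _ hcI.1 a ha) (hA₁c _ hcI.2 y hy) e
    have hte : (t a) ^ e = 1 := by
      rw [ht_eq, ← hydef, h1, hAe a ha, hA₁e y hy, hch, pow_mul, hAe _ hcI.1]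
      simp
    rw [(show Commute i (t a) from hIt i hi a ha).mul_pow, hAe i hi.1, hte, one_mul]

end Cfsg.Agent.S0650
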