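import Cfsg.Statements.S0658
import Cfsg.Agent.Lib_helper8_FusDW

set_option autoImplicit false
open Cfsg

namespace Cfsg.Agent.S0658

/-- In a group of characteristic p type all of whose p-locals are p-stable (p odd), the normalizer of Z(J(P)) contains the normalizer of every nontrivial subgroup of the Sylow p-subgroup P. -/
theorem result {G : Type*} [Group G] [Finite G] {p : ℕ} [Fact p.Prime] (hp : p ≠ 2) (hloc : ∀ Q : Subgroup G, IsPGroup p Q → Q ≠ ⊥ → Cfsg.pPrimeCore p ↥(Subgroup.normalizer (Q : Set G)) = ⊥ ∧ Cfsg.IsPConstrained p ↥(Subgroup.normalizer (Q : Set G)) ∧ Cfsg.IsPStable p ↥(Subgroup.normalizer (Q : Set G))) (P : Sylow p G) (Q : Subgroup G) (hQP : Q ≤ (P : Subgroup G)) (hQ1 : Q ≠ ⊥) : Subgroup.normalizer (Q : Set G) ≤ Subgroup.normalizer (Cfsg.centerThompsonAOf ((P : Subgroup G)) : Set G) := by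
  open Cfsg.Agent.H8 Cfsg.FusionSystem in
  classical
  set M := Subgroup.normalizer (Cfsg.centerThompsonAOf (P : Subgroup G) : Set G) with hM
  have hPM : (P : Subgroup G) ≤ M :=
    Subgroup.le_normalizer.trans (normalizer_le_normalizer_ZJ _)
  have cle : ∀ {A B : Subgroup G}, A ≤ B → Nat.card A ≤ Nat.card B := fun h =>
    Subgroup.card_le_of_le h
  have clt : ∀ {A B : Subgroup G}, A < B → Nat.card A < Nat.card B := fun {A B} h => by
    by_contra hcon
    exact h.ne (Subgroup.eq_of_le_of_card_ge h.le (not_lt.1 hcon))
  have key : ∀ k : ℕ, ∀ Q : Subgroup G, Q ≤ P → Q ≠ ⊥ →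
      Nat.card (P : Subgroup G) - Nat.card (normalizerIn (P : Subgroup G) Q) = k →
      Subgroup.normalizer (Q : Set G) ≤ M := by
    intro k
    induction k using Nat.strong_induction_on with
    | _ k IH =>
      intro Q hQP hQ1 hk
      set R := normalizerIn (P : Subgroup G) Q with hR
      have hQp : IsPGroup p Q := P.2.to_le hQP
      obtain ⟨hO, hc, hs⟩ := hloc Q hQp hQ1
      have hRP : R ≤ P := inf_le_left
      have hRN : R ≤ Subgroup.normalizer (Q : Set G) := inf_le_right
      have hQR : Q ≤ R := le_normalizerIn hQP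
      have hR1 : R ≠ ⊥ := ne_bot_of_le_ne_bot hQ1 hQR
      by_cases hRP' : R = P
      · have hPN : (P : Subgroup G) ≤ Subgroup.normalizer (Q : Set G) := hRP' ▸ hRN
        exact local_le_normalizer_ZJ hp hO hc hs hPN (sylIn_of_sylow_le P hPN)
      · have hlt : R < P := lt_of_le_of_ne hRP hRP'
        have hlt2 : R < normalizerIn (P : Subgroup G) R := lt_normalizerIn P.2 hlt
        have hcRP := clt hlt
        have sub1 : ∀ C : Subgroup G, C ≤ P → C ≠ ⊥ →
            Subgroup.normalizer (R : Set G) ≤ Subgroup.normalizer (C : Set G) →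
            Subgroup.normalizer (C : Set G) ≤ M := by
          intro C hCP hC1 hle
          have h1 : normalizerIn (P : Subgroup G) R ≤ normalizerIn (P : Subgroup G) C :=
            inf_le_inf le_rfl hle
          have hcard : Nat.card R < Nat.card (normalizerIn (P : Subgroup G) C) :=
            (clt hlt2).trans_le (cle h1)
          have hcard2 : Nat.card (normalizerIn (P : Subgroup G) C) ≤ Nat.card (P : Subgroup G) :=
            cle inf_le_left
          exact IH _ (by omega) C hCP hC1 rfl
        by_cases hsyl : SylIn p R (Subgroup.normalizer (Q : Set G))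
        · have h1 := local_le_normalizer_ZJ hp hO hc hs hRN hsyl
          refine h1.trans (sub1 _ ((ZJ_le R).trans hRP) ?_ (normalizer_le_normalizer_ZJ R))
          have := ne_zero p G R (P.2.to_le hRP) hR1
          rwa [WE_zero] at this
        · obtain ⟨T, hRT, hTN, hT⟩ := exists_sylIn_ge hRN (P.2.to_le hRP)
          have hRT' : R < T := lt_of_le_of_ne hRT (fun h => hsyl (h ▸ hT))
          have hTp := hT.isPGroup hTN
          have hlt3 : R < normalizerIn T R := lt_normalizerIn hTp hRT'
          have hR1M : normalizerIn T R ≤ M := inf_le_right.trans (sub1 R hRP hR1 le_rfl)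
          obtain ⟨m, hmM, hm⟩ := sylow_conj (sylIn_of_sylow_le P hPM) hR1M (hTp.to_le inf_le_left)
          have hQ'P : cjs m Q ≤ P := by
            rintro _ ⟨y, hy, rfl⟩; exact hm y (hlt3.le (hQR hy))
          have hQ'1 : cjs m Q ≠ ⊥ := by
            intro h
            apply hQ1
            have h1 := card_cjs m Q
            rw [h, Subgroup.card_bot] at h1
            exact Subgroup.card_eq_one.1 h1.symm
          have h2 : cjs m (normalizerIn T R) ≤ normalizerIn (P : Subgroup G) (cjs m Q) := by
            refine le_inf ?_ ?_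
            · rintro _ ⟨y, hy, rfl⟩; exact hm y hy
            · rw [← cjs_normalizer]; exact cjs_mono (inf_le_left.trans hTN)
          have hcard : Nat.card R < Nat.card (normalizerIn (P : Subgroup G) (cjs m Q)) := by
            have := cle h2
            rw [card_cjs] at this
            exact (clt hlt3).trans_le this
          have hcard2 : Nat.card (normalizerIn (P : Subgroup G) (cjs m Q)) ≤
              Nat.card (P : Subgroup G) := cle inf_le_left
          have h3 := IH _ (by omega) (cjs m Q) hQ'P hQ'1 rfl
          rw [← cjs_normalizer] at h3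
          intro x hx
          have h4 := h3 (cj_mem_cjs hx)
          have h5 := M.mul_mem (M.mul_mem (M.inv_mem hmM) h4) hmM
          simpa [mul_assoc] using h5
  exact key _ Q hQP hQ1 rfl

end Cfsg.Agent.S0658
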