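import Cfsg.Statements.S0721
import Mathlib
import Cfsg.Agent.Lib_helper3_CharSimple

set_option autoImplicit false
open Cfsg

namespace Cfsg.Agent.S0721

/-- A minimal normal subgroup of a finite group is isomorphic to a direct power `T ^ m` of a simple group `T` (possibly of prime order). -/
theorem result {H : Type*} [Group H] [Finite H] (N : Subgroup H) [N.Normal] (hN : N ≠ ⊥) (hmin : ∀ M : Subgroup H, M.Normal → M ≤ N → M = ⊥ ∨ M = N) : ∃ (T : Type) (_ : Group T) (m : ℕ), IsSimpleGroup T ∧ 0 < m ∧ Nonempty (N ≃* (Fin m → T)) := by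
  haveI : Nontrivial N := (Subgroup.nontrivial_iff_ne_bot N).mpr hN
  apply Cfsg.Agent.H3.power_of_simple (MulAut.conjNormal (H := N)).range
  intro K hK hinv
  have hn : (K.map N.subtype).Normal := by
    refine ⟨?_⟩
    rintro _ ⟨x, hx, rfl⟩ g
    have := hinv (MulAut.conjNormal g) ⟨g, rfl⟩ ⟨x, hx, rfl⟩
    exact ⟨_, this, rfl⟩
  rcases hmin _ hn (Subgroup.map_subtype_le K) with h1 | h1
  · left
    exact (Subgroup.map_eq_bot_iff_of_injective _ N.subtype_injective).mp h1
  · right
    rw [eq_top_iff]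
    intro x _
    have : (x : H) ∈ K.map N.subtype := by rw [h1]; exact x.2
    obtain ⟨y, hy, hyx⟩ := this
    have : y = x := Subtype.ext hyx
    rwa [← this]

end Cfsg.Agent.S0721
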