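import Cfsg.Statements.S0994
import Mathlib
import Cfsg.Agent.Lib_helper3_SylNum

set_option autoImplicit false
open Cfsg

namespace Cfsg.Agent.S0994

/-- No finite simple group has order 1188 = 2^2 * 3^3 * 11. -/
theorem result {G : Type*} [Group G] [Finite G] [IsSimpleGroup G] : Nat.card G ≠ 1188 := by
  intro hG
  haveI : Fact (Nat.Prime 11) := ⟨by norm_num⟩
  obtain ⟨F⟩ : Nonempty (Sylow 11 G) := inferInstance
  have hF : Nat.card F = 11 := by
    rw [F.card_eq_multiplicity, hG]
    have : (1188 : ℕ) = 11 * 108 := by norm_num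
    rw [this, Nat.factorization_mul (by norm_num) (by norm_num), Finsupp.add_apply,
      Nat.Prime.factorization_self (by norm_num),
      Nat.factorization_eq_zero_of_not_dvd (by norm_num), pow_one]
  have hidx : (F : Subgroup G).index = 108 := by
    have h := (F : Subgroup G).index_mul_card
    rw [hF, hG] at h
    omega
  have hn1 : Nat.card (Sylow 11 G) ≡ 1 [MOD 11] := card_sylow_modEq_one 11 G
  have hn2 : Nat.card (Sylow 11 G) ∣ 108 := by rw [← hidx]; exact F.card_dvd_index
  have hn3 : Nat.card (Sylow 11 G) = (Subgroup.normalizer ((F : Subgroup G) : Set G)).index :=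
    F.card_eq_index_normalizer
  have hn : Nat.card (Sylow 11 G) = 1 ∨ Nat.card (Sylow 11 G) = 12 := by
    have hmem : Nat.card (Sylow 11 G) ∈ Nat.divisors 108 := Nat.mem_divisors.mpr ⟨hn2, by norm_num⟩
    have hdiv : Nat.divisors 108 = {1, 2, 3, 4, 6, 9, 12, 18, 27, 36, 54, 108} := by decide +kernel
    rw [hdiv] at hmem
    simp only [Finset.mem_insert, Finset.mem_singleton] at hmem
    unfold Nat.ModEq at hn1
    rcases hmem with h | h | h | h | h | h | h | h | h | h | h | h <;> rw [h] at hn1 <;>
      first
        | exact Or.inl h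
        | exact Or.inr h
        | (exfalso; revert hn1; norm_num)
  rcases hn with hn | hn
  · -- `F` is normal
    rw [hn3, Subgroup.index_eq_one, Subgroup.normalizer_eq_top_iff] at hn
    rcases hn.eq_bot_or_eq_top with h | h
    · rw [h, Subgroup.card_bot] at hF; omega
    · rw [h, Subgroup.card_top, hG] at hF; omega
  · have hN : Nat.card (Subgroup.normalizer ((F : Subgroup G) : Set G)) = 99 := by
      have h := (Subgroup.normalizer ((F : Subgroup G) : Set G)).index_mul_card
      rw [← hn3, hn, hG] at h
      omega
    have h1 := H3.relIndex_centralizer_normalizer_dvd 11 (F : Subgroup G) hF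
    have h2 : (Subgroup.centralizer ((F : Subgroup G) : Set G)).relIndex
        (Subgroup.normalizer ((F : Subgroup G) : Set G)) ∣ 99 := by
      rw [← hN]
      exact Subgroup.relIndex_dvd_card _ _
    have h3 : Subgroup.normalizer ((F : Subgroup G) : Set G) ≤
        Subgroup.centralizer ((F : Subgroup G) : Set G) :=
      Subgroup.relIndex_eq_one.1 (Nat.eq_one_of_dvd_coprimes (by norm_num : Nat.Coprime 99 (11 - 1)) h2 h1)
    have h4 := MonoidHom.ker_transferSylow_isComplement' F h3
    have h5 := h4.card_mul_card
    rcases (MonoidHom.normal_ker (MonoidHom.transferSylow F h3)).eq_bot_or_eq_top with h | h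
    · rw [h, Subgroup.card_bot, hF, hG] at h5; omega
    · rw [h, Subgroup.card_top, hF, hG] at h5; omega

end Cfsg.Agent.S0994
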