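import Cfsg.Statements.S1249
import Cfsg.Agent.Lib_helper5_Sylow

set_option autoImplicit false
open Cfsg

namespace Cfsg.Agent.S1249


/-- Let P and Q be Sylow p-subgroups of the finite group G both containing the subgroup A. If A is strongly closed in P, then A is strongly closed in Q. -/
theorem result {G : Type*} [Group G] [Finite G] {p : ℕ} [Fact p.Prime] (P Q : Sylow p G) (A : Subgroup G) (hAQ : A ≤ Q) (hA : Cfsg.IsStronglyClosed A (P : Subgroup G)) : Cfsg.IsStronglyClosed A (Q : Subgroup G) := by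
  obtain ⟨hAP, hsc⟩ := hA
  refine ⟨hAQ, ?_⟩
  obtain ⟨a, ha⟩ := MulAction.exists_smul_eq G Q P
  -- a Q a⁻¹ = P
  have hQP : ∀ x ∈ Q, a * x * a⁻¹ ∈ P := fun x hx => ha ▸ H5.conj_mem_smul_sylow Q a x hx
  -- a A a⁻¹ ≤ A
  have h1 : A.map (MulAut.conj a).toMonoidHom ≤ A := by
    rintro _ ⟨x, hx, rfl⟩
    exact hsc x hx a (hQP x (hAQ hx))
  have h2 : A.map (MulAut.conj a).toMonoidHom = A := by
    apply Subgroup.eq_of_le_of_card_ge h1
    rw [Subgroup.card_map_of_injective (MulAut.conj a).injective]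
  intro x hx g hg
  have h3 : (a * g) * x * (a * g)⁻¹ ∈ A := by
    apply hsc x hx
    have : (a * g) * x * (a * g)⁻¹ = a * (g * x * g⁻¹) * a⁻¹ := by group
    rw [this]
    exact hQP _ hg
  rw [← h2, H5.mem_conj_map] at h3
  have : a⁻¹ * ((a * g) * x * (a * g)⁻¹) * a = g * x * g⁻¹ := by group
  rwa [this] at h3

end Cfsg.Agent.S1249
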