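import Cfsg.Statements.S1250
import Cfsg.Agent.Lib_helper5_Sylow

set_option autoImplicit false
open Cfsg

namespace Cfsg.Agent.S1250


/-- Let S be a Sylow p-subgroup of the finite group G, A ≤ S strongly closed in S, and N a normal subgroup. Then the image of A in G ⧸ N is strongly closed in the image of S (which is a Sylow p-subgroup of G ⧸ N). -/
theorem result {G : Type*} [Group G] [Finite G] {p : ℕ} [Fact p.Prime] (S : Sylow p G) (A : Subgroup G) (hA : Cfsg.IsStronglyClosed A (S : Subgroup G)) (N : Subgroup G) [N.Normal] : Cfsg.IsStronglyClosed (A.map (QuotientGroup.mk' N)) ((S : Subgroup G).map (QuotientGroup.mk' N)) := by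
  obtain ⟨hAS, hsc⟩ := hA
  refine ⟨Subgroup.map_mono hAS, ?_⟩
  rintro _ ⟨x, hx, rfl⟩ q hq
  obtain ⟨g, rfl⟩ := QuotientGroup.mk_surjective q
  obtain ⟨s, hs, hsq⟩ := hq
  set y := g * x * g⁻¹ with hy
  have hyq : (QuotientGroup.mk' N) y = QuotientGroup.mk g * (QuotientGroup.mk' N) x * (QuotientGroup.mk g)⁻¹ := by
    rw [hy]; simp
  rw [← hyq] at hsq ⊢
  -- y ∈ S ⊔ N
  set M := (S : Subgroup G) ⊔ N with hM
  have hyM : y ∈ M := by
    have h1 : s⁻¹ * y ∈ N := by
      rw [← QuotientGroup.eq]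
      exact hsq
    have h2 : y = s * (s⁻¹ * y) := by group
    rw [h2]
    exact M.mul_mem ((le_sup_left : (S : Subgroup G) ≤ M) hs) ((le_sup_right : N ≤ M) h1)
  -- y is a p-element
  have hyp : IsPGroup p (Subgroup.zpowers (⟨y, hyM⟩ : M)) := by
    obtain ⟨k, hk⟩ := (IsPGroup.iff_orderOf.1 S.2) ⟨x, hAS hx⟩
    rw [Subgroup.orderOf_mk] at hk
    apply IsPGroup.of_card (n := k)
    rw [Nat.card_zpowers, Subgroup.orderOf_mk, ← hk]
    exact (MulAut.conj g).orderOf_eq x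
  let S' : Sylow p M := S.subtype le_sup_left
  obtain ⟨c, hc⟩ := H5.exists_conj_mem_sylow S' _ hyp
  have h6 := hc ⟨y, hyM⟩ (Subgroup.mem_zpowers _)
  have h7 : (c : G) * y * (c : G)⁻¹ ∈ S := by
    have : (c * ⟨y, hyM⟩ * c⁻¹ : M) ∈ (S : Subgroup G).subgroupOf M := h6
    exact Subgroup.mem_subgroupOf.1 this
  -- decompose c = s' * n
  have hcM : (c : G) ∈ ((S : Subgroup G) ⊔ N : Subgroup G) := c.2
  rw [← SetLike.mem_coe, Subgroup.mul_normal] at hcM
  obtain ⟨s', hs', n, hn, hsn⟩ := hcM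
  have h8 : n * y * n⁻¹ ∈ S := by
    have : n * y * n⁻¹ = s'⁻¹ * ((c : G) * y * (c : G)⁻¹) * s' := by
      rw [← hsn]; simp only []; group
    rw [this]
    exact (S : Subgroup G).mul_mem ((S : Subgroup G).mul_mem ((S : Subgroup G).inv_mem hs') h7) hs'
  have h9 : (n * g) * x * (n * g)⁻¹ ∈ A := by
    apply hsc x hx
    have : (n * g) * x * (n * g)⁻¹ = n * y * n⁻¹ := by rw [hy]; group
    rw [this]; exact h8
  refine ⟨_, h9, ?_⟩
  have hn1 : (QuotientGroup.mk' N) n = 1 := (QuotientGroup.eq_one_iff n).2 hn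
  have : (n * g) * x * (n * g)⁻¹ = n * y * n⁻¹ := by rw [hy]; group
  rw [this, map_mul, map_mul, map_inv, hn1]
  simp

end Cfsg.Agent.S1250
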