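import Cfsg.Statements.S1293
import Cfsg.Agent.Lib_helper5_PComp4

set_option autoImplicit false
open Cfsg

namespace Cfsg.Agent.S1293

open Cfsg.Agent.H5

theorem aux {G : Type*} [Group G] [Finite G] (p : ℕ) [Fact p.Prime]
    (hL : Cfsg.pLayer p G = ⊥) (P N : Subgroup G) (hN : N = Subgroup.normalizer (P : Set G))
    (hP : IsPGroup p ↥P) :
    Cfsg.pLayer p ↥N = ⊥ ∧ (Cfsg.pPrimeCore p ↥N).map N.subtype ≤ Cfsg.pPrimeCore p G := by
  set O := Cfsg.pPrimeCore p G with hO
  have hOc : (Nat.card O).Coprime p := H1.card_pPrimeCore_coprime p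
  have hchar : CharPIn p (N.map (QuotientGroup.mk' O)) := by
    have h1 := (charPIn_top_quotient_of_pLayer_eq_bot hL).normalizer
      (X := P.map (QuotientGroup.mk' O)) le_top (hP.map _)
    rw [top_inf_eq, ← map_normalizer_of_coprime O hOc P hP, ← hN] at h1
    exact h1
  have hW : (Cfsg.pPrimeCore p ↥N).map N.subtype ≤ O := by
    rw [← QuotientGroup.ker_mk' O, ← Subgroup.map_eq_bot_iff]
    apply hchar.coprime_normal_eq_bot
    · exact Subgroup.map_mono (Subgroup.map_subtype_le _)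
    · exact (Subgroup.map_mono (le_normalizer_map_subtype _ (H1.pPrimeCore_normal p))).trans
        (Subgroup.le_normalizer_map _)
    · have h1 : Nat.card ↥(((Cfsg.pPrimeCore p ↥N).map N.subtype).map (QuotientGroup.mk' O)) ∣
          Nat.card ↥((Cfsg.pPrimeCore p ↥N).map N.subtype) := Subgroup.card_map_dvd _ _
      rw [Nat.card_congr ((Cfsg.pPrimeCore p ↥N).equivMapOfInjective N.subtype
        N.subtype_injective).symm.toEquiv] at h1
      exact (H1.card_pPrimeCore_coprime (G := ↥N) p).coprime_dvd_left h1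
  refine ⟨?_, hW⟩
  have hmem : ∀ x : ↥N, x ∈ Cfsg.pPrimeCore p ↥N ↔ (x : G) ∈ Cfsg.pPrimeCore p G := by
    intro x
    constructor
    · intro hx
      exact hW ⟨x, hx, rfl⟩
    · intro hx
      have h1 : (O.subgroupOf N) ≤ Cfsg.pPrimeCore p ↥N := by
        apply H1.le_pPrimeCore p inferInstance
        have h2 : Nat.card ↥(O.subgroupOf N) ∣ Nat.card O := by
          rw [← Subgroup.inf_subgroupOf_right, Nat.card_congr (Subgroup.subgroupOfEquivOfLe
            (inf_le_right : O ⊓ N ≤ N)).toEquiv]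
          exact Subgroup.card_dvd_of_le inf_le_left
        exact hOc.coprime_dvd_left h2
      exact h1 (Subgroup.mem_subgroupOf.2 hx)
  apply pLayer_eq_bot_of_layer_quotient
  apply layer_eq_bot_of_mulEquiv (quotientPPrimeCoreEquiv' p N hmem).symm
  exact layer_eq_bot_of_genFitting_eq_pCore ((charPIn_iff_genFitting p _).1 hchar)

/-- Let G be finite with L_{p'}(G) = 1, and H = N_G(P) for a nontrivial p-subgroup P. Then L_{p'}(H) = 1 and O_{p'}(H) ≤ O_{p'}(G). -/
theorem result {G : Type*} [Group G] [Finite G] (p : ℕ) [Fact p.Prime] (hL : Cfsg.pLayer p G = ⊥) (P : Subgroup G) (hP : IsPGroup p ↥P) (hP1 : P ≠ ⊥) : Cfsg.pLayer p ↥(Subgroup.normalizer (P : Set G)) = ⊥ ∧ (Cfsg.pPrimeCore p ↥(Subgroup.normalizer (P : Set G))).map (Subgroup.normalizer (P : Set G)).subtype ≤ Cfsg.pPrimeCore p G := by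
  exact aux p hL P _ rfl hP

end Cfsg.Agent.S1293
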