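import Mathlib
import Cfsg.Statements.S3939
import Mathlib
import Cfsg.Agent.Lib_helper1_MinAct4
import Cfsg.Agent.Lib_helper1_Wielandt
import Cfsg.Agent.Lib_helper1_PNilp3

set_option autoImplicit false
open Cfsg

namespace Cfsg.Agent.S3939

open Cfsg.Agent.H1
open scoped Pointwise commutatorElement

theorem commute_of_nilpotent {H : Type*} [Group H] [Finite H] [Group.IsNilpotent H] {p : ℕ}
    [Fact p.Prime] {a x : H} {k : ℕ} (ha : a ^ p ^ k = 1) (hx : (orderOf x).Coprime p) :
    Commute a x := by
  obtain ⟨P, hP⟩ := (isPGroup_zpowers_of_pow_eq_one ha).exists_le_sylow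
  have hPn : (P : Subgroup H).Normal := hall_normal_of_nilpotent _ P.card_coprime_index
  have h1 : ⁅(P : Subgroup H), Subgroup.zpowers x⁆ = ⊥ := by
    apply commutator_eq_bot_of_nilpotent_coprime (S := ⊤) inferInstance le_top le_top
    · rw [Subgroup.normalizer_eq_top]; exact le_top
    · rw [Nat.card_zpowers]
      obtain ⟨n, hn⟩ := P.isPGroup'.exists_card_eq
      rw [hn]
      exact Nat.Coprime.pow_right _ hx
    · left; infer_instance
  rw [Subgroup.commutator_eq_bot_iff_le_centralizer] at h1
  have h2 := h1 (hP (Subgroup.mem_zpowers a))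
  rw [Subgroup.mem_centralizer_iff] at h2
  exact (h2 x (Subgroup.mem_zpowers x)).symm

theorem commute_of_closure_nilpotent {G : Type*} [Group G] [Finite G] {p : ℕ}
    [Fact p.Prime] {a x : G} (h : Group.IsNilpotent ↥(Subgroup.closure ({x, a} : Set G)))
    {k : ℕ} (ha : a ^ p ^ k = 1) (hx : (orderOf x).Coprime p) :
    Commute a x := by
  have hxm : x ∈ Subgroup.closure ({x, a} : Set G) := Subgroup.subset_closure (by simp)
  have ham : a ∈ Subgroup.closure ({x, a} : Set G) := Subgroup.subset_closure (by simp)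
  have h1 : Commute (⟨a, ham⟩ : ↥(Subgroup.closure ({x, a} : Set G))) ⟨x, hxm⟩ := by
    apply commute_of_nilpotent (p := p) (k := k)
    · ext; simpa using ha
    · rw [Subgroup.orderOf_mk]; exact hx
  have h2 := congrArg Subtype.val h1.eq
  exact h2

/-- an element commuting with all `p'`-elements: `G = P * C(x)`. -/
theorem fact_of_commute {G : Type*} [Group G] [Finite G] {p : ℕ} [Fact p.Prime] (P : Sylow p G)
    {x : G} (hx : ∀ y : G, (orderOf y).Coprime p → Commute x y) (g : G) :
    ∃ s ∈ (P : Subgroup G), ∃ c : G, Commute x c ∧ g = s * c := by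
  have hp : p.Prime := Fact.out
  have h1 : Nat.Coprime (P : Subgroup G).index (Subgroup.centralizer {x}).index := by
    apply Nat.coprime_of_dvd
    intro q hq hqP hqC
    have : Fact q.Prime := ⟨hq⟩
    have hqp : q ≠ p := by
      rintro rfl
      exact P.not_dvd_index hqP
    obtain ⟨Q⟩ : Nonempty (Sylow q G) := inferInstance
    have hQ : (Q : Subgroup G) ≤ Subgroup.centralizer {x} := by
      intro y hy
      rw [Subgroup.mem_centralizer_singleton_iff]
      apply (hx y _).symm.eq
      obtain ⟨n, hn⟩ := (Q.isPGroup' ⟨y, hy⟩)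
      have hn' : y ^ q ^ n = 1 := by
        have := congrArg Subtype.val hn
        simpa using this
      have h2 : orderOf y ∣ q ^ n := orderOf_dvd_of_pow_eq_one hn'
      exact Nat.Coprime.coprime_dvd_left h2
        (Nat.Coprime.pow_left _ ((Nat.coprime_primes hq hp).mpr hqp))
    exact Q.not_dvd_index (hqC.trans (Subgroup.index_dvd_of_le hQ))
  obtain ⟨s, hs, c, hc, hg⟩ := isFact_of_coprime_index h1 g
  refine ⟨s, hs, c, ?_, hg⟩
  rw [Subgroup.mem_centralizer_singleton_iff] at hc
  exact hc.symm

theorem mem_ucs_of_commute {G : Type*} [Group G] [Finite G] {p : ℕ} [Fact p.Prime] (P : Sylow p G) :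
    ∀ (n : ℕ) (x : (P : Subgroup G)), x ∈ Subgroup.upperCentralSeries (P : Subgroup G) n →
      (∀ y : G, (orderOf y).Coprime p → Commute (x : G) y) →
      (x : G) ∈ Subgroup.upperCentralSeries G n := by
  intro n
  induction n with
  | zero =>
    intro x hx _
    simp only [Subgroup.upperCentralSeries_zero, Subgroup.mem_bot] at hx ⊢
    rw [hx]; rfl
  | succ n ih =>
    intro x hx hc
    rw [Subgroup.mem_upperCentralSeries_succ_iff] at hx ⊢
    intro g
    obtain ⟨s, hs, c, hcc, rfl⟩ := fact_of_commute P hc g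
    have h1 := ih _ (hx ⟨s, hs⟩) ?_
    · have h2 : ⁅(x : G), s * c⁆ = ((⁅x, (⟨s, hs⟩ : (P : Subgroup G))⁆ : (P : Subgroup G)) : G) := by
        rw [commutatorElement_def, commutatorElement_def]
        change (x : G) * (s * c) * (x : G)⁻¹ * (s * c)⁻¹ = (x : G) * s * (x : G)⁻¹ * s⁻¹
        have h3 : c * (x : G)⁻¹ = (x : G)⁻¹ * c := (hcc.inv_left.eq).symm
        calc (x : G) * (s * c) * (x : G)⁻¹ * (s * c)⁻¹
            = (x : G) * s * (c * (x : G)⁻¹) * c⁻¹ * s⁻¹ := by group
          _ = (x : G) * s * (x : G)⁻¹ * s⁻¹ := by rw [h3]; group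
      rw [h2]
      exact h1
    · intro y hy
      rw [commutatorElement_def]
      change Commute ((x : G) * s * (x : G)⁻¹ * s⁻¹) y
      have h3 : Commute (x : G) (s⁻¹ * y * s) := by
        apply hc
        have : orderOf (s⁻¹ * y * s) = orderOf y := by
          have := (MulAut.conj s⁻¹).orderOf_eq y
          rwa [MulAut.conj_apply, inv_inv] at this
        rw [this]; exact hy
      have h4 : Commute (s * (x : G)⁻¹ * s⁻¹) y := by
        have h5 := h3.inv_left.eq
        change s * (x : G)⁻¹ * s⁻¹ * y = y * (s * (x : G)⁻¹ * s⁻¹)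
        calc s * (x : G)⁻¹ * s⁻¹ * y = s * ((x : G)⁻¹ * (s⁻¹ * y * s)) * s⁻¹ := by group
          _ = s * ((s⁻¹ * y * s) * (x : G)⁻¹) * s⁻¹ := by rw [h5]
          _ = y * (s * (x : G)⁻¹ * s⁻¹) := by group
      have h6 : (x : G) * s * (x : G)⁻¹ * s⁻¹ = (x : G) * (s * (x : G)⁻¹ * s⁻¹) := by group
      rw [h6]
      exact (hc y hy).mul_left h4

theorem mem_hyper_of_p {G : Type*} [Group G] [Finite G] {p : ℕ} [Fact p.Prime] {a : G} {k : ℕ}
    (ha : a ^ p ^ k = 1)
    (h : ∀ x : G, Group.IsNilpotent ↥(Subgroup.closure ({x, a} : Set G))) :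
    a ∈ ⨆ n : ℕ, Subgroup.upperCentralSeries G n := by
  obtain ⟨P, hP⟩ := (isPGroup_zpowers_of_pow_eq_one ha).exists_le_sylow
  have haP : a ∈ (P : Subgroup G) := hP (Subgroup.mem_zpowers a)
  have hnil : Group.IsNilpotent (P : Subgroup G) := P.isPGroup'.isNilpotent
  obtain ⟨n, hn⟩ := hnil.nilpotent'
  have h1 := mem_ucs_of_commute P n ⟨a, haP⟩ (by rw [hn]; exact Subgroup.mem_top _)
    (fun y hy => commute_of_closure_nilpotent (h y) ha hy)
  exact Subgroup.mem_iSup_of_mem n h1

theorem mem_hyper_aux {G : Type*} [Group G] [Finite G] : ∀ (m : ℕ) (g : G), orderOf g = m →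
    (∀ x : G, Group.IsNilpotent ↥(Subgroup.closure ({x, g} : Set G))) →
    g ∈ ⨆ n : ℕ, Subgroup.upperCentralSeries G n := by
  intro m
  induction m using Nat.strong_induction_on with
  | _ m ih =>
    intro g hg h
    by_cases h1 : m = 1
    · rw [h1, orderOf_eq_one_iff] at hg
      rw [hg]; exact one_mem _
    · obtain ⟨p, hp, hpm⟩ := Nat.exists_prime_and_dvd h1
      have : Fact p.Prime := ⟨hp⟩
      obtain ⟨a, ha, b, hb, hab, ⟨k, hk⟩, hcop⟩ := exists_p_decomposition p g
      have hsub : ∀ c ∈ Subgroup.zpowers g, ∀ x : G,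
          Group.IsNilpotent ↥(Subgroup.closure ({x, c} : Set G)) := by
        intro c hc x
        apply isNilpotent_of_le _ (h x)
        rw [Subgroup.closure_le]
        rintro y (rfl | rfl)
        · exact Subgroup.subset_closure (by simp)
        · have : Subgroup.zpowers g ≤ Subgroup.closure ({x, g} : Set G) := by
            rw [Subgroup.zpowers_le]
            exact Subgroup.subset_closure (by simp)
          exact this hc
      rw [hab]
      apply mul_mem
      · exact mem_hyper_of_p hk (hsub a ha)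
      · apply ih (orderOf b) _ b rfl (hsub b hb)
        have h2 : orderOf b ∣ m := by
          rw [← hg]
          exact orderOf_dvd_of_mem_zpowers hb
        have hm0 : 0 < m := by rw [← hg]; exact orderOf_pos g
        apply lt_of_le_of_ne (Nat.le_of_dvd hm0 h2)
        intro h3
        rw [h3] at hcop
        exact hp.one_lt.ne' (Nat.eq_one_of_dvd_coprimes hcop hpm dvd_rfl)

theorem ucs_inf_le {G : Type*} [Group G] (H : Subgroup G) : ∀ (n : ℕ) (y : H),
    (y : G) ∈ Subgroup.upperCentralSeries G n → y ∈ Subgroup.upperCentralSeries H n := by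
  intro n
  induction n with
  | zero =>
    intro y hy
    simp only [Subgroup.upperCentralSeries_zero, Subgroup.mem_bot] at hy ⊢
    ext; exact hy
  | succ n ih =>
    intro y hy
    rw [Subgroup.mem_upperCentralSeries_succ_iff] at hy ⊢
    intro z
    apply ih
    exact hy z

/-- In a finite group G the set of elements g such that the subgroup generated by g and x is nilpotent for every x ∈ G is exactly the hypercenter of G (the last term of the upper central series). -/
theorem result {G : Type*} [Group G] [Finite G] (g : G) :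
    (∀ x : G, Group.IsNilpotent ↥(Subgroup.closure ({x, g} : Set G))) ↔ g ∈ ⨆ n : ℕ, Subgroup.upperCentralSeries G n := by
  constructor
  · intro h
    exact mem_hyper_aux _ g rfl h
  · intro hg x
    have hmono : Monotone (Subgroup.upperCentralSeries G) := Subgroup.upperCentralSeries_mono G
    obtain ⟨n, hn⟩ := (Subgroup.mem_iSup_of_directed hmono.directed_le).mp hg
    set H := Subgroup.closure ({x, g} : Set G) with hH
    have hxm : x ∈ H := Subgroup.subset_closure (by simp)
    have hgm : g ∈ H := Subgroup.subset_closure (by simp)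
    have hgZ : (⟨g, hgm⟩ : H) ∈ Subgroup.upperCentralSeries H n := ucs_inf_le H n ⟨g, hgm⟩ hn
    have hN : (Subgroup.upperCentralSeries H n).Normal := inferInstance
    have hxZ : (⟨x, hxm⟩ : H) ∈ Subgroup.upperCentralSeries H (n + 1) := by
      rw [Subgroup.mem_upperCentralSeries_succ_iff]
      intro z
      have hz : z ∈ Subgroup.closure (((↑) : H → G) ⁻¹' ({x, g} : Set G)) := by
        rw [Subgroup.closure_closure_coe_preimage]; exact Subgroup.mem_top _
      induction hz using Subgroup.closure_induction with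
      | mem y hy =>
        rcases hy with hy | hy
        · have : y = ⟨x, hxm⟩ := Subtype.ext hy
          rw [this, commutatorElement_self]
          exact one_mem _
        · have : y = ⟨g, hgm⟩ := Subtype.ext hy
          rw [this, commutatorElement_def]
          have e : (⟨x, hxm⟩ : H) * ⟨g, hgm⟩ * (⟨x, hxm⟩ : H)⁻¹ * (⟨g, hgm⟩ : H)⁻¹ =
            ((⟨x, hxm⟩ : H) * ⟨g, hgm⟩ * (⟨x, hxm⟩ : H)⁻¹) * (⟨g, hgm⟩ : H)⁻¹ := rfl
          rw [e]
          exact mul_mem (hN.conj_mem _ hgZ _) (inv_mem hgZ)
      | one => rw [commutatorElement_one_right]; exact one_mem _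
      | mul a b _ _ iha ihb =>
        have e : ⁅(⟨x, hxm⟩ : H), a * b⁆ = ⁅(⟨x, hxm⟩ : H), a⁆ * (a * ⁅(⟨x, hxm⟩ : H), b⁆ * a⁻¹) := by
          simp only [commutatorElement_def]; group
        rw [e]
        exact mul_mem iha (hN.conj_mem _ ihb _)
      | inv a _ iha =>
        have e : ⁅(⟨x, hxm⟩ : H), a⁻¹⁆ = a⁻¹ * ⁅(⟨x, hxm⟩ : H), a⁆⁻¹ * a⁻¹⁻¹ := by
          simp only [commutatorElement_def]; group
        rw [e]
        exact hN.conj_mem _ (inv_mem iha) _
    have hgZ' : (⟨g, hgm⟩ : H) ∈ Subgroup.upperCentralSeries H (n + 1) :=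
      Subgroup.upperCentralSeries_mono H (Nat.le_succ n) hgZ
    refine ⟨n + 1, ?_⟩
    rw [eq_top_iff, ← Subgroup.closure_closure_coe_preimage, Subgroup.closure_le]
    intro y hy
    rcases hy with hy | hy
    · have : y = ⟨x, hxm⟩ := Subtype.ext hy
      rw [this]; exact hxZ
    · have : y = ⟨g, hgm⟩ := Subtype.ext hy
      rw [this]; exact hgZ'

end Cfsg.Agent.S3939
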