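import Cfsg.Statements.S1477
import Cfsg.Agent.S3939
import Cfsg.Agent.Lib_helper5_PGrp

set_option autoImplicit false
open Cfsg

namespace Cfsg.Agent.S1477

open Subgroup

theorem eq_top_of_sylow {X : Type*} [Group X] [Finite X] (K : Subgroup X)
    (h : ∀ (q : ℕ) [Fact q.Prime], ∃ Q : Sylow q X, (Q : Subgroup X) ≤ K) : K = ⊤ := by
  rw [← index_eq_one, Nat.eq_one_iff_not_exists_prime_dvd]
  intro q hq hdvd
  haveI : Fact q.Prime := ⟨hq⟩
  obtain ⟨Q, hQ⟩ := h q
  exact Q.not_dvd_index (hdvd.trans (index_dvd_of_le hQ))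

theorem comm_in {G : Type*} [Group G] [Finite G] {C : Subgroup G} (hC : Group.IsNilpotent C)
    {p : ℕ} [Fact p.Prime] {a x : G} (ha : a ∈ C) (hx : x ∈ C) {k : ℕ} (hak : a ^ p ^ k = 1)
    (hxp : (orderOf x).Coprime p) : a * x = x * a := by
  have h1 : Commute (⟨a, ha⟩ : C) ⟨x, hx⟩ := by
    apply Cfsg.Agent.S3939.commute_of_nilpotent (p := p) (k := k)
    · ext; simpa using hak
    · rw [Subgroup.orderOf_mk]; exact hxp
  exact congrArg Subtype.val h1.eq

theorem le_of_prime_pow_mem {G : Type*} [Group G] [Finite G] (C K : Subgroup G)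
    (h : ∀ (r : ℕ) [Fact r.Prime], ∀ e ∈ C, ∀ j : ℕ, orderOf e = r ^ j → e ∈ K) : C ≤ K := by
  have : K.subgroupOf C = ⊤ := by
    apply eq_top_of_sylow
    intro r _
    refine ⟨default, ?_⟩
    intro e he
    obtain ⟨j, hj⟩ := (IsPGroup.iff_orderOf.mp (default : Sylow r C).isPGroup') ⟨e, he⟩
    rw [Subgroup.orderOf_mk] at hj
    rw [mem_subgroupOf]
    exact h r e e.2 j (by rw [Subgroup.orderOf_coe]; exact hj)
  exact subgroupOf_eq_top.mp this

theorem mem_sylow_of_nilpotent {X : Type*} [Group X] [Finite X] [Group.IsNilpotent X] {p : ℕ}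
    [Fact p.Prime] (P : Sylow p X) {e : X} {j : ℕ} (he : orderOf e = p ^ j) :
    e ∈ (P : Subgroup X) := by
  have h1 : IsPGroup p (zpowers e) := IsPGroup.of_card (n := j) (by rw [Nat.card_zpowers, he])
  obtain ⟨P', hP'⟩ := h1.exists_le_sylow
  have : P' = P := by
    obtain ⟨g, hg⟩ := MulAction.exists_smul_eq X P P'
    rw [← hg]
    exact Sylow.smul_eq_of_normal
  rw [this] at hP'
  exact hP' (mem_zpowers e)

def MaxNil {G : Type*} [Group G] (H : Subgroup G) : Prop :=
  Group.IsNilpotent H ∧ ∀ L : Subgroup G, Group.IsNilpotent L → H ≤ L → L = H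

variable {G : Type*} [Group G] [Finite G]

theorem cent_eq (hCN : Cfsg.IsCNGroup G) {H : Subgroup G} (hH : MaxNil H) {u : G} (hu : u ≠ 1)
    (hc : ∀ h ∈ H, h * u = u * h) : centralizer ({u} : Set G) = H :=
  hH.2 _ (hCN u hu) (fun h hh => mem_centralizer_singleton_iff.mpr (hc h hh))

theorem central_of (H : Subgroup G) (hH : Group.IsNilpotent H) {p : ℕ} [Fact p.Prime] {z : G}
    (hz : z ∈ H) {k : ℕ} (hzk : z ^ p ^ k = 1)
    (hc : ∀ e ∈ H, ∀ j : ℕ, orderOf e = p ^ j → e * z = z * e) : ∀ h ∈ H, h * z = z * h := by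
  have : H ≤ centralizer ({z} : Set G) := by
    apply le_of_prime_pow_mem
    intro r _ e he j hj
    rw [mem_centralizer_singleton_iff]
    by_cases hr : r = p
    · subst hr; exact hc e he j hj
    · exact (comm_in hH hz he hzk (by
        rw [hj]; exact Nat.Coprime.pow_left _ ((Nat.coprime_primes Fact.out Fact.out).mpr hr))).symm
  intro h hh
  exact mem_centralizer_singleton_iff.mp (this hh)

theorem exists_sylow_ge (H : Subgroup G) (hH : Group.IsNilpotent H) (p : ℕ) [Fact p.Prime] :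
    ∃ P1 : Sylow p G, ∀ e ∈ H, ∀ j : ℕ, orderOf e = p ^ j → e ∈ (P1 : Subgroup G) := by
  haveI := hH
  let PH : Sylow p H := default
  obtain ⟨P1, hP1⟩ := (PH.isPGroup'.map H.subtype).exists_le_sylow
  exact ⟨P1, fun e he j hj => hP1 ⟨⟨e, he⟩,
    mem_sylow_of_nilpotent PH (j := j) (by rw [Subgroup.orderOf_mk]; exact hj), rfl⟩⟩

theorem exists_central (H : Subgroup G) (hH : Group.IsNilpotent H) (p : ℕ) [Fact p.Prime]
    (hp : p ∣ Nat.card H) : ∃ u ∈ H, orderOf u = p ∧ ∀ h ∈ H, h * u = u * h := by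
  haveI := hH
  let PH : Sylow p H := default
  have hne : (PH : Subgroup H) ≠ ⊥ := by
    intro h
    have := PH.not_dvd_index
    rw [h, index_bot] at this
    exact this hp
  obtain ⟨z, hzP, hzo, hzc⟩ := Cfsg.Agent.H5.exists_central_orderOf_eq PH.isPGroup' le_rfl
    le_normalizer hne
  have hzo' : orderOf (z : G) = p := by rw [Subgroup.orderOf_coe]; exact hzo
  refine ⟨z, z.2, hzo', ?_⟩
  apply central_of H hH z.2 (p := p) (k := 1) (by rw [pow_one, ← hzo', pow_orderOf_eq_one])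
  intro e he j hj
  have := hzc ⟨e, he⟩ (mem_sylow_of_nilpotent PH (j := j) (by rw [Subgroup.orderOf_mk]; exact hj))
  exact congrArg Subtype.val this

theorem ne_one_of_orderOf {u : G} {p : ℕ} (hp : p.Prime) (hu : orderOf u = p) : u ≠ 1 := by
  intro h; rw [h, orderOf_one] at hu; exact hp.one_lt.ne hu

theorem hall (hCN : Cfsg.IsCNGroup G) {H : Subgroup G} (hH : MaxNil H) :
    (Nat.card H).Coprime H.index := by
  refine Nat.coprime_of_dvd ?_
  intro p hp hpH hpI
  haveI : Fact p.Prime := ⟨hp⟩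
  obtain ⟨u, huH, huo, huc⟩ := exists_central H hH.1 p hpH
  obtain ⟨P1, hP1⟩ := exists_sylow_ge H hH.1 p
  have hu1 : u ≠ 1 := ne_one_of_orderOf hp huo
  have huP1 : u ∈ (P1 : Subgroup G) := hP1 u huH 1 (by rw [huo, pow_one])
  have hne : (P1 : Subgroup G) ≠ ⊥ := fun h => hu1 (by rw [h] at huP1; exact mem_bot.mp huP1)
  obtain ⟨z, hzP, hzo, hzc⟩ := Cfsg.Agent.H5.exists_central_orderOf_eq P1.isPGroup' le_rfl
    le_normalizer hne
  have hz1 : z ≠ 1 := ne_one_of_orderOf hp hzo
  have hzH : z ∈ H := by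
    rw [← cent_eq hCN hH hu1 huc, mem_centralizer_singleton_iff]
    exact (hzc u huP1).symm
  have hzcH : ∀ h ∈ H, h * z = z * h := central_of H hH.1 hzH (p := p) (k := 1)
    (by rw [pow_one, ← hzo, pow_orderOf_eq_one]) (fun e he j hj => hzc e (hP1 e he j hj))
  have hle : (P1 : Subgroup G) ≤ H := by
    rw [← cent_eq hCN hH hz1 hzcH]
    intro t ht
    rw [mem_centralizer_singleton_iff]; exact hzc t ht
  exact P1.not_dvd_index (hpI.trans (index_dvd_of_le hle))

theorem le_of_inf (hCN : Cfsg.IsCNGroup G) {H1 H2 : Subgroup G} (h1 : MaxNil H1) (h2 : MaxNil H2)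
    {p q : ℕ} [hp : Fact p.Prime] [hq : Fact q.Prime] (hpq : p ≠ q)
    (hp1 : p ∣ Nat.card H1) (hq1 : q ∣ Nat.card H1) (hp2 : p ∣ Nat.card H2)
    (hq2 : q ∣ Nat.card H2) {x : G} (hx1 : x ∈ H1) (hx2 : x ∈ H2) (hx : x ≠ 1) : H2 ≤ H1 := by
  obtain ⟨v1, hv1H, hv1o, hv1c⟩ := exists_central H1 h1.1 p hp1
  obtain ⟨y1, hy1H, hy1o, hy1c⟩ := exists_central H1 h1.1 q hq1
  obtain ⟨v2, hv2H, hv2o, hv2c⟩ := exists_central H2 h2.1 p hp2
  obtain ⟨y2, hy2H, hy2o, hy2c⟩ := exists_central H2 h2.1 q hq2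
  have hC := hCN x hx
  have cpq : Nat.Coprime p q := (Nat.coprime_primes hp.out hq.out).mpr hpq
  have mC : ∀ {H : Subgroup G} {v : G}, x ∈ H → (∀ h ∈ H, h * v = v * h) →
      v ∈ centralizer ({x} : Set G) := fun hxH hc =>
    mem_centralizer_singleton_iff.mpr (hc x hxH).symm
  have e1 : v1 * y2 = y2 * v1 := comm_in hC (p := p) (mC hx1 hv1c) (mC hx2 hy2c) (k := 1)
    (by rw [pow_one, ← hv1o, pow_orderOf_eq_one]) (by rw [hy2o]; exact cpq.symm)
  have e2 : y1 * v2 = v2 * y1 := comm_in hC (p := q) (mC hx1 hy1c) (mC hx2 hv2c) (k := 1)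
    (by rw [pow_one, ← hy1o, pow_orderOf_eq_one]) (by rw [hv2o]; exact cpq)
  have hv1H2 : v1 ∈ H2 := by
    rw [← cent_eq hCN h2 (ne_one_of_orderOf hq.out hy2o) hy2c, mem_centralizer_singleton_iff]
    exact e1
  have hy1H2 : y1 ∈ H2 := by
    rw [← cent_eq hCN h2 (ne_one_of_orderOf hp.out hv2o) hv2c, mem_centralizer_singleton_iff]
    exact e2
  apply le_of_prime_pow_mem
  intro r hr e he j hj
  by_cases hrp : r = p
  · subst hrp
    rw [← cent_eq hCN h1 (ne_one_of_orderOf hq.out hy1o) hy1c, mem_centralizer_singleton_iff]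
    exact (comm_in h2.1 (p := q) hy1H2 he (k := 1) (by rw [pow_one, ← hy1o, pow_orderOf_eq_one])
      (by rw [hj]; exact Nat.Coprime.pow_left _ cpq)).symm
  · rw [← cent_eq hCN h1 (ne_one_of_orderOf hp.out hv1o) hv1c, mem_centralizer_singleton_iff]
    have hcop : (orderOf e).Coprime p := by
      rw [hj]
      exact Nat.Coprime.pow_left _ ((Nat.coprime_primes hr.out hp.out).mpr hrp)
    exact (comm_in h2.1 (p := p) hv1H2 he (k := 1) (by rw [pow_one, ← hv1o, pow_orderOf_eq_one])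
      hcop).symm

theorem maxNil_conj {H : Subgroup G} (hH : MaxNil H) (g : G) :
    MaxNil (H.map (MulAut.conj g).toMonoidHom) := by
  have nil : ∀ (L : Subgroup G) (g : G), Group.IsNilpotent L →
      Group.IsNilpotent (L.map (MulAut.conj g).toMonoidHom) := by
    intro L g hL
    haveI := hL
    exact Group.nilpotent_of_mulEquiv (L.equivMapOfInjective _ (MulAut.conj g).injective)
  refine ⟨nil H g hH.1, ?_⟩
  intro L hL hle
  have h1 : L.map (MulAut.conj g⁻¹).toMonoidHom = H := by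
    apply hH.2 _ (nil L g⁻¹ hL)
    intro h hh
    refine ⟨g * h * g⁻¹, hle ⟨h, hh, rfl⟩, ?_⟩
    simp only [MulEquiv.coe_toMonoidHom, MulAut.conj_apply]
    group
  rw [← h1]
  ext y
  constructor
  · intro hy
    refine ⟨g⁻¹ * y * g, ⟨y, hy, ?_⟩, ?_⟩
    · simp only [MulEquiv.coe_toMonoidHom, MulAut.conj_apply, inv_inv]
    · simp only [MulEquiv.coe_toMonoidHom, MulAut.conj_apply]
      group
  · rintro ⟨_, ⟨w, hw, rfl⟩, rfl⟩
    simp only [MulEquiv.coe_toMonoidHom, MulAut.conj_apply, inv_inv]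
    have : g * (g⁻¹ * w * g) * g⁻¹ = w := by group
    rw [this]; exact hw

theorem cent_le (hCN : Cfsg.IsCNGroup G) {H : Subgroup G} (hH : MaxNil H)
    (hTI : ∀ g : G, H.map (MulAut.conj g).toMonoidHom ≠ H →
      H ⊓ H.map (MulAut.conj g).toMonoidHom = ⊥) {x : G} (hxH : x ∈ H) (hx : x ≠ 1) :
    centralizer ({x} : Set G) ≤ H := by
  apply le_of_prime_pow_mem
  intro r hr e he j hj
  have hex : e * x = x * e := mem_centralizer_singleton_iff.mp he
  by_cases hex2 : ∃ p : ℕ, p.Prime ∧ p ≠ r ∧ p ∣ Nat.card H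
  · obtain ⟨p, hp, hpr, hpH⟩ := hex2
    haveI : Fact p.Prime := ⟨hp⟩
    obtain ⟨u, huH, huo, huc⟩ := exists_central H hH.1 p hpH
    have hu1 : u ≠ 1 := ne_one_of_orderOf hp huo
    have huC : u ∈ centralizer ({x} : Set G) :=
      mem_centralizer_singleton_iff.mpr (huc x hxH).symm
    have := comm_in (hCN x hx) (p := p) huC he (k := 1)
      (by rw [pow_one, ← huo, pow_orderOf_eq_one])
      (by rw [hj]; exact Nat.Coprime.pow_left _ ((Nat.coprime_primes hr.out hp).mpr hpr.symm))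
    rw [← cent_eq hCN hH hu1 huc, mem_centralizer_singleton_iff]
    exact this.symm
  · push Not at hex2
    have hHr : IsPGroup r H := by
      have : Nat.card H = r ^ _ := Nat.eq_prime_pow_of_unique_prime_dvd Nat.card_pos.ne'
        (fun {d} hd hdd => by_contra fun h => hex2 d hd h hdd)
      exact IsPGroup.of_card this
    have hnorm : H.map (MulAut.conj e).toMonoidHom = H := by
      by_contra hne
      have h0 := hTI e hne
      have hxm : x ∈ H ⊓ H.map (MulAut.conj e).toMonoidHom := by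
        refine ⟨hxH, ⟨x, hxH, ?_⟩⟩
        simp only [MulEquiv.coe_toMonoidHom, MulAut.conj_apply]
        rw [hex, mul_assoc, mul_inv_cancel, mul_one]
      rw [h0, mem_bot] at hxm
      exact hx hxm
    have hen : zpowers e ≤ normalizer (H : Set G) := by
      rw [zpowers_le, mem_normalizer_iff]
      intro h
      constructor
      · intro hh
        rw [← hnorm]
        exact ⟨h, hh, rfl⟩
      · intro hh
        rw [← hnorm] at hh
        obtain ⟨h', hh', heq⟩ := hh
        simp only [MulEquiv.coe_toMonoidHom, MulAut.conj_apply] at heq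
        have : h' = h := by
          have := mul_right_cancel heq
          exact mul_left_cancel this
        rw [← this]; exact hh'
    have hsup : IsPGroup r (zpowers e ⊔ H : Subgroup G) :=
      IsPGroup.to_sup_of_normal_right' (IsPGroup.of_card (n := j) (by rw [Nat.card_zpowers, hj]))
        hHr hen
    have := hH.2 _ hsup.isNilpotent le_sup_right
    rw [← this]
    exact mem_sup_left (mem_zpowers e)

/-- Let G be a finite group in which every non-identity element has nilpotent centralizer, and H a nilpotent subgroup not properly contained in any nilpotent subgroup. Then the order of H is coprime to its index; if the order of H is not a prime power then H ∩ gHg⁻¹ = 1 whenever gHg⁻¹ ≠ H; and if H ∩ gHg⁻¹ = 1 whenever gHg⁻¹ ≠ H, then C_G(x) ≤ H for every non-identity x ∈ H. -/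
theorem result {G : Type*} [Group G] [Finite G] (hCN : Cfsg.IsCNGroup G) (H : Subgroup G) (hH : Group.IsNilpotent H)
    (hmax : ∀ L : Subgroup G, Group.IsNilpotent L → H ≤ L → L = H) :
    (Nat.card H).Coprime H.index ∧
      (¬ IsPrimePow (Nat.card H) → Nat.card H ≠ 1 → ∀ g : G, H.map (MulAut.conj g).toMonoidHom ≠ H → H ⊓ H.map (MulAut.conj g).toMonoidHom = ⊥) ∧
      ((∀ g : G, H.map (MulAut.conj g).toMonoidHom ≠ H → H ⊓ H.map (MulAut.conj g).toMonoidHom = ⊥) → ∀ x ∈ H, x ≠ 1 → Subgroup.centralizer ({x} : Set G) ≤ H) := by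
  have hM : MaxNil H := ⟨hH, hmax⟩
  refine ⟨hall hCN hM, ?_, fun hTI x hxH hx => cent_le hCN hM hTI hxH hx⟩
  intro hpp h1 g hg
  have h0 : Nat.card H ≠ 0 := Nat.card_pos.ne'
  set p := (Nat.card H).minFac with hp
  have hpp' : p.Prime := Nat.minFac_prime h1
  have hpd : p ∣ Nat.card H := Nat.minFac_dvd _
  obtain ⟨q, hq, hqp, hqd⟩ : ∃ q : ℕ, q.Prime ∧ q ≠ p ∧ q ∣ Nat.card H := by
    by_contra hcon
    push Not at hcon
    have hc : Nat.card H = p ^ _ := Nat.eq_prime_pow_of_unique_prime_dvd h0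
      (fun {d} hd hdd => by_contra fun h => hcon d hd h hdd)
    apply hpp
    rw [hc]
    refine hpp'.isPrimePow.pow ?_
    intro hz
    rw [hz, pow_zero] at hc
    exact h1 hc
  haveI : Fact p.Prime := ⟨hpp'⟩
  haveI : Fact q.Prime := ⟨hq⟩
  have hM2 := maxNil_conj hM g
  have hcard : Nat.card (H.map (MulAut.conj g).toMonoidHom) = Nat.card H :=
    Subgroup.card_map_of_injective (MulAut.conj g).injective
  rw [Subgroup.eq_bot_iff_forall]
  intro x hx
  by_contra hx1
  have hle := le_of_inf hCN hM hM2 hqp.symm hpd hqd (by rw [hcard]; exact hpd)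
    (by rw [hcard]; exact hqd) hx.1 hx.2 hx1
  exact hg (hM2.2 H hH hle).symm

end Cfsg.Agent.S1477
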