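import Cfsg.Statements.S2908
import Cfsg.Agent.Lib_helper7_Comm
import Cfsg.Agent.Lib_helper1_PQ

set_option autoImplicit false
open Cfsg

namespace Cfsg.Agent.S2908

open Cfsg.Agent.H7
open scoped commutatorElement

/-- Let P be a p-subgroup of a finite group, normalized by a p-subgroup A and by a subgroup B of order prime to p that commutes elementwise with A. If [P, B] ≤ [P, A], then B centralizes P. -/
theorem result {G : Type*} [Group G] [Finite G] {p : ℕ} [Fact p.Prime] (P A B : Subgroup G) (hP : IsPGroup p ↥P) (hA : IsPGroup p ↥A) (hB : ¬ p ∣ Nat.card ↥B) (hnA : A ≤ Subgroup.normalizer (P : Set G)) (hnB : B ≤ Subgroup.normalizer (P : Set G)) (hAB : ⁅A, B⁆ = ⊥) (hcomm : ⁅P, B⁆ ≤ ⁅P, A⁆) : ⁅P, B⁆ = ⊥ := by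
  have hpp : p.Prime := Fact.out
  have hAcB : A ≤ Subgroup.centralizer (B : Set G) :=
    Subgroup.commutator_eq_bot_iff_le_centralizer.mp hAB
  have hBcA : B ≤ Subgroup.centralizer (A : Set G) := Subgroup.le_centralizer_iff.mp hAcB
  have hcop : (Nat.card B).Coprime (Nat.card P) := by
    obtain ⟨n, hn⟩ := hP.exists_card_eq
    rw [hn]
    exact Nat.Coprime.pow_right n ((Nat.Prime.coprime_iff_not_dvd hpp).mpr hB).symm
  have hPs : Group.IsSolvable P := Cfsg.Agent.H1.isSolvable_of_isPGroup hP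
  set X := ⁅P, B⁆ with hX
  have hXP : X ≤ P := Cfsg.Agent.H1.commutator_le_of_le_normalizer hnB
  have hXX : ⁅X, B⁆ = X := Cfsg.Agent.H1.coprime_comm_comm B P hnB hcop (Or.inr hPs)
  set R := P ⊔ A with hR
  have hRp : IsPGroup p R := hP.to_sup_of_normal_left' hA hnA
  have hPX : P ≤ Subgroup.normalizer (X : Set G) := self_le_normalizer_commutator P B
  have hAX : A ≤ Subgroup.normalizer (X : Set G) := by
    intro a ha
    exact mem_normalizer_commutator (hnA ha) (Subgroup.centralizer_le_normalizer _ (hAcB ha))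
  have hBX : B ≤ Subgroup.normalizer (X : Set G) := Cfsg.Agent.H1.le_normalizer_commutator hnB
  have hRX : R ≤ Subgroup.normalizer (X : Set G) := sup_le hPX hAX
  set X₀ := ⁅X, R⁆ with hX₀
  have hRX₀ : R ≤ Subgroup.normalizer (X₀ : Set G) := Cfsg.Agent.H1.le_normalizer_commutator hRX
  have hBR : B ≤ Subgroup.normalizer (R : Set G) := by
    intro b hb
    apply Subgroup.normalizer_inf_normalizer_le_normalizer_sup
    exact ⟨hnB hb, Subgroup.centralizer_le_normalizer _ (hBcA hb)⟩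
  have hBX₀ : B ≤ Subgroup.normalizer (X₀ : Set G) := by
    intro b hb
    exact mem_normalizer_commutator (hBX hb) (hBR hb)
  set C := P ⊓ Subgroup.centralizer (B : Set G) with hC
  have hCX₀ : C ≤ Subgroup.normalizer (X₀ : Set G) := (inf_le_left.trans le_sup_left).trans hRX₀
  have hPA : ⁅P, A⁆ ≤ X₀ ⊔ C := by
    rw [Subgroup.commutator_le]
    intro g hg a ha
    obtain ⟨x, hx, c, hc, rfl⟩ := Cfsg.Agent.H1.coprime_exists_mul B P hnB hcop (Or.inr hPs) g hg
    rw [commutatorElement_mul_left]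
    have hc' : ⁅c, a⁆ ∈ C := by
      refine ⟨?_, ?_⟩
      · rw [commutatorElement_def, mul_assoc, mul_assoc, ← mul_assoc a]
        exact mul_mem hc.1 (Cfsg.Agent.H1.conj_mem_of_le_normalizer hnA ha (inv_mem hc.1))
      · have h1 : c ∈ Subgroup.centralizer (B : Set G) := hc.2
        have h2 : a ∈ Subgroup.centralizer (B : Set G) := hAcB ha
        show ⁅c, a⁆ ∈ Subgroup.centralizer (B : Set G)
        rw [commutatorElement_def]
        exact mul_mem (mul_mem (mul_mem h1 h2) (inv_mem h1)) (inv_mem h2)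
    have h3 : x * ⁅c, a⁆ * x⁻¹ = ⁅x, ⁅c, a⁆⁆ * ⁅c, a⁆ := by
      simp only [commutatorElement_def]; group
    rw [h3]
    refine mul_mem (mul_mem (Subgroup.mem_sup_left ?_) (Subgroup.mem_sup_right hc'))
      (Subgroup.mem_sup_left ?_)
    · exact Subgroup.commutator_mem_commutator hx (Subgroup.mem_sup_left hc'.1)
    · exact Subgroup.commutator_mem_commutator hx (Subgroup.mem_sup_right ha)
  have hXX₀ : ⁅X, B⁆ ≤ X₀ := by
    rw [Subgroup.commutator_le]
    intro x hx b hb
    have h1 : x ∈ ((X₀ ⊔ C : Subgroup G) : Set G) := hPA (hcomm hx)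
    rw [Subgroup.coe_mul_of_right_le_normalizer_left _ _ hCX₀] at h1
    obtain ⟨x₀, hx₀, c, hc, rfl⟩ := h1
    have hcb : b * c = c * b := (Subgroup.mem_centralizer_iff.mp hc.2) b hb
    have h2 : ⁅x₀ * c, b⁆ = x₀ * (b * x₀⁻¹ * b⁻¹) := by
      rw [commutatorElement_def]
      calc x₀ * c * b * (x₀ * c)⁻¹ * b⁻¹ = x₀ * (c * b) * c⁻¹ * x₀⁻¹ * b⁻¹ := by group
        _ = x₀ * (b * x₀⁻¹ * b⁻¹) := by rw [← hcb]; group
    rw [h2]
    exact mul_mem hx₀ (Cfsg.Agent.H1.conj_mem_of_le_normalizer hBX₀ hb (inv_mem hx₀))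
  by_contra hne
  have hlt := Cfsg.Agent.H1.commutator_lt_of_pgroups (hP.to_le hXP) hRp hRX hne
  rw [hXX] at hXX₀
  exact absurd hlt (not_lt_of_ge hXX₀)

end Cfsg.Agent.S2908
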