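import Cfsg.Statements.S3734
import Cfsg.Agent.Lib_helper7_Gen5

set_option autoImplicit false
open Cfsg

namespace Cfsg.Agent.S3734

open scoped commutatorElement

/-- Let A and G be subgroups of a finite group with A abelian, A normalizing G and the orders of A and G coprime. Then G is generated by the fixed-point subgroups C_G(B) of those subgroups B of A for which A/B is cyclic (that is, A = ⟨B, a⟩ for some a), and [G, A] is generated by the commutator subgroups [C_G(B), A] over the same subgroups B. -/
theorem result {X : Type*} [Group X] [Finite X] (A G : Subgroup X) (hAab : IsMulCommutative A) (hAG : A ≤ Subgroup.normalizer (G : Set X)) (hcop : (Nat.card A).Coprime (Nat.card G)) : (⨆ B ∈ {B : Subgroup X | B ≤ A ∧ ∃ a ∈ A, B ⊔ Subgroup.zpowers a = A}, G ⊓ Subgroup.centralizer (B : Set X)) = G ∧ (⨆ B ∈ {B : Subgroup X | B ≤ A ∧ ∃ a ∈ A, B ⊔ Subgroup.zpowers a = A}, ⁅G ⊓ Subgroup.centralizer (B : Set X), A⁆) = ⁅G, A⁆ := by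
  have hAc : ∀ x ∈ A, ∀ y ∈ A, x * y = y * x := by
    intro x hx y hy
    exact congrArg Subtype.val (mul_comm' (⟨x, hx⟩ : A) ⟨y, hy⟩)
  have hAs : Group.IsSolvable A :=
    Group.isSolvable_of_comm (fun x y => Subtype.ext (hAc x x.2 y y.2))
  constructor
  · apply le_antisymm
    · apply iSup₂_le
      intro a _
      exact inf_le_left
    · apply Cfsg.Agent.H7.coprime_generation_cocyclic A G _ hAc hAG hcop
      intro B hBA hc
      exact le_iSup₂_of_le B ⟨hBA, hc⟩ le_rfl
  · apply le_antisymm
    · apply iSup₂_le
      intro a _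
      exact Subgroup.commutator_mono inf_le_left le_rfl
    · set W := (⨆ B ∈ {B : Subgroup X | B ≤ A ∧ ∃ a ∈ A, B ⊔ Subgroup.zpowers a = A},
        ⁅G ⊓ Subgroup.centralizer (B : Set X), A⁆) with hW
      -- A normalizes each `G ⊓ C(B)`
      have hAY : ∀ B : Subgroup X, B ≤ A →
          A ≤ Subgroup.normalizer ((G ⊓ Subgroup.centralizer (B : Set X) : Subgroup X) : Set X) := by
        intro B hBA
        apply Cfsg.Agent.H1.le_normalizer_of_forall
        intro g hg x hx
        refine ⟨Cfsg.Agent.H1.conj_mem_of_le_normalizer hAG hg hx.1, ?_⟩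
        show g * x * g⁻¹ ∈ Subgroup.centralizer (B : Set X)
        rw [Subgroup.mem_centralizer_iff]
        intro y hy
        have h1 : y * x = x * y := (Subgroup.mem_centralizer_iff.mp hx.2) y hy
        have h2 : y * g = g * y := hAc y (hBA hy) g hg
        have h3 : y * g⁻¹ = g⁻¹ * y := hAc y (hBA hy) g⁻¹ (inv_mem hg)
        calc y * (g * x * g⁻¹) = (y * g) * x * g⁻¹ := by group
          _ = g * (y * x) * g⁻¹ := by rw [h2]; group
          _ = g * x * (y * g⁻¹) := by rw [h1]; group
          _ = g * x * g⁻¹ * y := by rw [h3]; group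
      have hnW : ∀ g : X, (∀ B : Subgroup X, B ≤ A →
          g ∈ Subgroup.normalizer ((⁅G ⊓ Subgroup.centralizer (B : Set X), A⁆ : Subgroup X) : Set X)) →
          g ∈ Subgroup.normalizer (W : Set X) := by
        intro g hg
        apply Subgroup.iInf_normalizer_le_normalizer_iSup
        rw [Subgroup.mem_iInf]
        intro B
        apply Subgroup.iInf_normalizer_le_normalizer_iSup
        rw [Subgroup.mem_iInf]
        intro hB
        exact hg B hB.1
      have hAW : A ≤ Subgroup.normalizer (W : Set X) := by
        intro a ha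
        apply hnW
        intro B hBA
        exact Cfsg.Agent.H1.le_normalizer_commutator (hAY B hBA) ha
      have hCW : G ⊓ Subgroup.centralizer (A : Set X) ≤ Subgroup.normalizer (W : Set X) := by
        intro c hc
        apply hnW
        intro B hBA
        rw [← Cfsg.Agent.H7.map_conj_eq_self_iff, Subgroup.map_commutator]
        have h1 : A.map (MulAut.conj c).toMonoidHom = A := by
          rw [Cfsg.Agent.H7.map_conj_eq_self_iff]
          rw [Subgroup.mem_normalizer_iff]
          intro x
          constructor
          · intro hx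
            rw [← (Subgroup.mem_centralizer_iff.mp hc.2) x hx, mul_inv_cancel_right]
            exact hx
          · intro hx
            have h2 := (Subgroup.mem_centralizer_iff.mp hc.2) _ hx
            have h3 : c * x * c⁻¹ = x := by
              have h4 : c * x * c⁻¹ * c = c * x := by group
              rw [h4] at h2
              have h5 := mul_left_cancel h2
              exact h5.symm
            rw [← h3]
            exact hx
        have h2 : (G ⊓ Subgroup.centralizer (B : Set X)).map (MulAut.conj c).toMonoidHom =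
            G ⊓ Subgroup.centralizer (B : Set X) := by
          rw [Cfsg.Agent.H7.map_conj_eq_self_iff]
          apply Subgroup.le_normalizer
          exact ⟨hc.1, Subgroup.centralizer_le (SetLike.coe_subset_coe.mpr hBA) hc.2⟩
        rw [h1, h2]
      have hGW : G ≤ W ⊔ (G ⊓ Subgroup.centralizer (A : Set X)) := by
        apply Cfsg.Agent.H7.coprime_generation_cocyclic A G _ hAc hAG hcop
        intro B hBA hc
        have h1 := Cfsg.Agent.H1.coprime_comm_sup_centralizer A (G ⊓ Subgroup.centralizer (B : Set X))
          (hAY B hBA) (hcop.coprime_dvd_right (Subgroup.card_dvd_of_le inf_le_left)) (Or.inl hAs)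
        rw [← h1]
        apply sup_le_sup
        · exact le_iSup₂_of_le (f := fun (B : Subgroup X) (_ : B ∈ {B : Subgroup X | B ≤ A ∧ ∃ a ∈ A, B ⊔ Subgroup.zpowers a = A}) => ⁅G ⊓ Subgroup.centralizer (B : Set X), A⁆) B ⟨hBA, hc⟩ le_rfl
        · exact inf_le_inf_right _ inf_le_left
      rw [Subgroup.commutator_le]
      intro g hg a ha
      have h1 : g ∈ ((W ⊔ (G ⊓ Subgroup.centralizer (A : Set X)) : Subgroup X) : Set X) := hGW hg
      rw [Subgroup.coe_mul_of_right_le_normalizer_left _ _ hCW] at h1
      obtain ⟨w, hw, c, hc, rfl⟩ := h1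
      have hca : a * c = c * a := (Subgroup.mem_centralizer_iff.mp hc.2) a ha
      have h2 : ⁅w * c, a⁆ = w * (a * w⁻¹ * a⁻¹) := by
        rw [commutatorElement_def]
        calc w * c * a * (w * c)⁻¹ * a⁻¹ = w * (c * a) * c⁻¹ * w⁻¹ * a⁻¹ := by group
          _ = w * (a * w⁻¹ * a⁻¹) := by rw [← hca]; group
      rw [h2]
      exact mul_mem hw (Cfsg.Agent.H1.conj_mem_of_le_normalizer hAW ha (inv_mem hw))

end Cfsg.Agent.S3734
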