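import Cfsg.Statements.S2909
import Cfsg.Agent.Lib_helper7_Comm
import Cfsg.Agent.Lib_helper1_PQ
import Cfsg.Agent.S2908
import Cfsg.Agent.S3734

set_option autoImplicit false
open Cfsg

namespace Cfsg.Agent.S2909

open Cfsg.Agent.H7
open scoped commutatorElement

/-- the kernel of the action on the section `E / D`. -/
def secKer {G : Type*} [Group G] (E D : Subgroup G) : Subgroup G where
  carrier := {g | g ∈ Subgroup.normalizer (E : Set G) ∧ g ∈ Subgroup.normalizer (D : Set G) ∧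
    ∀ e ∈ E, g * e * g⁻¹ * e⁻¹ ∈ D}
  one_mem' := ⟨one_mem _, one_mem _, fun e _ => by simp⟩
  mul_mem' := by
    rintro g h ⟨hg1, hg2, hg3⟩ ⟨hh1, hh2, hh3⟩
    refine ⟨mul_mem hg1 hh1, mul_mem hg2 hh2, ?_⟩
    intro e he
    have h1 : g * h * e * (g * h)⁻¹ * e⁻¹ = (g * (h * e * h⁻¹ * e⁻¹) * g⁻¹) * (g * e * g⁻¹ * e⁻¹) := by
      group
    rw [h1]
    exact mul_mem ((Subgroup.mem_normalizer_iff.mp hg2 _).mp (hh3 e he)) (hg3 e he)
  inv_mem' := by
    rintro g ⟨hg1, hg2, hg3⟩
    refine ⟨inv_mem hg1, inv_mem hg2, ?_⟩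
    intro e he
    have h1 : g⁻¹ * e * g⁻¹⁻¹ * e⁻¹ = g⁻¹ * (g * e * g⁻¹ * e⁻¹)⁻¹ * g := by group
    rw [h1]
    exact (Subgroup.mem_normalizer_iff''.mp hg2 _).mp (inv_mem (hg3 e he))

theorem conj_mem_secKer {G : Type*} [Group G] {E D : Subgroup G} {r g : G}
    (hr1 : r ∈ Subgroup.normalizer (E : Set G)) (hr2 : r ∈ Subgroup.normalizer (D : Set G))
    (hg : g ∈ secKer E D) : r * g * r⁻¹ ∈ secKer E D := by
  obtain ⟨hg1, hg2, hg3⟩ := hg
  refine ⟨mul_mem (mul_mem hr1 hg1) (inv_mem hr1), mul_mem (mul_mem hr2 hg2) (inv_mem hr2), ?_⟩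
  intro e he
  have he' : r⁻¹ * e * r ∈ E := (Subgroup.mem_normalizer_iff''.mp hr1 e).mp he
  have h1 : r * g * r⁻¹ * e * (r * g * r⁻¹)⁻¹ * e⁻¹ =
      r * (g * (r⁻¹ * e * r) * g⁻¹ * (r⁻¹ * e * r)⁻¹) * r⁻¹ := by group
  rw [h1]
  exact (Subgroup.mem_normalizer_iff.mp hr2 _).mp (hg3 _ he')

/-- Let p be a prime, E a normal p-subgroup of the finite group G, and U a non-cyclic elementary abelian p-subgroup of G such that either C_E(U) = C_E(u) for every nontrivial u ∈ U, or [E, U] = [E, ⟨u⟩] for every nontrivial u ∈ U. If R is a subgroup of order prime to p normalized by U, then [R, U] centralizes E. -/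
theorem result {G : Type*} [Group G] [Finite G] {p : ℕ} [Fact p.Prime] (E : Subgroup G) [E.Normal] (hE : IsPGroup p ↥E) (U : Subgroup G) (hU : Cfsg.IsElementaryAbelian p U) (hnc : ¬ IsCyclic ↥U) (hcond : (∀ u ∈ U, u ≠ 1 → E ⊓ Subgroup.centralizer (U : Set G) = E ⊓ Subgroup.centralizer ({u} : Set G)) ∨ (∀ u ∈ U, u ≠ 1 → ⁅E, U⁆ = ⁅E, Subgroup.zpowers u⁆)) (R : Subgroup G) (hR : ¬ p ∣ Nat.card ↥R) (hRU : U ≤ Subgroup.normalizer (R : Set G)) : ⁅R, U⁆ ≤ Subgroup.centralizer (E : Set G) := by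
  obtain ⟨hUm, hUe⟩ := hU
  have hpp : p.Prime := Fact.out
  have hUc : ∀ x ∈ U, ∀ y ∈ U, x * y = y * x := by
    intro x hx y hy
    exact congrArg Subtype.val (mul_comm' (⟨x, hx⟩ : U) ⟨y, hy⟩)
  have hUp : IsPGroup p U := by
    intro g
    refine ⟨1, ?_⟩
    rw [pow_one]
    exact Subtype.ext (hUe g g.2)
  obtain ⟨n, hn⟩ := hUp.exists_card_eq
  have hcop : (Nat.card U).Coprime (Nat.card R) := by
    rw [hn]
    exact Nat.Coprime.pow_left n ((Nat.Prime.coprime_iff_not_dvd hpp).mpr hR)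
  have hEn : ∀ g : G, g ∈ Subgroup.normalizer (E : Set G) := by
    intro g
    rw [Subgroup.normalizer_eq_top]
    trivial
  rw [← (Cfsg.Agent.S3734.result U R hUm hRU hcop).2]
  apply iSup₂_le
  rintro B ⟨hBU, a, ha, hBa⟩
  have hBne : B ≠ ⊥ := by
    rintro rfl
    apply hnc
    rw [bot_sup_eq] at hBa
    rw [← hBa]
    infer_instance
  obtain ⟨u, huB, hu1⟩ := (Subgroup.bot_or_exists_ne_one B).resolve_left hBne
  have huU : u ∈ U := hBU huB
  set Ru := R ⊓ Subgroup.centralizer (B : Set G) with hRu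
  have hURu : U ≤ Subgroup.normalizer (Ru : Set G) := by
    apply Cfsg.Agent.H1.le_normalizer_of_forall
    intro g hg x hx
    refine ⟨Cfsg.Agent.H1.conj_mem_of_le_normalizer hRU hg hx.1, ?_⟩
    show g * x * g⁻¹ ∈ Subgroup.centralizer (B : Set G)
    rw [Subgroup.mem_centralizer_iff]
    intro y hy
    have h1 : y * x = x * y := (Subgroup.mem_centralizer_iff.mp hx.2) y hy
    have h2 : y * g = g * y := hUc y (hBU hy) g hg
    have h3 : y * g⁻¹ = g⁻¹ * y := hUc y (hBU hy) g⁻¹ (inv_mem hg)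
    calc y * (g * x * g⁻¹) = (y * g) * x * g⁻¹ := by group
      _ = g * (y * x) * g⁻¹ := by rw [h2]; group
      _ = g * x * (y * g⁻¹) := by rw [h1]; group
      _ = g * x * g⁻¹ * y := by rw [h3]; group
  set Y := ⁅Ru, U⁆ with hY
  have hYRu : Y ≤ Ru := Cfsg.Agent.H1.commutator_le_of_le_normalizer hURu
  have hYp : (Nat.card Y).Coprime p := by
    have h1 : Nat.card Y ∣ Nat.card R := Subgroup.card_dvd_of_le (hYRu.trans inf_le_left)
    exact (((Nat.Prime.coprime_iff_not_dvd hpp).mpr hR).symm).coprime_dvd_left h1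
  have hRuu : ∀ r ∈ Ru, u * r = r * u := fun r hr => (Subgroup.mem_centralizer_iff.mp hr.2) u huB
  have huY : Subgroup.zpowers u ≤ Subgroup.centralizer (Y : Set G) := by
    rw [Subgroup.zpowers_le, Subgroup.mem_centralizer_iff]
    intro y hy
    exact (hRuu y (hYRu hy)).symm
  have hup : IsPGroup p (Subgroup.zpowers u) := hUp.to_le (by rw [Subgroup.zpowers_le]; exact huU)
  rcases hcond with hcond | hcond
  · -- first alternative
    have hCE := hcond u huU hu1
    apply Cfsg.Agent.H1.thompson_PQ p (Subgroup.zpowers u) Y hup hYp huY E hE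
      (fun g _ => hEn g) (fun g _ => hEn g)
    rw [centralizer_zpowers_eq, ← hCE, Subgroup.le_centralizer_iff, hY, Subgroup.commutator_le]
    intro r hr v hv
    rw [Subgroup.mem_centralizer_iff]
    intro e he
    have he1 : v * e = e * v := ((Subgroup.mem_centralizer_iff.mp he.2) v hv)
    have he' : r⁻¹ * e * r ∈ E ⊓ Subgroup.centralizer (U : Set G) := by
      rw [hCE] at he ⊢
      refine ⟨‹E.Normal›.conj_mem' e he.1 r, ?_⟩
      show r⁻¹ * e * r ∈ Subgroup.centralizer {u}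
      rw [Subgroup.mem_centralizer_iff]
      intro z hz
      rw [Set.mem_singleton_iff] at hz
      subst hz
      have h1 : z * e = e * z := (Subgroup.mem_centralizer_iff.mp he.2) z rfl
      have h2 : z * r = r * z := hRuu r hr
      have h3 : z * r⁻¹ = r⁻¹ * z := by
        have := congrArg (fun t => r⁻¹ * t * r⁻¹) h2
        simp only [mul_assoc, inv_mul_cancel_left, mul_inv_cancel, mul_one] at this
        exact this.symm
      calc z * (r⁻¹ * e * r) = (z * r⁻¹) * e * r := by group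
        _ = r⁻¹ * (z * e) * r := by rw [h3]; group
        _ = r⁻¹ * e * (z * r) := by rw [h1]; group
        _ = r⁻¹ * e * r * z := by rw [h2]; group
    have he2 : v * (r⁻¹ * e * r) = (r⁻¹ * e * r) * v := (Subgroup.mem_centralizer_iff.mp he'.2) v hv
    have he3 : v⁻¹ * e = e * v⁻¹ := by
      have := congrArg (fun t => v⁻¹ * t * v⁻¹) he1
      simp only [mul_assoc, inv_mul_cancel_left, mul_inv_cancel, mul_one] at this
      exact this.symm
    rw [commutatorElement_def]
    calc e * (r * v * r⁻¹ * v⁻¹) = r * ((r⁻¹ * e * r) * v) * r⁻¹ * v⁻¹ := by group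
      _ = r * (v * (r⁻¹ * e * r)) * r⁻¹ * v⁻¹ := by rw [he2]
      _ = r * v * r⁻¹ * (e * v⁻¹) := by group
      _ = r * v * r⁻¹ * (v⁻¹ * e) := by rw [he3]
      _ = r * v * r⁻¹ * v⁻¹ * e := by group
  · -- second alternative
    have hD := hcond u huU hu1
    set D := ⁅E, U⁆ with hDdef
    have hUD : U ≤ Subgroup.normalizer (D : Set G) :=
      Cfsg.Agent.H1.le_normalizer_commutator (fun g _ => hEn g)
    have hRuD : Ru ≤ Subgroup.normalizer (D : Set G) := by
      intro r hr
      rw [hD]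
      apply mem_normalizer_commutator (hEn r)
      apply Subgroup.centralizer_le_normalizer
      rw [centralizer_zpowers_eq, Subgroup.mem_centralizer_iff]
      intro z hz
      rw [Set.mem_singleton_iff] at hz
      subst hz
      exact hRuu r hr
    have hUK : U ≤ secKer E D := by
      intro v hv
      refine ⟨hEn v, hUD hv, ?_⟩
      intro e he
      have h1 : ⁅e, v⁆ ∈ D := Subgroup.commutator_mem_commutator he hv
      have h2 : v * e * v⁻¹ * e⁻¹ = ⁅e, v⁆⁻¹ := by rw [commutatorElement_def]; group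
      rw [h2]
      exact inv_mem h1
    have hYK : Y ≤ secKer E D := by
      rw [hY, Subgroup.commutator_le]
      intro r hr v hv
      rw [commutatorElement_def]
      exact mul_mem (conj_mem_secKer (hEn r) (hRuD hr) (hUK hv)) (inv_mem (hUK hv))
    have hEY : ⁅E, Y⁆ ≤ ⁅E, Subgroup.zpowers u⁆ := by
      rw [← hD, Subgroup.commutator_le]
      intro e he y hy
      have h1 := (hYK hy).2.2 e he
      have h2 : ⁅e, y⁆ = (y * e * y⁻¹ * e⁻¹)⁻¹ := by rw [commutatorElement_def]; group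
      rw [h2]
      exact inv_mem h1
    have h0 := Cfsg.Agent.S2908.result E (Subgroup.zpowers u) Y hE hup
      (fun hd => (Nat.Prime.coprime_iff_not_dvd hpp).mp hYp.symm hd)
      (fun g _ => hEn g) (fun g _ => hEn g)
      (Subgroup.commutator_eq_bot_iff_le_centralizer.mpr huY) hEY
    rw [Subgroup.commutator_eq_bot_iff_le_centralizer] at h0
    exact Subgroup.le_centralizer_iff.mp h0

end Cfsg.Agent.S2909
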