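import Cfsg.Statements.S1892
import Cfsg.Agent.Lib_helper7_PSolv
import Cfsg.Agent.S2909
import Cfsg.Agent.Lib_helper1_PQ
import Cfsg.Agent.Lib_helper1_SZ

set_option autoImplicit false
open Cfsg

namespace Cfsg.Agent.S1892

open scoped commutatorElement

/-- Let S be a finite p-solvable group with no nontrivial normal subgroup of order prime to p, A a p-subgroup of S, and Q a nontrivial A-invariant subgroup of order prime to p with [A, Q] = Q. Then the commutator [O_p(S), A, Q] is nontrivial. -/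
theorem result {S : Type*} [Group S] [Finite S] {p : ℕ} [Fact p.Prime]
    (hS : Cfsg.IsPSolvable p S) (hred : Cfsg.pPrimeCore p S = ⊥)
    (A Q : Subgroup S) (hA : IsPGroup p A) (hQ : ¬ p ∣ Nat.card Q) (hQ1 : Q ≠ ⊥)
    (hinv : ∀ a ∈ A, ∀ x ∈ Q, a * x * a⁻¹ ∈ Q) (hAQ : ⁅A, Q⁆ = Q) :
    ⁅⁅Cfsg.pCore p S, A⁆, Q⁆ ≠ ⊥ := by
  intro hbot
  have hpp : p.Prime := Fact.out
  have hPn : (Cfsg.pCore p S).Normal := Cfsg.Agent.H7.pCore_normal p
  set P := Cfsg.pCore p S with hP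
  have hPall : ∀ g : S, g ∈ Subgroup.normalizer (P : Set S) := by
    intro g
    rw [Subgroup.normalizer_eq_top]
    trivial
  have hAD : A ≤ Subgroup.normalizer ((⁅P, A⁆ : Subgroup S) : Set S) :=
    Cfsg.Agent.H1.le_normalizer_commutator (fun a _ => hPall a)
  have hQc : Q ≤ Subgroup.centralizer ((⁅P, A⁆ : Subgroup S) : Set S) := by
    rw [Subgroup.commutator_comm] at hbot
    exact Subgroup.commutator_eq_bot_iff_le_centralizer.mp hbot
  have hQD : Q ≤ Subgroup.normalizer ((⁅P, A⁆ : Subgroup S) : Set S) :=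
    hQc.trans (Subgroup.centralizer_le_normalizer _)
  have hAk : A ≤ Cfsg.Agent.S2909.secKer P ⁅P, A⁆ := by
    intro a ha
    refine ⟨hPall a, hAD ha, ?_⟩
    intro e he
    have h1 : a * e * a⁻¹ * e⁻¹ = (⁅e, a⁆)⁻¹ := by
      rw [commutatorElement_def]; group
    rw [h1]
    exact inv_mem (Subgroup.commutator_mem_commutator he ha)
  have hQk : Q ≤ Cfsg.Agent.S2909.secKer P ⁅P, A⁆ := by
    rw [← hAQ, Subgroup.commutator_le]
    intro a ha x hx
    rw [commutatorElement_def, mul_assoc, mul_assoc, ← mul_assoc x]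
    exact mul_mem (hAk ha) (Cfsg.Agent.S2909.conj_mem_secKer (hPall x) (hQD hx) (inv_mem (hAk ha)))
  have hPQ : ⁅P, Q⁆ ≤ ⁅P, A⁆ := by
    rw [Subgroup.commutator_le]
    intro e he x hx
    have h1 : ⁅e, x⁆ = (x * e * x⁻¹ * e⁻¹)⁻¹ := by
      rw [commutatorElement_def]; group
    rw [h1]
    exact inv_mem ((hQk hx).2.2 e he)
  have hPp : IsPGroup p P := Cfsg.Agent.H7.pCore_isPGroup p
  obtain ⟨n, hn⟩ := hPp.exists_card_eq
  have hcop : (Nat.card Q).Coprime (Nat.card P) := by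
    rw [hn]
    exact (Nat.Coprime.pow_left n ((Nat.Prime.coprime_iff_not_dvd hpp).mpr hQ)).symm
  have h2 := Cfsg.Agent.H1.coprime_comm_comm Q P (fun a _ => hPall a) hcop
    (Or.inr (Cfsg.Agent.H1.isSolvable_of_isPGroup hPp))
  have h3 : ⁅⁅P, Q⁆, Q⁆ = ⊥ := by
    rw [eq_bot_iff, ← hbot]
    exact Subgroup.commutator_mono hPQ le_rfl
  rw [h3] at h2
  have h4 : Q ≤ Subgroup.centralizer (P : Set S) := by
    rw [← Subgroup.commutator_eq_bot_iff_le_centralizer, Subgroup.commutator_comm]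
    exact h2.symm
  have h5 : Q ≤ P := h4.trans (Cfsg.Agent.H7.hall_higman_123 hS hred)
  apply hQ1
  have h6 : IsPGroup p Q := hPp.to_le h5
  obtain ⟨m, hm⟩ := h6.exists_card_eq
  rw [← Subgroup.card_eq_one, hm]
  rcases Nat.eq_zero_or_pos m with rfl | hmpos
  · rfl
  · exfalso
    apply hQ
    rw [hm]
    exact dvd_pow_self p hmpos.ne'

end Cfsg.Agent.S1892
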