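import Cfsg.Statements.S2961
import Cfsg.Agent.Lib_helper5_CharP6
import Cfsg.Agent.Lib_helper3_Comm
import Cfsg.Agent.Lib_helper7_Comm
import Cfsg.Agent.Lib_lead_CharP

set_option autoImplicit false
open Cfsg

namespace Cfsg.Agent.S2961

open Subgroup
open scoped commutatorElement

theorem three_sub {G : Type*} [Group G] (N A B C : Subgroup G)
    (hA : A ≤ normalizer (N : Set G)) (hB : B ≤ normalizer (N : Set G))
    (hC : C ≤ normalizer (N : Set G))
    (h1 : ⁅⁅B, C⁆, A⁆ ≤ N) (h2 : ⁅⁅C, A⁆, B⁆ ≤ N) : ⁅⁅A, B⁆, C⁆ ≤ N := by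
  set M := normalizer (N : Set G) with hM
  haveI : (N.subgroupOf M).Normal := Subgroup.normal_subgroupOf_of_le_normalizer le_rfl
  have e : ∀ X Y Z : Subgroup G, X ≤ M → Y ≤ M → Z ≤ M →
      (⁅⁅X.subgroupOf M, Y.subgroupOf M⁆, Z.subgroupOf M⁆).map M.subtype = ⁅⁅X, Y⁆, Z⁆ := by
    intro X Y Z hX hY hZ
    rw [map_commutator, map_commutator, map_subgroupOf_eq_of_le hX, map_subgroupOf_eq_of_le hY,
      map_subgroupOf_eq_of_le hZ]
  have e2 : ∀ X Y Z : Subgroup G, X ≤ M → Y ≤ M → Z ≤ M →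
      (⁅⁅X.subgroupOf M, Y.subgroupOf M⁆, Z.subgroupOf M⁆ ≤ N.subgroupOf M ↔ ⁅⁅X, Y⁆, Z⁆ ≤ N) := by
    intro X Y Z hX hY hZ
    rw [← e X Y Z hX hY hZ, Subgroup.map_le_iff_le_comap]
    rfl
  rw [← e2 _ _ _ hA hB hC]
  exact Cfsg.Agent.H3.three_subgroups_normal _ _ _ _ ((e2 _ _ _ hB hC hA).2 h1)
    ((e2 _ _ _ hC hA hB).2 h2)

/-- Let G be a finite group of characteristic p (C_G(O_p(G)) ≤ O_p(G)), p prime, T a Sylow p-subgroup of G and Q a normal subgroup of T with C_T(Q) ≤ Q. Then every subgroup L of G containing Q has characteristic p: C_L(O_p(L)) ≤ O_p(L). -/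
theorem result {G : Type*} [Group G] [Finite G] {p : ℕ} [Fact p.Prime] (hG : Subgroup.centralizer (Cfsg.pCore p G : Set G) ≤ Cfsg.pCore p G) (T : Sylow p G) (Q : Subgroup G) (hQT : Q ≤ (T : Subgroup G)) (hQn : (T : Subgroup G) ≤ Subgroup.normalizer (Q : Set G)) (hC : (T : Subgroup G) ⊓ Subgroup.centralizer (Q : Set G) ≤ Q) (L : Subgroup G) (hQL : Q ≤ L) : Subgroup.centralizer (Cfsg.pCore p ↥L : Set ↥L) ≤ Cfsg.pCore p ↥L := by
  rw [← Cfsg.Agent.H5.charPIn_iff_centralizer_le]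
  set P := Cfsg.pCore p G with hPdef
  have hPn : P.Normal := Cfsg.Agent.H1.pCore_normal p
  have hPp : IsPGroup p P := Cfsg.Agent.H1.pCore_isPGroup p
  have hPT : P ≤ (T : Subgroup G) := by
    obtain ⟨T', hT'⟩ := hPp.exists_le_sylow
    obtain ⟨g, rfl⟩ := MulAction.exists_smul_eq G T' T
    intro x hx
    rw [Sylow.coe_subgroup_smul, Subgroup.mem_pointwise_smul_iff_inv_smul_mem]
    apply hT'
    have := hPn.conj_mem x hx g⁻¹
    simpa [MulAut.smul_def] using this
  have hnP : ∀ X : Subgroup G, X ≤ normalizer (P : Set G) := by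
    intro X
    rw [normalizer_eq_top_iff.2 hPn]; exact le_top
  have hQp : IsPGroup p Q := T.2.to_le hQT
  -- step 1
  have step1 : ∀ x ∈ centralizer (Q : Set G), (orderOf x).Coprime p → x = 1 := by
    intro x hx hxc
    have h1 : x ∈ centralizer (P : Set G) := by
      apply Cfsg.Agent.H5.thompson_element p hPp hQp hxc (hnP Q) (hnP ⊤ (mem_top x)) hx
      intro r hr
      have hrQ : r ∈ Q := hC (mem_inf.2 ⟨hPT (mem_inf.1 hr).1, (mem_inf.1 hr).2⟩)
      exact (mem_centralizer_iff.1 hx) r hrQ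
    exact Cfsg.Agent.H5.eq_one_of_mem_pgroup_of_coprime hPp (hG h1) hxc
  apply Cfsg.Agent.H5.charPIn_of_coprime_trivial
  set R := Cfsg.Agent.H5.pCoreIn p L with hR
  set C := L ⊓ centralizer (R : Set G) with hCdef
  have hLR : L ≤ normalizer (R : Set G) := Cfsg.Agent.H5.le_normalizer_pCoreIn p L
  have hLC : L ≤ normalizer (C : Set G) := Cfsg.Agent.H5.le_normalizer_inf_centralizer hLR
  set D := P ⊓ Q with hD
  have hDR : D ≤ R := by
    have h1 : P ⊓ L ≤ R := by
      apply Cfsg.Agent.H5.le_pCoreIn inf_le_right (hPp.to_le inf_le_left)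
      exact Cfsg.Agent.H5.inf_le_normalizer_of_le (hnP L)
    exact (inf_le_inf le_rfl hQL).trans h1
  have hCD : C ≤ centralizer (D : Set G) := inf_le_right.trans (centralizer_le hDR)
  have hPQD : ⁅P, Q⁆ ≤ D := by
    apply le_inf
    · exact Subgroup.le_normalizer_iff_commutator_le_left.1 (hnP Q)
    · exact Subgroup.le_normalizer_iff_commutator_le_right.1 (hPT.trans hQn)
  set W := ⁅C, Q⁆ with hW
  have hWC : W ≤ C := Subgroup.le_normalizer_iff_commutator_le_left.1 (hQL.trans hLC)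
  have hTD : (T : Subgroup G) ≤ normalizer (D : Set G) := by
    intro t ht
    have h1 := hnP ⊤ (mem_top t)
    have h2 := hQn ht
    rw [mem_normalizer_iff] at h1 h2 ⊢
    intro x
    rw [mem_inf, mem_inf, h1 x, h2 x]
  have hWP : ⁅W, P⁆ ≤ D := by
    apply three_sub D C Q P (hCD.trans (centralizer_le_normalizer _)) (hQT.trans hTD) (hPT.trans hTD)
    · rw [commutator_comm Q P]
      have : ⁅D, C⁆ = ⊥ := by
        rw [commutator_eq_bot_iff_le_centralizer, le_centralizer_iff]; exact hCD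
      exact ((commutator_mono hPQD le_rfl).trans this.le).trans bot_le
    · have : ⁅P, C⁆ ≤ P := Subgroup.le_normalizer_iff_commutator_le_left.1 (hnP C)
      exact (commutator_mono this le_rfl).trans hPQD
  have hWp : IsPGroup p W := by
    apply Cfsg.Agent.H5.isPGroup_of_coprime_trivial
    intro w hw hwc
    set A := zpowers w with hA
    have hAW : A ≤ W := zpowers_le.2 hw
    have hcop : (Nat.card A).Coprime (Nat.card P) := by
      obtain ⟨n, hn⟩ := hPp.exists_card_eq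
      rw [hn, Nat.card_zpowers]
      exact hwc.pow_right n
    have h1 := Cfsg.Agent.H1.coprime_comm_comm A P (hnP A) hcop
      (Or.inr (Cfsg.Agent.H1.isSolvable_of_isPGroup hPp))
    have h2 : ⁅P, A⁆ ≤ D := by
      rw [commutator_comm]; exact (commutator_mono hAW le_rfl).trans hWP
    have h3 : ⁅D, A⁆ = ⊥ := by
      rw [commutator_eq_bot_iff_le_centralizer, le_centralizer_iff]
      exact (hAW.trans hWC).trans hCD
    have h4 : ⁅P, A⁆ = ⊥ := by
      rw [← h1, eq_bot_iff, ← h3]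
      exact commutator_mono h2 le_rfl
    have h5 : A ≤ centralizer (P : Set G) := by
      rw [le_centralizer_iff, ← commutator_eq_bot_iff_le_centralizer]; exact h4
    exact Cfsg.Agent.H5.eq_one_of_mem_pgroup_of_coprime hPp (hG (h5 (mem_zpowers w))) hwc
  have hWR : W ≤ R := by
    have h1 : W ≤ Cfsg.Agent.H5.pCoreIn p C :=
      Cfsg.Agent.H5.le_pCoreIn hWC hWp (Cfsg.Agent.H7.self_le_normalizer_commutator C Q)
    haveI := Cfsg.Agent.H1.pCore_characteristic (G := ↥C) p
    have h2 : Cfsg.Agent.H5.pCoreIn p C ≤ R :=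
      Cfsg.Agent.H5.le_pCoreIn ((Cfsg.Agent.H5.pCoreIn_le p _).trans inf_le_left)
        (Cfsg.Agent.H5.pCoreIn_isPGroup p _)
        (hLC.trans (Cfsg.Agent.H1.normalizer_le_normalizer_map_of_characteristic _ (Cfsg.pCore p _)))
    exact h1.trans h2
  intro x hx hxc
  apply step1 x _ hxc
  rw [mem_centralizer_iff]
  intro q hq
  -- z = q⁻¹ x q x⁻¹
  set z := q⁻¹ * (x * q * x⁻¹) with hz
  have hzW : z ∈ W := by
    have h1 : ⁅x, q⁆ ∈ W := commutator_mem_commutator hx hq
    have h2 : q ∈ normalizer (W : Set G) :=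
      Cfsg.Agent.H7.mem_normalizer_commutator (hLC (hQL hq)) (le_normalizer hq)
    have h3 := (mem_normalizer_iff.1 (inv_mem h2) _).1 h1
    have h4 : q⁻¹ * ⁅x, q⁆ * q⁻¹⁻¹ = z := by
      rw [commutatorElement_def, hz]; group
    rwa [h4] at h3
  have hxz : x * z = z * x := ((mem_centralizer_iff.1 (mem_inf.1 hx).2) z (hWR hzW)).symm
  have h1 : x * q * x⁻¹ = q * z := by rw [hz]; group
  have h2 := Cfsg.Agent.LeadCharP.conj_pow_of_comm h1 hxz (orderOf x)
  rw [pow_orderOf_eq_one] at h2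
  have h3 : z ^ orderOf x = 1 := by simpa using h2.symm
  have h4 : z = 1 := by
    have h5 : orderOf z ∣ orderOf x := orderOf_dvd_of_pow_eq_one h3
    exact Cfsg.Agent.H5.eq_one_of_mem_pgroup_of_coprime hWp hzW (hxc.coprime_dvd_left h5)
  rw [h4, mul_one] at h1
  calc q * x = (x * q * x⁻¹) * x := by rw [h1]
    _ = x * q := by group

end Cfsg.Agent.S2961
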