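import Cfsg.Statements.S2842
import Cfsg.Agent.S2961
import Cfsg.Agent.Lib_helper7_WC

set_option autoImplicit false
open Cfsg

namespace Cfsg.Agent.S2842

open Subgroup
open scoped commutatorElement

theorem mem_normalizer_inf {G : Type*} [Group G] {A B : Subgroup G} {t : G}
    (h1 : t ∈ normalizer (A : Set G)) (h2 : t ∈ normalizer (B : Set G)) :
    t ∈ normalizer ((A ⊓ B : Subgroup G) : Set G) := by
  rw [mem_normalizer_iff] at h1 h2 ⊢
  intro x
  rw [mem_inf, mem_inf, h1 x, h2 x]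

/-- internal form of S2961. -/
theorem charPIn_over {G : Type*} [Group G] [Finite G] {p : ℕ} [Fact p.Prime] {K Q L : Subgroup G}
    (hK : Cfsg.Agent.H5.CharPIn p K) (hQp : IsPGroup p Q) (hQL : Q ≤ L) (hLK : L ≤ K)
    (hn : Cfsg.Agent.H5.pCoreIn p K ≤ normalizer (Q : Set G))
    (hC : Cfsg.Agent.H5.pCoreIn p K ⊓ centralizer (Q : Set G) ≤ Q) :
    Cfsg.Agent.H5.CharPIn p L := by
  set P := Cfsg.Agent.H5.pCoreIn p K with hPdef
  have hG : K ⊓ centralizer (P : Set G) ≤ P := hK.centralizer_pCoreIn_le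
  have hPp : IsPGroup p P := Cfsg.Agent.H5.pCoreIn_isPGroup p K
  have hKP : K ≤ normalizer (P : Set G) := Cfsg.Agent.H5.le_normalizer_pCoreIn p K
  have hnP : ∀ X : Subgroup G, X ≤ K → X ≤ normalizer (P : Set G) := fun X hX => hX.trans hKP
  have hQK : Q ≤ K := hQL.trans hLK
  have step1 : ∀ x ∈ K ⊓ centralizer (Q : Set G), (orderOf x).Coprime p → x = 1 := by
    intro x hx hxc
    have h1 : x ∈ centralizer (P : Set G) := by
      apply Cfsg.Agent.H5.thompson_element p hPp hQp hxc (hnP Q hQK) (hKP (mem_inf.1 hx).1)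
        (mem_inf.1 hx).2
      intro r hr
      exact (mem_centralizer_iff.1 (mem_inf.1 hx).2) r (hC hr)
    exact Cfsg.Agent.H5.eq_one_of_mem_pgroup_of_coprime hPp (hG (mem_inf.2 ⟨(mem_inf.1 hx).1, h1⟩))
      hxc
  apply Cfsg.Agent.H5.charPIn_of_coprime_trivial
  set R := Cfsg.Agent.H5.pCoreIn p L with hR
  set C := L ⊓ centralizer (R : Set G) with hCdef
  have hCK : C ≤ K := inf_le_left.trans hLK
  have hLR : L ≤ normalizer (R : Set G) := Cfsg.Agent.H5.le_normalizer_pCoreIn p L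
  have hLC : L ≤ normalizer (C : Set G) := Cfsg.Agent.H5.le_normalizer_inf_centralizer hLR
  set D := P ⊓ Q with hD
  have hDR : D ≤ R := by
    have h1 : P ⊓ L ≤ R := by
      apply Cfsg.Agent.H5.le_pCoreIn inf_le_right (hPp.to_le inf_le_left)
      exact Cfsg.Agent.H5.inf_le_normalizer_of_le (hnP L hLK)
    exact (inf_le_inf le_rfl hQL).trans h1
  have hCD : C ≤ centralizer (D : Set G) := inf_le_right.trans (centralizer_le hDR)
  have hPQD : ⁅P, Q⁆ ≤ D := by
    apply le_inf
    · exact Subgroup.le_normalizer_iff_commutator_le_left.1 (hnP Q hQK)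
    · exact Subgroup.le_normalizer_iff_commutator_le_right.1 hn
  set W := ⁅C, Q⁆ with hW
  have hWC : W ≤ C := Subgroup.le_normalizer_iff_commutator_le_left.1 (hQL.trans hLC)
  have hWP : ⁅W, P⁆ ≤ D := by
    apply Cfsg.Agent.S2961.three_sub D C Q P (hCD.trans (centralizer_le_normalizer _))
      (fun t ht => mem_normalizer_inf (hnP Q hQK ht) (le_normalizer ht))
      (fun t ht => mem_normalizer_inf (le_normalizer ht) (hn ht))
    · rw [commutator_comm Q P]
      have : ⁅D, C⁆ = ⊥ := by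
        rw [commutator_eq_bot_iff_le_centralizer, le_centralizer_iff]; exact hCD
      exact ((commutator_mono hPQD le_rfl).trans this.le).trans bot_le
    · have : ⁅P, C⁆ ≤ P := Subgroup.le_normalizer_iff_commutator_le_left.1 (hnP C hCK)
      exact (commutator_mono this le_rfl).trans hPQD
  have hWp : IsPGroup p W := by
    apply Cfsg.Agent.H5.isPGroup_of_coprime_trivial
    intro w hw hwc
    set A := zpowers w with hA
    have hAW : A ≤ W := zpowers_le.2 hw
    have hcop : (Nat.card A).Coprime (Nat.card P) := by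
      obtain ⟨n, hn⟩ := hPp.exists_card_eq
      rw [hn, Nat.card_zpowers]
      exact hwc.pow_right n
    have h1 := Cfsg.Agent.H1.coprime_comm_comm A P (hnP A ((hAW.trans hWC).trans hCK)) hcop
      (Or.inr (Cfsg.Agent.H1.isSolvable_of_isPGroup hPp))
    have h2 : ⁅P, A⁆ ≤ D := by
      rw [commutator_comm]; exact (commutator_mono hAW le_rfl).trans hWP
    have h3 : ⁅D, A⁆ = ⊥ := by
      rw [commutator_eq_bot_iff_le_centralizer, le_centralizer_iff]
      exact (hAW.trans hWC).trans hCD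
    have h4 : ⁅P, A⁆ = ⊥ := by
      rw [← h1, eq_bot_iff, ← h3]
      exact commutator_mono h2 le_rfl
    have h5 : A ≤ centralizer (P : Set G) := by
      rw [le_centralizer_iff, ← commutator_eq_bot_iff_le_centralizer]; exact h4
    exact Cfsg.Agent.H5.eq_one_of_mem_pgroup_of_coprime hPp
      (hG (mem_inf.2 ⟨hCK (hWC hw), h5 (mem_zpowers w)⟩)) hwc
  have hWR : W ≤ R := by
    have h1 : W ≤ Cfsg.Agent.H5.pCoreIn p C :=
      Cfsg.Agent.H5.le_pCoreIn hWC hWp (Cfsg.Agent.H7.self_le_normalizer_commutator C Q)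
    haveI := Cfsg.Agent.H1.pCore_characteristic (G := ↥C) p
    have h2 : Cfsg.Agent.H5.pCoreIn p C ≤ R :=
      Cfsg.Agent.H5.le_pCoreIn ((Cfsg.Agent.H5.pCoreIn_le p _).trans inf_le_left)
        (Cfsg.Agent.H5.pCoreIn_isPGroup p _)
        (hLC.trans (Cfsg.Agent.H1.normalizer_le_normalizer_map_of_characteristic _ (Cfsg.pCore p _)))
    exact h1.trans h2
  intro x hx hxc
  apply step1 x _ hxc
  refine mem_inf.2 ⟨hCK hx, ?_⟩
  rw [mem_centralizer_iff]
  intro q hq
  set z := q⁻¹ * (x * q * x⁻¹) with hz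
  have hzW : z ∈ W := by
    have h1 : ⁅x, q⁆ ∈ W := commutator_mem_commutator hx hq
    have h2 : q ∈ normalizer (W : Set G) :=
      Cfsg.Agent.H7.mem_normalizer_commutator (hLC (hQL hq)) (le_normalizer hq)
    have h3 := (mem_normalizer_iff.1 (inv_mem h2) _).1 h1
    have h4 : q⁻¹ * ⁅x, q⁆ * q⁻¹⁻¹ = z := by
      rw [commutatorElement_def, hz]; group
    rwa [h4] at h3
  have hxz : x * z = z * x := ((mem_centralizer_iff.1 (mem_inf.1 hx).2) z (hWR hzW)).symm
  have h1 : x * q * x⁻¹ = q * z := by rw [hz]; group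
  have h2 := Cfsg.Agent.LeadCharP.conj_pow_of_comm h1 hxz (orderOf x)
  rw [pow_orderOf_eq_one] at h2
  have h3 : z ^ orderOf x = 1 := by simpa using h2.symm
  have h4 : z = 1 := by
    have h5 : orderOf z ∣ orderOf x := orderOf_dvd_of_pow_eq_one h3
    exact Cfsg.Agent.H5.eq_one_of_mem_pgroup_of_coprime hWp hzW (hxc.coprime_dvd_left h5)
  rw [h4, mul_one] at h1
  calc q * x = (x * q * x⁻¹) * x := by rw [h1]
    _ = x * q := by group

/-- Let Q be a nontrivial p-subgroup of the finite group H that is a weakly closed subgroup with C_H(Q) ≤ Q, and Q ≤ L ≤ H. Suppose H has characteristic p, or more generally that C_H(y) has characteristic p for some nonidentity y ∈ C_{O_p(L)}(Q). Then [Q, C_H(O_p(L))] ≤ Q ∩ O_p(L), C_H(O_p(L)) is a p-group, and L has characteristic p. -/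
theorem result {H : Type*} [Group H] [Finite H] {p : ℕ} [Fact p.Prime] (Q : Subgroup H) (hQp : IsPGroup p ↥Q) (hQ1 : Q ≠ ⊥) (hwc : Cfsg.IsWeaklyClosedSubgroup p Q) (hCQ : Subgroup.centralizer ((Q : Subgroup H) : Set H) ≤ Q) (L : Subgroup H) (hQL : Q ≤ L) (hyp : Subgroup.centralizer (Cfsg.pCore p H : Set H) ≤ Cfsg.pCore p H ∨ ∃ y : H, y ≠ 1 ∧ y ∈ (Cfsg.pCoreOf p L) ⊓ Subgroup.centralizer ((Q : Subgroup H) : Set H) ∧ Subgroup.centralizer (Cfsg.pCore p ↥(Subgroup.centralizer ({y} : Set H)) : Set ↥(Subgroup.centralizer ({y} : Set H))) ≤ Cfsg.pCore p ↥(Subgroup.centralizer ({y} : Set H))) : ⁅Q, Subgroup.centralizer (((Cfsg.pCoreOf p L) : Subgroup H) : Set H)⁆ ≤ Q ⊓ (Cfsg.pCoreOf p L) ∧ IsPGroup p ↥(Subgroup.centralizer (((Cfsg.pCoreOf p L) : Subgroup H) : Set H)) ∧ Subgroup.centralizer (Cfsg.pCore p ↥L : Set ↥L) ≤ Cfsg.pCore p ↥L := by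
  have hRdef : Cfsg.pCoreOf p L = Cfsg.Agent.H5.pCoreIn p L := rfl
  rw [hRdef]
  set R := Cfsg.Agent.H5.pCoreIn p L with hR
  set D := centralizer (R : Set H) with hD
  have hRp : IsPGroup p R := Cfsg.Agent.H5.pCoreIn_isPGroup p L
  have hLR : L ≤ normalizer (R : Set H) := Cfsg.Agent.H5.le_normalizer_pCoreIn p L
  have hLD : L ≤ normalizer (D : Set H) :=
    hLR.trans (Cfsg.Agent.H5.normalizer_le_normalizer_centralizer R)
  obtain ⟨K, hK, hQK, hDK⟩ : ∃ K : Subgroup H, Cfsg.Agent.H5.CharPIn p K ∧ Q ≤ K ∧ D ≤ K := by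
    rcases hyp with h | ⟨y, hy1, hy2, hy3⟩
    · haveI := Cfsg.Agent.H1.pCore_normal (G := H) p
      refine ⟨⊤, ⟨Cfsg.pCore p H, le_top, Cfsg.Agent.H1.pCore_isPGroup p, ?_, ?_⟩, le_top, le_top⟩
      · rw [Subgroup.normalizer_eq_top]
      · rw [top_inf_eq]; exact h
    · refine ⟨centralizer {y}, (Cfsg.Agent.H5.charPIn_iff_centralizer_le p _).2 hy3, ?_, ?_⟩
      · intro q hq
        rw [mem_centralizer_singleton_iff]
        exact ((mem_centralizer_iff.1 (mem_inf.1 hy2).2) q hq)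
      · apply centralizer_le
        intro t ht
        have ht' : t = y := ht
        rw [ht']; exact (mem_inf.1 hy2).1
  -- weak closure
  have wcN : ∀ S : Subgroup H, IsPGroup p S → Q ≤ S → S ≤ normalizer (Q : Set H) := by
    intro S hS hQS g hg
    rw [← Cfsg.Agent.H7.map_conj_eq_self_iff]
    apply Cfsg.Agent.H7.wc_of_pgroup hwc hS hQS
    rw [Cfsg.Agent.H7.map_conj_le_iff]
    intro q hq
    exact mul_mem (mul_mem hg (hQS hq)) (inv_mem hg)
  have hPK : Cfsg.Agent.H5.pCoreIn p K ≤ normalizer (Q : Set H) := by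
    have h1 : IsPGroup p (Cfsg.Agent.H5.pCoreIn p K ⊔ Q : Subgroup H) :=
      IsPGroup.to_sup_of_normal_left' (Cfsg.Agent.H5.pCoreIn_isPGroup p K) hQp
        (hQK.trans (Cfsg.Agent.H5.le_normalizer_pCoreIn p K))
    exact le_sup_left.trans (wcN _ h1 le_sup_right)
  have hQD : Cfsg.Agent.H5.CharPIn p (Q ⊔ D) :=
    charPIn_over hK hQp le_sup_left (sup_le hQK hDK) hPK (inf_le_right.trans hCQ)
  have hDc : Cfsg.Agent.H5.CharPIn p D :=
    hQD.of_normal le_sup_right (sup_le (hQL.trans hLD) le_normalizer)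
  set U := Cfsg.Agent.H5.pCoreIn p D with hU
  have hUp : IsPGroup p U := Cfsg.Agent.H5.pCoreIn_isPGroup p D
  have hUD : U ≤ D := Cfsg.Agent.H5.pCoreIn_le p D
  have hDU : D ⊓ centralizer (U : Set H) ≤ U := hDc.centralizer_pCoreIn_le
  have hDnU : D ≤ normalizer (U : Set H) := Cfsg.Agent.H5.le_normalizer_pCoreIn p D
  have hLU : L ≤ normalizer (U : Set H) := by
    haveI := Cfsg.Agent.H1.pCore_characteristic (G := ↥D) p
    exact hLD.trans (Cfsg.Agent.H1.normalizer_le_normalizer_map_of_characteristic _ (Cfsg.pCore p _))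
  have hULR : U ⊓ L ≤ R :=
    Cfsg.Agent.H5.le_pCoreIn inf_le_right (hUp.to_le inf_le_left)
      (Cfsg.Agent.H5.inf_le_normalizer_of_le hLU)
  set E := U ⊓ Q with hE
  have hER : E ≤ R := (inf_le_inf le_rfl hQL).trans hULR
  have hDE : D ≤ centralizer (E : Set H) := centralizer_le hER
  have hUQ : U ≤ normalizer (Q : Set H) := by
    have h1 : IsPGroup p (U ⊔ Q : Subgroup H) :=
      IsPGroup.to_sup_of_normal_left' hUp hQp (hQL.trans hLU)
    exact le_sup_left.trans (wcN _ h1 le_sup_right)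
  have hUQE : ⁅U, Q⁆ ≤ E := by
    apply le_inf
    · exact Subgroup.le_normalizer_iff_commutator_le_left.1 (hQL.trans hLU)
    · exact Subgroup.le_normalizer_iff_commutator_le_right.1 hUQ
  set W := ⁅D, Q⁆ with hW
  have hWD : W ≤ D := Subgroup.le_normalizer_iff_commutator_le_left.1 (hQL.trans hLD)
  have hWU : ⁅W, U⁆ ≤ E := by
    apply Cfsg.Agent.S2961.three_sub E D Q U (hDE.trans (centralizer_le_normalizer _))
      (fun t ht => mem_normalizer_inf (hLU (hQL ht)) (le_normalizer ht))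
      (fun t ht => mem_normalizer_inf (le_normalizer ht) (hUQ ht))
    · rw [commutator_comm Q U]
      have : ⁅E, D⁆ = ⊥ := by
        rw [commutator_eq_bot_iff_le_centralizer, le_centralizer_iff]; exact hDE
      exact ((commutator_mono hUQE le_rfl).trans this.le).trans bot_le
    · have : ⁅U, D⁆ ≤ U := Subgroup.le_normalizer_iff_commutator_le_left.1 hDnU
      exact (commutator_mono this le_rfl).trans hUQE
  have hWp : IsPGroup p W := by
    apply Cfsg.Agent.H5.isPGroup_of_coprime_trivial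
    intro w hw hwc
    set A := zpowers w with hA
    have hAW : A ≤ W := zpowers_le.2 hw
    have hcop : (Nat.card A).Coprime (Nat.card U) := by
      obtain ⟨n, hn⟩ := hUp.exists_card_eq
      rw [hn, Nat.card_zpowers]
      exact hwc.pow_right n
    have h1 := Cfsg.Agent.H1.coprime_comm_comm A U ((hAW.trans hWD).trans hDnU) hcop
      (Or.inr (Cfsg.Agent.H1.isSolvable_of_isPGroup hUp))
    have h2 : ⁅U, A⁆ ≤ E := by
      rw [commutator_comm]; exact (commutator_mono hAW le_rfl).trans hWU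
    have h3 : ⁅E, A⁆ = ⊥ := by
      rw [commutator_eq_bot_iff_le_centralizer, le_centralizer_iff]
      exact (hAW.trans hWD).trans hDE
    have h4 : ⁅U, A⁆ = ⊥ := by
      rw [← h1, eq_bot_iff, ← h3]
      exact commutator_mono h2 le_rfl
    have h5 : A ≤ centralizer (U : Set H) := by
      rw [le_centralizer_iff, ← commutator_eq_bot_iff_le_centralizer]; exact h4
    exact Cfsg.Agent.H5.eq_one_of_mem_pgroup_of_coprime hUp
      (hDU (mem_inf.2 ⟨hWD hw, h5 (mem_zpowers w)⟩)) hwc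
  have hWleU : W ≤ U :=
    Cfsg.Agent.H5.le_pCoreIn hWD hWp (Cfsg.Agent.H7.self_le_normalizer_commutator D Q)
  have hQW : Q ≤ normalizer (W : Set H) := fun q hq =>
    Cfsg.Agent.H7.mem_normalizer_commutator (hLD (hQL hq)) (le_normalizer hq)
  have hWQp : IsPGroup p (W ⊔ Q : Subgroup H) := IsPGroup.to_sup_of_normal_left' hWp hQp hQW
  have hDp : IsPGroup p D := by
    apply Cfsg.Agent.H5.isPGroup_of_coprime_trivial
    intro x hx hxc
    have hxQ : x ∈ normalizer (Q : Set H) := by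
      rw [← Cfsg.Agent.H7.map_conj_eq_self_iff]
      apply Cfsg.Agent.H7.wc_of_pgroup hwc hWQp le_sup_right
      rw [Cfsg.Agent.H7.map_conj_le_iff]
      intro q hq
      have : x * q * x⁻¹ = ⁅x, q⁆ * q := by rw [commutatorElement_def]; group
      rw [this]
      exact mul_mem (mem_sup_left (commutator_mem_commutator hx hq)) (mem_sup_right hq)
    have hxC : x ∈ centralizer (Q : Set H) := by
      rw [mem_centralizer_iff]
      intro q hq
      set z := q⁻¹ * (x * q * x⁻¹) with hz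
      have hzW : z ∈ W := by
        have h1 : ⁅x, q⁆ ∈ W := commutator_mem_commutator hx hq
        have h3 := (mem_normalizer_iff.1 (inv_mem (hQW hq)) _).1 h1
        have h4 : q⁻¹ * ⁅x, q⁆ * q⁻¹⁻¹ = z := by
          rw [commutatorElement_def, hz]; group
        rwa [h4] at h3
      have hzQ : z ∈ Q := mul_mem (inv_mem hq) ((mem_normalizer_iff.1 hxQ q).1 hq)
      have hxz : x * z = z * x :=
        ((mem_centralizer_iff.1 (hDE hx)) z (mem_inf.2 ⟨hWleU hzW, hzQ⟩)).symm
      have h1 : x * q * x⁻¹ = q * z := by rw [hz]; group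
      have h2 := Cfsg.Agent.LeadCharP.conj_pow_of_comm h1 hxz (orderOf x)
      rw [pow_orderOf_eq_one] at h2
      have h3 : z ^ orderOf x = 1 := by simpa using h2.symm
      have h4 : z = 1 := by
        have h5 : orderOf z ∣ orderOf x := orderOf_dvd_of_pow_eq_one h3
        exact Cfsg.Agent.H5.eq_one_of_mem_pgroup_of_coprime hWp hzW (hxc.coprime_dvd_left h5)
      rw [h4, mul_one] at h1
      calc q * x = (x * q * x⁻¹) * x := by rw [h1]
        _ = x * q := by group
    exact Cfsg.Agent.H5.eq_one_of_mem_pgroup_of_coprime hQp (hCQ hxC) hxc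
  have hLDR : L ⊓ D ≤ R :=
    Cfsg.Agent.H5.le_pCoreIn inf_le_left (hDp.to_le inf_le_right)
      (Cfsg.Agent.H5.le_normalizer_inf_centralizer hLR)
  refine ⟨?_, hDp, ?_⟩
  · have h1 : IsPGroup p (D ⊔ Q : Subgroup H) :=
      IsPGroup.to_sup_of_normal_left' hDp hQp (hQL.trans hLD)
    have h2 : D ≤ normalizer (Q : Set H) := le_sup_left.trans (wcN _ h1 le_sup_right)
    have h3 : ⁅Q, D⁆ ≤ Q := Subgroup.le_normalizer_iff_commutator_le_left.1 h2
    have h4 : ⁅Q, D⁆ ≤ D := Subgroup.le_normalizer_iff_commutator_le_right.1 (hQL.trans hLD)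
    exact le_inf h3 ((le_inf (h3.trans hQL) h4).trans hLDR)
  · rw [← Cfsg.Agent.H5.charPIn_iff_centralizer_le]
    exact ⟨R, Cfsg.Agent.H5.pCoreIn_le p L, hRp, hLR, hLDR⟩

end Cfsg.Agent.S2842
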