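import Cfsg.Statements.S2845
import Cfsg.Agent.S2842
import Cfsg.Agent.S0093

set_option autoImplicit false
open Cfsg

namespace Cfsg.Agent.S2845

open Subgroup Cfsg.Agent.H7
open scoped commutatorElement

theorem inf_centralizer_ne_bot {G : Type*} [Group G] [Finite G] {p : ℕ} [Fact p.Prime]
    {R Q : Subgroup G} (hR : IsPGroup p R) (hQ : IsPGroup p Q)
    (hQR : Q ≤ normalizer (R : Set G)) (hR1 : R ≠ ⊥) : R ⊓ centralizer (Q : Set G) ≠ ⊥ := by
  set S := R ⊔ Q with hS
  have hSp : IsPGroup p S := IsPGroup.to_sup_of_normal_left' hR hQ hQR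
  haveI : (R.subgroupOf S).Normal :=
    Subgroup.normal_subgroupOf_of_le_normalizer (sup_le le_normalizer hQR)
  have hN1 : R.subgroupOf S ≠ ⊥ := by
    intro h
    apply hR1
    rw [subgroupOf_eq_bot] at h
    exact (disjoint_of_le_iff_left_eq_bot le_sup_left).1 h
  have h1 := Cfsg.Agent.S0093.exists_mem_center_of_normal hSp (R.subgroupOf S) hN1
  intro hbot
  apply h1
  rw [eq_bot_iff]
  intro x hx
  rw [mem_bot]
  have hx1 : (x : G) ∈ R := (mem_inf.1 hx).1
  have hx2 := (mem_inf.1 hx).2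
  have hx3 : (x : G) ∈ R ⊓ centralizer (Q : Set G) := by
    refine mem_inf.2 ⟨hx1, ?_⟩
    rw [mem_centralizer_iff]
    intro q hq
    have := (mem_center_iff.1 hx2) ⟨q, (le_sup_right : Q ≤ S) hq⟩
    exact congrArg Subtype.val this
  rw [hbot, mem_bot] at hx3
  exact Subtype.ext hx3

theorem large_conj {H : Type*} [Group H] {Q : Subgroup H} (hL : Cfsg.IsLarge Q) (g : H) :
    Cfsg.IsLarge (Q.map (MulAut.conj g).toMonoidHom) := by
  obtain ⟨h1, h2⟩ := hL
  constructor
  · rw [centralizer_map_conj]; exact map_mono h1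
  · intro U hU hU1
    rw [centralizer_map_conj] at hU
    rw [normalizer_map_conj]
    have h3 := h2 (U.map (MulAut.conj g⁻¹).toMonoidHom) ?_ ?_
    · have h4 := map_mono (f := (MulAut.conj g).toMonoidHom) h3
      rw [← normalizer_map_conj, map_conj_map_conj, mul_inv_cancel, map_conj_one] at h4
      exact h4
    · have := map_mono (f := (MulAut.conj g⁻¹).toMonoidHom) hU
      rwa [map_conj_map_conj, inv_mul_cancel, map_conj_one] at this
    · intro h
      apply hU1
      rwa [Subgroup.map_eq_bot_iff_of_injective _ (MulAut.conj g⁻¹).injective] at h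

theorem large_wc {H : Type*} [Group H] [Finite H] {p : ℕ} [Fact p.Prime] {Q : Subgroup H}
    (hQp : IsPGroup p Q) (hQ1 : Q ≠ ⊥) (hL : Cfsg.IsLarge Q) :
    Cfsg.IsWeaklyClosedSubgroup p Q := by
  obtain ⟨T, hQT⟩ := hQp.exists_le_sylow
  refine ⟨T, hQT, ?_⟩
  intro g hg
  set Z := (T : Subgroup H) ⊓ centralizer ((T : Subgroup H) : Set H) with hZ
  have hT1 : (T : Subgroup H) ≠ ⊥ := by
    intro h
    apply hQ1
    rw [eq_bot_iff, ← h]; exact hQT
  have hZ1 : Z ≠ ⊥ := inf_centralizer_ne_bot T.2 T.2 le_normalizer hT1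
  have hZQ : Z ≤ centralizer (Q : Set H) := inf_le_right.trans (centralizer_le hQT)
  have hNZ : normalizer (Z : Set H) ≤ normalizer (Q : Set H) := hL.2 Z hZQ hZ1
  have hTZ : normalizer ((T : Subgroup H) : Set H) ≤ normalizer (Z : Set H) := by
    intro t ht
    exact Cfsg.Agent.S2842.mem_normalizer_inf ht
      (Cfsg.Agent.H5.normalizer_le_normalizer_centralizer _ ht)
  have hTQ : (T : Subgroup H) ≤ normalizer (Q : Set H) := le_normalizer.trans (hTZ.trans hNZ)
  have hZg : Z.map (MulAut.conj g⁻¹).toMonoidHom ≤ centralizer (Q : Set H) := by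
    have h1 : Z ≤ centralizer ((Q.map (MulAut.conj g).toMonoidHom : Subgroup H) : Set H) :=
      inf_le_right.trans (centralizer_le hg)
    rw [centralizer_map_conj] at h1
    have := map_mono (f := (MulAut.conj g⁻¹).toMonoidHom) h1
    rwa [map_conj_map_conj, inv_mul_cancel, map_conj_one] at this
  have hNg : normalizer ((Z.map (MulAut.conj g⁻¹).toMonoidHom : Subgroup H) : Set H)
      ≤ normalizer (Q : Set H) := by
    apply hL.2 _ hZg
    intro h
    apply hZ1
    rwa [Subgroup.map_eq_bot_iff_of_injective _ (MulAut.conj g⁻¹).injective] at h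
  have hTg : (T : Subgroup H).map (MulAut.conj g⁻¹).toMonoidHom ≤ normalizer (Q : Set H) := by
    refine le_trans ?_ hNg
    rw [normalizer_map_conj]
    exact map_mono (le_normalizer.trans hTZ)
  have s1 : IsSylowIn p (T : Subgroup H) (normalizer (Q : Set H)) := isSylowIn_of_sylow_le T hTQ
  have s2 : IsSylowIn p ((T : Subgroup H).map (MulAut.conj g⁻¹).toMonoidHom)
      (normalizer (Q : Set H)) :=
    s1.of_card_eq (isPGroup_map_conj T.2 _) hTg (by rw [card_map_conj])
  obtain ⟨x, hx, hxe⟩ := s1.conj_eq s2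
  rw [map_conj_map_conj] at hxe
  have h1 : x * g⁻¹ ∈ normalizer (Q : Set H) :=
    hNZ (hTZ (map_conj_eq_self_iff.mp hxe))
  have h2 : g⁻¹ ∈ normalizer (Q : Set H) := by
    have := mul_mem (inv_mem hx) h1
    rwa [inv_mul_cancel_left] at this
  exact map_conj_eq_self_iff.mpr (by simpa using inv_mem h2)

theorem part1 {H : Type*} [Group H] [Finite H] {p : ℕ} [Fact p.Prime] (Q : Subgroup H)
    (hQp : IsPGroup p ↥Q) (hQ1 : Q ≠ ⊥) (hL : Cfsg.IsLarge Q) (L : Subgroup H) (hQL : Q ≤ L)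
    (hR1 : Cfsg.pCore p ↥L ≠ ⊥) :
    IsPGroup p ↥(Subgroup.centralizer (((Cfsg.pCoreOf p L) : Subgroup H) : Set H)) ∧
      Subgroup.centralizer (Cfsg.pCore p ↥L : Set ↥L) ≤ Cfsg.pCore p ↥L := by
  have hwc := large_wc hQp hQ1 hL
  have hR1' : Cfsg.Agent.H5.pCoreIn p L ≠ ⊥ := by
    intro h
    apply hR1
    rwa [Cfsg.Agent.H5.pCoreIn, Subgroup.map_eq_bot_iff_of_injective _ L.subtype_injective] at h
  have h1 := inf_centralizer_ne_bot (Cfsg.Agent.H5.pCoreIn_isPGroup p L) hQp
    (hQL.trans (Cfsg.Agent.H5.le_normalizer_pCoreIn p L)) hR1'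
  obtain ⟨y, hy, hy1⟩ : ∃ y ∈ Cfsg.Agent.H5.pCoreIn p L ⊓ centralizer (Q : Set H), y ≠ 1 := by
    by_contra hcon
    push Not at hcon
    exact h1 ((eq_bot_iff_forall _).2 hcon)
  have hyQ : centralizer ({y} : Set H) ≤ normalizer (Q : Set H) := by
    have h2 : normalizer ((zpowers y : Subgroup H) : Set H) ≤ normalizer (Q : Set H) := by
      apply hL.2 _ (zpowers_le.2 (mem_inf.1 hy).2)
      intro h
      apply hy1
      have := mem_zpowers y
      rwa [h, mem_bot] at this
    refine le_trans ?_ h2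
    have h3 := centralizer_le_normalizer ((zpowers y : Subgroup H) : Set H)
    rw [Subgroup.zpowers_eq_closure, Subgroup.centralizer_closure] at h3
    rwa [Subgroup.zpowers_eq_closure]
  have hchar : Cfsg.Agent.H5.CharPIn p (centralizer ({y} : Set H)) := by
    refine ⟨Q, ?_, hQp, hyQ, inf_le_right.trans hL.1⟩
    intro q hq
    rw [mem_centralizer_singleton_iff]
    exact ((mem_centralizer_iff.1 (mem_inf.1 hy).2) q hq)
  have := Cfsg.Agent.S2842.result Q hQp hQ1 hwc hL.1 L hQL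
    (Or.inr ⟨y, hy1, hy, (Cfsg.Agent.H5.charPIn_iff_centralizer_le p _).1 hchar⟩)
  exact ⟨this.2.1, this.2.2⟩

/-- Let Q be a nontrivial large p-subgroup of the finite group H. Then for every subgroup L ≥ Q with O_p(L) ≠ 1, C_H(O_p(L)) is a p-group and L has characteristic p, and either the weak closure L° of Q in L equals Q or C_H(L°) = 1; for every subgroup R of H containing a Sylow p-subgroup of H with O_p(R) ≠ 1, C_H(O_p(R)) ≤ O_p(R); and H has parabolic characteristic p. -/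
theorem result {H : Type*} [Group H] [Finite H] {p : ℕ} [Fact p.Prime] (Q : Subgroup H) (hQp : IsPGroup p ↥Q) (hQ1 : Q ≠ ⊥) (hL : Cfsg.IsLarge Q) : (∀ L : Subgroup H, Q ≤ L → Cfsg.pCore p ↥L ≠ ⊥ → IsPGroup p ↥(Subgroup.centralizer (((Cfsg.pCoreOf p L) : Subgroup H) : Set H)) ∧ Subgroup.centralizer (Cfsg.pCore p ↥L : Set ↥L) ≤ Cfsg.pCore p ↥L ∧ (Cfsg.weakClosure Q L = Q ∨ Subgroup.centralizer (((Cfsg.weakClosure Q L) : Subgroup H) : Set H) = ⊥)) ∧ (∀ R : Subgroup H, Cfsg.IsParabolic p R → Cfsg.pCore p ↥R ≠ ⊥ → Subgroup.centralizer (((Cfsg.pCoreOf p R) : Subgroup H) : Set H) ≤ (Cfsg.pCoreOf p R)) ∧ Cfsg.IsOfParabolicCharacteristic p H := by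
  have hwc := large_wc hQp hQ1 hL
  have part2 : ∀ R : Subgroup H, Cfsg.IsParabolic p R → Cfsg.pCore p ↥R ≠ ⊥ →
      Subgroup.centralizer (((Cfsg.pCoreOf p R) : Subgroup H) : Set H) ≤ (Cfsg.pCoreOf p R) := by
    rintro R ⟨T, hTR⟩ hR1
    obtain ⟨g, -, hg⟩ := (Sylow_isSylowIn_top T).exists_conj_le hQp le_top
    have hl := large_conj hL g
    have hne : Q.map (MulAut.conj g).toMonoidHom ≠ ⊥ := by
      intro h
      apply hQ1
      rwa [Subgroup.map_eq_bot_iff_of_injective _ (MulAut.conj g).injective] at h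
    have h1 := (part1 _ (isPGroup_map_conj hQp g) hne hl R (hg.trans hTR) hR1).1
    have hRC : R ≤ normalizer ((centralizer (((Cfsg.pCoreOf p R) : Subgroup H) : Set H) : Subgroup H) : Set H) :=
      (Cfsg.Agent.H5.le_normalizer_pCoreIn p R).trans
        (Cfsg.Agent.H5.normalizer_le_normalizer_centralizer _)
    have h2 : IsPGroup p (centralizer (((Cfsg.pCoreOf p R) : Subgroup H) : Set H) ⊔ (T : Subgroup H) : Subgroup H) :=
      IsPGroup.to_sup_of_normal_left' h1 T.2 (hTR.trans hRC)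
    have h3 := T.is_maximal' h2 le_sup_right
    have h4 : centralizer (((Cfsg.pCoreOf p R) : Subgroup H) : Set H) ≤ (T : Subgroup H) := by
      rw [← h3]; exact le_sup_left
    exact Cfsg.Agent.H5.le_pCoreIn (h4.trans hTR) h1 hRC
  refine ⟨?_, part2, ?_⟩
  · intro L hQL hR1
    obtain ⟨h1, h2⟩ := part1 Q hQp hQ1 hL L hQL hR1
    refine ⟨h1, h2, ?_⟩
    by_cases hc : centralizer ((Cfsg.weakClosure Q L : Subgroup H) : Set H) = ⊥
    · right; exact hc
    · left
      have hQLo : Q ≤ Cfsg.weakClosure Q L := by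
        have h3 : Q.map (MulAut.conj (1 : H)).toMonoidHom ≤ L := by rw [map_conj_one]; exact hQL
        have h4 := le_iSup (fun g : {g : H // Q.map (MulAut.conj g).toMonoidHom ≤ L} =>
          Q.map (MulAut.conj (g : H)).toMonoidHom) ⟨1, h3⟩
        simp only [map_conj_one] at h4
        exact h4
      have hLoU : Cfsg.weakClosure Q L ≤
          normalizer ((centralizer ((Cfsg.weakClosure Q L : Subgroup H) : Set H) : Subgroup H) : Set H) :=
        le_normalizer.trans (Cfsg.Agent.H5.normalizer_le_normalizer_centralizer _)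
      apply le_antisymm _ hQLo
      apply iSup_le
      rintro ⟨g, hg⟩
      have hgLo : Q.map (MulAut.conj g).toMonoidHom ≤ Cfsg.weakClosure Q L :=
        le_iSup (fun g : {g : H // Q.map (MulAut.conj g).toMonoidHom ≤ L} =>
          Q.map (MulAut.conj (g : H)).toMonoidHom) ⟨g, hg⟩
      have h5 := hL.2 _ (centralizer_le hQLo) hc
      have h6 : Q.map (MulAut.conj g).toMonoidHom ≤ normalizer (Q : Set H) :=
        hgLo.trans (hLoU.trans h5)
      have h7 : IsPGroup p (Q ⊔ Q.map (MulAut.conj g).toMonoidHom : Subgroup H) :=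
        IsPGroup.to_sup_of_normal_left' hQp (isPGroup_map_conj hQp g) h6
      exact (wc_of_pgroup hwc h7 le_sup_left le_sup_right).le
  · intro R₀ hR₀p hR₀1 hpar
    have h1 : R₀ ≤ Cfsg.Agent.H5.pCoreIn p (normalizer (R₀ : Set H)) :=
      Cfsg.Agent.H5.le_pCoreIn le_normalizer hR₀p le_rfl
    have h2 : Cfsg.pCore p ↥(normalizer (R₀ : Set H)) ≠ ⊥ := by
      intro h
      apply hR₀1
      rw [Cfsg.Agent.H5.pCoreIn, h, Subgroup.map_bot] at h1
      exact eq_bot_iff.2 h1
    have h3 := part2 _ hpar h2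
    exact (Cfsg.Agent.H5.charPIn_iff_centralizer_le p _).1
      ⟨Cfsg.Agent.H5.pCoreIn p _, Cfsg.Agent.H5.pCoreIn_le p _, Cfsg.Agent.H5.pCoreIn_isPGroup p _,
        Cfsg.Agent.H5.le_normalizer_pCoreIn p _, inf_le_right.trans h3⟩

end Cfsg.Agent.S2845
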