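import Cfsg.Statements.S1900
import Cfsg.Agent.S2845
import Cfsg.Agent.Lib_helper7_Gen6
import Cfsg.Agent.Lib_helper1_Coprime

set_option autoImplicit false
open Cfsg

universe u
namespace Cfsg.Agent.S1900

open Subgroup Cfsg.Agent.H7
open scoped Pointwise commutatorElement

theorem card_map_of_disjoint {G H : Type*} [Group G] [Group H] (f : G →* H) (Q : Subgroup G)
    (h : Q ⊓ f.ker = ⊥) : Nat.card (Q.map f) = Nat.card Q := by
  have hinj : Function.Injective (f.domRestrict Q) := by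
    rw [injective_iff_map_eq_one]
    intro a ha
    have h1 : (a : G) ∈ Q ⊓ f.ker := mem_inf.2 ⟨a.2, ha⟩
    rw [h, mem_bot] at h1
    exact Subtype.ext h1
  rw [← MonoidHom.domRestrict_range]
  exact (Nat.card_congr (MonoidHom.ofInjective hinj).toEquiv).symm

theorem eq_of_prime_card {G : Type*} [Group G] [Finite G] {q : ℕ} (hq : q.Prime) {B X : Subgroup G}
    (hB : Nat.card B = q) (hX : Nat.card X = q) {b : G} (hb : b ∈ B) (hb1 : b ≠ 1) (hbX : b ∈ X) :
    B = X := by
  haveI := Fact.mk hq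
  have h1 : zpowers b = B := by
    apply Subgroup.eq_of_le_of_card_ge (zpowers_le.2 hb)
    rw [hB, Nat.card_zpowers]
    have h2 : orderOf b ∣ q := by
      rw [← hB]
      have := orderOf_dvd_natCard (⟨b, hb⟩ : B)
      rwa [Subgroup.orderOf_mk] at this
    rcases (Nat.dvd_prime hq).1 h2 with h3 | h3
    · exact absurd (orderOf_eq_one_iff.1 h3) hb1
    · exact h3.ge
  apply Subgroup.eq_of_le_of_card_ge
  · rw [← h1]; exact zpowers_le.2 hbX
  · rw [hB, hX]

theorem comm_aux (n : ℕ) : ∀ (S : Type u) [Group S] [Finite S] (p q : ℕ) [Fact p.Prime]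
    [Fact q.Prime] (_ : p ≠ q) (P Q X₁ X₂ : Subgroup S), Nat.card S ≤ n → P.Normal → IsPGroup p P →
    P ⊔ Q = ⊤ → (∀ x ∈ Q, ∀ y ∈ Q, x * y = y * x) → (∀ a ∈ Q, a ^ q = 1) → Nat.card Q = q ^ 2 →
    X₁ ≤ Q → X₂ ≤ Q → Nat.card X₁ = q → Nat.card X₂ = q → X₁ ⊔ X₂ = Q →
    (∀ x ∈ Q, x ∉ X₁ → x ∉ X₂ → P ⊓ centralizer {x} = ⊥) →
    ⁅P ⊓ centralizer (X₁ : Set S), P ⊓ centralizer (X₂ : Set S)⁆ = ⊥ := by
  induction n with
  | zero =>
    intro S _ _ p q _ _ _ P Q X₁ X₂ hn
    exact absurd hn (by have := Nat.card_pos (α := S); omega)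
  | succ n ih =>
  intro S _ _ p q _ _ hpq P Q X₁ X₂ hn hPn hPp hS hQc hQe hQcard h₁ h₂ hc₁ hc₂ hsup hH
  have hp : p.Prime := Fact.out
  have hq : q.Prime := Fact.out
  by_cases hP1 : P = ⊥
  · rw [hP1, bot_inf_eq]; exact Subgroup.commutator_bot_left _
  have hQq : IsPGroup q Q := IsPGroup.of_card hQcard
  have hnP : ∀ X : Subgroup S, X ≤ normalizer (P : Set S) := by
    intro X; rw [normalizer_eq_top]; exact le_top
  have hcopQ : ∀ (A D : Subgroup S), A ≤ Q → D ≤ P → (Nat.card A).Coprime (Nat.card D) := by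
    intro A D hA hD
    obtain ⟨a, ha⟩ := (hQq.to_le hA).exists_card_eq
    obtain ⟨d, hd⟩ := (hPp.to_le hD).exists_card_eq
    rw [ha, hd]
    exact Nat.Coprime.pow _ _ ((Nat.coprime_primes hq hp).2 hpq.symm)
  have hsolQ : ∀ A : Subgroup S, A ≤ Q → Group.IsSolvable A := by
    intro A hA
    exact Group.isSolvable_of_comm (fun a b => Subtype.ext (hQc a (hA a.2) b (hA b.2)))
  set Z := P ⊓ centralizer (P : Set S) with hZ
  have hZ1 : Z ≠ ⊥ := Cfsg.Agent.S2845.inf_centralizer_ne_bot hPp hPp le_normalizer hP1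
  have hnZ : ∀ X : Subgroup S, X ≤ normalizer (Z : Set S) := by
    intro X x hx
    exact Cfsg.Agent.S2842.mem_normalizer_inf (hnP X hx)
      (Cfsg.Agent.H5.normalizer_le_normalizer_centralizer P (hnP X hx))
  -- the symmetric step
  have step : ∀ X₁ X₂ : Subgroup S, X₁ ≤ Q → X₂ ≤ Q → Nat.card X₁ = q → Nat.card X₂ = q →
      X₁ ⊔ X₂ = Q → (∀ x ∈ Q, x ∉ X₁ → x ∉ X₂ → P ⊓ centralizer {x} = ⊥) →
      Z ⊓ centralizer (X₁ : Set S) ≠ ⊥ →
      ⁅P ⊓ centralizer (X₁ : Set S), P ⊓ centralizer (X₂ : Set S)⁆ = ⊥ := by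
    intro X₁ X₂ h₁ h₂ hc₁ hc₂ hsup hH hZ₀1
    set Z₀ := Z ⊓ centralizer (X₁ : Set S) with hZ₀
    have hZ₀P : Z₀ ≤ P := inf_le_left.trans inf_le_left
    have hZ₀n : Z₀.Normal := by
      rw [← normalizer_eq_top_iff, eq_top_iff, ← hS]
      apply sup_le
      · have : P ≤ centralizer (Z₀ : Set S) := by
          rw [le_centralizer_iff]; exact inf_le_left.trans inf_le_right
        exact this.trans (centralizer_le_normalizer _)
      · intro x hx
        apply Cfsg.Agent.S2842.mem_normalizer_inf (hnZ Q hx)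
        apply le_normalizer
        rw [mem_centralizer_iff]
        intro y hy
        exact hQc y (h₁ hy) x hx
    set π := QuotientGroup.mk' Z₀ with hπ
    have hπs : Function.Surjective π := QuotientGroup.mk'_surjective Z₀
    have hker : π.ker = Z₀ := QuotientGroup.ker_mk' Z₀
    have hcardlt : Nat.card (S ⧸ Z₀) ≤ n := by
      have h1 : Nat.card (S ⧸ Z₀) * Nat.card Z₀ = Nat.card S :=
        (Subgroup.card_eq_card_quotient_mul_card_subgroup Z₀).symm
      have h2 : 1 < Nat.card Z₀ := by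
        rcases Nat.lt_or_ge 1 (Nat.card Z₀) with h | h
        · exact h
        · exact absurd (card_eq_one.1 (le_antisymm h Nat.card_pos)) hZ₀1
      have h3 : 0 < Nat.card (S ⧸ Z₀) := Nat.card_pos
      nlinarith
    have hdisj : ∀ A : Subgroup S, A ≤ Q → A ⊓ π.ker = ⊥ := by
      intro A hA
      rw [hker]
      exact (disjoint_of_coprime_natCard (hcopQ A Z₀ hA hZ₀P)).eq_bot
    have hIH := ih (S ⧸ Z₀) p q hpq (P.map π) (Q.map π) (X₁.map π) (X₂.map π) hcardlt
      (hPn.map π hπs) (hPp.map π) (by rw [← Subgroup.map_sup, hS, map_top_of_surjective π hπs])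
      (by
        rintro _ ⟨x, hx, rfl⟩ _ ⟨y, hy, rfl⟩
        rw [← map_mul, ← map_mul, hQc x hx y hy])
      (by
        rintro _ ⟨x, hx, rfl⟩
        rw [← map_pow, hQe x hx, map_one])
      (by rw [card_map_of_disjoint π Q (hdisj Q le_rfl), hQcard])
      (map_mono h₁) (map_mono h₂)
      (by rw [card_map_of_disjoint π X₁ (hdisj X₁ h₁), hc₁])
      (by rw [card_map_of_disjoint π X₂ (hdisj X₂ h₂), hc₂])
      (by rw [← Subgroup.map_sup, hsup])
      (by
        rintro _ ⟨x, hx, rfl⟩ hx1 hx2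
        have hx1' : x ∉ X₁ := fun h => hx1 ⟨x, h, rfl⟩
        have hx2' : x ∉ X₂ := fun h => hx2 ⟨x, h, rfl⟩
        have hxP := hH x hx hx1' hx2'
        rw [eq_bot_iff]
        rintro _ ⟨⟨y, hy, rfl⟩, hyc⟩
        rw [mem_bot]
        have hyc' : π y * π x = π x * π y := by
          have := mem_centralizer_singleton_iff.1 hyc
          exact this
        have hAQ : zpowers x ≤ Q := zpowers_le.2 hx
        obtain ⟨d, hd, hdc⟩ := Cfsg.Agent.H1.coprime_key (zpowers x) Z₀
          (by rw [normalizer_eq_top]; exact le_top) (hcopQ _ _ hAQ hZ₀P)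
          (Or.inl (hsolQ _ hAQ)) y (by
            rintro _ ⟨k, rfl⟩
            rw [← hker, MonoidHom.mem_ker]
            simp only [map_mul, map_inv, map_zpow]
            have hcomm : Commute (π y) (π x) := hyc'
            have h2 : Commute (π y)⁻¹ ((π x) ^ k) := (hcomm.zpow_right k).inv_left
            calc ((π x) ^ k)⁻¹ * (π y)⁻¹ * (π x) ^ k * π y
                = ((π x) ^ k)⁻¹ * ((π y)⁻¹ * (π x) ^ k) * π y := by group
              _ = ((π x) ^ k)⁻¹ * ((π x) ^ k * (π y)⁻¹) * π y := by rw [h2.eq]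
              _ = 1 := by group)
        have h3 : y * d ∈ P ⊓ centralizer {x} := by
          refine mem_inf.2 ⟨mul_mem hy (hZ₀P hd), ?_⟩
          rw [mem_centralizer_singleton_iff]
          exact ((mem_centralizer_iff.1 hdc) x (mem_zpowers x)).symm
        rw [hxP, mem_bot] at h3
        have h4 : y = d⁻¹ := eq_inv_of_mul_eq_one_left h3
        have h5 : y ∈ π.ker := by rw [hker, h4]; exact inv_mem hd
        exact h5)
    set P₁ := P ⊓ centralizer (X₁ : Set S) with hP₁
    set P₂ := P ⊓ centralizer (X₂ : Set S) with hP₂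
    have hmapc : ∀ X : Subgroup S, (P ⊓ centralizer (X : Set S)).map π ≤
        P.map π ⊓ centralizer ((X.map π : Subgroup (S ⧸ Z₀)) : Set (S ⧸ Z₀)) := by
      rintro X _ ⟨y, hy, rfl⟩
      refine mem_inf.2 ⟨⟨y, (mem_inf.1 hy).1, rfl⟩, ?_⟩
      rw [mem_centralizer_iff]
      rintro _ ⟨x, hx, rfl⟩
      rw [← map_mul, ← map_mul, (mem_centralizer_iff.1 (mem_inf.1 hy).2) x hx]
    have h12 : ⁅P₁, P₂⁆ ≤ Z₀ := by
      rw [← hker, ← Subgroup.map_eq_bot_iff, Subgroup.map_commutator, eq_bot_iff, ← hIH]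
      exact commutator_mono (hmapc X₁) (hmapc X₂)
    -- an element outside `X₁ ∪ X₂`
    have hinf : X₁ ⊓ X₂ = ⊥ := by
      have c1 := Cfsg.Agent.H1.card_sup_mul_card_inf' X₁ X₂ (by
        intro x hx
        rw [mem_normalizer_iff]
        intro y
        constructor
        · intro hy
          have : x * y * x⁻¹ = y := by rw [hQc x (h₂ hx) y (h₁ hy)]; group
          rw [this]; exact hy
        · intro hy
          have h3 : x⁻¹ * (x * y * x⁻¹) * x = x * y * x⁻¹ := by
            rw [hQc x⁻¹ (inv_mem (h₂ hx)) _ (h₁ hy)]; group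
          have h4 : x⁻¹ * (x * y * x⁻¹) * x = y := by group
          rw [← h4, h3]; exact hy)
      rw [hsup, hQcard, hc₁, hc₂, pow_two] at c1
      have c2 : Nat.card (X₁ ⊓ X₂ : Subgroup S) = 1 := by
        have hpos : 0 < q * q := Nat.mul_pos hq.pos hq.pos
        exact Nat.eq_of_mul_eq_mul_left hpos (by rw [c1, mul_one])
      exact card_eq_one.1 c2
    have hP12 : P₂ ⊓ centralizer (X₁ : Set S) = ⊥ := by
      obtain ⟨x₁, hx₁, hx₁1⟩ : ∃ x ∈ X₁, x ≠ 1 := by
        by_contra hcon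
        push Not at hcon
        have : X₁ = ⊥ := (eq_bot_iff_forall _).2 hcon
        rw [this, card_bot] at hc₁
        exact hq.one_lt.ne hc₁
      obtain ⟨x₂, hx₂, hx₂1⟩ : ∃ x ∈ X₂, x ≠ 1 := by
        by_contra hcon
        push Not at hcon
        have : X₂ = ⊥ := (eq_bot_iff_forall _).2 hcon
        rw [this, card_bot] at hc₂
        exact hq.one_lt.ne hc₂
      have h3 := hH (x₁ * x₂) (mul_mem (h₁ hx₁) (h₂ hx₂))
        (by
          intro h
          have : x₂ ∈ X₁ := by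
            have := mul_mem (inv_mem hx₁) h
            rwa [inv_mul_cancel_left] at this
          have h4 : x₂ ∈ X₁ ⊓ X₂ := mem_inf.2 ⟨this, hx₂⟩
          rw [hinf, mem_bot] at h4
          exact hx₂1 h4)
        (by
          intro h
          have : x₁ ∈ X₂ := by
            have := mul_mem h (inv_mem hx₂)
            rwa [mul_inv_cancel_right] at this
          have h4 : x₁ ∈ X₁ ⊓ X₂ := mem_inf.2 ⟨hx₁, this⟩
          rw [hinf, mem_bot] at h4
          exact hx₁1 h4)
      rw [eq_bot_iff, ← h3]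
      intro y hy
      have hy1 := (mem_inf.1 hy).2
      have hy2 := (mem_inf.1 (mem_inf.1 hy).1).2
      refine mem_inf.2 ⟨(mem_inf.1 (mem_inf.1 hy).1).1, ?_⟩
      rw [mem_centralizer_singleton_iff]
      have e1 := (mem_centralizer_iff.1 hy1) x₁ hx₁
      have e2 := (mem_centralizer_iff.1 hy2) x₂ hx₂
      rw [← mul_assoc, ← e1, mul_assoc, ← e2, mul_assoc]
    have hX₁P₂ : X₁ ≤ normalizer (P₂ : Set S) := by
      intro x hx
      apply Cfsg.Agent.S2842.mem_normalizer_inf (hnP X₁ hx)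
      apply le_normalizer
      rw [mem_centralizer_iff]
      intro y hy
      exact hQc y (h₂ hy) x (h₁ hx)
    have hP₂comm : ⁅P₂, X₁⁆ = P₂ := by
      have := Cfsg.Agent.H1.coprime_comm_sup_centralizer X₁ P₂ hX₁P₂ (hcopQ _ _ h₁ inf_le_left)
        (Or.inl (hsolQ _ h₁))
      rwa [hP12, sup_bot_eq] at this
    have h3 : ⁅⁅P₂, X₁⁆, P₁⁆ = ⊥ := by
      apply commutator_commutator_eq_bot_of_rotate
      · have : ⁅X₁, P₁⁆ = ⊥ := by
          rw [commutator_eq_bot_iff_le_centralizer, le_centralizer_iff]; exact inf_le_right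
        rw [this]; exact Subgroup.commutator_bot_left _
      · rw [eq_bot_iff]
        have : ⁅Z₀, X₁⁆ = ⊥ := by
          rw [commutator_eq_bot_iff_le_centralizer]; exact inf_le_right
        rw [← this]
        exact commutator_mono h12 le_rfl
    rw [hP₂comm] at h3
    rw [commutator_comm]; exact h3
  -- find the hyperplane
  obtain ⟨B, hBQ, hBi, hBne⟩ : ∃ B : Subgroup S, B ≤ Q ∧ B.relIndex Q = q ∧
      Z ⊓ centralizer (B : Set S) ≠ ⊥ := by
    by_contra hcon
    push Not at hcon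
    apply hZ1
    rw [eq_bot_iff]
    have hQne : Q ≠ ⊥ := by
      intro h
      rw [h, card_bot] at hQcard
      have := hq.one_lt
      nlinarith
    apply hyperplane_generation Q Z ⊥ hQc hQe hQne _ (hnZ Q)
    · intro B hB hBi
      rw [hcon B hB hBi]
    · intro hd
      obtain ⟨k, hk⟩ := (hPp.to_le (inf_le_left : Z ≤ P)).exists_card_eq
      rw [hk] at hd
      exact hpq ((Nat.prime_dvd_prime_iff_eq hq hp).1 (hq.dvd_of_dvd_pow hd)).symm
  have hBc : Nat.card B = q := by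
    have h1 := Cfsg.Agent.H1.relIndex_mul_card' hBQ
    rw [hBi, hQcard, pow_two] at h1
    exact Nat.eq_of_mul_eq_mul_left hq.pos h1
  obtain ⟨b, hb, hb1⟩ : ∃ x ∈ B, x ≠ 1 := by
    by_contra hcon
    push Not at hcon
    have : B = ⊥ := (eq_bot_iff_forall _).2 hcon
    rw [this, card_bot] at hBc
    exact hq.one_lt.ne hBc
  by_cases hb₁ : b ∈ X₁
  · have hBX := eq_of_prime_card hq hBc hc₁ hb hb1 hb₁
    rw [hBX] at hBne
    exact step X₁ X₂ h₁ h₂ hc₁ hc₂ hsup hH hBne
  by_cases hb₂ : b ∈ X₂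
  · have hBX := eq_of_prime_card hq hBc hc₂ hb hb1 hb₂
    rw [hBX] at hBne
    rw [commutator_comm]
    exact step X₂ X₁ h₂ h₁ hc₂ hc₁ (by rw [sup_comm]; exact hsup)
      (fun x hx h1 h2 => hH x hx h2 h1) hBne
  · exfalso
    apply hBne
    rw [eq_bot_iff, ← hH b (hBQ hb) hb₁ hb₂]
    exact inf_le_inf inf_le_left (centralizer_le (by
      intro t ht
      have : t = b := ht
      rw [this]; exact hb))

/-- Let S = PQ be a finite group with P a normal Sylow p-subgroup and Q elementary abelian of order q², q a prime different from p. If exactly two subgroups X₁, X₂ of order q in Q have a nontrivial centralizer in P, then P is the internal direct product of C_P(X₁) and C_P(X₂): they commute elementwise, meet trivially and generate P. -/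
theorem result {S : Type*} [Group S] [Finite S] {p q : ℕ} [Fact p.Prime] [Fact q.Prime] (hpq : p ≠ q)
    (P : Sylow p S) [(P : Subgroup S).Normal] (Q : Subgroup S) (hQ : Cfsg.IsElementaryAbelian q Q) (hQc : Nat.card Q = q ^ 2)
    (hS : (P : Subgroup S) ⊔ Q = ⊤)
    (X₁ X₂ : Subgroup S) (h₁ : X₁ ≤ Q) (h₂ : X₂ ≤ Q) (h₁₂ : X₁ ≠ X₂) (hc₁ : Nat.card X₁ = q) (hc₂ : Nat.card X₂ = q)
    (hf₁ : (P : Subgroup S) ⊓ Subgroup.centralizer (X₁ : Set S) ≠ ⊥)
    (hf₂ : (P : Subgroup S) ⊓ Subgroup.centralizer (X₂ : Set S) ≠ ⊥)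
    (honly : ∀ X : Subgroup S, X ≤ Q → Nat.card X = q →
      (P : Subgroup S) ⊓ Subgroup.centralizer (X : Set S) ≠ ⊥ → X = X₁ ∨ X = X₂) :
    ⁅(P : Subgroup S) ⊓ Subgroup.centralizer (X₁ : Set S), (P : Subgroup S) ⊓ Subgroup.centralizer (X₂ : Set S)⁆ = ⊥ ∧
      ((P : Subgroup S) ⊓ Subgroup.centralizer (X₁ : Set S)) ⊓ ((P : Subgroup S) ⊓ Subgroup.centralizer (X₂ : Set S)) = ⊥ ∧
      ((P : Subgroup S) ⊓ Subgroup.centralizer (X₁ : Set S)) ⊔ ((P : Subgroup S) ⊓ Subgroup.centralizer (X₂ : Set S)) = P := by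
  have hp : p.Prime := Fact.out
  have hq : q.Prime := Fact.out
  obtain ⟨hQm, hQe⟩ := hQ
  have hQcm : ∀ x ∈ Q, ∀ y ∈ Q, x * y = y * x := by
    intro x hx y hy
    exact congrArg Subtype.val (mul_comm' (⟨x, hx⟩ : Q) ⟨y, hy⟩)
  have hH : ∀ x ∈ Q, x ∉ X₁ → x ∉ X₂ → (P : Subgroup S) ⊓ centralizer {x} = ⊥ := by
    intro x hx hx1 hx2
    by_contra hne
    have hx0 : x ≠ 1 := fun h => hx1 (h ▸ one_mem _)
    have hord : orderOf x = q := by
      rcases (Nat.dvd_prime hq).1 (orderOf_dvd_of_pow_eq_one (hQe x hx)) with h | h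
      · exact absurd (orderOf_eq_one_iff.1 h) hx0
      · exact h
    have h1 := honly (zpowers x) (zpowers_le.2 hx) (by rw [Nat.card_zpowers, hord])
      (by rw [centralizer_zpowers_eq]; exact hne)
    rcases h1 with h1 | h1
    · exact hx1 (h1 ▸ mem_zpowers x)
    · exact hx2 (h1 ▸ mem_zpowers x)
  have hsup : X₁ ⊔ X₂ = Q := by
    have hle : X₁ ⊔ X₂ ≤ Q := sup_le h₁ h₂
    have hlt : X₁ < X₁ ⊔ X₂ := by
      refine lt_of_le_of_ne le_sup_left ?_
      intro he
      apply h₁₂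
      have h3 : X₂ ≤ X₁ := by rw [he]; exact le_sup_right
      exact (Subgroup.eq_of_le_of_card_ge h3 (by rw [hc₁, hc₂])).symm
    have h4 : Nat.card (X₁ ⊔ X₂ : Subgroup S) ∣ q ^ 2 := hQc ▸ Subgroup.card_dvd_of_le hle
    obtain ⟨k, hk, hk'⟩ := (Nat.dvd_prime_pow hq).1 h4
    have h5 : q < Nat.card (X₁ ⊔ X₂ : Subgroup S) := hc₁ ▸ card_lt_of_lt hlt
    have h6 : k = 2 := by
      rw [hk'] at h5
      have : 1 < k := by
        by_contra hcon
        have hk1 : k ≤ 1 := by omega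
        have := Nat.pow_le_pow_right hq.pos hk1
        rw [pow_one] at this
        omega
      omega
    apply Subgroup.eq_of_le_of_card_ge hle
    rw [hk', h6, hQc]
  have hcomm := comm_aux (Nat.card S) S p q hpq (P : Subgroup S) Q X₁ X₂ le_rfl inferInstance P.2 hS
    hQcm hQe hQc h₁ h₂ hc₁ hc₂ hsup hH

  refine ⟨hcomm, ?_, ?_⟩
  · obtain ⟨x₁, hx₁, hx₁1⟩ : ∃ x ∈ X₁, x ≠ 1 := by
      by_contra hcon
      push Not at hcon
      have : X₁ = ⊥ := (eq_bot_iff_forall _).2 hcon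
      rw [this, card_bot] at hc₁
      exact hq.one_lt.ne hc₁
    obtain ⟨x₂, hx₂, hx₂1⟩ : ∃ x ∈ X₂, x ≠ 1 := by
      by_contra hcon
      push Not at hcon
      have : X₂ = ⊥ := (eq_bot_iff_forall _).2 hcon
      rw [this, card_bot] at hc₂
      exact hq.one_lt.ne hc₂
    have h3 := hH (x₁ * x₂) (mul_mem (h₁ hx₁) (h₂ hx₂))
      (by
        intro h
        have : x₂ ∈ X₁ := by
          have := mul_mem (inv_mem hx₁) h
          rwa [inv_mul_cancel_left] at this
        exact h₁₂ (eq_of_prime_card hq hc₂ hc₁ hx₂ hx₂1 this).symm)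
      (by
        intro h
        have : x₁ ∈ X₂ := by
          have := mul_mem h (inv_mem hx₂)
          rwa [mul_inv_cancel_right] at this
        exact h₁₂ (eq_of_prime_card hq hc₁ hc₂ hx₁ hx₁1 this))
    rw [eq_bot_iff, ← h3]
    intro y hy
    have hy1 := (mem_inf.1 (mem_inf.1 hy).1).2
    have hy2 := (mem_inf.1 (mem_inf.1 hy).2).2
    refine mem_inf.2 ⟨(mem_inf.1 (mem_inf.1 hy).1).1, ?_⟩
    rw [mem_centralizer_singleton_iff]
    have e1 := (mem_centralizer_iff.1 hy1) x₁ hx₁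
    have e2 := (mem_centralizer_iff.1 hy2) x₂ hx₂
    rw [← mul_assoc, ← e1, mul_assoc, ← e2, mul_assoc]
  · apply le_antisymm (sup_le inf_le_left inf_le_left)
    have hQne : Q ≠ ⊥ := by
      intro h
      rw [h, card_bot] at hQc
      have := hq.one_lt
      nlinarith
    apply hyperplane_generation Q (P : Subgroup S) _ hQcm hQe hQne _
      (by rw [normalizer_eq_top]; exact le_top)
    · intro B hBQ hBi
      have hBc : Nat.card B = q := by
        have h1 := Cfsg.Agent.H1.relIndex_mul_card' hBQ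
        rw [hBi, hQc, pow_two] at h1
        exact Nat.eq_of_mul_eq_mul_left hq.pos h1
      by_cases hB : (P : Subgroup S) ⊓ centralizer (B : Set S) = ⊥
      · rw [hB]; exact bot_le
      · rcases honly B hBQ hBc hB with rfl | rfl
        · exact le_sup_left
        · exact le_sup_right
    · intro hd
      obtain ⟨k, hk⟩ := P.2.exists_card_eq
      rw [hk] at hd
      exact hpq ((Nat.prime_dvd_prime_iff_eq hq hp).1 (hq.dvd_of_dvd_pow hd)).symm

end Cfsg.Agent.S1900
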