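import Cfsg.Statements.S1921
import Cfsg.Agent.Lib_helper5_Comp2
import Cfsg.Agent.Lib_helper3_Solv
import Cfsg.Agent.Lib_helper1_SZ

set_option autoImplicit false
open Cfsg

namespace Cfsg.Agent.S1921

open Subgroup Cfsg.Agent.H5

/-- Let a be an involution of a finite group H and L a component of H with a L a⁻¹ ≠ L; put M = ⟨L, aLa⁻¹⟩ and let J be the subgroup generated by the elements x · a x a⁻¹ with x ∈ L (the diagonal). Then every element of M outside J·Z(M) generates M together with J. -/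
theorem result {H : Type*} [Group H] [Finite H] (a : H) (ha : orderOf a = 2) (L : Subgroup H) (hL : Cfsg.IsComponent L)
    (hLa : L.map (MulAut.conj a).toMonoidHom ≠ L) (x : H) (hxM : x ∈ L ⊔ L.map (MulAut.conj a).toMonoidHom)
    (hxJ : x ∉ Subgroup.closure {y : H | ∃ l ∈ L, y = l * (a * l * a⁻¹)} ⊔
      ((L ⊔ L.map (MulAut.conj a).toMonoidHom) ⊓ Subgroup.centralizer ((L ⊔ L.map (MulAut.conj a).toMonoidHom : Subgroup H) : Set H))) :
    Subgroup.closure {y : H | ∃ l ∈ L, y = l * (a * l * a⁻¹)} ⊔ Subgroup.zpowers x = L ⊔ L.map (MulAut.conj a).toMonoidHom := by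
  set La := L.map (MulAut.conj a).toMonoidHom with hLadef
  set J := Subgroup.closure {y : H | ∃ l ∈ L, y = l * (a * l * a⁻¹)} with hJ
  have hLa' : Cfsg.IsComponent La := component_conj hL a
  have hcomm0 : ⁅L, La⁆ = ⊥ := components_commute hL hLa' (Ne.symm hLa)
  have hLaC : La ≤ centralizer (L : Set H) := by
    rw [commutator_comm, commutator_eq_bot_iff_le_centralizer] at hcomm0
    exact hcomm0
  have hmemLa : ∀ l ∈ L, a * l * a⁻¹ ∈ La := fun l hl => ⟨l, hl, by simp⟩
  have hcm : ∀ l ∈ L, ∀ m ∈ La, l * m = m * l := fun l hl m hm =>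
    mem_centralizer_iff.1 (hLaC hm) l hl
  have hπJ : ∀ l ∈ L, l * (a * l * a⁻¹) ∈ J := fun l hl => subset_closure ⟨l, hl, rfl⟩
  set Y := J ⊔ zpowers x with hY
  have hJY : J ≤ Y := le_sup_left
  have hxY : x ∈ Y := le_sup_right (α := Subgroup H) (mem_zpowers x)
  have hJM : J ≤ L ⊔ La := by
    rw [hJ, closure_le]
    rintro _ ⟨l, hl, rfl⟩
    exact mul_mem (mem_sup_left hl) (mem_sup_right (hmemLa l hl))
  apply le_antisymm (sup_le hJM (zpowers_le.2 hxM))
  -- decompose x
  have hLaN : La ≤ normalizer (L : Set H) := hLaC.trans (centralizer_le_normalizer _)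
  obtain ⟨u, hu, m, hm, hx⟩ := H3.mem_sup_of_le_normalizer hLaN hxM
  obtain ⟨v, hv, rfl⟩ := hm
  have hva : (MulAut.conj a).toMonoidHom v = a * v * a⁻¹ := by simp
  rw [hva] at hx
  set w := u * v⁻¹ with hw
  have hwL : w ∈ L := L.mul_mem hu (L.inv_mem hv)
  have hxw : x = w * (v * (a * v * a⁻¹)) := by
    rw [hx, hw]; group
  have hwY : w ∈ Y := by
    have e : w = x * (v * (a * v * a⁻¹))⁻¹ := by rw [hxw]; group
    rw [e]
    exact mul_mem hxY (inv_mem (hJY (hπJ v hv)))
  have hwC : w ∉ centralizer (L : Set H) := by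
    intro hwc
    apply hxJ
    rw [hxw]
    refine mul_mem (mem_sup_right ⟨mem_sup_left hwL, ?_⟩) (mem_sup_left (hπJ v hv))
    have h1 : L ⊔ La ≤ centralizer ({w} : Set H) := by
      apply sup_le
      · intro l hl
        rw [mem_centralizer_singleton_iff]
        exact mem_centralizer_iff.1 hwc l hl
      · intro m hm
        rw [mem_centralizer_singleton_iff]
        exact (hcm w hwL m hm).symm
    show w ∈ centralizer ((L ⊔ La : Subgroup H) : Set H)
    rw [mem_centralizer_iff]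
    intro g hg
    exact mem_centralizer_singleton_iff.1 (h1 hg)
  have hn : L ≤ normalizer ((Y ⊓ L : Subgroup H) : Set H) := by
    apply H1.le_normalizer_of_forall
    intro l hl y hy
    refine ⟨?_, L.mul_mem (L.mul_mem hl hy.2) (L.inv_mem hl)⟩
    have h1 : (l * (a * l * a⁻¹)) * y * (l * (a * l * a⁻¹))⁻¹ ∈ Y :=
      mul_mem (mul_mem (hJY (hπJ l hl)) hy.1) (inv_mem (hJY (hπJ l hl)))
    have e : (l * (a * l * a⁻¹)) * y * (l * (a * l * a⁻¹))⁻¹ = l * y * l⁻¹ := by
      have h2 := hcm y hy.2 _ (hmemLa l hl)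
      calc (l * (a * l * a⁻¹)) * y * (l * (a * l * a⁻¹))⁻¹
          = l * ((a * l * a⁻¹) * y) * (a * l * a⁻¹)⁻¹ * l⁻¹ := by group
        _ = l * (y * (a * l * a⁻¹)) * (a * l * a⁻¹)⁻¹ * l⁻¹ := by rw [h2]
        _ = l * y * l⁻¹ := by group
    rw [← e]; exact h1
  rcases qs_normal_dichotomy hL.2 (inf_le_right : Y ⊓ L ≤ L) hn with h | h
  · have hLY : L ≤ Y := inf_eq_right.1 h
    apply sup_le hLY
    rintro _ ⟨l, hl, rfl⟩
    have e : (MulAut.conj a).toMonoidHom l = l⁻¹ * (l * (a * l * a⁻¹)) := by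
      simp
    rw [e]
    exact mul_mem (inv_mem (hLY hl)) (hJY (hπJ l hl))
  · exact absurd (h ⟨hwY, hwL⟩) hwC

end Cfsg.Agent.S1921
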