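import Mathlib
import Cfsg.Statements.S1946
import Cfsg.Agent.Lib_helper1_MinAct4

set_option autoImplicit false
open Cfsg

namespace Cfsg.Agent.S1946

open Cfsg.Agent.H1
open scoped Pointwise commutatorElement

/-- Let P be a Sylow p-subgroup of the finite group G. Then G has a normal p-complement if and only if P controls the fusion of its elements of order dividing p (dividing 4 when p = 2): whenever such an element a of P has a G-conjugate g a g⁻¹ in P, that conjugate is already x a x⁻¹ for some x in P. -/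
theorem result {G : Type*} [Group G] [Finite G] {p : ℕ} [Fact p.Prime] (P : Sylow p G) :
    Cfsg.HasNormalPComplement p G ↔
      ∀ a ∈ (P : Subgroup G), (a ^ p = 1 ∨ (p = 2 ∧ a ^ 4 = 1)) → ∀ g : G, g * a * g⁻¹ ∈ (P : Subgroup G) →
        ∃ x ∈ (P : Subgroup G), g * a * g⁻¹ = x * a * x⁻¹ := by
  have hp : p.Prime := Fact.out
  constructor
  · rintro ⟨P₀, K, hK, hc⟩ a ha _ g hg
    -- move to P
    obtain ⟨g₀, rfl⟩ := MulAction.exists_smul_eq G P P₀
    have hcop : Nat.Coprime (Nat.card K) (Nat.card (P : Subgroup G)) := by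
      have h1 := coprime_card_of_complement _ K hc
      obtain ⟨n, hn⟩ := P.isPGroup'.exists_card_eq
      rw [hn]
      exact Nat.Coprime.pow_right _ h1
    have hdisj : Disjoint K (P : Subgroup G) := Subgroup.disjoint_of_coprime_natCard hcop
    have hc' : K.IsComplement' (P : Subgroup G) := by
      have hcard := hc.card_mul_card
      rw [Sylow.coe_subgroup_smul, card_conj_smul] at hcard
      exact Subgroup.isComplement'_of_card_mul_and_disjoint hcard hdisj
    obtain ⟨⟨⟨x, hx⟩, ⟨k, hk⟩⟩, hkx⟩ := hc'.symm.2 g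
    have hkx' : x * k = g := hkx
    refine ⟨x, hx, ?_⟩
    have h1 : k * a * k⁻¹ ∈ (P : Subgroup G) := by
      have h2 : k * a * k⁻¹ = x⁻¹ * (g * a * g⁻¹) * x := by rw [← hkx']; group
      rw [h2]
      exact mul_mem (mul_mem (inv_mem hx) hg) hx
    have h3 : k * a * k⁻¹ * a⁻¹ ∈ (P : Subgroup G) := mul_mem h1 (inv_mem ha)
    have h4 : k * a * k⁻¹ * a⁻¹ ∈ K := by
      have h5 : k * a * k⁻¹ * a⁻¹ = k * (a * k⁻¹ * a⁻¹) := by group
      rw [h5]
      exact mul_mem hk (hK.conj_mem _ (inv_mem hk) a)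
    have h6 : k * a * k⁻¹ * a⁻¹ = 1 := by
      have := (Subgroup.disjoint_def.mp hdisj) h4 h3
      exact this
    have h7 : k * a * k⁻¹ = a := by
      rw [mul_inv_eq_one] at h6
      exact h6
    rw [← hkx']
    calc x * k * a * (x * k)⁻¹ = x * (k * a * k⁻¹) * x⁻¹ := by group
      _ = x * a * x⁻¹ := by rw [h7]
  · intro h
    by_contra hn
    obtain ⟨U, y, hm⟩ := exists_minAct hn
    obtain ⟨P', hUP⟩ := hm.pgroup.exists_le_sylow
    obtain ⟨g₀, rfl⟩ := MulAction.exists_smul_eq G P P'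
    set P' := g₀ • P with hP'
    have hmem : ∀ x : G, x ∈ (P' : Subgroup G) ↔ g₀⁻¹ * x * g₀ ∈ (P : Subgroup G) := by
      intro x
      rw [hP', Sylow.coe_subgroup_smul]
      exact mem_conj_smul
    have h' : ∀ a ∈ (P' : Subgroup G), (a ^ p = 1 ∨ (p = 2 ∧ a ^ 4 = 1)) → ∀ g : G,
        g * a * g⁻¹ ∈ (P' : Subgroup G) → ∃ x ∈ (P' : Subgroup G), g * a * g⁻¹ = x * a * x⁻¹ := by
      intro a ha hsm g hg
      rw [hmem] at ha hg
      have hsm' : (g₀⁻¹ * a * g₀) ^ p = 1 ∨ (p = 2 ∧ (g₀⁻¹ * a * g₀) ^ 4 = 1) := by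
        have hc : ∀ n : ℕ, (g₀⁻¹ * a * g₀) ^ n = g₀⁻¹ * a ^ n * g₀ := by
          intro n
          have := conj_pow (a := g₀⁻¹) (b := a) (i := n)
          rw [inv_inv] at this
          exact this
        rcases hsm with h1 | ⟨h1, h2⟩
        · left; rw [hc, h1]; group
        · right; refine ⟨h1, ?_⟩; rw [hc, h2]; group
      obtain ⟨x, hx, hxe⟩ := h _ ha hsm' (g₀⁻¹ * g * g₀) (by
        have : g₀⁻¹ * g * g₀ * (g₀⁻¹ * a * g₀) * (g₀⁻¹ * g * g₀)⁻¹ = g₀⁻¹ * (g * a * g⁻¹) * g₀ := by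
          group
        rw [this]; exact hg)
      refine ⟨g₀ * x * g₀⁻¹, ?_, ?_⟩
      · rw [hmem]
        have : g₀⁻¹ * (g₀ * x * g₀⁻¹) * g₀ = x := by group
        rw [this]; exact hx
      · have e1 : g * a * g⁻¹ =
            g₀ * (g₀⁻¹ * g * g₀ * (g₀⁻¹ * a * g₀) * (g₀⁻¹ * g * g₀)⁻¹) * g₀⁻¹ := by group
        rw [e1, hxe]; group
    have hle : ∀ k : ℕ, U ≤ (Subgroup.upperCentralSeries (P' : Subgroup G) k).map
        (P' : Subgroup G).subtype → U ≤ ⊥ := by
      intro k
      induction k with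
      | zero =>
        intro h0
        simpa using h0
      | succ k ih =>
        intro hk
        apply ih
        apply hm.le_of_comm_mem
        intro x hx a ha
        have hx' : a * x⁻¹ * a⁻¹ ∈ U :=
          conj_mem_of_le_normalizer hm.le_normalizer ha (inv_mem hx)
        obtain ⟨u, hu, hue⟩ := h' x⁻¹ (hUP (inv_mem hx)) (hm.exponent _ (inv_mem hx)) a (hUP hx')
        obtain ⟨x', hx'mem, hx'e⟩ := hk hx
        have := (Subgroup.mem_upperCentralSeries_succ_iff.mp hx'mem) ⟨u, hu⟩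
        refine ⟨_, this, ?_⟩
        have hx'e' : (x' : G) = x := hx'e
        rw [commutatorElement_def]
        change (x' : G) * u * (x' : G)⁻¹ * u⁻¹ = _
        rw [hx'e']
        calc x * u * x⁻¹ * u⁻¹ = x * (u * x⁻¹ * u⁻¹) := by group
          _ = x * (a * x⁻¹ * a⁻¹) := by rw [hue]
          _ = x * a * x⁻¹ * a⁻¹ := by group
    have hnil : Group.IsNilpotent (P' : Subgroup G) := P'.isPGroup'.isNilpotent
    obtain ⟨n, hn'⟩ := hnil.nilpotent'
    have hU : U ≤ (Subgroup.upperCentralSeries (P' : Subgroup G) n).map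
        (P' : Subgroup G).subtype := by
      rw [hn', ← MonoidHom.range_eq_map, Subgroup.range_subtype]
      exact hUP
    exact hm.ne_bot (eq_bot_iff.mpr (hle n hU))

end Cfsg.Agent.S1946
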