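import Cfsg.Statements.S1948
import Cfsg.Agent.Lib_helper8_FusEE
import Cfsg.Agent.Lib_helper1_Cores2

set_option autoImplicit false
open Cfsg

namespace Cfsg.Agent.S1948

/-- Let S be a Sylow p-subgroup of the finite group G. Then G = N_G(S)·O_{p'}(G) if and only if G is p-constrained and N_G(S) controls fusion in S, in the sense that whenever a subgroup Q of S has a conjugate g Q g⁻¹ inside S, the element g is a product n c with n normalizing S and c centralizing Q. -/
theorem result {G : Type*} [Group G] [Finite G] {p : ℕ} [Fact p.Prime] (S : Sylow p G) :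
    Subgroup.normalizer ((S : Subgroup G) : Set G) ⊔ Cfsg.pPrimeCore p G = ⊤ ↔
      (Cfsg.IsPConstrained p G ∧
        ∀ Q : Subgroup G, Q ≤ (S : Subgroup G) → ∀ g : G, Q.map (MulAut.conj g).toMonoidHom ≤ (S : Subgroup G) →
          ∃ n ∈ Subgroup.normalizer ((S : Subgroup G) : Set G), ∃ c ∈ Subgroup.centralizer (Q : Set G), g = n * c) := by
  classical
  set K := Cfsg.pPrimeCore p G with hKdef
  have hK : (Nat.card K).Coprime p := H1.card_pPrimeCore_coprime p
  have hKch : K.Characteristic := H1.pPrimeCore_characteristic p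
  have hKn : K.Normal := inferInstance
  set π := QuotientGroup.mk' K with hπ
  have hsurj : Function.Surjective π := QuotientGroup.mk'_surjective K
  have hOn : (pCore p (G ⧸ K)).Normal := H1.pCore_normal p
  have hOleAll : ∀ P : Sylow p G, pCore p (G ⧸ K) ≤ (P : Subgroup G).map π := by
    intro P
    have := (H1.pCore_isPGroup (G := G ⧸ K) p).le_sylow_of_normal (P.mapSurjective hsurj)
    simpa using this
  have hOle := hOleAll S
  have hker : ∀ x y : G, π x = π y → ∃ k ∈ K, y = x * k := by
    intro x y h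
    exact ⟨x⁻¹ * y, QuotientGroup.eq.1 h, by group⟩
  constructor
  · intro htop
    have hdec : ∀ g : G, ∃ n ∈ Subgroup.normalizer ((S : Subgroup G) : Set G), ∃ x ∈ K, g = n * x := by
      intro g
      have hg : g ∈ Subgroup.normalizer ((S : Subgroup G) : Set G) ⊔ K := by rw [htop]; trivial
      obtain ⟨n, hn, x, hx, rfl⟩ := Subgroup.mem_sup_of_normal_right.1 hg
      exact ⟨n, hn, x, hx, rfl⟩
    have hπK : ∀ x ∈ K, π x = 1 := fun x hx => (QuotientGroup.eq_one_iff x).2 hx
    refine ⟨?_, ?_⟩
    · -- constraint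
      have hSn : ((S : Subgroup G).map π).Normal := by
        constructor
        intro y hy gb
        obtain ⟨g, rfl⟩ := hsurj gb
        obtain ⟨s, hs, rfl⟩ := hy
        obtain ⟨n, hn, x, hx, rfl⟩ := hdec g
        refine ⟨n * s * n⁻¹, (Subgroup.mem_normalizer_iff.1 hn s).1 hs, ?_⟩
        simp only [map_mul, map_inv, hπK x hx, mul_one]
      have hSO : (S : Subgroup G).map π ≤ pCore p (G ⧸ K) := H1.le_pCore p hSn (S.2.map π)
      -- `C(O) ≤ O` in the quotient
      have hCO : Subgroup.centralizer (pCore p (G ⧸ K) : Set (G ⧸ K)) ≤ pCore p (G ⧸ K) := by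
        have hbot : pPrimeCore p (G ⧸ K) = ⊥ := H1.pPrimeCore_quotient_eq_bot p
        set R : Sylow p (G ⧸ K) := S.mapSurjective hsurj with hR
        have hRS : (R : Subgroup (G ⧸ K)) = (S : Subgroup G).map π := by simp [hR]
        have h1 := H8.quot_constrained_of_centric (p := p) R (Q := (S : Subgroup G).map π) hSn
          hRS.ge inf_le_left
        have hsurj2 := QuotientGroup.mk'_surjective (pPrimeCore p (G ⧸ K))
        have h2 : pCore p ((G ⧸ K) ⧸ pPrimeCore p (G ⧸ K)) ≤
            (R : Subgroup (G ⧸ K)).map (QuotientGroup.mk' (pPrimeCore p (G ⧸ K))) := by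
          have := (H1.pCore_isPGroup (G := (G ⧸ K) ⧸ pPrimeCore p (G ⧸ K)) p).le_sylow_of_normal
            (R.mapSurjective hsurj2)
          simpa using this
        intro c hc
        have h3 : QuotientGroup.mk' (pPrimeCore p (G ⧸ K)) c ∈
            Subgroup.centralizer (pCore p ((G ⧸ K) ⧸ pPrimeCore p (G ⧸ K)) :
              Set ((G ⧸ K) ⧸ pPrimeCore p (G ⧸ K))) := by
          rw [Subgroup.mem_centralizer_iff]
          intro y hy
          obtain ⟨s, hs, rfl⟩ := h2 hy
          have hs' : s ∈ pCore p (G ⧸ K) := hSO (hRS ▸ hs)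
          have := Subgroup.mem_centralizer_iff.1 hc s hs'
          rw [← map_mul, ← map_mul, this]
        obtain ⟨s, hs, hsc⟩ := h2 (h1 h3)
        have h4 : s⁻¹ * c ∈ pPrimeCore p (G ⧸ K) := QuotientGroup.eq.1 hsc
        rw [hbot, Subgroup.mem_bot] at h4
        have h5 : c = s := (inv_mul_eq_one.1 h4).symm
        rw [h5]; exact hSO (hRS ▸ hs)
      intro P c hc
      show π c ∈ pCore p (G ⧸ K)
      apply hCO
      -- `P` maps onto `O`
      have hLn : (pPrimePCore p G).Normal := hOn.comap _
      have hP1 : IsPGroup p ((P : Subgroup (pPrimePCore p G)).map (pPrimePCore p G).subtype) :=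
        P.2.map _
      obtain ⟨S', hS'⟩ := hP1.exists_le_sylow
      have hS'L : (S' : Subgroup G) ≤ pPrimePCore p G := by
        obtain ⟨g, rfl⟩ := MulAction.exists_smul_eq G S S'
        intro x hx
        rw [Sylow.coe_subgroup_smul, Subgroup.mem_pointwise_smul_iff_inv_smul_mem] at hx
        have h6 : (MulAut.conj g)⁻¹ • x ∈ pPrimePCore p G := hSO ⟨_, hx, rfl⟩
        have h7 := hLn.conj_mem _ h6 g
        simpa [MulAut.smul_def, mul_assoc] using h7
      have hPeq : (S' : Subgroup G).subgroupOf (pPrimePCore p G) = P := by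
        apply P.3 (S'.2.comap_subtype)
        intro x hx
        exact hS' ⟨x, hx, rfl⟩
      have hmap : (P : Subgroup (pPrimePCore p G)).map (pPrimePCore p G).subtype = S' := by
        rw [← hPeq, Subgroup.subgroupOf_map_subtype, inf_eq_left.2 hS'L]
      rw [hmap] at hc
      rw [Subgroup.mem_centralizer_iff]
      intro y hy
      obtain ⟨s, hs, rfl⟩ := hOleAll S' hy
      have := Subgroup.mem_centralizer_iff.1 hc s hs
      rw [← map_mul, ← map_mul, this]
    · intro Q hQ g hg
      obtain ⟨n, hn, x, hx, rfl⟩ := hdec g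
      refine ⟨n, hn, x, ?_, rfl⟩
      rw [Subgroup.mem_centralizer_iff]
      intro q hq
      have h1 : (n * x) * q * (n * x)⁻¹ ∈ (S : Subgroup G) := hg ⟨q, hq, by simp [MulAut.conj_apply, mul_assoc]⟩
      have h2 : x * q * x⁻¹ ∈ (S : Subgroup G) := by
        have := (Subgroup.mem_normalizer_iff.1 (inv_mem hn) _).1 h1
        have e : n⁻¹ * ((n * x) * q * (n * x)⁻¹) * n⁻¹⁻¹ = x * q * x⁻¹ := by group
        rwa [e] at this
      have h3 : π (x * q * x⁻¹) = π q := by
        simp only [map_mul, map_inv, hπK x hx, one_mul, inv_one, mul_one]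
      have h4 := H8.mk_inj_on_sylow hK S h2 (hQ hq) h3
      calc q * x = (x * q * x⁻¹) * x := by rw [h4]
        _ = x * q := by group
  · rintro ⟨hc, hfus⟩
    have hCO := H8.quot_constrained hc S
    rw [eq_top_iff]
    intro g _
    obtain ⟨ν, hν, hνg⟩ := H8.frattini_lift S hOn hOle g
    obtain ⟨k, hk, rfl⟩ := hker ν g hνg
    set P0 := H8.liftP K (S : Subgroup G) (pCore p (G ⧸ K)) with hP0
    have hconj : P0.map (MulAut.conj ν).toMonoidHom ≤ (S : Subgroup G) := by
      rintro _ ⟨t, ht, rfl⟩
      exact ((Subgroup.mem_normalizer_iff.1 hν t).1 ht).1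
    obtain ⟨n, hn, c, hcc, rfl⟩ := hfus P0 inf_le_left ν hconj
    have hcO : π c ∈ pCore p (G ⧸ K) := by
      apply hCO
      rw [Subgroup.mem_centralizer_iff]
      intro y hy
      obtain ⟨t, ht, rfl⟩ := H8.exists_lift hOle hy
      have := Subgroup.mem_centralizer_iff.1 hcc t ht
      rw [← map_mul, ← map_mul, this]
    obtain ⟨s, hs, hsc⟩ := hOle hcO
    obtain ⟨k', hk', rfl⟩ := hker s c hsc
    have hsN : s ∈ Subgroup.normalizer ((S : Subgroup G) : Set G) := Subgroup.le_normalizer hs
    exact mul_mem (mul_mem (Subgroup.mem_sup_left hn)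
      (mul_mem (Subgroup.mem_sup_left hsN) (Subgroup.mem_sup_right hk'))) (Subgroup.mem_sup_right hk)

end Cfsg.Agent.S1948
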