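import Cfsg.Statements.S1971
import Cfsg.Agent.Lib_helper8_FusEJ

set_option autoImplicit false
universe u
open Cfsg

namespace Cfsg.Agent.S1971

/-- Let p be a prime, G a finite group with nontrivial Sylow p-subgroup S, and W an isomorphism-invariant p-group functor (W assigns to every group Q a subgroup W(Q), nontrivial whenever Q is a nontrivial finite p-group, and every isomorphism from a finite p-group Q onto a group R carries W(Q) onto W(R)) that controls transfer in every section of G. If N_G(S)/C_G(S) is a p-group (every element of N_G(S) of order prime to p centralizes S), then G has a normal subgroup of index p. -/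
theorem result {G : Type u} [Group G] [Finite G] {p : ℕ} [Fact p.Prime] (W : ∀ (Q : Type u) [Group Q], Subgroup Q) (hW : Cfsg.IsCharPFunctor.{u} p W) (hctl : ∀ (K R : Subgroup G) [hR : (R.subgroupOf K).Normal], Cfsg.ControlsTransferIn p (Cfsg.inducedFunctor (G := (↥K ⧸ R.subgroupOf K)) W) ⊤) (S : Sylow p G) (hS : (S : Subgroup G) ≠ ⊥) (hN : ∀ g ∈ Subgroup.normalizer (((S : Subgroup G) : Subgroup G) : Set G), (orderOf g).Coprime p → g ∈ Subgroup.centralizer ((S : Subgroup G) : Set G)) : ∃ N : Subgroup G, N.Normal ∧ N.index = p := by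
  classical
  have hp := (Fact.out : p.Prime)
  have hCT : ∀ (Y : Type u) [Group Y], Involves Y G → H8.CT p W Y := by
    intro Y _ ⟨K, R, hn, ⟨e⟩⟩
    exact H8.ct_iso hW e (hctl K R)
  have hdvd : p ∣ Nat.card G := by
    obtain ⟨n, hn⟩ := IsPGroup.iff_card.1 S.2
    have h1 : n ≠ 0 := by
      rintro rfl
      exact hS (Subgroup.card_eq_one.1 (by simpa using hn))
    have h2 : p ∣ Nat.card (S : Subgroup G) := by rw [hn]; exact dvd_pow_self p h1
    exact dvd_trans h2 (Subgroup.card_subgroup_dvd_card _)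
  refine H8.index_p_main hW (Nat.card G) G le_rfl hCT hdvd ?_
  intro S' x hx hxo
  obtain ⟨g, rfl⟩ := MulAction.exists_smul_eq G S S'
  have hmem : ∀ y : G, y ∈ ((g • S : Sylow p G) : Subgroup G) ↔ g⁻¹ * y * g ∈ (S : Subgroup G) := by
    intro y
    rw [Sylow.coe_subgroup_smul, Subgroup.mem_pointwise_smul_iff_inv_smul_mem]
    simp [MulAut.smul_def, mul_assoc]
  have h1 : g⁻¹ * x * g ∈ Subgroup.normalizer ((S : Subgroup G) : Set G) := by
    rw [Subgroup.mem_normalizer_iff]
    intro s
    have h2 := Subgroup.mem_normalizer_iff.1 hx (g * s * g⁻¹)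
    rw [hmem, hmem] at h2
    have e1 : g⁻¹ * (g * s * g⁻¹) * g = s := by group
    have e2 : g⁻¹ * (x * (g * s * g⁻¹) * x⁻¹) * g = g⁻¹ * x * g * s * (g⁻¹ * x * g)⁻¹ := by group
    rwa [e1, e2] at h2
  have h3 : (orderOf (g⁻¹ * x * g)).Coprime p := by
    have : orderOf (g⁻¹ * x * g) = orderOf x := by
      have := orderOf_injective (MulAut.conj g⁻¹).toMonoidHom (MulAut.conj g⁻¹).injective x
      simpa [MulAut.conj_apply] using this
    rwa [this]
  have h4 := hN _ h1 h3
  rw [Subgroup.mem_centralizer_iff]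
  intro y hy
  have hy' := (hmem y).1 hy
  have h5 := Subgroup.mem_centralizer_iff.1 h4 _ hy'
  have e3 : y * x = g * ((g⁻¹ * y * g) * (g⁻¹ * x * g)) * g⁻¹ := by group
  have e4 : x * y = g * ((g⁻¹ * x * g) * (g⁻¹ * y * g)) * g⁻¹ := by group
  rw [e3, e4, h5]

end Cfsg.Agent.S1971
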