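import Cfsg.Statements.S2268
import Mathlib
import Cfsg.Agent.S3180

set_option autoImplicit false
open Cfsg

namespace Cfsg.Agent.S2268

/-- Let G be a finite group with an abelian Sylow p-subgroup P and let Q ≤ P. Then N_G(Q) = (N_G(Q) ∩ N_G(P))·C_G(Q), so that N_G(Q)/C_G(Q) is a homomorphic image of the subgroup (N_G(Q) ∩ N_G(P))/C_G(P) of N_G(P)/C_G(P); in particular the order of N_G(Q)/C_G(Q) divides the order of N_G(P)/C_G(P). -/
theorem result {G : Type*} [Group G] [Finite G] {p : ℕ} [Fact p.Prime]
    (P : Sylow p G) (hP : IsMulCommutative (P : Subgroup G)) (Q : Subgroup G) (hQ : Q ≤ (P : Subgroup G)) :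
    Subgroup.normalizer (Q : Set G) =
      (Subgroup.normalizer (Q : Set G) ⊓ Subgroup.normalizer ((P : Subgroup G) : Set G)) ⊔ Subgroup.centralizer (Q : Set G) ∧
    ((Subgroup.centralizer (Q : Set G)).subgroupOf (Subgroup.normalizer (Q : Set G))).index ∣ ((Subgroup.centralizer ((P : Subgroup G) : Set G)).subgroupOf (Subgroup.normalizer ((P : Subgroup G) : Set G))).index := by
  have hcommP : ∀ x ∈ (P : Subgroup G), ∀ y ∈ (P : Subgroup G), x * y = y * x := fun x hx y hy =>
    congrArg Subtype.val (mul_comm' (⟨x, hx⟩ : (P : Subgroup G)) ⟨y, hy⟩)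
  have hPC : (P : Subgroup G) ≤ Subgroup.centralizer (Q : Set G) := by
    intro x hx
    rw [Subgroup.mem_centralizer_iff]
    intro q hq
    exact hcommP q (hQ hq) x hx
  have hCN : Subgroup.centralizer (Q : Set G) ≤ Subgroup.normalizer (Q : Set G) :=
    Subgroup.centralizer_le_normalizer _
  -- the normalizer of Q normalizes the centralizer of Q
  have hNC : ∀ n ∈ Subgroup.normalizer (Q : Set G), ∀ c ∈ Subgroup.centralizer (Q : Set G),
      n * c * n⁻¹ ∈ Subgroup.centralizer (Q : Set G) := by
    intro n hn c hc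
    rw [Subgroup.mem_centralizer_iff] at hc ⊢
    intro q hq
    have hq' : n⁻¹ * q * n ∈ Q := by
      have := (Subgroup.le_normalizer_iff (H := Subgroup.normalizer (Q : Set G)) (K := Q)).mp le_rfl
        n⁻¹ (Subgroup.inv_mem _ hn) q hq
      simpa using this
    have h1 := hc _ hq'
    calc q * (n * c * n⁻¹) = n * ((n⁻¹ * q * n) * c) * n⁻¹ := by group
      _ = n * (c * (n⁻¹ * q * n)) * n⁻¹ := by rw [h1]
      _ = n * c * n⁻¹ * q := by group
  have part1 : Subgroup.normalizer (Q : Set G) =
      (Subgroup.normalizer (Q : Set G) ⊓ Subgroup.normalizer ((P : Subgroup G) : Set G)) ⊔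
        Subgroup.centralizer (Q : Set G) := by
    apply le_antisymm
    · intro n hn
      have hB : (P : Subgroup G).map (MulAut.conj n).toMonoidHom ≤ Subgroup.centralizer (Q : Set G) := by
        rintro _ ⟨x, hx, rfl⟩
        exact hNC n hn x (hPC hx)
      obtain ⟨s, hs, R, hPR, hBR⟩ := S3180.conj_into_common (p := p) (Subgroup.centralizer (Q : Set G))
        (P : Subgroup G) _ hPC hB P.2 (P.2.map _)
      have hcardR : Nat.card (R : Subgroup G) = Nat.card (P : Subgroup G) := by
        rw [Sylow.card_eq_multiplicity, Sylow.card_eq_multiplicity]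
      have hRP : (P : Subgroup G) = R := Subgroup.eq_of_le_of_card_ge hPR hcardR.le
      have hmap : (P : Subgroup G).map (MulAut.conj (s * n)).toMonoidHom = P := by
        have e : (P : Subgroup G).map (MulAut.conj (s * n)).toMonoidHom =
            ((P : Subgroup G).map (MulAut.conj n).toMonoidHom).map (MulAut.conj s).toMonoidHom := by
          rw [Subgroup.map_map]; congr 1; ext z; simp [mul_assoc]
        apply Subgroup.eq_of_le_of_card_ge
        · rw [e]; exact hBR.trans hRP.ge
        · rw [Subgroup.card_map_of_injective (MulAut.conj (s * n)).injective]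
      have hsn : s * n ∈ Subgroup.normalizer (Q : Set G) ⊓ Subgroup.normalizer ((P : Subgroup G) : Set G) :=
        ⟨Subgroup.mul_mem _ (hCN hs) hn, Subgroup.mem_normalizer_iff_map_conj_eq.mpr hmap⟩
      have hn' : n = s⁻¹ * (s * n) := by group
      rw [hn', sup_comm]
      exact Subgroup.mul_mem_sup (Subgroup.inv_mem _ hs) hsn
    · exact sup_le inf_le_left hCN
  refine ⟨part1, ?_⟩
  set N := Subgroup.normalizer (Q : Set G) with hN
  set C := Subgroup.centralizer (Q : Set G) with hC
  set NP := Subgroup.normalizer ((P : Subgroup G) : Set G) with hNP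
  set CP := Subgroup.centralizer ((P : Subgroup G) : Set G) with hCP
  show C.relIndex N ∣ CP.relIndex NP
  haveI hnorm : (C.subgroupOf N).Normal :=
    (Subgroup.normal_subgroupOf_iff_le_normalizer hCN).mpr (Subgroup.le_normalizer_iff.mpr hNC)
  have h1 : C.relIndex N = C.relIndex (N ⊓ NP) := by
    have h2 := Subgroup.relIndex_sup_right ((N ⊓ NP).subgroupOf N) (C.subgroupOf N)
    rw [← Subgroup.subgroupOf_sup inf_le_left hCN, ← part1, Subgroup.subgroupOf_self,
      Subgroup.relIndex_top_right, Subgroup.relIndex_subgroupOf inf_le_left] at h2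
    exact h2
  have hCPle : CP ≤ C ⊓ (N ⊓ NP) := by
    have h3 : CP ≤ C := Subgroup.centralizer_le (by exact_mod_cast hQ)
    exact le_inf h3 (le_inf (h3.trans hCN) (Subgroup.centralizer_le_normalizer _))
  rw [h1, ← Subgroup.inf_relIndex_right]
  have h4 := Subgroup.relIndex_mul_relIndex CP (C ⊓ (N ⊓ NP)) (N ⊓ NP) hCPle inf_le_right
  have h5 := Subgroup.relIndex_mul_relIndex CP (N ⊓ NP) NP (hCPle.trans inf_le_right) inf_le_right
  rw [← h5, ← h4]
  exact Dvd.dvd.mul_right (Dvd.intro_left _ rfl) _

end Cfsg.Agent.S2268
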