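import Cfsg.Statements.S2475
import Cfsg.Agent.Lib_helper6_SL2Tori

set_option autoImplicit false
open Cfsg

namespace Cfsg.Agent.S2475

theorem exists_orderOf_of_dvd {G : Type*} [Group G] {g : G} {N m : ℕ} (hg : orderOf g = N)
    (hN : N ≠ 0) (hm : m ∣ N) : ∃ x : G, orderOf x = m := by
  obtain ⟨k, rfl⟩ := hm
  have hk : k ≠ 0 := by rintro rfl; simp at hN
  have hm0 : m ≠ 0 := by rintro rfl; simp at hN
  refine ⟨g ^ k, ?_⟩
  rw [orderOf_pow_of_dvd hk (by rw [hg]; exact Dvd.intro_left m rfl), hg,
    Nat.mul_div_cancel _ (Nat.pos_of_ne_zero hk)]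

/-- The set of element orders of PSL(2,q): let F be a finite field of characteristic p with q ≥ 4 elements and d = gcd(2, q − 1). The orders of elements of PSL(2,F) are exactly the divisors of p, of (q − 1)/d and of (q + 1)/d. -/
theorem result {F : Type*} [Field F] [Fintype F] (p : ℕ) [Fact p.Prime] [CharP F p] (h4 : 4 ≤ Fintype.card F) :
    Set.range (orderOf : Matrix.ProjectiveSpecialLinearGroup (Fin 2) F → ℕ) =
      {m : ℕ | m ∣ p ∨ m ∣ (Fintype.card F - 1) / Nat.gcd 2 (Fintype.card F - 1) ∨ m ∣ (Fintype.card F + 1) / Nat.gcd 2 (Fintype.card F - 1)} := by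
  have hp : p.Prime := Fact.out
  have hZ : Nat.card (Subgroup.center (Matrix.SpecialLinearGroup (Fin 2) F)) =
      Nat.gcd 2 (Fintype.card F - 1) := H6.card_center_SL_field 2 (by norm_num)
  have hgle : Nat.gcd 2 (Fintype.card F - 1) ≤ 2 := Nat.gcd_le_left _ (by norm_num)
  have hgpos : 0 < Nat.gcd 2 (Fintype.card F - 1) := Nat.gcd_pos_of_pos_left _ (by norm_num)
  ext m
  simp only [Set.mem_range, Set.mem_ofPred_eq]
  constructor
  · rintro ⟨g, rfl⟩
    obtain ⟨s, rfl⟩ := H6.GL2C.proj_surjective g
    have hmem : s ∈ Subgroup.centralizer ({s} : Set (Matrix.SpecialLinearGroup (Fin 2) F)) :=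
      Subgroup.mem_centralizer_singleton_iff.mpr rfl
    have hdvd := H6.GL2C.orderOf_mk_dvd
      (Subgroup.centralizer ({s} : Set (Matrix.SpecialLinearGroup (Fin 2) F)))
      (Subgroup.center_le_centralizer _) hmem
    rw [hZ] at hdvd
    by_cases hns : H6.GL2C.NonScalar (s : Matrix (Fin 2) (Fin 2) F)
    · rw [H6.GL2C.card_centralizer_SL s hns] at hdvd
      rcases H6.GL2C.split_or_aniso (s : Matrix (Fin 2) (Fin 2) F).trace 1 with ⟨l, m, ht, hd⟩ | h
      · by_cases hlm : l = m
        · subst hlm
          left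
          apply orderOf_dvd_of_pow_eq_one
          rw [← map_pow]
          change ((s ^ p : Matrix.SpecialLinearGroup (Fin 2) F) :
            Matrix.SpecialLinearGroup (Fin 2) F ⧸ Subgroup.center _) = 1
          rw [QuotientGroup.eq_one_iff]
          exact H6.GL2C.pow_char_mem_center p s ht hd.symm
        · right; left
          rw [ht, H6.GL2C.card_nrm_eq_one_split hlm hd.symm] at hdvd
          exact hdvd
      · right; right
        rw [H6.GL2C.card_nrm_eq_one_aniso h] at hdvd
        exact hdvd
    · left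
      have : H6.GL2C.proj F s = 1 := by
        change ((s : Matrix.SpecialLinearGroup (Fin 2) F) :
            Matrix.SpecialLinearGroup (Fin 2) F ⧸ Subgroup.center _) = 1
        rw [QuotientGroup.eq_one_iff]
        exact (H6.GL2C.mem_center_iff_not_nonScalar s).mpr hns
      rw [this, orderOf_one]
      exact one_dvd _
  · rintro (h | h | h)
    · rcases (Nat.dvd_prime hp).mp h with rfl | rfl
      · exact ⟨1, orderOf_one⟩
      · refine ⟨H6.GL2C.proj F (H6.GL2.compSL (1 + 1)), ?_⟩
        apply orderOf_eq_prime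
        · rw [← map_pow]
          change ((_ : Matrix.SpecialLinearGroup (Fin 2) F) :
            Matrix.SpecialLinearGroup (Fin 2) F ⧸ Subgroup.center _) = 1
          rw [QuotientGroup.eq_one_iff]
          exact H6.GL2C.pow_char_mem_center m _ (H6.GL2C.trace_compSL _) (mul_one 1)
        · change ((_ : Matrix.SpecialLinearGroup (Fin 2) F) :
            Matrix.SpecialLinearGroup (Fin 2) F ⧸ Subgroup.center _) ≠ 1
          rw [Ne, QuotientGroup.eq_one_iff, H6.GL2C.mem_center_iff_not_nonScalar, not_not]
          exact H6.GL2C.nonScalar_compSL _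
    · obtain ⟨s, hs, hcard⟩ := H6.GL2C.exists_orderOf_split h4
      have hmem : s ∈ Subgroup.centralizer ({s} : Set (Matrix.SpecialLinearGroup (Fin 2) F)) :=
        Subgroup.mem_centralizer_singleton_iff.mpr rfl
      have h1 := H6.GL2C.orderOf_mk_eq
        (Subgroup.centralizer ({s} : Set (Matrix.SpecialLinearGroup (Fin 2) F)))
        (Subgroup.center_le_centralizer _) hmem (by rw [hs, hcard])
      rw [hZ, hcard] at h1
      refine exists_orderOf_of_dvd h1 ?_ h
      have : Nat.gcd 2 (Fintype.card F - 1) ≤ Fintype.card F - 1 := by omega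
      exact (Nat.div_pos this hgpos).ne'
    · obtain ⟨s, x, hmem, hx, hcard⟩ := H6.GL2C.exists_orderOf_aniso (F := F)
      have h1 := H6.GL2C.orderOf_mk_eq
        (Subgroup.centralizer ({s} : Set (Matrix.SpecialLinearGroup (Fin 2) F)))
        (Subgroup.center_le_centralizer _) hmem (by rw [hx, hcard])
      rw [hZ, hcard] at h1
      refine exists_orderOf_of_dvd h1 ?_ h
      have : Nat.gcd 2 (Fintype.card F - 1) ≤ Fintype.card F + 1 := by omega
      exact (Nat.div_pos this hgpos).ne'

end Cfsg.Agent.S2475
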