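import Cfsg.Statements.S2471
import Cfsg.Agent.S2475

set_option autoImplicit false
open Cfsg

namespace Cfsg.Agent.S2471

/-- In PSL(2,q) with q odd, the characteristic p is isolated from 2 in the prime graph: for F a finite field of odd characteristic p with at least 5 elements, PSL(2,F) has no element of order 2p. -/
theorem result {F : Type*} [Field F] [Fintype F] (p : ℕ) [Fact p.Prime] [CharP F p] (hp : p ≠ 2) (h5 : 5 ≤ Fintype.card F) (g : Matrix.ProjectiveSpecialLinearGroup (Fin 2) F) :
    orderOf g ≠ 2 * p := by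
  have hpp : p.Prime := Fact.out
  intro hg
  have h1 : orderOf g ∈ Set.range
      (orderOf : Matrix.ProjectiveSpecialLinearGroup (Fin 2) F → ℕ) := ⟨g, rfl⟩
  rw [S2475.result p (by omega)] at h1
  obtain ⟨n, -, hq⟩ := FiniteField.card F p
  have hpq : p ∣ Fintype.card F := by rw [hq]; exact dvd_pow_self p n.ne_zero
  rw [hg] at h1
  rcases h1 with h | h | h
  · have := Nat.le_of_dvd hpp.pos h
    have := hpp.pos
    omega
  · have h2 : p ∣ Fintype.card F - 1 :=
      (Dvd.intro_left 2 rfl).trans (h.trans (Nat.div_dvd_of_dvd (Nat.gcd_dvd_right _ _)))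
    have h3 : p ∣ 1 := by
      have := (Nat.dvd_sub hpq h2)
      rwa [show Fintype.card F - (Fintype.card F - 1) = 1 by omega] at this
    exact hpp.one_lt.ne' (Nat.dvd_one.mp h3)
  · have hgd : Nat.gcd 2 (Fintype.card F - 1) ∣ Fintype.card F + 1 := by
      have h1 := Nat.gcd_dvd_left 2 (Fintype.card F - 1)
      have h2 := Nat.gcd_dvd_right 2 (Fintype.card F - 1)
      have : Fintype.card F + 1 = (Fintype.card F - 1) + 2 := by omega
      rw [this]
      exact Nat.dvd_add h2 h1
    have h2 : p ∣ Fintype.card F + 1 :=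
      (Dvd.intro_left 2 rfl).trans (h.trans (Nat.div_dvd_of_dvd hgd))
    have h3 : p ∣ 1 := by
      have := (Nat.dvd_sub h2 hpq)
      rwa [show Fintype.card F + 1 - Fintype.card F = 1 by omega] at this
    exact hpp.one_lt.ne' (Nat.dvd_one.mp h3)

end Cfsg.Agent.S2471
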