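import Cfsg.Statements.S2477
import Mathlib
import Cfsg.Agent.Lib_lead_CycT

set_option autoImplicit false
open Cfsg

namespace Cfsg.Agent.S2477

def tbl : List (ℕ × Bool × ℕ) :=
  [(0, false, 1), (2, true, 2), (3, false, 3), (4, false, 2), (4, true, 4), (5, false, 5), (5, true, 6), (6, false, 3), (6, false, 4), (6, true, 2), (6, true, 6), (7, false, 6), (7, false, 7), (7, true, 10), (7, true, 12), (8, false, 2), (8, false, 4), (8, false, 6), (8, false, 15), (8, true, 4), (8, true, 6), (8, true, 8), (9, false, 3), (9, false, 9), (9, false, 10), (9, false, 12), (9, true, 6), (9, true, 14), (9, true, 20), (10, false, 4), (10, false, 5), (10, false, 6), (10, false, 8), (10, false, 12), (10, false, 21), (10, true, 2), (10, true, 4), (10, true, 6), (10, true, 10), (10, true, 12), (10, true, 30)]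

set_option maxRecDepth 100000 in
theorem tbl_closed : ∀ t ∈ tbl, ∀ a ∈ List.range 11, 2 ≤ a → t.1 + a ≤ 10 →
    (a + t.1, xor t.2.1 (decide (a % 2 = 0)), Nat.lcm a t.2.2) ∈ tbl := by
  decide

set_option maxRecDepth 100000 in
theorem tbl_good : ∀ t ∈ tbl, t.2.1 = false →
    t.2.2 ∈ [1, 2, 3, 4, 5, 6, 7, 8, 9, 10, 12, 15, 21] := by
  decide

theorem tbl_complete (m : Multiset ℕ) : (∀ a ∈ m, 2 ≤ a) → m.sum ≤ 10 →
    ∃ b : Bool, (m.sum, b, m.lcm) ∈ tbl ∧ (b = false ↔ Even (Multiset.card (m.filter Even))) := by
  induction m using Multiset.induction_on with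
  | empty =>
    intro _ _
    exact ⟨false, by simp [tbl], by simp⟩
  | cons a m ih =>
    intro h2 hs
    rw [Multiset.sum_cons] at hs
    obtain ⟨b, hb, hbe⟩ := ih (fun x hx => h2 x (Multiset.mem_cons_of_mem hx)) (by omega)
    have ha2 := h2 a (Multiset.mem_cons_self a m)
    have hcl := tbl_closed _ hb a (List.mem_range.mpr (by omega)) ha2 (by simpa [add_comm] using hs)
    refine ⟨xor b (decide (a % 2 = 0)), ?_, ?_⟩
    · rw [Multiset.sum_cons, Multiset.lcm_cons]
      exact hcl
    · by_cases hae : Even a
      · rw [Multiset.filter_cons_of_pos _ hae, Multiset.card_cons]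
        have : a % 2 = 0 := Nat.even_iff.mp hae
        simp only [this, decide_true, Bool.xor_true, Bool.not_eq_false', Nat.even_add_one]
        rw [← hbe]
        cases b <;> simp
      · rw [Multiset.filter_cons_of_neg _ hae]
        have : ¬ a % 2 = 0 := fun h => hae (Nat.even_iff.mpr h)
        simp only [this, decide_false, Bool.xor_false]
        exact hbe

theorem exists_of_type (m : Multiset ℕ) (h1 : m.sum ≤ 10) (h2 : ∀ a ∈ m, 2 ≤ a)
    (h3 : Even (Multiset.card (m.filter Even))) :
    m.lcm ∈ Set.range (orderOf : alternatingGroup (Fin 10) → ℕ) := by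
  obtain ⟨σ, hσ⟩ := (Equiv.Perm.exists_with_cycleType_iff (Fin 10) (m := m)).mpr
    ⟨by simpa using h1, h2⟩
  have hsign : σ ∈ alternatingGroup (Fin 10) := by
    rw [Equiv.Perm.mem_alternatingGroup, Equiv.Perm.sign_of_cycleType', hσ,
      Cfsg.Agent.LeadCyc.sign_prod_eq, h3.neg_one_pow]
  refine ⟨⟨σ, hsign⟩, ?_⟩
  rw [← Subgroup.orderOf_coe]
  show orderOf σ = _
  rw [← Equiv.Perm.lcm_cycleType, hσ]


/-- The set of element orders of the alternating group of degree 10 is {1, 2, 3, 4, 5, 6, 7, 8, 9, 10, 12, 15, 21}. -/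
theorem result : Set.range (orderOf : alternatingGroup (Fin 10) → ℕ) = {1, 2, 3, 4, 5, 6, 7, 8, 9, 10, 12, 15, 21} := by
  apply Set.Subset.antisymm
  · rintro _ ⟨g, rfl⟩
    have hsum := Equiv.Perm.sum_cycleType_le (g : Equiv.Perm (Fin 10))
    rw [Fintype.card_fin] at hsum
    obtain ⟨b, hb, hbe⟩ := tbl_complete (g : Equiv.Perm (Fin 10)).cycleType
      (fun a ha => Equiv.Perm.two_le_of_mem_cycleType ha) hsum
    have hsign : Equiv.Perm.sign (g : Equiv.Perm (Fin 10)) = 1 :=
      Equiv.Perm.mem_alternatingGroup.mp g.2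
    rw [Equiv.Perm.sign_of_cycleType', Cfsg.Agent.LeadCyc.sign_prod_eq] at hsign
    have heven : Even (Multiset.card ((g : Equiv.Perm (Fin 10)).cycleType.filter Even)) := by
      by_contra hcon
      rw [(Nat.not_even_iff_odd.mp hcon).neg_one_pow] at hsign
      exact absurd hsign (by decide)
    have h1 := tbl_good _ hb (hbe.mpr heven)
    rw [Equiv.Perm.lcm_cycleType, Subgroup.orderOf_coe] at h1
    simpa using h1
  · intro k hk
    simp only [Set.mem_insert_iff, Set.mem_singleton_iff] at hk
    rcases hk with rfl | rfl | rfl | rfl | rfl | rfl | rfl | rfl | rfl | rfl | rfl | rfl | rfl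
    · exact exists_of_type 0 (by decide) (by decide) (by decide)
    · exact exists_of_type {2, 2} (by decide) (by decide) (by decide)
    · exact exists_of_type {3} (by decide) (by decide) (by decide)
    · exact exists_of_type {4, 2} (by decide) (by decide) (by decide)
    · exact exists_of_type {5} (by decide) (by decide) (by decide)
    · exact exists_of_type {3, 2, 2} (by decide) (by decide) (by decide)
    · exact exists_of_type {7} (by decide) (by decide) (by decide)
    · exact exists_of_type {8, 2} (by decide) (by decide) (by decide)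
    · exact exists_of_type {9} (by decide) (by decide) (by decide)
    · exact exists_of_type {5, 2, 2} (by decide) (by decide) (by decide)
    · exact exists_of_type {4, 3, 2} (by decide) (by decide) (by decide)
    · exact exists_of_type {5, 3} (by decide) (by decide) (by decide)
    · exact exists_of_type {7, 3} (by decide) (by decide) (by decide)

end Cfsg.Agent.S2477
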