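import Cfsg.Statements.S2781
import Mathlib

set_option autoImplicit false
open Cfsg

namespace Cfsg.Agent.S2781

theorem pres_normal (p : ℕ) (H : Type*) [Group H] : (Cfsg.pResidual p H).Normal := by
  constructor
  intro n hn g
  unfold Cfsg.pResidual at hn ⊢
  induction hn using Subgroup.closure_induction with
  | mem x hx =>
    apply Subgroup.subset_closure
    have h1 : orderOf (g * x * g⁻¹) = orderOf x := by
      have := (MulAut.conj g).orderOf_eq x
      simpa [MulAut.conj_apply] using this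
    show Nat.Coprime (orderOf (g * x * g⁻¹)) p
    rw [h1]; exact hx
  | one => simp
  | mul x y _ _ hx hy =>
    have : g * (x * y) * g⁻¹ = (g * x * g⁻¹) * (g * y * g⁻¹) := by group
    rw [this]; exact Subgroup.mul_mem _ hx hy
  | inv x _ hx =>
    have : g * x⁻¹ * g⁻¹ = (g * x * g⁻¹)⁻¹ := by group
    rw [this]; exact Subgroup.inv_mem _ hx

theorem key {G : Type*} [Group G] [Finite G] {p : ℕ} [Fact p.Prime] (V R : Subgroup G)
    (hc : ∀ a ∈ V, ∀ b ∈ V, a * b = b * a) (hp : ∀ a ∈ V, a ^ p = 1)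
    (hRV : R ≤ Subgroup.normalizer (V : Set G)) (S : Sylow p R) (v : G) (hv : v ∈ V)
    (hvT : ∀ t : R, t ∈ (S : Subgroup R) → (t : G) * v = v * t) :
    v ∈ ⁅V, R⁆ ⊔ (V ⊓ Subgroup.centralizer (R : Set G)) := by
  classical
  have : Fintype (R ⧸ (S : Subgroup R)) := Fintype.ofFinite _
  let _ : CommGroup V :=
    { (inferInstance : Group V) with mul_comm := fun a b => Subtype.ext (hc a a.2 b b.2) }
  have hconj : ∀ (r : R) (x : G), x ∈ V → (r : G) * x * (r : G)⁻¹ ∈ V := fun r x hx =>
    (Subgroup.mem_normalizer_iff.1 (hRV r.2) x).1 hx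
  let f : R ⧸ (S : Subgroup R) → V := fun q =>
    Quotient.liftOn' q (fun l => (⟨(l : G) * v * (l : G)⁻¹, hconj l v hv⟩ : V)) (by
      intro a b hab
      rw [QuotientGroup.leftRel_apply] at hab
      have h1 := hvT _ hab
      apply Subtype.ext
      show (a : G) * v * (a : G)⁻¹ = (b : G) * v * (b : G)⁻¹
      have h2 : ((a⁻¹ * b : R) : G) = (a : G)⁻¹ * (b : G) := by simp
      rw [h2] at h1
      have h3 : (b : G) * v = (a : G) * v * ((a : G)⁻¹ * b) := by
        rw [mul_assoc (a : G), ← h1]; group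
      rw [h3]; group)
  have hf : ∀ l : R, f (QuotientGroup.mk l) = ⟨(l : G) * v * (l : G)⁻¹, hconj l v hv⟩ := fun l => rfl
  let c : R → (V →* V) := fun r =>
    { toFun := fun x => ⟨(r : G) * x * (r : G)⁻¹, hconj r x x.2⟩
      map_one' := by apply Subtype.ext; simp
      map_mul' := by intro x y; apply Subtype.ext; simp }
  have hcf : ∀ (r : R) (q : R ⧸ (S : Subgroup R)), c r (f q) = f (r • q) := by
    intro r q
    induction q using QuotientGroup.induction_on with
    | H l =>
      have : r • (QuotientGroup.mk l : R ⧸ (S : Subgroup R)) = QuotientGroup.mk (r * l) := rfl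
      rw [this, hf, hf]
      apply Subtype.ext
      show (r : G) * ((l : G) * v * (l : G)⁻¹) * (r : G)⁻¹ = ((r * l : R) : G) * v * ((r * l : R) : G)⁻¹
      simp [mul_assoc]
  set v' : V := ∏ q, f q with hv'
  have hinv : ∀ r : R, c r v' = v' := by
    intro r
    rw [hv', map_prod]
    simp_rw [hcf]
    exact Equiv.prod_comp (MulAction.toPerm r) f
  have h1 : (v' : G) ∈ V ⊓ Subgroup.centralizer (R : Set G) := by
    refine ⟨v'.2, ?_⟩
    show (v' : G) ∈ Subgroup.centralizer (R : Set G)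
    rw [Subgroup.mem_centralizer_iff]
    intro r hr
    have := congrArg Subtype.val (hinv ⟨r, hr⟩)
    have h2 : r * (v' : G) * r⁻¹ = v' := this
    calc r * (v' : G) = r * (v' : G) * r⁻¹ * r := by group
      _ = v' * r := by rw [h2]
  set n := Fintype.card (R ⧸ (S : Subgroup R)) with hn
  have h2 : (∏ q, (f q * (⟨v, hv⟩ : V)⁻¹)) ∈ (⁅V, R⁆).subgroupOf V := by
    apply Subgroup.prod_mem
    intro q _
    induction q using QuotientGroup.induction_on with
    | H l =>
      rw [hf, Subgroup.mem_subgroupOf]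
      show (l : G) * v * (l : G)⁻¹ * v⁻¹ ∈ ⁅V, R⁆
      rw [Subgroup.commutator_comm]
      exact Subgroup.commutator_mem_commutator l.2 hv
  rw [Finset.prod_mul_distrib, Finset.prod_const, Finset.card_univ, ← hn, ← hv',
    Subgroup.mem_subgroupOf] at h2
  have h3 : (v' : G) * (v ^ n)⁻¹ ∈ ⁅V, R⁆ := by
    simpa using h2
  have h4 : v ^ n ∈ ⁅V, R⁆ ⊔ (V ⊓ Subgroup.centralizer (R : Set G)) := by
    have : v ^ n = ((v' : G) * (v ^ n)⁻¹)⁻¹ * v' := by group
    rw [this]
    exact Subgroup.mul_mem _ (Subgroup.inv_mem _ (Subgroup.mem_sup_left h3))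
      (Subgroup.mem_sup_right h1)
  have hnp : Nat.Coprime n p := by
    have h5 : ¬ p ∣ (S : Subgroup R).index := S.not_dvd_index
    have h6 : (S : Subgroup R).index = n := by
      rw [Subgroup.index, Nat.card_eq_fintype_card]
    rw [h6] at h5
    exact ((Nat.Prime.coprime_iff_not_dvd Fact.out).2 h5).symm
  have ho : orderOf v ∣ p := orderOf_dvd_of_pow_eq_one (hp v hv)
  obtain ⟨m, hm⟩ := exists_pow_eq_self_of_coprime (Nat.Coprime.coprime_dvd_right ho hnp)
  rw [← hm]
  exact Subgroup.pow_mem _ h4 m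

/-- Let H act faithfully by conjugation on the elementary abelian p-subgroup V of a finite group, let O^p(H) be the subgroup of H generated by its elements of order prime to p, and T a Sylow p-subgroup of O^p(H). If V is generated by the H-conjugates of C_V(T) (V is the smallest H-invariant subgroup containing C_V(T)), then V = [V, O^p(H)]·C_V(O^p(H)). -/
theorem result {G : Type*} [Group G] [Finite G] {p : ℕ} [Fact p.Prime] (V H : Subgroup G) (hV : Cfsg.IsElementaryAbelian p V) (hHV : H ≤ Subgroup.normalizer (V : Set G)) (hf : H ⊓ Subgroup.centralizer (V : Set G) = ⊥) (R : Subgroup G) (hR : R = (Cfsg.pResidual p ↥H).map H.subtype) (S : Sylow p ↥R) (T : Subgroup G) (hT : T = ((S : Subgroup ↥R).map R.subtype)) (hgen : ∀ W : Subgroup G, H ≤ Subgroup.normalizer (W : Set G) → (V ⊓ Subgroup.centralizer ((T : Subgroup G) : Set G)) ≤ W → V ≤ W) : ⁅V, R⁆ ⊔ (V ⊓ Subgroup.centralizer ((R : Subgroup G) : Set G)) = V := by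
  have hRH : R ≤ H := by rw [hR]; exact Subgroup.map_subtype_le _
  have hRV : R ≤ Subgroup.normalizer (V : Set G) := hRH.trans hHV
  have hHR : ∀ h ∈ H, ∀ r ∈ R, h * r * h⁻¹ ∈ R := by
    intro h hh r hr
    rw [hR] at hr ⊢
    obtain ⟨x, hx, rfl⟩ := hr
    exact ⟨⟨h, hh⟩ * x * ⟨h, hh⟩⁻¹, (pres_normal p H).conj_mem x hx ⟨h, hh⟩, rfl⟩
  have hHVc : ∀ h ∈ H, ∀ x ∈ V, h * x * h⁻¹ ∈ V := fun h hh x hx =>
    (Subgroup.mem_normalizer_iff.1 (hHV hh) x).1 hx
  have hcomm : ∀ a ∈ V, ∀ b ∈ V, a * b = b * a := by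
    intro a ha b hb
    have := hV.1.is_comm.comm ⟨a, ha⟩ ⟨b, hb⟩
    exact congrArg Subtype.val this
  apply le_antisymm
  · apply sup_le
    · rw [Subgroup.commutator_le]
      intro x hx r hr
      have h1 : r * x⁻¹ * r⁻¹ ∈ V := hHVc r (hRH hr) _ (V.inv_mem hx)
      rw [commutatorElement_def]
      have : x * r * x⁻¹ * r⁻¹ = x * (r * x⁻¹ * r⁻¹) := by group
      rw [this]; exact V.mul_mem hx h1
    · exact inf_le_left
  · apply hgen
    · -- H normalizes W
      have hstab : ∀ h ∈ H, ∀ w ∈ ⁅V, R⁆ ⊔ (V ⊓ Subgroup.centralizer (R : Set G)),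
          h * w * h⁻¹ ∈ ⁅V, R⁆ ⊔ (V ⊓ Subgroup.centralizer (R : Set G)) := by
        intro h hh w hw
        have h1 : (⁅V, R⁆ ⊔ (V ⊓ Subgroup.centralizer (R : Set G))).map (MulAut.conj h).toMonoidHom
            ≤ ⁅V, R⁆ ⊔ (V ⊓ Subgroup.centralizer (R : Set G)) := by
          rw [Subgroup.map_sup, Subgroup.map_commutator]
          apply sup_le_sup
          · apply Subgroup.commutator_mono
            · rintro _ ⟨x, hx, rfl⟩; exact hHVc h hh x hx
            · rintro _ ⟨x, hx, rfl⟩; exact hHR h hh x hx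
          · rintro _ ⟨x, ⟨hx1, hx2⟩, rfl⟩
            refine ⟨hHVc h hh x hx1, ?_⟩
            replace hx2 : x ∈ Subgroup.centralizer (R : Set G) := hx2
            show (MulAut.conj h).toMonoidHom x ∈ Subgroup.centralizer (R : Set G)
            rw [Subgroup.mem_centralizer_iff] at hx2 ⊢
            intro r hr
            have h2 : h⁻¹ * r * h ∈ R := by
              have := hHR h⁻¹ (H.inv_mem hh) r hr
              simpa using this
            have h3 := hx2 _ h2
            show r * (h * x * h⁻¹) = (h * x * h⁻¹) * r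
            have h4 : r * (h * x * h⁻¹) = h * ((h⁻¹ * r * h) * x) * h⁻¹ := by group
            rw [h4, h3]; group
        exact h1 ⟨w, hw, rfl⟩
      intro h hh
      rw [Subgroup.mem_normalizer_iff]
      intro w
      refine ⟨hstab h hh w, fun hw => ?_⟩
      have := hstab h⁻¹ (H.inv_mem hh) _ hw
      have h5 : h⁻¹ * (h * w * h⁻¹) * h⁻¹⁻¹ = w := by group
      rwa [h5] at this
    · rintro v ⟨hv1, hv2⟩
      apply key V R hcomm hV.2 hRV S v hv1
      intro t ht
      replace hv2 : v ∈ Subgroup.centralizer (T : Set G) := hv2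
      rw [Subgroup.mem_centralizer_iff] at hv2
      apply hv2
      rw [hT]
      exact ⟨t, ht, rfl⟩

end Cfsg.Agent.S2781
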