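import Mathlib
import Cfsg.Statements.S2802
import Mathlib
import Cfsg.Agent.Lib_helper1_PRed

set_option autoImplicit false
open Cfsg

namespace Cfsg.Agent.S2802

open Cfsg.Agent.H1

/-- Let L be a finite group and p a prime with C_L(O_p(L)) ≤ O_p(L), T a Sylow p-subgroup of L and R a subgroup with T ≤ R. If X is a p-reduced normal subgroup of R (normal in R, elementary abelian, O_p(R/C_R(X)) = 1), then the normal closure of X in L is a p-reduced normal subgroup of L. -/
theorem result {L : Type*} [Group L] [Finite L] {p : ℕ} [Fact p.Prime] (hchar : Subgroup.centralizer (Cfsg.pCore p L : Set L) ≤ Cfsg.pCore p L) (T : Sylow p L) (R : Subgroup L) (hTR : (T : Subgroup L) ≤ R) (X : Subgroup ↥R) (hX : Cfsg.IsPReducedNormal p X) : Cfsg.IsPReducedNormal p (Subgroup.normalClosure ((X.map R.subtype : Subgroup L) : Set L)) := by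
  have hX' := isPReducedNormal_iff.mp hX
  have hOn := pCore_normal (G := L) p
  have hOT : Cfsg.pCore p L ≤ T := (pCore_isPGroup p).le_sylow_of_normal T
  have hb : (Cfsg.pCore p L).subgroupOf R ≤ Subgroup.centralizer (X : Set R) := by
    apply hX'.red _ (hOn.subgroupOf R)
    intro d hd
    obtain ⟨k, hk⟩ := pCore_isPGroup (G := L) p ⟨d, Subgroup.mem_subgroupOf.mp hd⟩
    refine ⟨k, ?_⟩
    have hk' : (d : L) ^ p ^ k = 1 := congrArg Subtype.val hk
    have : d ^ p ^ k = 1 := by ext; simpa using hk'
    rw [this]; exact one_mem _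
  have hXc : X.map R.subtype ≤ Subgroup.centralizer (Cfsg.pCore p L : Set L) := by
    rintro _ ⟨x, hx, rfl⟩
    rw [Subgroup.mem_centralizer_iff]
    intro y hy
    have hyR : y ∈ R := hTR (hOT hy)
    have h1 : (⟨y, hyR⟩ : R) ∈ (Cfsg.pCore p L).subgroupOf R := Subgroup.mem_subgroupOf.mpr hy
    have h2 := Subgroup.mem_centralizer_iff.mp (hb h1) x hx
    exact (congrArg Subtype.val h2).symm
  rw [isPReducedNormal_iff]
  apply pRed_normalClosure T
  · intro x hx
    refine ⟨hchar (hXc hx), hXc hx, ?_⟩
    obtain ⟨x', hx', rfl⟩ := hx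
    have := hX'.elem.2 x' hx'
    have h2 := congrArg Subtype.val this
    simpa using h2
  · intro D hD hq
    have hDR : D.subgroupOf R ≤ Subgroup.centralizer (X : Set R) := by
      apply hX'.red _ (hD.subgroupOf R)
      intro d hd
      obtain ⟨k, hk⟩ := hq d (Subgroup.mem_subgroupOf.mp hd)
      refine ⟨k, ?_⟩
      rw [Subgroup.mem_centralizer_iff]
      intro x hx
      have hxV : (x : L) ∈ Subgroup.normalClosure ((X.map R.subtype : Subgroup L) : Set L) :=
        Subgroup.subset_normalClosure ⟨x, hx, rfl⟩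
      have := Subgroup.mem_centralizer_iff.mp hk _ hxV
      ext
      simpa using this
    intro t ht
    have htR : t ∈ R := hTR (Subgroup.mem_inf.mp ht).1
    have h1 : (⟨t, htR⟩ : R) ∈ D.subgroupOf R := Subgroup.mem_subgroupOf.mpr (Subgroup.mem_inf.mp ht).2
    rw [Subgroup.mem_centralizer_iff]
    rintro _ ⟨x, hx, rfl⟩
    have h2 := Subgroup.mem_centralizer_iff.mp (hDR h1) x hx
    exact congrArg Subtype.val h2

end Cfsg.Agent.S2802
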