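import Mathlib
import Cfsg.Statements.S2804
import Mathlib
import Cfsg.Agent.Lib_helper1_PRed2

set_option autoImplicit false
open Cfsg

namespace Cfsg.Agent.S2804

open Cfsg.Agent.H1
open scoped commutatorElement

/-- Let L be a finite group and p a prime with C_L(O_p(L)) ≤ O_p(L), V a p-reduced normal subgroup of L and K a subnormal subgroup of L. Then [V, O^p(K)] is contained in K and is a p-reduced normal subgroup of K, where O^p(K) is the subgroup of K generated by its elements of order prime to p. -/
theorem result {L : Type*} [Group L] [Finite L] {p : ℕ} [Fact p.Prime] (hchar : Subgroup.centralizer (Cfsg.pCore p L : Set L) ≤ Cfsg.pCore p L) (V : Subgroup L) (hV : Cfsg.IsPReducedNormal p V) (K : Subgroup L) (hK : K.IsSubnormal) : ⁅V, (Cfsg.pResidual p ↥K).map K.subtype⁆ ≤ K ∧ Cfsg.IsPReducedNormal p ((⁅V, (Cfsg.pResidual p ↥K).map K.subtype⁆).subgroupOf K) := by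
  have hV' := isPReducedNormal_iff.mp hV
  have hVn := hV'.normal
  obtain ⟨_, _, hCn, hcore⟩ := hV
  rw [map_pResidual]
  set E := pResOf p K with hE
  have hEK : E ≤ K := pResOf_le K
  have hKE : K ≤ Subgroup.normalizer (E : Set L) :=
    Subgroup.le_normalizer.trans (normalizer_le_normalizer_pResOf K)
  have hEsn : E.IsSubnormal :=
    Subgroup.IsSubnormal.step E K hEK hK ((Subgroup.normal_subgroupOf_iff_le_normalizer hEK).mpr hKE)
  have hVp : IsPGroup p V := isPGroup_of_elemAb hV'.elem
  have hVE : V ≤ Subgroup.normalizer (E : Set L) :=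
    le_normalizer_of_subnormal_pgroup hVn.isSubnormal hEsn hVp (pResOf_pResOf K)
  have hWE : ⁅V, E⁆ ≤ E := by
    rw [Subgroup.commutator_comm]
    exact commutator_le_of_le_normalizer hVE
  have hWV : ⁅V, E⁆ ≤ V := Subgroup.commutator_le_left V E
  have hWK : ⁅V, E⁆ ≤ K := hWE.trans hEK
  refine ⟨hWK, ?_⟩
  rw [isPReducedNormal_iff]
  refine ⟨?_, ?_, ?_⟩
  · -- normal in K
    rw [Subgroup.normal_subgroupOf_iff_le_normalizer hWK]
    apply le_normalizer_of_forall
    intro g hg x hx
    have h1 : ⁅V, E⁆ ≤ (⁅V, E⁆).comap (MulAut.conj g).toMonoidHom := by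
      rw [Subgroup.commutator_le]
      intro v hv e he
      change (MulAut.conj g) ⁅v, e⁆ ∈ ⁅V, E⁆
      rw [map_commutatorElement]
      apply Subgroup.commutator_mem_commutator
      · exact hVn.conj_mem v hv g
      · exact (Subgroup.mem_normalizer_iff.mp (hKE hg) e).mp he
    exact h1 hx
  · -- elementary abelian
    have h1 : Cfsg.IsElementaryAbelian p ⁅V, E⁆ := isElementaryAbelian_of_le hWV hV'.elem
    refine ⟨⟨⟨fun a b => ?_⟩⟩, fun a ha => ?_⟩
    · have := h1.1.is_comm.comm ⟨(a : K), a.2⟩ ⟨(b : K), b.2⟩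
      have h2 : ((a : K) : L) * ((b : K) : L) = ((b : K) : L) * ((a : K) : L) :=
        congrArg Subtype.val this
      ext
      exact h2
    · have := h1.2 a ha
      ext
      simpa using this
  · intro D hD hq
    -- p'-elements of D centralize V
    have key : ∀ b ∈ D, (orderOf (b : L)).Coprime p → (b : L) ∈ Subgroup.centralizer (V : Set L) := by
      intro b hb hcop
      have hbE : (b : L) ∈ E := mem_pResOf b.2 hcop
      obtain ⟨k, hk⟩ := hq b hb
      have hbW : (b : L) ∈ Subgroup.centralizer ((⁅V, E⁆ : Subgroup L) : Set L) := by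
        apply mem_of_pow_mem_of_coprime' (n := p ^ k) _ (Nat.Coprime.pow_left _ hcop.symm)
        rw [Subgroup.mem_centralizer_iff]
        intro w hw
        have h1 := Subgroup.mem_centralizer_iff.mp hk ⟨w, hWK hw⟩ (Subgroup.mem_subgroupOf.mpr hw)
        have h2 := congrArg Subtype.val h1
        simpa using h2
      have hzn : Subgroup.zpowers (b : L) ≤ Subgroup.normalizer (V : Set L) := by
        rw [Subgroup.normalizer_eq_top]; exact le_top
      have hcc := coprime_comm_comm (Subgroup.zpowers (b : L)) V hzn (by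
        rw [Nat.card_zpowers]
        obtain ⟨n, hn⟩ := hVp.exists_card_eq
        rw [hn]
        exact Nat.Coprime.pow_right _ hcop) (Or.inl inferInstance)
      have h3 : ⁅V, Subgroup.zpowers (b : L)⁆ ≤ ⁅V, E⁆ :=
        Subgroup.commutator_mono le_rfl (Subgroup.zpowers_le.mpr hbE)
      have h4 : ⁅⁅V, E⁆, Subgroup.zpowers (b : L)⁆ = ⊥ := by
        rw [Subgroup.commutator_eq_bot_iff_le_centralizer, Subgroup.le_centralizer_iff,
          Subgroup.zpowers_le]
        exact hbW
      have h5 : ⁅V, Subgroup.zpowers (b : L)⁆ = ⊥ := by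
        rw [← hcc, eq_bot_iff, ← h4]
        exact Subgroup.commutator_mono h3 le_rfl
      rw [Subgroup.commutator_eq_bot_iff_le_centralizer, Subgroup.le_centralizer_iff,
        Subgroup.zpowers_le] at h5
      exact h5
    have hDsn : (D.map K.subtype).IsSubnormal := Subgroup.IsSubnormal.trans' hD.isSubnormal hK
    have hsn2 : ((D.map K.subtype).map
        (QuotientGroup.mk' (Subgroup.centralizer (V : Set L)))).IsSubnormal :=
      hDsn.map (QuotientGroup.mk'_surjective _)
    have hpg : IsPGroup p ((D.map K.subtype).map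
        (QuotientGroup.mk' (Subgroup.centralizer (V : Set L)))) := by
      rintro ⟨_, _, ⟨d, hd, rfl⟩, rfl⟩
      obtain ⟨a, ha, b, hb, hab, ⟨k, hk⟩, hcop⟩ := exists_p_decomposition p d
      refine ⟨k, ?_⟩
      ext
      change (QuotientGroup.mk' _ (d : L)) ^ p ^ k = 1
      rw [← map_pow]
      apply (QuotientGroup.eq_one_iff _).mpr
      have hbD : b ∈ D := (Subgroup.zpowers_le.mpr hd) hb
      have hcomm : Commute a b := by
        obtain ⟨i, rfl⟩ := Subgroup.mem_zpowers_iff.mp ha
        obtain ⟨j, rfl⟩ := Subgroup.mem_zpowers_iff.mp hb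
        exact (Commute.refl d).zpow_zpow i j
      have h1 : d ^ p ^ k = b ^ p ^ k := by
        conv_lhs => rw [hab]
        rw [hcomm.mul_pow, hk, one_mul]
      have h2 : (d : L) ^ p ^ k = (b : L) ^ p ^ k := by
        have := congrArg Subtype.val h1
        simpa using this
      rw [h2]
      apply pow_mem
      apply key b hbD
      rwa [Subgroup.orderOf_coe]
    have h6 := subnormal_pgroup_le_pCore hsn2 hpg
    rw [hcore, le_bot_iff, Subgroup.map_eq_bot_iff, QuotientGroup.ker_mk'] at h6
    intro d hd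
    rw [Subgroup.mem_centralizer_iff]
    intro w hw
    have h7 : (d : L) ∈ Subgroup.centralizer (V : Set L) := h6 ⟨d, hd, rfl⟩
    have h8 := Subgroup.mem_centralizer_iff.mp h7 (w : L) (hWV (Subgroup.mem_subgroupOf.mp hw))
    ext
    exact h8

end Cfsg.Agent.S2804
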