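import Mathlib
import Cfsg.Statements.S2809
import Mathlib
import Cfsg.Agent.Lib_helper1_PRed3

set_option autoImplicit false
open Cfsg

namespace Cfsg.Agent.S2809

open Cfsg.Agent.H1
open scoped commutatorElement

/-- Let H be a finite group, p a prime, R a p-subgroup of H with C_H(R) ≤ R, and L a subgroup of N_H(R) acting nilpotently on R (some iterated commutator [R, L, …, L] is trivial). Then L is a p-group. -/
theorem result {H : Type*} [Group H] [Finite H] {p : ℕ} [Fact p.Prime] (R : Subgroup H) (hR : IsPGroup p ↥R) (hC : Subgroup.centralizer (R : Set H) ≤ R) (L : Subgroup H) (hL : L ≤ Subgroup.normalizer (R : Set H)) (hnil : ∃ n : ℕ, Cfsg.iterCommutator R L n = ⊥) : IsPGroup p ↥L := by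
  obtain ⟨n, hn⟩ := hnil
  apply isPGroup_of_forall_coprime
  intro x hx hcop
  have hxn : Subgroup.zpowers x ≤ Subgroup.normalizer (R : Set H) := Subgroup.zpowers_le.mpr (hL hx)
  have hcc := coprime_comm_comm (Subgroup.zpowers x) R hxn (by
    rw [Nat.card_zpowers]
    obtain ⟨m, hm⟩ := hR.exists_card_eq
    rw [hm]
    exact Nat.Coprime.pow_right _ hcop) (Or.inl inferInstance)
  have key : ∀ m : ℕ, ⁅R, Subgroup.zpowers x⁆ ≤ Cfsg.iterCommutator R L m := by
    intro m
    induction m with
    | zero => exact commutator_le_of_le_normalizer hxn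
    | succ m ih =>
      rw [← hcc]
      exact Subgroup.commutator_mono ih (Subgroup.zpowers_le.mpr hx)
  have h1 : ⁅R, Subgroup.zpowers x⁆ = ⊥ := by
    rw [eq_bot_iff, ← hn]; exact key n
  rw [Subgroup.commutator_eq_bot_iff_le_centralizer, Subgroup.le_centralizer_iff,
    Subgroup.zpowers_le] at h1
  exact eq_one_of_pgroup_of_coprime hR (hC h1) hcop

end Cfsg.Agent.S2809
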