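import Mathlib
import Cfsg.Statements.S2810
import Mathlib
import Cfsg.Agent.Lib_helper1_PRed3

set_option autoImplicit false
open Cfsg

namespace Cfsg.Agent.S2810

open Cfsg.Agent.H1
open scoped commutatorElement

/-- Let H be a finite group of characteristic p and L a subgroup of H centralizing every factor of some H-invariant chain 1 = A₀ ≤ A₁ ≤ … ≤ Aₙ = O_p(H) of normal subgroups (that is, [A_{i+1}, L] ≤ Aᵢ for each i). Then L ≤ O_p(H). -/
theorem result {H : Type*} [Group H] [Finite H] {p : ℕ} [Fact p.Prime] (hchar : Subgroup.centralizer (Cfsg.pCore p H : Set H) ≤ Cfsg.pCore p H) (L : Subgroup H) (n : ℕ) (A : Fin (n + 1) → Subgroup H) (h0 : A 0 = ⊥) (hn : A (Fin.last n) = Cfsg.pCore p H) (hmono : Monotone A) (hnorm : ∀ i, (A i).Normal) (hcent : ∀ i : Fin n, ⁅A i.succ, L⁆ ≤ A i.castSucc) : L ≤ Cfsg.pCore p H := by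
  set C : Subgroup H := ⨅ i : Fin n, secStab (A i.succ) (A i.castSucc) (hnorm _) with hCdef
  have hCn : C.Normal := by
    have : ∀ i : Fin n, (secStab (A i.succ) (A i.castSucc) (hnorm _)).Normal :=
      fun i => secStab_normal (hnorm _) (hnorm _)
    exact Subgroup.normal_iInf_normal this
  have hLC : L ≤ C := by
    apply le_iInf
    intro i g hg a ha
    exact hcent i (Subgroup.commutator_mem_commutator ha hg)
  have hAp : ∀ i, IsPGroup p (A i) := by
    intro i
    have : A i ≤ Cfsg.pCore p H := by
      rw [← hn]; exact hmono (Fin.le_last i)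
    exact (pCore_isPGroup p).to_le this
  have hCp : IsPGroup p C := by
    apply isPGroup_of_forall_coprime
    intro x hx hcop
    have key : ∀ i : Fin (n + 1), x ∈ Subgroup.centralizer (A i : Set H) := by
      intro i
      induction i using Fin.induction with
      | zero =>
        rw [h0, Subgroup.mem_centralizer_iff]
        intro y hy
        have : y = 1 := hy
        rw [this]; simp
      | succ i ih =>
        have hn' := hnorm i.succ
        apply centralizes_of_stab (hAp i.succ) (by rw [Subgroup.normalizer_eq_top]; exact Subgroup.mem_top _)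
          hcop _ ih
        have hxi : x ∈ secStab (A i.succ) (A i.castSucc) (hnorm _) := (Subgroup.mem_iInf.mp hx) i
        rw [Subgroup.commutator_le]
        intro a ha z hz
        exact (Subgroup.zpowers_le.mpr hxi) hz a ha
    have h1 := key (Fin.last n)
    rw [hn] at h1
    exact eq_one_of_pgroup_of_coprime (pCore_isPGroup p) (hchar h1) hcop
  exact hLC.trans (le_pCore p hCn hCp)

end Cfsg.Agent.S2810
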