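import Cfsg.Statements.S2812
import Mathlib
import Cfsg.Agent.Lib_helper5_Comp6
import Cfsg.Agent.Lib_helper7_Comm
import Cfsg.Agent.Lib_helper2_PReg
import Cfsg.Agent.Lib_helper3_PiHall
import Cfsg.Agent.Lib_helper1_Cores

set_option autoImplicit false
open Cfsg

namespace Cfsg.Agent.S2812

open Cfsg.Agent
open scoped commutatorElement

theorem comp_step {G : Type*} [Group G] [Finite G] (H : Subgroup G) (K : Subgroup ↥H)
    (hK : Cfsg.IsComponent K) (M Y : Subgroup G) (hMH : M ≤ H)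
    (hMsn : (M.subgroupOf H).IsSubnormal) (hKM : K.map H.subtype ≤ M)
    (hYM : Y ≤ Subgroup.normalizer (M : Set G)) (hKY : ⁅K.map H.subtype, Y⁆ ≠ ⊥) :
    K.map H.subtype ≤ ⁅M, Y⁆ ∧ ((⁅M, Y⁆ : Subgroup G).subgroupOf H).IsSubnormal := by
  have hDM : ⁅M, Y⁆ ≤ M := H1.commutator_le_of_le_normalizer hYM
  have hMD : M ≤ Subgroup.normalizer ((⁅M, Y⁆ : Subgroup G) : Set G) :=
    H7.self_le_normalizer_commutator M Y
  have hsn : ((⁅M, Y⁆ : Subgroup G).subgroupOf H).IsSubnormal := by
    apply H5.subnormal_of_normal_in hMsn (fun x hx => hDM hx)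
    apply H1.le_normalizer_of_forall
    intro g hg x hx
    rw [Subgroup.mem_subgroupOf] at hg hx ⊢
    exact H1.conj_mem_of_le_normalizer hMD hg hx
  refine ⟨?_, hsn⟩
  have hperf : ⁅K.map H.subtype, K.map H.subtype⁆ = K.map H.subtype := by
    rw [← Subgroup.map_commutator, H5.component_perfect hK]
  rcases H5.component_subnormal hK hsn with h | h
  · have := Subgroup.map_mono (f := H.subtype) h
    rwa [Subgroup.map_subgroupOf_eq_of_le (hDM.trans hMH)] at this
  · exfalso
    apply hKY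
    have h1 : ⁅K.map H.subtype, ⁅M, Y⁆⁆ = ⊥ := by
      have := congrArg (Subgroup.map H.subtype) h
      rwa [Subgroup.map_commutator, Subgroup.map_subgroupOf_eq_of_le (hDM.trans hMH),
        Subgroup.map_bot] at this
    have h2 : ⁅⁅Y, K.map H.subtype⁆, K.map H.subtype⁆ = ⊥ := by
      rw [eq_bot_iff, ← h1, Subgroup.commutator_comm (K.map H.subtype) ⁅M, Y⁆,
        Subgroup.commutator_comm Y]
      exact Subgroup.commutator_mono (Subgroup.commutator_mono hKM le_rfl) le_rfl
    have h3 := H5.perfect_comm_comm hperf h2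
    rwa [Subgroup.commutator_comm] at h3

/-- Let H be a subgroup of the finite group G with O_p(H) = 1, Y a p-subgroup of G normalizing H, and L a subgroup of the generalized Fitting subgroup F*(H) that is subnormal in H and normalized by Y. Then L = [L, Y]·C_L(Y) and [L, Y] = [L, Y, Y]. -/
theorem result {G : Type*} [Group G] [Finite G] {p : ℕ} [Fact p.Prime] (H : Subgroup G) (hO : Cfsg.pCore p ↥H = ⊥) (Y : Subgroup G) (hY : IsPGroup p ↥Y) (hYH : Y ≤ Subgroup.normalizer (H : Set G)) (L : Subgroup G) (hLF : L ≤ (Cfsg.generalizedFittingSubgroup ↥H).map H.subtype) (hLsn : (L.subgroupOf H).IsSubnormal) (hYL : Y ≤ Subgroup.normalizer (L : Set G)) : ⁅L, Y⁆ ⊔ (L ⊓ Subgroup.centralizer (Y : Set G)) = L ∧ ⁅L, Y⁆ = ⁅⁅L, Y⁆, Y⁆ := by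
  classical
  have hp : p.Prime := Fact.out
  obtain ⟨S, hS⟩ : ∃ S : Subgroup ↥H, S = L.subgroupOf H := ⟨_, rfl⟩
  have hLH : L ≤ H := hLF.trans (Subgroup.map_subtype_le _)
  have hSmap : S.map H.subtype = L := by rw [hS]; exact Subgroup.map_subgroupOf_eq_of_le hLH
  have hSsn : S.IsSubnormal := hS ▸ hLsn
  have hSle : S ≤ Cfsg.generalizedFittingSubgroup ↥H := by
    intro s hs
    have h1 : (s : G) ∈ L := by rw [hS] at hs; exact hs
    obtain ⟨t, ht, hts⟩ := hLF h1
    have : t = s := Subtype.ext hts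
    rwa [← this]
  have hdec := H5.subnormal_le_genFitting_decomp S hSsn hSle
  obtain ⟨D, hD⟩ : ∃ D : Subgroup G, D = ⁅L, Y⁆ := ⟨_, rfl⟩
  obtain ⟨D₂, hD₂⟩ : ∃ D₂ : Subgroup G, D₂ = ⁅D, Y⁆ := ⟨_, rfl⟩
  have hDL : D ≤ L := hD ▸ H1.commutator_le_of_le_normalizer hYL
  have hYD : Y ≤ Subgroup.normalizer (D : Set G) := hD ▸ H1.le_normalizer_commutator hYL
  have hD₂D : D₂ ≤ D := hD₂ ▸ H1.commutator_le_of_le_normalizer hYD
  have hYD₂ : Y ≤ Subgroup.normalizer (D₂ : Set G) := hD₂ ▸ H1.le_normalizer_commutator hYD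
  have hLD : L ≤ Subgroup.normalizer (D : Set G) := hD ▸ H7.self_le_normalizer_commutator L Y
  -- components
  have hcomp : ∀ K : Subgroup ↥H, Cfsg.IsComponent K → K ≤ S →
      K.map H.subtype ≤ D₂ ⊔ (L ⊓ Subgroup.centralizer (Y : Set G)) := by
    intro K hK hKS
    have hKL : K.map H.subtype ≤ L := by rw [← hSmap]; exact Subgroup.map_mono hKS
    by_cases hKY : ⁅K.map H.subtype, Y⁆ = ⊥
    · refine le_trans (le_inf hKL ?_) le_sup_right
      rwa [Subgroup.commutator_eq_bot_iff_le_centralizer] at hKY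
    · obtain ⟨h1, h2⟩ := comp_step H K hK L Y hLH hLsn hKL hYL hKY
      rw [← hD] at h1 h2
      obtain ⟨h3, -⟩ := comp_step H K hK D Y (hDL.trans hLH) h2 h1 hYD hKY
      rw [← hD₂] at h3
      exact h3.trans le_sup_left
  -- Fitting part
  obtain ⟨FL, hFL⟩ : ∃ FL : Subgroup G,
      FL = (Cfsg.fittingSubgroup ↥H).map H.subtype ⊓ L := ⟨_, rfl⟩
  have hFLL : FL ≤ L := hFL ▸ inf_le_right
  have hYFL : Y ≤ Subgroup.normalizer (FL : Set G) := by
    rw [hFL]
    have := H1.fitting_characteristic (G := ↥H)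
    exact H3.le_normalizer_inf
      (hYH.trans (H1.normalizer_le_normalizer_map_of_characteristic H (Cfsg.fittingSubgroup ↥H))) hYL
  have hcop : (Nat.card Y).Coprime (Nat.card FL) := by
    obtain ⟨k, hk⟩ := IsPGroup.iff_card.1 hY
    rw [hk]
    apply Nat.Coprime.pow_left
    have h1 : (Nat.card ((Cfsg.fittingSubgroup ↥H).map H.subtype)).Coprime p := by
      rw [Subgroup.card_map_of_injective H.subtype_injective]
      exact H2.card_fitting_coprime hp hO
    exact (h1.coprime_dvd_left (Subgroup.card_dvd_of_le (hFL ▸ inf_le_left))).symm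
  have hYsolv : Group.IsSolvable Y := by
    have := hY.isNilpotent
    infer_instance
  have hF1 := H1.coprime_comm_sup_centralizer Y FL hYFL hcop (Or.inl hYsolv)
  have hF2 := H1.coprime_comm_comm Y FL hYFL hcop (Or.inl hYsolv)
  have hF3 : ⁅FL, Y⁆ ≤ D₂ := by
    rw [← hF2, hD₂, hD]
    exact Subgroup.commutator_mono (Subgroup.commutator_mono hFLL le_rfl) le_rfl
  have hFLle : FL ≤ D₂ ⊔ (L ⊓ Subgroup.centralizer (Y : Set G)) := by
    rw [← hF1]
    exact sup_le_sup hF3 (inf_le_inf_right _ hFLL)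
  have hLstar : L ≤ D₂ ⊔ (L ⊓ Subgroup.centralizer (Y : Set G)) := by
    conv_lhs => rw [← hSmap]
    refine (Subgroup.map_mono hdec).trans ?_
    rw [Subgroup.map_sup]
    apply sup_le
    · refine le_trans ?_ hFLle
      rw [hFL]
      apply le_inf
      · exact Subgroup.map_mono inf_le_left
      · rw [← hSmap]; exact Subgroup.map_mono inf_le_right
    · rw [Subgroup.map_le_iff_le_comap]
      apply sSup_le
      rintro K ⟨hK, hKS⟩
      rw [← Subgroup.map_le_iff_le_comap]
      exact hcomp K hK hKS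
  rw [← hD, ← hD₂]
  refine ⟨le_antisymm (sup_le hDL inf_le_left) (hLstar.trans (sup_le_sup_right hD₂D _)), ?_⟩
  apply le_antisymm _ hD₂D
  -- C normalizes D₂
  have hCD₂ : L ⊓ Subgroup.centralizer (Y : Set G) ≤ Subgroup.normalizer (D₂ : Set G) := by
    apply H1.le_normalizer_of_forall
    intro c hc x hx
    have h1 : D₂ ≤ D₂.comap (MulAut.conj c).toMonoidHom := by
      conv_lhs => rw [hD₂]
      rw [Subgroup.commutator_le]
      intro d hd y hy
      rw [Subgroup.mem_comap, map_commutatorElement]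
      have hy' : (MulAut.conj c).toMonoidHom y = y := by
        have := (Subgroup.mem_centralizer_iff.1 hc.2) y hy
        simp only [MulEquiv.coe_toMonoidHom, MulAut.conj_apply]
        rw [← this]; group
      rw [hy', hD₂]
      apply Subgroup.commutator_mem_commutator _ hy
      simp only [MulEquiv.coe_toMonoidHom, MulAut.conj_apply]
      exact H1.conj_mem_of_le_normalizer hLD hc.1 hd
    have := h1 hx
    simpa using this
  have key : ∀ l ∈ D₂ ⊔ (L ⊓ Subgroup.centralizer (Y : Set G)),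
      l ∈ Subgroup.normalizer (D₂ : Set G) ∧ ∀ y ∈ Y, ⁅l, y⁆ ∈ D₂ := by
    intro l hl
    rw [Subgroup.sup_eq_closure] at hl
    induction hl using Subgroup.closure_induction with
    | mem l hl =>
      rcases hl with hl | hl
      · refine ⟨Subgroup.le_normalizer hl, fun y hy => ?_⟩
        have e : ⁅l, y⁆ = l * (y * l⁻¹ * y⁻¹) := by rw [commutatorElement_def]; group
        rw [e]
        exact D₂.mul_mem hl (H1.conj_mem_of_le_normalizer hYD₂ hy (D₂.inv_mem hl))
      · refine ⟨hCD₂ hl, fun y hy => ?_⟩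
        have h1 := (Subgroup.mem_centralizer_iff.1 hl.2) y hy
        have e : ⁅l, y⁆ = 1 := by
          rw [commutatorElement_eq_one_iff_mul_comm]; exact h1.symm
        rw [e]; exact D₂.one_mem
    | one => exact ⟨Subgroup.one_mem _, fun y _ => by simp⟩
    | mul a b _ _ iha ihb =>
      refine ⟨Subgroup.mul_mem _ iha.1 ihb.1, fun y hy => ?_⟩
      have e : ⁅a * b, y⁆ = (a * ⁅b, y⁆ * a⁻¹) * ⁅a, y⁆ := by
        simp only [commutatorElement_def]; group
      rw [e]
      exact D₂.mul_mem ((Subgroup.mem_normalizer_iff.1 iha.1 _).1 (ihb.2 y hy)) (iha.2 y hy)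
    | inv a _ iha =>
      refine ⟨Subgroup.inv_mem _ iha.1, fun y hy => ?_⟩
      have e : ⁅a⁻¹, y⁆ = a⁻¹ * ⁅a, y⁆⁻¹ * (a⁻¹)⁻¹ := by
        simp only [commutatorElement_def]; group
      rw [e]
      exact (Subgroup.mem_normalizer_iff.1 (Subgroup.inv_mem _ iha.1) _).1 (D₂.inv_mem (iha.2 y hy))
  conv_lhs => rw [hD]
  rw [Subgroup.commutator_le]
  intro l hl y hy
  exact (key l (hLstar hl)).2 y hy

end Cfsg.Agent.S2812
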