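import Mathlib
import Cfsg.Statements.S2813
import Mathlib
import Cfsg.Agent.Lib_helper1_PRed3

set_option autoImplicit false
open Cfsg

namespace Cfsg.Agent.S2813

open Cfsg.Agent.H1
open scoped commutatorElement

/-- Let K be a subgroup of the finite group H with O_p(K) = 1 and Y a p-subgroup of N_H(K) with [K, Y, Y] = 1. Then [K, Y] = 1. -/
theorem result {H : Type*} [Group H] [Finite H] {p : ℕ} [Fact p.Prime] (K : Subgroup H) (hO : Cfsg.pCore p ↥K = ⊥) (Y : Subgroup H) (hY : IsPGroup p ↥Y) (hYK : Y ≤ Subgroup.normalizer (K : Set H)) (hq : ⁅⁅K, Y⁆, Y⁆ = ⊥) : ⁅K, Y⁆ = ⊥ := by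
  set N := ⁅K, Y⁆ with hN
  have hNK : N ≤ K := commutator_le_of_le_normalizer hYK
  have hYN : Y ≤ Subgroup.centralizer (N : Set H) := by
    rw [Subgroup.commutator_eq_bot_iff_le_centralizer, Subgroup.le_centralizer_iff] at hq
    exact hq
  -- K normalizes N
  have hKN : K ≤ Subgroup.normalizer (N : Set H) := by
    apply le_normalizer_of_forall
    intro g hg x hx
    have h1 : N ≤ N.comap (MulAut.conj g).toMonoidHom := by
      rw [hN, Subgroup.commutator_le]
      intro k hk y hy
      change g * ⁅k, y⁆ * g⁻¹ ∈ ⁅K, Y⁆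
      have e : g * ⁅k, y⁆ * g⁻¹ = ⁅g * k, y⁆ * ⁅g, y⁆⁻¹ := by
        simp only [commutatorElement_def]; group
      rw [e]
      exact mul_mem (Subgroup.commutator_mem_commutator (mul_mem hg hk) hy)
        (inv_mem (Subgroup.commutator_mem_commutator hg hy))
    exact h1 hx
  -- N abelian
  have hNN : N ≤ Subgroup.centralizer (N : Set H) := by
    conv_lhs => rw [hN]
    rw [Subgroup.commutator_le]
    intro k hk y hy
    have e : ⁅k, y⁆ = (k * y * k⁻¹) * y⁻¹ := by rw [commutatorElement_def]
    rw [e]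
    apply mul_mem _ (inv_mem (hYN hy))
    rw [Subgroup.mem_centralizer_iff]
    intro n hn
    have hn' : k⁻¹ * n * k ∈ N := by
      have := (Subgroup.mem_normalizer_iff.mp (inv_mem (hKN hk)) n).mp hn
      rwa [inv_inv] at this
    have h2 := Subgroup.mem_centralizer_iff.mp (hYN hy) _ hn'
    calc n * (k * y * k⁻¹) = k * ((k⁻¹ * n * k) * y) * k⁻¹ := by group
      _ = k * (y * (k⁻¹ * n * k)) * k⁻¹ := by rw [h2]
      _ = k * y * k⁻¹ * n := by group
  -- N is a p-group
  have hNp : IsPGroup p N := by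
    have key : ∀ x ∈ N, ∃ m : ℕ, x ^ p ^ m = 1 := by
      intro x hx
      rw [hN, Subgroup.commutator_def] at hx
      induction hx using Subgroup.closure_induction with
      | mem x hx =>
        obtain ⟨k, hk, y, hy, rfl⟩ := hx
        obtain ⟨m, hm⟩ := hY ⟨y, hy⟩
        have hm' : y ^ p ^ m = 1 := congrArg Subtype.val hm
        refine ⟨m, ?_⟩
        have hc : Commute ⁅k, y⁆ y :=
          (Subgroup.mem_centralizer_iff.mp (hYN hy) _ (Subgroup.commutator_mem_commutator hk hy))
        have e : k * y * k⁻¹ = ⁅k, y⁆ * y := by rw [commutatorElement_def]; group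
        have h3 : (k * y * k⁻¹) ^ p ^ m = 1 := by rw [conj_pow, hm']; group
        rw [e, hc.mul_pow, hm', mul_one] at h3
        exact h3
      | one => exact ⟨0, one_pow _⟩
      | mul a b ha hb iha ihb =>
        obtain ⟨m, hm⟩ := iha
        obtain ⟨l, hl⟩ := ihb
        have ha' : a ∈ N := by rw [hN, Subgroup.commutator_def]; exact ha
        have hb' : b ∈ N := by rw [hN, Subgroup.commutator_def]; exact hb
        have hc : Commute a b := (Subgroup.mem_centralizer_iff.mp (hNN hb') a ha')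
        refine ⟨m + l, ?_⟩
        rw [hc.mul_pow, pow_add, pow_mul, hm, one_pow, mul_comm (p ^ m), pow_mul, hl, one_pow, one_mul]
      | inv a _ iha =>
        obtain ⟨m, hm⟩ := iha
        exact ⟨m, by rw [inv_pow, hm, inv_one]⟩
    intro x
    obtain ⟨m, hm⟩ := key x x.2
    exact ⟨m, by ext; simpa using hm⟩
  have h5 : N.subgroupOf K ≤ Cfsg.pCore p ↥K :=
    le_pCore p ((Subgroup.normal_subgroupOf_iff_le_normalizer hNK).mpr hKN)
      (isPGroup_subgroupOf hNp K)
  rw [hO, le_bot_iff, Subgroup.subgroupOf_eq_bot, disjoint_iff, inf_eq_left.mpr hNK] at h5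
  exact h5

end Cfsg.Agent.S2813
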