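import Mathlib
import Cfsg.Statements.S2814
import Mathlib
import Cfsg.Agent.Lib_helper1_PRed3
import Cfsg.Agent.Lib_helper1_Transfer

set_option autoImplicit false
open Cfsg

namespace Cfsg.Agent.S2814

open Cfsg.Agent.H1
open scoped commutatorElement Pointwise

theorem isSubnormal_of_nilpotent {G : Type*} [Group G] [Finite G] [Group.IsNilpotent G]
    (H : Subgroup G) : H.IsSubnormal := by
  induction H using WellFoundedGT.induction with
  | ind H ih =>
    by_cases h : H = ⊤
    · rw [h]; exact Subgroup.IsSubnormal.top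
    · exact Subgroup.IsSubnormal.step H (Subgroup.normalizer (H : Set G)) Subgroup.le_normalizer
        (ih _ (Group.normalizerCondition_of_isNilpotent _ (lt_top_iff_ne_top.mpr h)))
        Subgroup.normal_in_normalizer

/-- Let A be a subgroup of the finite group H and K the subnormal closure of A (intersection of the subnormal subgroups containing A). Then K is the normal closure of A inside K and N_H(A) ≤ N_H(K); K = A·O^p(K), O^p(K) being generated by the elements of K of order prime to p; and if A is a p-group, O^p(K) = [O^p(K), A]. -/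
theorem result {H : Type*} [Group H] [Finite H] {p : ℕ} [Fact p.Prime] (A : Subgroup H) (K : Subgroup H) (hK : K = Cfsg.subnormalClosure A) : (Subgroup.normalClosure ((A.subgroupOf K : Subgroup ↥K) : Set ↥K)).map K.subtype = K ∧ Subgroup.normalizer (A : Set H) ≤ Subgroup.normalizer (K : Set H) ∧ A ⊔ (Cfsg.pResidual p ↥K).map K.subtype = K ∧ (IsPGroup p ↥A → ⁅(Cfsg.pResidual p ↥K).map K.subtype, A⁆ = (Cfsg.pResidual p ↥K).map K.subtype) := by
  have hinf : InfClosed {K' : Subgroup H | A ≤ K' ∧ K'.IsSubnormal} := by
    rintro X ⟨hX1, hX2⟩ Y ⟨hY1, hY2⟩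
    exact ⟨le_inf hX1 hY1, hX2.inf hY2⟩
  have hmem : K ∈ {K' : Subgroup H | A ≤ K' ∧ K'.IsSubnormal} := by
    rw [hK]
    exact hinf.sInf_mem (Set.toFinite _) ⟨le_top, Subgroup.IsSubnormal.top⟩ (le_refl _)
  obtain ⟨hAK, hKsn⟩ := hmem
  have hmin : ∀ K' : Subgroup H, A ≤ K' → K'.IsSubnormal → K ≤ K' := by
    intro K' h1 h2
    rw [hK]
    exact sInf_le ⟨h1, h2⟩
  rw [map_pResidual]
  set E := pResOf p K with hE
  have hEK : E ≤ K := pResOf_le K
  have hKE : K ≤ Subgroup.normalizer (E : Set H) :=
    Subgroup.le_normalizer.trans (normalizer_le_normalizer_pResOf K)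
  have h3 : A ⊔ E = K := by
    apply le_antisymm (sup_le hAK hEK)
    apply hmin _ le_sup_left
    have hn := pResidual_normal (G := K) p
    have hpq : IsPGroup p (↥K ⧸ Cfsg.pResidual p ↥K) := isPGroup_quotient_pResidual p
    have hnil : Group.IsNilpotent (↥K ⧸ Cfsg.pResidual p ↥K) := hpq.isNilpotent
    have h1 : (((A.subgroupOf K).map (QuotientGroup.mk' (Cfsg.pResidual p ↥K))).comap
        (QuotientGroup.mk' (Cfsg.pResidual p ↥K))).IsSubnormal :=
      (isSubnormal_of_nilpotent _).comap _
    rw [Subgroup.comap_map_eq, QuotientGroup.ker_mk'] at h1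
    have h2 := Subgroup.IsSubnormal.trans' h1 hKsn
    rwa [Subgroup.map_sup, Subgroup.map_subgroupOf_eq_of_le hAK, map_pResidual] at h2
  refine ⟨?_, ?_, h3, ?_⟩
  · apply le_antisymm (Subgroup.map_subtype_le _)
    apply hmin
    · intro a ha
      exact ⟨⟨a, hAK ha⟩, Subgroup.subset_normalClosure (Subgroup.mem_subgroupOf.mpr ha), rfl⟩
    · exact Subgroup.IsSubnormal.trans' Subgroup.normalClosure_normal.isSubnormal hKsn
  · intro g hg
    rw [← conj_smul_eq_iff_mem_normalizer]
    symm
    apply Subgroup.eq_of_le_of_card_ge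
    · apply hmin
      · intro a ha
        rw [mem_conj_smul]
        apply hAK
        have := (Subgroup.mem_normalizer_iff.mp (inv_mem hg) a).mp ha
        rwa [inv_inv] at this
      · exact hKsn.smul _
    · exact (card_conj_smul g K).le
  · intro hAp
    have hAE : A ≤ Subgroup.normalizer (E : Set H) := hAK.trans hKE
    set F := ⁅E, A⁆ with hF
    have hFE : F ≤ E := commutator_le_of_le_normalizer hAE
    apply le_antisymm hFE
    have hAF : A ≤ Subgroup.normalizer (F : Set H) := le_normalizer_commutator hAE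
    have hEF : E ≤ Subgroup.normalizer (F : Set H) := by
      apply le_normalizer_of_forall
      intro g hg x hx
      have h1 : F ≤ F.comap (MulAut.conj g).toMonoidHom := by
        rw [hF, Subgroup.commutator_le]
        intro k hk y hy
        change g * ⁅k, y⁆ * g⁻¹ ∈ ⁅E, A⁆
        have e : g * ⁅k, y⁆ * g⁻¹ = ⁅g * k, y⁆ * ⁅g, y⁆⁻¹ := by
          simp only [commutatorElement_def]; group
        rw [e]
        exact mul_mem (Subgroup.commutator_mem_commutator (mul_mem hg hk) hy)
          (inv_mem (Subgroup.commutator_mem_commutator hg hy))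
      exact h1 hx
    have hKAF : K ≤ Subgroup.normalizer ((A ⊔ F : Subgroup H) : Set H) := by
      rw [← h3]
      apply sup_le
      · exact (le_inf Subgroup.le_normalizer hAF).trans
          (Subgroup.normalizer_inf_normalizer_le_normalizer_sup A F)
      · apply le_normalizer_of_forall
        intro e he x hx
        have h1 : A ⊔ F ≤ (A ⊔ F).comap (MulAut.conj e).toMonoidHom := by
          apply sup_le
          · intro a ha
            change e * a * e⁻¹ ∈ A ⊔ F
            have e1 : e * a * e⁻¹ = ⁅e, a⁆ * a := by rw [commutatorElement_def]; group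
            rw [e1]
            exact mul_mem (Subgroup.mem_sup_right (Subgroup.commutator_mem_commutator he ha))
              (Subgroup.mem_sup_left ha)
          · intro f hf
            exact Subgroup.mem_sup_right ((Subgroup.mem_normalizer_iff.mp (hEF he) f).mp hf)
        exact h1 hx
    have hAFK : A ⊔ F ≤ K := sup_le hAK (hFE.trans hEK)
    have hle : K ≤ A ⊔ F := by
      apply hmin _ le_sup_left
      exact Subgroup.IsSubnormal.step _ K hAFK hKsn
        ((Subgroup.normal_subgroupOf_iff_le_normalizer hAFK).mpr hKAF)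
    rw [hE, pResOf, Subgroup.closure_le]
    rintro x ⟨hx, hcop⟩
    have hx' : x ∈ ((F ⊔ A : Subgroup H) : Set H) := by
      rw [sup_comm]; exact hle hx
    rw [Subgroup.coe_mul_of_right_le_normalizer_left F A hAF] at hx'
    obtain ⟨f, hf, a, ha, rfl⟩ := hx'
    have e1 : f * a = a * (a⁻¹ * f * a) := by group
    have hf' : a⁻¹ * f * a ∈ F := by
      have := (Subgroup.mem_normalizer_iff.mp (hAF (inv_mem ha)) f).mp hf
      rwa [inv_inv] at this
    obtain ⟨k, hk⟩ := hAp ⟨a, ha⟩
    have hk' : a ^ p ^ k = 1 := congrArg Subtype.val hk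
    obtain ⟨b', hb', h⟩ := exists_mul_pow_eq (hAF ha) hf' (p ^ k)
    rw [hk', one_mul, ← e1] at h
    apply mem_of_pow_mem_of_coprime' (n := p ^ k)
    · change (f * a) ^ p ^ k ∈ F
      rw [h]; exact hb'
    · exact Nat.Coprime.pow_left _ hcop.symm

end Cfsg.Agent.S2814
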