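import Cfsg.Statements.S2815
import Mathlib
import Cfsg.Agent.Lib_helper7_SE
import Cfsg.Agent.Lib_helper7_Residual
import Cfsg.Agent.Lib_helper7_Comm
import Cfsg.Agent.Lib_helper1_Cores
import Cfsg.Agent.Lib_helper5_Comp4

set_option autoImplicit false
open Cfsg

namespace Cfsg.Agent.S2815

/-- Let H be a finite group and p a prime dividing its order with O_p(H) = 1, and suppose K = O^p(H) (generated by the elements of order prime to p) is quasisimple. Then K = F*(H); for every nontrivial p-subgroup Y of H, K = [K, Y] and K lies in the subgroup generated by the K-conjugates of Y; every normal subgroup of H not containing K has order prime to p; and H is p-irreducible. -/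
theorem result {H : Type*} [Group H] [Finite H] {p : ℕ} [Fact p.Prime] (hp : p ∣ Nat.card H) (hO : Cfsg.pCore p H = ⊥) (hq : Cfsg.IsQuasisimple ↥(Cfsg.pResidual p H)) : Cfsg.pResidual p H = Cfsg.generalizedFittingSubgroup H ∧ (∀ Y : Subgroup H, IsPGroup p ↥Y → Y ≠ ⊥ → ⁅Cfsg.pResidual p H, Y⁆ = Cfsg.pResidual p H ∧ Cfsg.pResidual p H ≤ ⨆ k : ↥(Cfsg.pResidual p H), Y.map (MulAut.conj (k : H)).toMonoidHom) ∧ (∀ C : Subgroup H, C.Normal → ¬ Cfsg.pResidual p H ≤ C → (Nat.card ↥C).Coprime p) ∧ Cfsg.IsPIrreducible p H := by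
  have hp' : p.Prime := Fact.out
  obtain ⟨K, hK⟩ : ∃ K : Subgroup H, K = Cfsg.pResidual p H := ⟨_, rfl⟩
  rw [← hK] at hq ⊢
  have hKn : K.Normal := by rw [hK]; exact H7.pResidual_normal p
  have hperf : ⁅K, K⁆ = K := H5.qs_perfect hq
  have hKne : K ≠ ⊥ := H5.qs_ne_bot hq
  have hnsolv : ¬ Group.IsSolvable ↥K := H5.perfect_not_solvable hperf hKne
  have hquot : IsPGroup p (H ⧸ K) := by
    subst hK
    exact H7.isPGroup_quotient_pResidual
  obtain ⟨a, ha⟩ := IsPGroup.iff_card.1 hquot
  have hidx : K.index = p ^ a := ha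
  -- claim 3
  have claim3 : ∀ C : Subgroup H, C.Normal → ¬ K ≤ C → (Nat.card ↥C).Coprime p := by
    intro C hC hKC
    have hcomm : ⁅C, K⁆ = ⊥ := by
      apply H5.perfect_comm_comm hperf
      rw [Subgroup.commutator_eq_bot_iff_le_centralizer]
      have h1 : ⁅C, K⁆ ≤ C ⊓ K := Subgroup.commutator_le_inf C K
      refine h1.trans ?_
      have hn : (C ⊓ K).Normal := inferInstance
      rcases H5.qs_normal_dichotomy hq (inf_le_right : C ⊓ K ≤ K)
        (by rw [Subgroup.normalizer_eq_top]; exact le_top) with h | h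
      · exact absurd (inf_eq_right.1 h) hKC
      · exact h
    obtain ⟨R, -, hR⟩ := H7.exists_isSylowIn_ge (p := p) (Q := ⊥) (H := C) IsPGroup.of_bot bot_le
    have hsup : C ≤ (C ⊓ K) ⊔ R := by
      rw [← Subgroup.relIndex_eq_one]
      have d1 : ((C ⊓ K) ⊔ R).relIndex C ∣ p ^ a := by
        rw [← hidx]
        refine (Subgroup.relIndex_dvd_of_le_left C (le_sup_left : C ⊓ K ≤ (C ⊓ K) ⊔ R)).trans ?_
        rw [Subgroup.inf_relIndex_left]
        exact Subgroup.relIndex_dvd_index_of_normal K C
      have d2 : ((C ⊓ K) ⊔ R).relIndex C ∣ R.relIndex C :=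
        Subgroup.relIndex_dvd_of_le_left C le_sup_right
      obtain ⟨j, -, hj⟩ := (Nat.dvd_prime_pow hp').1 d1
      cases j with
      | zero => rw [hj, pow_zero]
      | succ j =>
        exfalso
        apply hR.2.2
        refine dvd_trans ?_ d2
        rw [hj]
        exact dvd_pow_self p (Nat.succ_ne_zero j)
    have hCR : C ≤ Subgroup.normalizer (R : Set H) := by
      refine hsup.trans (sup_le ?_ Subgroup.le_normalizer)
      intro z hz
      apply Subgroup.centralizer_le_normalizer
      rw [Subgroup.mem_centralizer_iff]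
      intro r hr
      rw [Subgroup.commutator_eq_bot_iff_le_centralizer] at hcomm
      have := hcomm (hR.1 hr)
      rw [Subgroup.mem_centralizer_iff] at this
      exact (this z hz.2).symm
    have hRn : R.Normal := by
      refine ⟨fun r hr h => ?_⟩
      have hU : R.map (MulAut.conj h).toMonoidHom ≤ C := by
        rintro _ ⟨y, hy, rfl⟩
        exact hC.conj_mem y (hR.1 hy) h
      obtain ⟨x, hxC, hx⟩ := hR.exists_conj_le (hR.2.1.map _) hU
      have h1 : x * (h * r * h⁻¹) * x⁻¹ ∈ R := hx ⟨_, ⟨r, hr, rfl⟩, rfl⟩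
      exact (Subgroup.mem_normalizer_iff.1 (hCR hxC) _).2 h1
    have hRb : R = ⊥ := by
      have := H1.le_pCore p hRn hR.2.1
      rw [hO, le_bot_iff] at this
      exact this
    have h2 := hR.2.2
    rw [hRb, Subgroup.relIndex_bot_left] at h2
    exact ((Nat.Prime.coprime_iff_not_dvd hp').2 h2).symm
  have hle_of_cop : ∀ C : Subgroup H, (Nat.card ↥C).Coprime p → C ≤ K := by
    intro C hC x hx
    rw [hK]
    apply H7.mem_pResidual_of_coprime
    apply Nat.Coprime.coprime_dvd_left _ hC
    rw [← Subgroup.orderOf_mk x hx]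
    exact orderOf_dvd_natCard _
  have hcomp : Cfsg.IsComponent K := ⟨hKn.isSubnormal, hq⟩
  refine ⟨?_, ?_, claim3, ?_, ?_⟩
  · apply le_antisymm
    · exact (H5.component_le_layer hcomp).trans H5.layer_le_genFitting
    · apply sup_le
      · apply H5.layer_le
        intro L hL
        have hLp := H5.component_perfect hL
        have h1 : ⁅L.map (QuotientGroup.mk' K), L.map (QuotientGroup.mk' K)⁆ =
            L.map (QuotientGroup.mk' K) := by
          rw [← Subgroup.map_commutator, hLp]
        by_contra hLK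
        have hne : L.map (QuotientGroup.mk' K) ≠ ⊥ := by
          intro hb
          rw [Subgroup.map_eq_bot_iff, QuotientGroup.ker_mk'] at hb
          exact hLK hb
        apply H5.perfect_not_solvable h1 hne
        haveI := hquot.isNilpotent
        infer_instance
      · apply hle_of_cop
        apply claim3 _ H1.fitting_normal
        intro hKF
        apply hnsolv
        haveI : Group.IsNilpotent (Cfsg.fittingSubgroup H) := H1.fitting_nilpotent
        exact Group.isSolvable_of_isSolvable_injective (Subgroup.inclusion_injective hKF)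
  · intro Y hY hYne
    have hKY : ⁅K, Y⁆ = K := by
      rcases H5.qs_normal_dichotomy hq (Subgroup.commutator_le_left K Y)
        (H7.self_le_normalizer_commutator K Y) with h | h
      · exact h
      · exfalso
        have h1 : ⁅⁅Y, K⁆, K⁆ = ⊥ := by
          rw [Subgroup.commutator_eq_bot_iff_le_centralizer, Subgroup.commutator_comm]
          exact h
        have h2 := H5.perfect_comm_comm hperf h1
        rw [Subgroup.commutator_eq_bot_iff_le_centralizer] at h2
        have h3 := claim3 (Subgroup.centralizer (K : Set H)) inferInstance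
          (H5.perfect_not_le_centralizer hperf hKne)
        have h4 : p ∣ Nat.card Y := H7.dvd_card_of_isPGroup_ne_bot hY hYne
        have h5 := h4.trans (Subgroup.card_dvd_of_le h2)
        exact (Nat.Prime.coprime_iff_not_dvd hp').1 h3.symm h5
    refine ⟨hKY, ?_⟩
    conv_lhs => rw [← hKY]
    rw [Subgroup.commutator_le]
    intro k hk y hy
    have h1 : k * y * k⁻¹ ∈ ⨆ k : ↥K, Y.map (MulAut.conj (k : H)).toMonoidHom :=
      (le_iSup (fun k : ↥K => Y.map (MulAut.conj (k : H)).toMonoidHom) ⟨k, hk⟩) ⟨y, hy, rfl⟩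
    have h2 : y ∈ ⨆ k : ↥K, Y.map (MulAut.conj (k : H)).toMonoidHom :=
      (le_iSup (fun k : ↥K => Y.map (MulAut.conj (k : H)).toMonoidHom) 1) ⟨y, hy, by simp⟩
    rw [commutatorElement_def]
    exact Subgroup.mul_mem _ h1 (Subgroup.inv_mem _ h2)
  · intro hcl
    obtain ⟨P⟩ : Nonempty (Sylow p H) := inferInstance
    have h1 := H1.le_pCore p (hcl P) P.2
    rw [hO, le_bot_iff] at h1
    exact P.ne_bot_of_dvd_card hp h1
  · intro N hN hNcl
    rw [← hK]
    by_contra hKN
    apply hNcl
    have h1 := claim3 N hN hKN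
    intro P
    have h2 : (P : Subgroup N) = ⊥ := by
      by_contra hne
      have h3 := H7.dvd_card_of_isPGroup_ne_bot P.2 hne
      have h4 := h3.trans (Subgroup.card_subgroup_dvd_card _)
      exact (Nat.Prime.coprime_iff_not_dvd hp').1 h1.symm h4
    rw [h2]
    infer_instance

end Cfsg.Agent.S2815
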