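import Cfsg.Statements.S2816
import Mathlib
import Cfsg.Agent.S2812
import Cfsg.Agent.S2813
import Cfsg.Agent.Lib_helper1_PRed2

set_option autoImplicit false
open Cfsg

namespace Cfsg.Agent.S2816

open Cfsg.Agent
open scoped commutatorElement

theorem pCore_sub_bot {H : Type*} [Group H] [Finite H] {p : ℕ} [Fact p.Prime]
    (hO : Cfsg.pCore p H = ⊥) (K : Subgroup H) (hK : K.IsSubnormal) : Cfsg.pCore p ↥K = ⊥ := by
  have h1 := H1.pCoreOf_le_of_subnormal (p := p) hK
  rw [hO, le_bot_iff, Subgroup.map_eq_bot_iff_of_injective _ K.subtype_injective] at h1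
  exact h1

theorem idem {H : Type*} [Group H] [Finite H] {p : ℕ} [Fact p.Prime]
    (hO : Cfsg.pCore p H = ⊥) (Y : Subgroup H) (hY : IsPGroup p ↥Y) (K : Subgroup H)
    (hK : K.IsSubnormal) (hYK : Y ≤ K) :
    ⁅(Cfsg.generalizedFittingSubgroup ↥K).map K.subtype, Y⁆ =
      ⁅⁅(Cfsg.generalizedFittingSubgroup ↥K).map K.subtype, Y⁆, Y⁆ := by
  have hn : (Cfsg.generalizedFittingSubgroup ↥K).Normal := H5.genFitting_normal
  have hsub : ((Cfsg.generalizedFittingSubgroup ↥K).map K.subtype).subgroupOf K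
      = Cfsg.generalizedFittingSubgroup ↥K := by
    rw [Subgroup.subgroupOf, Subgroup.comap_map_eq_self_of_injective K.subtype_injective]
  refine (Cfsg.Agent.S2812.result K (pCore_sub_bot hO K hK) Y hY (hYK.trans Subgroup.le_normalizer)
    ((Cfsg.generalizedFittingSubgroup ↥K).map K.subtype) le_rfl ?_ ?_).2
  · rw [hsub]; exact hn.isSubnormal
  · apply H1.le_normalizer_of_forall
    rintro y hy _ ⟨x, hx, rfl⟩
    exact ⟨⟨y, hYK hy⟩ * x * ⟨y, hYK hy⟩⁻¹, hn.conj_mem x hx _, rfl⟩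

/-- Let H be a finite group and p a prime with O_p(H) = 1, and Y a p-subgroup of H. Then for every subnormal subgroup K of H containing Y, [F*(H), Y] = [F*(K), Y] = [F*(K), Y, Y]; and if Y₀ ≤ Y with [F*(H), Y, Y₀] = 1 then Y₀ = 1 (in particular [F*(H), Y] = 1 forces Y = 1). -/
theorem result {H : Type*} [Group H] [Finite H] {p : ℕ} [Fact p.Prime] (hO : Cfsg.pCore p H = ⊥) (Y : Subgroup H) (hY : IsPGroup p ↥Y) : (∀ K : Subgroup H, K.IsSubnormal → Y ≤ K → ⁅Cfsg.generalizedFittingSubgroup H, Y⁆ = ⁅(Cfsg.generalizedFittingSubgroup ↥K).map K.subtype, Y⁆ ∧ ⁅(Cfsg.generalizedFittingSubgroup ↥K).map K.subtype, Y⁆ = ⁅⁅(Cfsg.generalizedFittingSubgroup ↥K).map K.subtype, Y⁆, Y⁆) ∧ (∀ Y₀ : Subgroup H, Y₀ ≤ Y → ⁅⁅Cfsg.generalizedFittingSubgroup H, Y⁆, Y₀⁆ = ⊥ → Y₀ = ⊥) := by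
  classical
  obtain ⟨D, hD⟩ : ∃ D : Subgroup H, D = ⁅Cfsg.generalizedFittingSubgroup H, Y⁆ := ⟨_, rfl⟩
  have hFn : (Cfsg.generalizedFittingSubgroup H).Normal := H5.genFitting_normal
  have htop : (Cfsg.generalizedFittingSubgroup ↥(⊤ : Subgroup H)).map (⊤ : Subgroup H).subtype
      = Cfsg.generalizedFittingSubgroup H := by
    rw [H5.genFitting_map_subtype_eq _ Subgroup.IsSubnormal.top, inf_top_eq]
  have hDD : D = ⁅D, Y⁆ := by
    have := idem hO Y hY ⊤ Subgroup.IsSubnormal.top le_top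
    rw [htop, ← hD] at this
    exact this
  have hDF : D ≤ Cfsg.generalizedFittingSubgroup H := by
    rw [hD]; exact Subgroup.commutator_le_left _ _
  have hDK : ∀ K : Subgroup H, K.IsSubnormal → Y ≤ K → D ≤ K := by
    intro K hK
    induction hK with
    | top => intro _; exact le_top
    | step K K' hle _ hn ih =>
      intro hYK
      have h1 := ih (hYK.trans hle)
      rw [hDD]
      rw [Subgroup.normal_subgroupOf_iff_le_normalizer hle] at hn
      refine (Subgroup.commutator_mono h1 hYK).trans ?_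
      rw [Subgroup.commutator_comm]
      exact H1.commutator_le_of_le_normalizer hn
  rw [← hD]
  refine ⟨fun K hK hYK => ⟨?_, idem hO Y hY K hK hYK⟩, ?_⟩
  · apply le_antisymm
    · conv_lhs => rw [hDD]
      apply Subgroup.commutator_mono _ le_rfl
      rw [H5.genFitting_map_subtype_eq K hK]
      exact le_inf hDF (hDK K hK hYK)
    · rw [hD]
      apply Subgroup.commutator_mono _ le_rfl
      rw [H5.genFitting_map_subtype_eq K hK]
      exact inf_le_left
  · intro Y₀ hY₀ hcomm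
    have hY₀p : IsPGroup p Y₀ := hY.to_le hY₀
    have h1 : ⁅⁅Cfsg.generalizedFittingSubgroup H, Y₀⁆, Y₀⁆ = ⊥ := by
      rw [eq_bot_iff, ← hcomm, hD]
      exact Subgroup.commutator_mono (Subgroup.commutator_mono le_rfl hY₀) le_rfl
    have h2 : ⁅Cfsg.generalizedFittingSubgroup H, Y₀⁆ = ⊥ :=
      Cfsg.Agent.S2813.result (Cfsg.generalizedFittingSubgroup H)
        (pCore_sub_bot hO _ hFn.isSubnormal) Y₀ hY₀p
        (by rw [Subgroup.normalizer_eq_top]; exact le_top) h1
    rw [Subgroup.commutator_comm, Subgroup.commutator_eq_bot_iff_le_centralizer] at h2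
    have h3 : Y₀ ≤ Cfsg.generalizedFittingSubgroup H := h2.trans H5.centralizer_genFitting_le
    have h4 : Y₀.IsSubnormal := by
      apply H5.subnormal_of_normal_in hFn.isSubnormal h3
      apply H1.le_normalizer_of_forall
      intro g hg x hx
      have := (Subgroup.mem_centralizer_iff.1 (h2 hx)) g hg
      have e : g * x * g⁻¹ = x := by rw [this]; group
      rw [e]; exact hx
    have h5 := H1.subnormal_pgroup_le_pCore h4 hY₀p
    rw [hO] at h5
    exact le_bot_iff.1 h5

end Cfsg.Agent.S2816
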