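import Cfsg.Statements.S2817
import Mathlib
import Cfsg.Agent.S2812
import Cfsg.Agent.S2813
import Cfsg.Agent.S2816
import Cfsg.Agent.Lib_helper1_PRed2
import Cfsg.Agent.Lib_helper1_Frattini

set_option autoImplicit false
open Cfsg

namespace Cfsg.Agent.S2817

open Cfsg.Agent
open scoped commutatorElement

/-- averaging over `Q` -/
theorem avg {H : Type*} [Group H] [Finite H] (L Q : Subgroup H)
    (hQL : Q ≤ Subgroup.normalizer (L : Set H)) (hLQ : ⁅L, Q⁆ = L) (z : H) (hzL : z ∈ L)
    (hzQ : ∀ q ∈ Q, q * z = z * q) :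
    (Abelianization.of (⟨z, hzL⟩ : ↥L)) ^ Nat.card Q = 1 := by
  classical
  have : Fintype ↥Q := Fintype.ofFinite _
  let a : ↥Q →* MulAut ↥L := (L.normalizerMonoidHom).comp (Subgroup.inclusion hQL)
  have ha : ∀ (q : ↥Q) (l : ↥L), ((a q l : ↥L) : H) = (q : H) * l * (q : H)⁻¹ := fun q l => rfl
  let ψ : ↥L →* Abelianization ↥L :=
    ∏ q : ↥Q, (Abelianization.of (G := ↥L)).comp (a q).toMonoidHom
  have hψ : ∀ l : ↥L, ψ l = ∏ q : ↥Q, Abelianization.of (a q l) := by
    intro l
    simp only [ψ, MonoidHom.finsetProd_apply]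
    rfl
  have hinv : ∀ (q₀ : ↥Q) (l : ↥L), ψ (a q₀ l) = ψ l := by
    intro q₀ l
    rw [hψ, hψ]
    apply Fintype.prod_equiv (Equiv.mulRight q₀)
    intro q
    simp only [Equiv.coe_mulRight, map_mul, MulAut.mul_apply]
  have hker : L ≤ (ψ.ker).map L.subtype := by
    conv_lhs => rw [← hLQ]
    rw [Subgroup.commutator_le]
    intro l hl q hq
    refine ⟨(⟨l, hl⟩ : ↥L) * a ⟨q, hq⟩ (⟨l, hl⟩ : ↥L)⁻¹, ?_, ?_⟩
    · rw [SetLike.mem_coe, MonoidHom.mem_ker, map_mul, hinv, ← map_mul, mul_inv_cancel, map_one]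
    · simp only [Subgroup.subtype_apply, Subgroup.coe_mul, ha, commutatorElement_def,
        Subgroup.coe_inv]
      group
  obtain ⟨z', hz', hzz'⟩ := hker hzL
  have hz'eq : z' = ⟨z, hzL⟩ := Subtype.ext hzz'
  rw [hz'eq, SetLike.mem_coe, MonoidHom.mem_ker, hψ] at hz'
  have hfix : ∀ q : ↥Q, a q ⟨z, hzL⟩ = ⟨z, hzL⟩ := by
    intro q
    apply Subtype.ext
    rw [ha]
    change (q : H) * z * (q : H)⁻¹ = z
    rw [hzQ q q.2]; group
  simp only [hfix, Finset.prod_const, Finset.card_univ] at hz'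
  rw [Nat.card_eq_fintype_card]
  exact hz'

/-- `Z(G) ∩ G' ≤ Φ(G)` -/
theorem gaschutz {G : Type*} [Group G] (z : G) (hz : z ∈ Subgroup.center G)
    (hz' : z ∈ commutator G) : z ∈ frattini G := by
  have h0 : Subgroup.zpowers z ≤ frattini G := by
    rw [H1.le_frattini_iff]
    intro M hM
    rw [Subgroup.zpowers_le]
    by_contra hzM
    have hsup : M ⊔ Subgroup.zpowers z = ⊤ := by
      apply hM.2
      refine lt_of_le_of_ne le_sup_left ?_
      intro h
      apply hzM
      rw [h]
      exact le_sup_right (a := M) (Subgroup.mem_zpowers z)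
    have hMn : M.Normal := by
      rw [← Subgroup.normalizer_eq_top_iff, eq_top_iff, ← hsup]
      refine sup_le Subgroup.le_normalizer ?_
      rw [Subgroup.zpowers_le, Subgroup.mem_normalizer_iff]
      intro m
      have : z * m * z⁻¹ = m := by
        rw [(Subgroup.mem_center_iff.1 hz m).symm, mul_inv_cancel_right]
      rw [this]
    apply hzM
    have hle : commutator G ≤ M := by
      rw [commutator_def, Subgroup.commutator_le]
      intro g _ h _
      have hzz : ∀ g : G, ∃ k : ℤ, (QuotientGroup.mk g : G ⧸ M) = (QuotientGroup.mk z : G ⧸ M) ^ k := by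
        intro g
        have hg : g ∈ M ⊔ Subgroup.zpowers z := by rw [hsup]; trivial
        obtain ⟨n, hn, w, hw, rfl⟩ := Subgroup.mem_sup_of_normal_left.1 hg
        obtain ⟨k, rfl⟩ := Subgroup.mem_zpowers_iff.1 hw
        refine ⟨k, ?_⟩
        rw [QuotientGroup.mk_mul, (QuotientGroup.eq_one_iff n).2 hn, one_mul, QuotientGroup.mk_zpow]
      obtain ⟨i, hi⟩ := hzz g
      obtain ⟨j, hj⟩ := hzz h
      rw [← QuotientGroup.eq_one_iff, commutatorElement_def]
      simp only [QuotientGroup.mk_mul, QuotientGroup.mk_inv, hi, hj]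
      group
    exact hle hz'
  exact h0 (Subgroup.mem_zpowers z)

theorem coprime_order_central {H : Type*} [Group H] [Finite H] {p : ℕ} [hp : Fact p.Prime]
    (hO : Cfsg.pCore p H = ⊥) (L : Subgroup H) (hL : L.IsSubnormal) (z : H) (hzL : z ∈ L)
    (hzc : ∀ l ∈ L, l * z = z * l) : (orderOf z).Coprime p := by
  by_contra hcon
  have hdvd : p ∣ orderOf z := by
    by_contra h
    exact hcon ((Nat.Prime.coprime_iff_not_dvd hp.out).2 h).symm
  have hw : orderOf (z ^ (orderOf z / p)) = p :=
    orderOf_pow_orderOf_div (orderOf_pos z).ne' hdvd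
  have hsn : (Subgroup.zpowers (z ^ (orderOf z / p))).IsSubnormal := by
    apply H5.subnormal_of_normal_in hL
    · rw [Subgroup.zpowers_le]; exact L.pow_mem hzL _
    · apply H1.le_normalizer_of_forall
      intro l hl x hx
      obtain ⟨k, rfl⟩ := Subgroup.mem_zpowers_iff.1 hx
      have hc : Commute l z := hzc l hl
      have hc2 : Commute l ((z ^ (orderOf z / p)) ^ k) := (hc.pow_right _).zpow_right _
      have e : l * (z ^ (orderOf z / p)) ^ k * l⁻¹ = (z ^ (orderOf z / p)) ^ k := by
        rw [hc2.eq]; group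
      rw [e]; exact hx
  have hpg : IsPGroup p (Subgroup.zpowers (z ^ (orderOf z / p))) := by
    apply IsPGroup.of_card (n := 1)
    rw [Nat.card_zpowers, hw, pow_one]
  have h1 := H1.subnormal_pgroup_le_pCore hsn hpg
  rw [hO, le_bot_iff, Subgroup.zpowers_eq_bot] at h1
  rw [h1, orderOf_one] at hw
  exact hp.out.one_lt.ne hw

theorem mem_cent_sup {H : Type*} [Group H] {L Q : Subgroup H} {g : H} :
    g ∈ Subgroup.centralizer ((L ⊔ Q : Subgroup H) : Set H) ↔
      (∀ l ∈ L, l * g = g * l) ∧ (∀ q ∈ Q, q * g = g * q) := by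
  constructor
  · intro h
    rw [Subgroup.mem_centralizer_iff] at h
    exact ⟨fun l hl => h l (le_sup_left (b := Q) hl), fun q hq => h q (le_sup_right (a := L) hq)⟩
  · rintro ⟨h1, h2⟩
    have hle : L ⊔ Q ≤ Subgroup.centralizer {g} := by
      apply sup_le
      · intro l hl; exact Subgroup.mem_centralizer_singleton_iff.2 (h1 l hl)
      · intro q hq; exact Subgroup.mem_centralizer_singleton_iff.2 (h2 q hq)
    rw [Subgroup.mem_centralizer_iff]
    intro x hx
    exact Subgroup.mem_centralizer_singleton_iff.1 (hle hx)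

theorem le_normalizer_comm2 {H : Type*} [Group H] {B X Q : Subgroup H}
    (hX : B ≤ Subgroup.normalizer (X : Set H)) (hQ : B ≤ Subgroup.normalizer (Q : Set H)) :
    B ≤ Subgroup.normalizer ((⁅X, Q⁆ : Subgroup H) : Set H) := by
  apply H1.le_normalizer_of_forall
  intro b hb x hx
  have h1 : ⁅X, Q⁆ ≤ (⁅X, Q⁆ : Subgroup H).comap (MulAut.conj b).toMonoidHom := by
    rw [Subgroup.commutator_le]
    intro d hd y hy
    rw [Subgroup.mem_comap, map_commutatorElement]
    apply Subgroup.commutator_mem_commutator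
    · simp only [MulEquiv.coe_toMonoidHom, MulAut.conj_apply]
      exact H1.conj_mem_of_le_normalizer hX hb hd
    · simp only [MulEquiv.coe_toMonoidHom, MulAut.conj_apply]
      exact H1.conj_mem_of_le_normalizer hQ hb hy
  have := h1 hx
  simpa using this

/-- Let H be a finite group and p a prime with O_p(H) = 1, Q a p-subgroup of H, L = [F*(H), Q], and F the largest normal subgroup of F*(H) centralized by Q (a normal subgroup of F*(H) centralized by Q and containing every such). Then F = C_{F*(H)}(LQ); L = [L, Q]; L ∩ F ≤ Φ(L); every p-subgroup B of N_H(Q) with [L, B] ≤ F satisfies [L, B] = 1; and C_H(FL) has order prime to p. -/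
theorem result {H : Type*} [Group H] [Finite H] {p : ℕ} [Fact p.Prime] (hO : Cfsg.pCore p H = ⊥) (Q : Subgroup H) (hQ : IsPGroup p ↥Q) (L : Subgroup H) (hL : L = ⁅Cfsg.generalizedFittingSubgroup H, Q⁆) (F : Subgroup H) (hF : F ≤ Cfsg.generalizedFittingSubgroup H ∧ Cfsg.generalizedFittingSubgroup H ≤ Subgroup.normalizer (F : Set H) ∧ Q ≤ Subgroup.centralizer (F : Set H) ∧ ∀ N : Subgroup H, N ≤ Cfsg.generalizedFittingSubgroup H → Cfsg.generalizedFittingSubgroup H ≤ Subgroup.normalizer (N : Set H) → Q ≤ Subgroup.centralizer (N : Set H) → N ≤ F) : F = Cfsg.generalizedFittingSubgroup H ⊓ Subgroup.centralizer ((L ⊔ Q : Subgroup H) : Set H) ∧ ⁅L, Q⁆ = L ∧ L ⊓ F ≤ (frattini ↥L).map L.subtype ∧ (∀ B : Subgroup H, IsPGroup p ↥B → B ≤ Subgroup.normalizer (Q : Set H) → ⁅L, B⁆ ≤ F → ⁅L, B⁆ = ⊥) ∧ (Nat.card ↥(Subgroup.centralizer ((F ⊔ L : Subgroup H) : Set H))).Coprime p := by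
  classical
  have hp : p.Prime := Fact.out
  obtain ⟨hF1, hF2, hF3, hF4⟩ := hF
  obtain ⟨X, hX⟩ : ∃ X : Subgroup H, X = Cfsg.generalizedFittingSubgroup H := ⟨_, rfl⟩
  rw [← hX] at hL hF1 hF2 hF4 ⊢
  have hXn : X.Normal := hX ▸ H5.genFitting_normal
  have hNX : ∀ B : Subgroup H, B ≤ Subgroup.normalizer (X : Set H) := by
    intro B; rw [Subgroup.normalizer_eq_top]; exact le_top
  have hLX : L ≤ X := by rw [hL]; exact Subgroup.commutator_le_left _ _
  have hXL : X ≤ Subgroup.normalizer (L : Set H) := hL ▸ H7.self_le_normalizer_commutator X Q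
  have hQL : Q ≤ Subgroup.normalizer (L : Set H) := hL ▸ H1.le_normalizer_commutator (hNX Q)
  have hLsn : L.IsSubnormal := H5.subnormal_of_normal_in hXn.isSubnormal hLX hXL
  -- (b)
  have hb : ⁅L, Q⁆ = L := by
    obtain ⟨h1, h2⟩ := (Cfsg.Agent.S2816.result hO Q hQ).1 ⊤ Subgroup.IsSubnormal.top le_top
    rw [← h1, ← hX, ← hL] at h2
    exact h2.symm
  have hFQ : ⁅F, Q⁆ = ⊥ := by
    rw [Subgroup.commutator_comm, Subgroup.commutator_eq_bot_iff_le_centralizer]; exact hF3
  -- F centralizes L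
  have hLF : ⁅L, F⁆ = ⊥ := by
    rw [hL]
    apply Subgroup.commutator_commutator_eq_bot_of_rotate
    · rw [Subgroup.commutator_comm Q F, hFQ, Subgroup.commutator_bot_left]
    · rw [eq_bot_iff, ← hFQ]
      exact Subgroup.commutator_mono (H1.commutator_le_of_le_normalizer hF2) le_rfl
  have hLFc : ∀ l ∈ L, ∀ f ∈ F, l * f = f * l := by
    intro l hl f hf
    rw [Subgroup.commutator_eq_bot_iff_le_centralizer] at hLF
    exact ((Subgroup.mem_centralizer_iff.1 (hLF hl)) f hf).symm
  have hQFc : ∀ q ∈ Q, ∀ f ∈ F, q * f = f * q := by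
    intro q hq f hf
    exact ((Subgroup.mem_centralizer_iff.1 (hF3 hq)) f hf).symm
  -- (a)
  have ha : F = X ⊓ Subgroup.centralizer ((L ⊔ Q : Subgroup H) : Set H) := by
    apply le_antisymm
    · intro f hf
      exact Subgroup.mem_inf.2 ⟨hF1 hf, mem_cent_sup.2
        ⟨fun l hl => hLFc l hl f hf, fun q hq => hQFc q hq f hf⟩⟩
    · apply hF4 _ inf_le_left
      · apply H1.le_normalizer_of_forall
        intro x hx c hc
        obtain ⟨hc1, hc2⟩ := Subgroup.mem_inf.1 hc
        obtain ⟨hcL, hcQ⟩ := mem_cent_sup.1 hc2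
        have hl : ∀ l ∈ L, l * (x * c * x⁻¹) = (x * c * x⁻¹) * l := by
          intro l hl
          have h1 : x⁻¹ * l * x ∈ L := H1.conj_mem_of_le_normalizer' hXL hx hl
          have h2 := hcL _ h1
          calc l * (x * c * x⁻¹) = x * ((x⁻¹ * l * x) * c) * x⁻¹ := by group
            _ = x * (c * (x⁻¹ * l * x)) * x⁻¹ := by rw [h2]
            _ = (x * c * x⁻¹) * l := by group
        refine Subgroup.mem_inf.2 ⟨hXn.conj_mem c hc1 x, mem_cent_sup.2 ⟨hl, ?_⟩⟩
        intro q hq
        have h1 : ⁅q, x⁆ ∈ L := by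
          rw [hL, Subgroup.commutator_comm]
          exact Subgroup.commutator_mem_commutator hq hx
        have h2 := hl _ h1
        have h3 := hcQ q hq
        rw [commutatorElement_def] at h2
        calc q * (x * c * x⁻¹) = (q * x * q⁻¹ * x⁻¹) * x * (q * c) * x⁻¹ := by group
          _ = (q * x * q⁻¹ * x⁻¹) * x * (c * q) * x⁻¹ := by rw [h3]
          _ = ((q * x * q⁻¹ * x⁻¹) * (x * c * x⁻¹)) * (q * x * q⁻¹ * x⁻¹)⁻¹ * q := by group
          _ = ((x * c * x⁻¹) * (q * x * q⁻¹ * x⁻¹)) * (q * x * q⁻¹ * x⁻¹)⁻¹ * q := by rw [h2]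
          _ = (x * c * x⁻¹) * q := by group
      · rw [Subgroup.le_centralizer_iff]
        intro c hc
        have := (mem_cent_sup.1 (Subgroup.mem_inf.1 hc).2).2
        rw [Subgroup.mem_centralizer_iff]
        intro q hq
        exact this q hq
  -- (c)
  have hc : L ⊓ F ≤ (frattini ↥L).map L.subtype := by
    intro z hz
    obtain ⟨hzL, hzF⟩ := Subgroup.mem_inf.1 hz
    have hzc : ∀ l ∈ L, l * z = z * l := fun l hl => hLFc l hl z hzF
    have h1 := avg L Q hQL hb z hzL (fun q hq => hQFc q hq z hzF)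
    have h2 := coprime_order_central hO L hLsn z hzL hzc
    obtain ⟨k, hk⟩ := IsPGroup.iff_card.1 hQ
    rw [hk] at h1
    have h3 : Abelianization.of (⟨z, hzL⟩ : ↥L) = 1 := by
      rw [← orderOf_eq_one_iff]
      apply Nat.eq_one_of_dvd_coprimes (Nat.Coprime.pow_right k h2)
      · refine (orderOf_map_dvd _ _).trans ?_
        rw [Subgroup.orderOf_mk]
      · exact orderOf_dvd_of_pow_eq_one h1
    have h4 : (⟨z, hzL⟩ : ↥L) ∈ commutator ↥L := by
      rw [← Abelianization.ker_of, MonoidHom.mem_ker]; exact h3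
    refine ⟨⟨z, hzL⟩, gaschutz _ ?_ h4, rfl⟩
    rw [Subgroup.mem_center_iff]
    intro l
    exact Subtype.ext (hzc l l.2)
  refine ⟨ha, hb, hc, ?_, ?_⟩
  · intro B hB hBQ hLB
    have hBL : B ≤ Subgroup.normalizer (L : Set H) := hL ▸ le_normalizer_comm2 (hNX B) hBQ
    have hXsn : X.IsSubnormal := hXn.isSubnormal
    have hFX : (Cfsg.generalizedFittingSubgroup ↥X).map X.subtype = X := by
      rw [H5.genFitting_map_subtype_eq X hXsn, ← hX, inf_idem]
    have hLXn : (L.subgroupOf X).IsSubnormal :=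
      (Subgroup.normal_subgroupOf_of_le_normalizer hXL).isSubnormal
    have h1 := (Cfsg.Agent.S2812.result X (Cfsg.Agent.S2816.pCore_sub_bot hO X hXsn) B hB (hNX B) L
      (by rw [hFX]; exact hLX) hLXn hBL).1
    have h2 : ⁅L, B⁆ ≤ (frattini ↥L).map L.subtype :=
      (le_inf (H1.commutator_le_of_le_normalizer hBL) hLB).trans hc
    have h3 : ((L ⊓ Subgroup.centralizer (B : Set H)).subgroupOf L) ⊔ frattini ↥L = ⊤ := by
      rw [eq_top_iff]
      intro l _
      have hl : (l : H) ∈ (((L ⊓ Subgroup.centralizer (B : Set H)).subgroupOf L) ⊔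
          frattini ↥L).map L.subtype := by
        rw [Subgroup.map_sup, Subgroup.map_subgroupOf_eq_of_le inf_le_left]
        have : (l : H) ∈ ⁅L, B⁆ ⊔ (L ⊓ Subgroup.centralizer (B : Set H)) := by rw [h1]; exact l.2
        rw [sup_comm] at this
        exact (sup_le_sup_left h2 _) this
      obtain ⟨y, hy, hyl⟩ := hl
      have : y = l := Subtype.ext hyl
      rwa [← this]
    have h4 := frattini_nongenerating h3
    rw [Subgroup.subgroupOf_eq_top] at h4
    rw [Subgroup.commutator_eq_bot_iff_le_centralizer]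
    exact h4.trans inf_le_right
  · by_contra hcon
    have hdvd : p ∣ Nat.card ↥(Subgroup.centralizer ((F ⊔ L : Subgroup H) : Set H)) := by
      by_contra h
      exact hcon ((Nat.Prime.coprime_iff_not_dvd hp).2 h).symm
    obtain ⟨⟨b, hbC⟩, hbo⟩ := exists_prime_orderOf_dvd_card'
      (G := ↥(Subgroup.centralizer ((F ⊔ L : Subgroup H) : Set H))) p hdvd
    have hbo' : orderOf b = p := by rw [← hbo]; exact (Subgroup.orderOf_mk b hbC).symm
    obtain ⟨B, hBdef⟩ : ∃ B : Subgroup H, B = Subgroup.zpowers b := ⟨_, rfl⟩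
    have hBp : IsPGroup p B := by
      rw [hBdef]
      apply IsPGroup.of_card (n := 1)
      rw [Nat.card_zpowers, hbo', pow_one]
    obtain ⟨hbF, hbL⟩ := mem_cent_sup.1 hbC
    have hBF : B ≤ Subgroup.centralizer (F : Set H) := by
      rw [hBdef, Subgroup.zpowers_le, Subgroup.mem_centralizer_iff]; exact hbF
    have hBL : B ≤ Subgroup.centralizer (L : Set H) := by
      rw [hBdef, Subgroup.zpowers_le, Subgroup.mem_centralizer_iff]; exact hbL
    obtain ⟨R, hR⟩ : ∃ R : Subgroup H, R = Cfsg.fittingSubgroup H := ⟨_, rfl⟩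
    obtain ⟨E, hE⟩ : ∃ E : Subgroup H, E = Cfsg.layer H := ⟨_, rfl⟩
    have hXER : X = E ⊔ R := by rw [hX, hE, hR]; rfl
    have hRn : R.Normal := hR ▸ H1.fitting_normal
    have hEn : E.Normal := hE ▸ H5.layer_normal
    have hER : ⁅E, R⁆ = ⊥ := by rw [hE, hR]; exact H5.layer_fitting_commute
    have hRX : R ≤ X := hXER ▸ le_sup_right
    have hEX : E ≤ X := hXER ▸ le_sup_left
    have hRcE : R ≤ Subgroup.centralizer (E : Set H) := by
      rw [Subgroup.commutator_comm, Subgroup.commutator_eq_bot_iff_le_centralizer] at hER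
      exact hER
    -- components
    have hcomp : ∀ K : Subgroup H, Cfsg.IsComponent K → K ≤ Subgroup.centralizer (B : Set H) := by
      intro K hK
      have hKE : K ≤ E := hE ▸ H5.component_le_layer hK
      rw [Subgroup.le_centralizer_iff]
      by_cases hKQ : ⁅K, Q⁆ = ⊥
      · have hKF : K ≤ F := by
          apply hF4 K (hKE.trans hEX)
          · rw [hXER]
            apply sup_le (hE ▸ H5.layer_le_normalizer_component hK)
            exact (hRcE.trans (Subgroup.centralizer_le hKE)).trans (Subgroup.centralizer_le_normalizer _)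
          · rw [Subgroup.commutator_comm, Subgroup.commutator_eq_bot_iff_le_centralizer] at hKQ
            exact hKQ
        exact hBF.trans (Subgroup.centralizer_le hKF)
      · rcases H5.component_subnormal hK hLsn with h | h
        · exact hBL.trans (Subgroup.centralizer_le h)
        · exfalso
          apply hKQ
          have h2 : ⁅⁅Q, K⁆, K⁆ = ⊥ := by
            rw [eq_bot_iff, ← h, Subgroup.commutator_comm K L, Subgroup.commutator_comm Q K, hL]
            exact Subgroup.commutator_mono (Subgroup.commutator_mono (hKE.trans hEX) le_rfl) le_rfl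
          have h3 := H5.perfect_comm_comm (H5.component_perfect hK) h2
          rwa [Subgroup.commutator_comm] at h3
    have hEB : E ≤ Subgroup.centralizer (B : Set H) := hE ▸ H5.layer_le hcomp
    obtain ⟨R₁, hR₁⟩ : ∃ R₁ : Subgroup H, R₁ = ⁅R, Q⁆ := ⟨_, rfl⟩
    have hR₁L : R₁ ≤ L := by rw [hR₁, hL]; exact Subgroup.commutator_mono hRX le_rfl
    have hR₁R : R₁ ≤ R := by rw [hR₁]; exact Subgroup.commutator_le_left _ _
    have hLle : L ≤ E ⊔ R₁ := by
      rw [hL, Subgroup.commutator_le]
      intro x hx q hq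
      rw [hXER] at hx
      obtain ⟨e, he, r, hr, rfl⟩ := Subgroup.mem_sup_of_normal_right.1 hx
      have e1 : ⁅e * r, q⁆ = e * ⁅r, q⁆ * (q * e⁻¹ * q⁻¹) := by
        simp only [commutatorElement_def]; group
      rw [e1]
      refine Subgroup.mul_mem _ (Subgroup.mul_mem _ (Subgroup.mem_sup_left he)
        (Subgroup.mem_sup_right ?_)) (Subgroup.mem_sup_left (hEn.conj_mem _ (E.inv_mem he) q))
      rw [hR₁]; exact Subgroup.commutator_mem_commutator hr hq
    obtain ⟨S, hS⟩ : ∃ S : Subgroup H, S = R ⊓ Subgroup.centralizer (R₁ : Set H) := ⟨_, rfl⟩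
    have hNR : ∀ A : Subgroup H, A ≤ Subgroup.normalizer (R : Set H) := by
      intro A; rw [Subgroup.normalizer_eq_top]; exact le_top
    have hQR₁ : Q ≤ Subgroup.normalizer (R₁ : Set H) := hR₁ ▸ H1.le_normalizer_commutator (hNR Q)
    have hQS : Q ≤ Subgroup.normalizer (S : Set H) := by
      rw [hS]
      apply H3.le_normalizer_inf (hNR Q)
      apply H1.le_normalizer_of_forall
      intro q hq s hs
      rw [Subgroup.mem_centralizer_iff] at hs ⊢
      intro r hr
      have h1 := hs _ (H1.conj_mem_of_le_normalizer' hQR₁ hq hr)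
      calc r * (q * s * q⁻¹) = q * ((q⁻¹ * r * q) * s) * q⁻¹ := by group
        _ = q * (s * (q⁻¹ * r * q)) * q⁻¹ := by rw [h1]
        _ = q * s * q⁻¹ * r := by group
    have hRcop : (Nat.card R).Coprime p := hR ▸ H2.card_fitting_coprime hp hO
    have hcopQ : ∀ (A T : Subgroup H), IsPGroup p A → T ≤ R → (Nat.card A).Coprime (Nat.card T) := by
      intro A T hA hT
      obtain ⟨k, hk⟩ := IsPGroup.iff_card.1 hA
      rw [hk]
      exact Nat.Coprime.pow_left k (hRcop.coprime_dvd_left (Subgroup.card_dvd_of_le hT)).symm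
    have hsolv : ∀ A : Subgroup H, IsPGroup p A → Group.IsSolvable A := by
      intro A hA
      have := hA.isNilpotent
      infer_instance
    have hSdec := H1.coprime_comm_sup_centralizer Q S hQS (hcopQ Q S hQ (hS ▸ inf_le_left))
      (Or.inl (hsolv Q hQ))
    have hFB : F ≤ Subgroup.centralizer (B : Set H) := Subgroup.le_centralizer_iff.1 hBF
    have hLB : L ≤ Subgroup.centralizer (B : Set H) := Subgroup.le_centralizer_iff.1 hBL
    have hSB : S ≤ Subgroup.centralizer (B : Set H) := by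
      rw [← hSdec]
      apply sup_le
      · refine le_trans ?_ (hR₁L.trans hLB)
        rw [hR₁]
        exact Subgroup.commutator_mono (hS ▸ inf_le_left) le_rfl
      · refine le_trans ?_ hFB
        intro s hs
        obtain ⟨hs1, hs2⟩ := Subgroup.mem_inf.1 hs
        rw [hS] at hs1
        obtain ⟨hsR, hsR₁⟩ := Subgroup.mem_inf.1 hs1
        rw [ha]
        refine Subgroup.mem_inf.2 ⟨hRX hsR, mem_cent_sup.2 ⟨?_, ?_⟩⟩
        · have hle : E ⊔ R₁ ≤ Subgroup.centralizer {s} := by
            apply sup_le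
            · intro e he
              rw [Subgroup.mem_centralizer_singleton_iff]
              exact (Subgroup.mem_centralizer_iff.1 (hRcE hsR)) e he
            · intro r hr
              rw [Subgroup.mem_centralizer_singleton_iff]
              exact (Subgroup.mem_centralizer_iff.1 hsR₁) r hr
          intro l hl
          exact Subgroup.mem_centralizer_singleton_iff.1 (hle (hLle hl))
        · intro q hq
          exact (Subgroup.mem_centralizer_iff.1 hs2) q hq
    have hR₁B : ⁅R₁, B⁆ = ⊥ := by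
      rw [Subgroup.commutator_eq_bot_iff_le_centralizer]; exact hR₁L.trans hLB
    have hRBS : ⁅R, B⁆ ≤ S := by
      rw [hS]
      apply le_inf (Subgroup.commutator_le_left _ _)
      rw [← Subgroup.commutator_eq_bot_iff_le_centralizer]
      apply Subgroup.commutator_commutator_eq_bot_of_rotate
      · rw [Subgroup.commutator_comm B R₁, hR₁B, Subgroup.commutator_bot_left]
      · rw [eq_bot_iff, ← hR₁B]
        apply Subgroup.commutator_mono _ le_rfl
        apply H1.commutator_le_of_le_normalizer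
        rw [hR₁]; exact H7.self_le_normalizer_commutator R Q
    have hRB : ⁅R, B⁆ = ⊥ := by
      rw [← H1.coprime_comm_comm B R (hNR B) (hcopQ B R hBp le_rfl) (Or.inl (hsolv B hBp)), eq_bot_iff]
      refine (Subgroup.commutator_mono hRBS le_rfl).trans ?_
      rw [le_bot_iff, Subgroup.commutator_eq_bot_iff_le_centralizer]
      exact hSB
    have hXB : ⁅X, B⁆ = ⊥ := by
      rw [Subgroup.commutator_eq_bot_iff_le_centralizer, hXER]
      apply sup_le hEB
      rwa [Subgroup.commutator_eq_bot_iff_le_centralizer] at hRB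
    have hBbot := (Cfsg.Agent.S2816.result hO B hBp).2 B le_rfl
      (by rw [← hX, hXB, Subgroup.commutator_bot_left])
    rw [hBdef, Subgroup.zpowers_eq_bot] at hBbot
    rw [hBbot, orderOf_one] at hbo'
    exact hp.one_lt.ne hbo'

end Cfsg.Agent.S2817
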