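import Mathlib
import Cfsg.Statements.S2818
import Mathlib
import Cfsg.Agent.Lib_helper1_PRed3
import Cfsg.Agent.S0093

set_option autoImplicit false
open Cfsg

namespace Cfsg.Agent.S2818

open Cfsg.Agent.H1
open scoped commutatorElement

/-- Let P be a finite p-subgroup of a group G and H a subgroup of N_G(P) with [P, H] ≤ Ω₁(Z(P)) (the elements of order dividing p in the centre of P). Then H centralizes the Frattini subgroup of P. -/
theorem result {G : Type*} [Group G] [Finite G] {p : ℕ} [Fact p.Prime] (P : Subgroup G) (hP : IsPGroup p ↥P) (H : Subgroup G) (hH : H ≤ Subgroup.normalizer (P : Set G)) (h : ⁅P, H⁆ ≤ Cfsg.omegaOne p (P ⊓ Subgroup.centralizer (P : Set G))) : ⁅(frattini ↥P).map P.subtype, H⁆ = ⊥ := by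
  rw [omegaOne_eq_omZ] at h
  have h1 : ⁅⁅P, H⁆, P⁆ = ⊥ := by
    rw [Subgroup.commutator_eq_bot_iff_le_centralizer]
    exact fun x hx => (h hx).2.1
  have h2 : ⁅⁅H, P⁆, P⁆ = ⊥ := by rw [Subgroup.commutator_comm H P]; exact h1
  have h3 : ⁅⁅P, P⁆, H⁆ = ⊥ := Subgroup.commutator_commutator_eq_bot_of_rotate h1 h2
  rw [Subgroup.commutator_eq_bot_iff_le_centralizer] at h3 ⊢
  have h4 : frattini ↥P ≤ (Subgroup.centralizer (H : Set G)).subgroupOf P := by
    apply Cfsg.Agent.S0093.frattini_le_of_elemAb (p := p)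
    · intro a b
      rw [Subgroup.mem_subgroupOf]
      apply h3
      exact Subgroup.commutator_mem_commutator a.2 b.2
    · intro x
      rw [Subgroup.mem_subgroupOf, Subgroup.mem_centralizer_iff]
      intro g hg
      have hz : ⁅g, (x : G)⁆ ∈ omZ p P := by
        apply h
        rw [Subgroup.commutator_comm]
        exact Subgroup.commutator_mem_commutator hg x.2
      have hc : Commute ⁅g, (x : G)⁆ (x : G) :=
        (Subgroup.mem_centralizer_iff.mp hz.2.1 x x.2).symm
      have e : g * (x : G) * g⁻¹ = ⁅g, (x : G)⁆ * x := by rw [commutatorElement_def]; group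
      have h5 : g * (x : G) ^ p * g⁻¹ = (x : G) ^ p := by
        rw [← conj_pow, e, hc.mul_pow, hz.2.2, one_mul]
      change g * ((x ^ p : P) : G) = ((x ^ p : P) : G) * g
      rw [Subgroup.coe_pow]
      calc g * (x : G) ^ p = (g * (x : G) ^ p * g⁻¹) * g := by group
        _ = (x : G) ^ p * g := by rw [h5]
  rintro _ ⟨x, hx, rfl⟩
  exact Subgroup.mem_subgroupOf.mp (h4 hx)

end Cfsg.Agent.S2818
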