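import Mathlib
import Cfsg.Statements.S2819
import Mathlib
import Cfsg.Agent.Lib_helper1_PRed3
import Cfsg.Agent.Lib_helper1_KInf2
import Cfsg.Agent.S0093

set_option autoImplicit false
open Cfsg

namespace Cfsg.Agent.S2819

open Cfsg.Agent.H1
open scoped commutatorElement

/-- elements of `N` stabilizing the section `A / B`. -/
def chainStab {G : Type*} [Group G] (A B N : Subgroup G)
    (hB : N ≤ Subgroup.normalizer (B : Set G)) : Subgroup G where
  carrier := {g | g ∈ N ∧ ∀ a ∈ A, ⁅a, g⁆ ∈ B}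
  one_mem' := ⟨one_mem _, fun a _ => by rw [commutatorElement_one_right]; exact one_mem _⟩
  mul_mem' := by
    rintro g h ⟨hg, hg'⟩ ⟨hh, hh'⟩
    refine ⟨mul_mem hg hh, fun a ha => ?_⟩
    have e : ⁅a, g * h⁆ = ⁅a, g⁆ * (g * ⁅a, h⁆ * g⁻¹) := by
      simp only [commutatorElement_def]; group
    rw [e]
    exact mul_mem (hg' a ha) ((Subgroup.mem_normalizer_iff.mp (hB hg) _).mp (hh' a ha))
  inv_mem' := by
    rintro g ⟨hg, hg'⟩
    refine ⟨inv_mem hg, fun a ha => ?_⟩
    have e : ⁅a, g⁻¹⁆ = g⁻¹ * ⁅a, g⁆⁻¹ * g⁻¹⁻¹ := by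
      simp only [commutatorElement_def]; group
    rw [e]
    exact (Subgroup.mem_normalizer_iff.mp (hB (inv_mem hg)) _).mp (inv_mem (hg' a ha))

theorem le_normalizer_chainStab {G : Type*} [Group G] (A B N : Subgroup G)
    (hB : N ≤ Subgroup.normalizer (B : Set G)) (hA : N ≤ Subgroup.normalizer (A : Set G)) :
    N ≤ Subgroup.normalizer (chainStab A B N hB : Set G) := by
  apply le_normalizer_of_forall
  rintro h hh g ⟨hg, hg'⟩
  refine ⟨mul_mem (mul_mem hh hg) (inv_mem hh), fun a ha => ?_⟩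
  have e : ⁅a, h * g * h⁻¹⁆ = h * ⁅h⁻¹ * a * h⁻¹⁻¹, g⁆ * h⁻¹ := by
    simp only [commutatorElement_def]; group
  rw [e]
  apply (Subgroup.mem_normalizer_iff.mp (hB hh) _).mp
  apply hg'
  exact (Subgroup.mem_normalizer_iff.mp (hA (inv_mem hh)) _).mp ha

theorem normalizer_le_normalizer_comm {G : Type*} [Group G] (P : Subgroup G) :
    Subgroup.normalizer (P : Set G) ≤ Subgroup.normalizer ((⁅P, P⁆ : Subgroup G) : Set G) := by
  apply le_normalizer_of_forall
  intro g hg x hx
  have h1 : ⁅P, P⁆ ≤ (⁅P, P⁆).comap (MulAut.conj g).toMonoidHom := by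
    rw [Subgroup.commutator_le]
    intro v hv e he
    change (MulAut.conj g) ⁅v, e⁆ ∈ ⁅P, P⁆
    rw [map_commutatorElement]
    apply Subgroup.commutator_mem_commutator
    · exact (Subgroup.mem_normalizer_iff.mp hg v).mp hv
    · exact (Subgroup.mem_normalizer_iff.mp hg e).mp he
  exact h1 hx

theorem mul_pow_mod_comm {G : Type*} [Group G] {P : Subgroup G} {c x : G} (hc : c ∈ P)
    (hx : x ∈ P) (n : ℕ) : ∃ d ∈ ⁅P, P⁆, (c * x) ^ n = d * c ^ n * x ^ n := by
  induction n with
  | zero => exact ⟨1, one_mem _, by simp⟩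
  | succ n ih =>
    obtain ⟨d, hd, h⟩ := ih
    refine ⟨d * (c ^ n * ⁅x ^ n, c⁆ * (c ^ n)⁻¹), mul_mem hd ?_, ?_⟩
    · have hn := normalizer_le_normalizer_comm P (Subgroup.le_normalizer (pow_mem hc n))
      exact (Subgroup.mem_normalizer_iff.mp hn _).mp
        (Subgroup.commutator_mem_commutator (pow_mem hx n) hc)
    · rw [pow_succ, h, commutatorElement_def, pow_succ, pow_succ]; group

/-- Let P be a finite p-subgroup of a group G, H a subgroup of N_G(P), and Y a subgroup of H centralizing the derived subgroup P' such that [P, Y] is elementary abelian. Then O^p(⟨Y^H⟩), the subgroup of the normal closure of Y in H generated by its elements of order prime to p, centralizes the Frattini subgroup of P. -/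
theorem result {G : Type*} [Group G] [Finite G] {p : ℕ} [Fact p.Prime] (P : Subgroup G) (hP : IsPGroup p ↥P) (H : Subgroup G) (hH : H ≤ Subgroup.normalizer (P : Set G)) (Y : Subgroup G) (hYH : Y ≤ H) (hYc : Y ≤ Subgroup.centralizer ((⁅P, P⁆ : Subgroup G) : Set G)) (hel : Cfsg.IsElementaryAbelian p ⁅P, Y⁆) (NY : Subgroup G) (hNY : NY = (Subgroup.normalClosure ((Y.subgroupOf H : Subgroup ↥H) : Set ↥H)).map H.subtype) : (Cfsg.pResidual p ↥NY).map NY.subtype ≤ Subgroup.centralizer (((frattini ↥P).map P.subtype : Subgroup G) : Set G) := by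
  set N := Subgroup.normalizer (P : Set G) with hN
  set D := ⁅P, P⁆ with hD
  set Φ := (frattini ↥P).map P.subtype with hΦ
  have hND : N ≤ Subgroup.normalizer (D : Set G) := normalizer_le_normalizer_comm P
  have hNΦ : N ≤ Subgroup.normalizer (Φ : Set G) :=
    normalizer_le_normalizer_map_of_characteristic P (frattini ↥P)
  have hPN : P ≤ N := Subgroup.le_normalizer
  set S := chainStab Φ D N hND ⊓ Subgroup.centralizer (D : Set G) with hS
  have hNS : N ≤ Subgroup.normalizer (S : Set G) := by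
    apply le_normalizer_of_forall
    intro g hg x hx
    obtain ⟨hx1, hx2⟩ := Subgroup.mem_inf.mp hx
    exact Subgroup.mem_inf.mpr
      ⟨(Subgroup.mem_normalizer_iff.mp (le_normalizer_chainStab Φ D N hND hNΦ hg) x).mp hx1,
        conj_mem_centralizer_of_mem_normalizer (hND hg) hx2⟩
  have hYS : Y ≤ S := by
    intro y hy
    refine Subgroup.mem_inf.mpr ⟨⟨hH (hYH hy), ?_⟩, hYc hy⟩
    let K : Subgroup ↥P :=
      { carrier := {a | ⁅(a : G), y⁆ ∈ D}
        one_mem' := by
          change ⁅((1 : P) : G), y⁆ ∈ D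
          rw [Subgroup.coe_one, commutatorElement_one_left]; exact one_mem _
        mul_mem' := by
          intro a b ha hb
          change ⁅((a * b : P) : G), y⁆ ∈ D
          have e : ⁅((a * b : P) : G), y⁆ = ((a : G) * ⁅(b : G), y⁆ * (a : G)⁻¹) * ⁅(a : G), y⁆ := by
            rw [Subgroup.coe_mul]
            simp only [commutatorElement_def]; group
          rw [e]
          exact mul_mem ((Subgroup.mem_normalizer_iff.mp (hND (hPN a.2)) _).mp hb) ha
        inv_mem' := by
          intro a ha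
          change ⁅((a⁻¹ : P) : G), y⁆ ∈ D
          have e : ⁅((a⁻¹ : P) : G), y⁆ = (a : G)⁻¹ * ⁅(a : G), y⁆⁻¹ * (a : G)⁻¹⁻¹ := by
            rw [Subgroup.coe_inv]
            simp only [commutatorElement_def]; group
          rw [e]
          exact (Subgroup.mem_normalizer_iff.mp (hND (hPN (inv_mem a.2))) _).mp (inv_mem ha) }
    have hK : frattini ↥P ≤ K := by
      apply Cfsg.Agent.S0093.frattini_le_of_elemAb (p := p)
      · intro a b
        change ⁅((⁅a, b⁆ : P) : G), y⁆ ∈ D
        have h1 : ((⁅a, b⁆ : P) : G) ∈ D := Subgroup.commutator_mem_commutator a.2 b.2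
        have h2 := Subgroup.mem_centralizer_iff.mp (hYc hy) _ h1
        have h3 : ⁅((⁅a, b⁆ : P) : G), y⁆ = 1 := by
          rw [commutatorElement_eq_one_iff_mul_comm]; exact h2
        rw [h3]; exact one_mem _
      · intro x
        change ⁅((x ^ p : P) : G), y⁆ ∈ D
        rw [Subgroup.coe_pow]
        have hcm : ⁅y, (x : G)⁆ ∈ ⁅P, Y⁆ := by
          rw [Subgroup.commutator_comm]
          exact Subgroup.commutator_mem_commutator hy x.2
        have hcP : ⁅y, (x : G)⁆ ∈ P :=
          commutator_le_of_le_normalizer (hYH.trans hH) hcm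
        obtain ⟨d, hd, hdx⟩ := mul_pow_mod_comm hcP x.2 p
        rw [hel.2 _ hcm, mul_one] at hdx
        have e1 : y * (x : G) * y⁻¹ = ⁅y, (x : G)⁆ * x := by rw [commutatorElement_def]; group
        have e2 : y * (x : G) ^ p * y⁻¹ = d * (x : G) ^ p := by
          rw [← conj_pow, e1, hdx]
        have e3 : ⁅(x : G) ^ p, y⁆ = d⁻¹ := by
          have : ⁅(x : G) ^ p, y⁆ = (x : G) ^ p * (y * (x : G) ^ p * y⁻¹)⁻¹ := by
            rw [commutatorElement_def]; group
          rw [this, e2]; group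
        rw [e3]
        exact inv_mem hd
    rintro _ ⟨a, ha, rfl⟩
    exact hK ha
  have hNYS : NY ≤ S := by
    rw [hNY]
    have hn : (S.subgroupOf H).Normal := Subgroup.normal_subgroupOf_of_le_normalizer (hH.trans hNS)
    have h1 : Subgroup.normalClosure ((Y.subgroupOf H : Subgroup ↥H) : Set ↥H) ≤ S.subgroupOf H := by
      apply Subgroup.normalClosure_le_normal
      intro y hy
      exact Subgroup.mem_subgroupOf.mpr (hYS (Subgroup.mem_subgroupOf.mp hy))
    rintro _ ⟨x, hx, rfl⟩
    exact Subgroup.mem_subgroupOf.mp (h1 hx)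
  rw [map_pResidual, pResOf, Subgroup.closure_le]
  rintro x ⟨hx, hcop⟩
  have hxS := hNYS hx
  obtain ⟨hx1, hx2⟩ := Subgroup.mem_inf.mp hxS
  have hΦp : IsPGroup p Φ := (hP.to_subgroup _).map _
  apply centralizes_of_stab hΦp (hNΦ hx1.1) hcop _ hx2
  rw [Subgroup.commutator_le]
  intro a ha z hz
  exact ((Subgroup.zpowers_le.mpr hx1) hz).2 a ha

end Cfsg.Agent.S2819
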