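import Mathlib
import Cfsg.Statements.S2821
import Mathlib
import Cfsg.Agent.Lib_helper1_PRed5

set_option autoImplicit false
open Cfsg

namespace Cfsg.Agent.S2821

open Cfsg.Agent.H1

/-- Let H be a finite group, p a prime, T a Sylow p-subgroup and L a subgroup of characteristic p containing T; let Y_L be the largest p-reduced normal subgroup of L (the join of the normal elementary abelian p-subgroups V of L with O_p(L/C_L(V)) = 1). Then T₀ := C_T(Y_L) is a Sylow p-subgroup of C_H(Y_L); moreover O_p(L) ≤ T₀ ≤ C_L(Y_L) and Ω₁(Z(T)) ≤ Z_L ≤ Y_L ≤ Ω₁(Z(O_p(L))), where Z_L is generated by the Ω₁(Z(S)) over the Sylow p-subgroups S of L. -/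
theorem result {H : Type*} [Group H] [Finite H] {p : ℕ} [Fact p.Prime] (T : Sylow p H) (L : Subgroup H) (hTL : (T : Subgroup H) ≤ L) (hL : Subgroup.centralizer (Cfsg.pCore p ↥L : Set ↥L) ≤ Cfsg.pCore p ↥L) (T₀ : Subgroup H) (hT₀ : T₀ = (T : Subgroup H) ⊓ Subgroup.centralizer (((Cfsg.largestPReducedOf p L) : Subgroup H) : Set H)) : (∃ P : Sylow p ↥(Subgroup.centralizer (((Cfsg.largestPReducedOf p L) : Subgroup H) : Set H)), (P : Subgroup ↥(Subgroup.centralizer (((Cfsg.largestPReducedOf p L) : Subgroup H) : Set H))) = T₀.subgroupOf (Subgroup.centralizer (((Cfsg.largestPReducedOf p L) : Subgroup H) : Set H))) ∧ (Cfsg.pCoreOf p L) ≤ T₀ ∧ T₀ ≤ L ⊓ Subgroup.centralizer (((Cfsg.largestPReducedOf p L) : Subgroup H) : Set H) ∧ (Cfsg.omegaOne p ((T : Subgroup H) ⊓ Subgroup.centralizer (((T : Subgroup H) : Subgroup H) : Set H))) ≤ Cfsg.sylowCenterClosure p L ∧ Cfsg.sylowCenterClosure p L ≤ (Cfsg.largestPReducedOf p L) ∧ (Cfsg.largestPReducedOf p L) ≤ (Cfsg.omegaOne p ((Cfsg.pCoreOf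 p L) ⊓ Subgroup.centralizer (((Cfsg.pCoreOf p L) : Subgroup H) : Set H))) := by
  have hL' := largest_pRedIn (p := p) L
  set Y := Cfsg.largestPReducedOf p L with hY
  set C := Subgroup.centralizer (Y : Set H) with hC
  have hNC := normalizer_le_normalizer_centralizer Y
  have hT₀T : T₀ ≤ T := by rw [hT₀]; exact inf_le_left
  have hT₀C : T₀ ≤ C := by rw [hT₀]; exact inf_le_right
  have hT₀p : IsPGroup p T₀ := T.isPGroup'.to_le hT₀T
  refine ⟨?_, ?_, ?_, ?_, ?_, ?_⟩
  · have hsyl : ¬ p ∣ T₀.relIndex C := by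
      rw [hT₀]
      exact not_dvd_relIndex_sylow_inf T ((hTL.trans hL'.norm).trans hNC)
    obtain ⟨P, hP, _⟩ := exists_sylow_of_relIndex hT₀C hT₀p hsyl
    exact ⟨P, hP⟩
  · rw [hT₀]
    exact le_inf (pCoreOf_le_sylow T hTL) hL'.pCoreOf_le
  · exact le_inf (hT₀T.trans hTL) hT₀C
  · have h1 : ((T.subtype hTL : Sylow p L) : Subgroup L).map L.subtype = T := by
      rw [Sylow.coe_subtype, Subgroup.map_subgroupOf_eq_of_le hTL]
    have h2 := le_iSup (fun S : Sylow p L => Cfsg.omegaOne p (((S : Subgroup L).map L.subtype) ⊓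
      Subgroup.centralizer (((S : Subgroup L).map L.subtype : Subgroup H) : Set H))) (T.subtype hTL)
    simp only [h1] at h2
    exact h2
  · apply iSup_le
    intro S
    rw [omegaOne_eq_omZ, ← map_omZ]
    have hOn := pCore_normal (G := L) p
    have hOS : Cfsg.pCore p ↥L ≤ S := (pCore_isPGroup p).le_sylow_of_normal S
    have h1 : PRed p (Subgroup.normalClosure ((omZ p (S : Subgroup L) : Subgroup L) : Set L)) := by
      apply pRed_normalClosure S
      · intro x hx
        have hxc : x ∈ Subgroup.centralizer (Cfsg.pCore p ↥L : Set L) :=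
          Subgroup.centralizer_le (SetLike.coe_subset_coe.mpr hOS) hx.2.1
        exact ⟨hL hxc, hxc, hx.2.2⟩
      · intro D _ _ t ht
        rw [Subgroup.mem_centralizer_iff]
        intro x hx
        exact (Subgroup.mem_centralizer_iff.mp hx.2.1 t (Subgroup.mem_inf.mp ht).1).symm
    have h2 : omZ p (S : Subgroup L) ≤ Cfsg.largestPReduced p ↥L := by
      rw [largest_eq]
      exact Subgroup.le_normalClosure.trans (le_sSup h1)
    exact Subgroup.map_mono h2
  · rw [omegaOne_eq_omZ]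
    intro y hy
    refine ⟨hL'.le_pCoreOf hy, ?_, hL'.elem.2 y hy⟩
    exact (Subgroup.le_centralizer_iff.mp hL'.pCoreOf_le) hy

end Cfsg.Agent.S2821
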