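import Cfsg.Statements.S2823
import Mathlib
import Cfsg.Agent.S2781
import Cfsg.Agent.Lib_helper7_Residual

set_option autoImplicit false
open Cfsg
open scoped Pointwise

namespace Cfsg.Agent.S2823

/-- Let H be a finite group, p a prime, T a Sylow p-subgroup and L a subgroup of characteristic p containing T; let Z_L be the subgroup generated by the Ω₁(Z(S)) over the Sylow p-subgroups S of L and O^p(L) the subgroup generated by the elements of L of order prime to p. Then Z_L = Ω₁(Z(L))·[Z_L, O^p(L)] and [Z_L, L] = [Z_L, O^p(L)]. -/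
theorem result {H : Type*} [Group H] [Finite H] {p : ℕ} [Fact p.Prime] (T : Sylow p H) (L : Subgroup H) (hTL : (T : Subgroup H) ≤ L) (hL : Subgroup.centralizer (Cfsg.pCore p ↥L : Set ↥L) ≤ Cfsg.pCore p ↥L) : Cfsg.sylowCenterClosure p L = (Cfsg.omegaOne p (L ⊓ Subgroup.centralizer ((L : Subgroup H) : Set H))) ⊔ ⁅Cfsg.sylowCenterClosure p L, (Cfsg.pResidual p ↥L).map L.subtype⁆ ∧ ⁅Cfsg.sylowCenterClosure p L, L⁆ = ⁅Cfsg.sylowCenterClosure p L, (Cfsg.pResidual p ↥L).map L.subtype⁆ := by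
  set V := Cfsg.sylowCenterClosure p L with hVdef
  set R := (Cfsg.pResidual p ↥L).map L.subtype with hRdef
  have hVle : ∀ K : Subgroup H, (∀ (S : Sylow p L) (x : H), x ∈ (S : Subgroup L).map L.subtype →
      x ∈ Subgroup.centralizer (((S : Subgroup L).map L.subtype : Subgroup H) : Set H) →
      x ^ p = 1 → x ∈ K) → V ≤ K := by
    intro K hK
    rw [hVdef]; unfold Cfsg.sylowCenterClosure
    refine iSup_le fun S => ?_
    unfold Cfsg.omegaOne
    rw [Subgroup.closure_le]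
    rintro x ⟨hx, hxp⟩
    obtain ⟨h1, h2⟩ := Subgroup.mem_inf.1 hx
    exact hK S x h1 h2 hxp
  have hgenV : ∀ (S : Sylow p L) (x : H), x ∈ (S : Subgroup L).map L.subtype →
      x ∈ Subgroup.centralizer (((S : Subgroup L).map L.subtype : Subgroup H) : Set H) →
      x ^ p = 1 → x ∈ V := by
    intro S x h1 h2 h3
    exact (le_iSup (fun S : Sylow p L => Cfsg.omegaOne p (((S : Subgroup L).map L.subtype) ⊓
      Subgroup.centralizer (((S : Subgroup L).map L.subtype : Subgroup H) : Set H))) S)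
      (Subgroup.subset_closure ⟨Subgroup.mem_inf.2 ⟨h1, h2⟩, h3⟩)
  set Qm := (Cfsg.pCore p ↥L).map L.subtype with hQm
  let A : Subgroup H :=
    { carrier := {x | x ∈ Qm ∧ x ∈ Subgroup.centralizer (Qm : Set H) ∧ x ^ p = 1}
      one_mem' := ⟨one_mem _, one_mem _, one_pow _⟩
      mul_mem' := by
        rintro a b ⟨ha1, ha2, ha3⟩ ⟨hb1, hb2, hb3⟩
        refine ⟨mul_mem ha1 hb1, mul_mem ha2 hb2, ?_⟩
        have hab : Commute a b := (Subgroup.mem_centralizer_iff.1 hb2 a ha1)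
        rw [hab.mul_pow, ha3, hb3, one_mul]
      inv_mem' := by
        rintro a ⟨ha1, ha2, ha3⟩
        exact ⟨inv_mem ha1, inv_mem ha2, by rw [inv_pow, ha3, inv_one]⟩ }
  have hVA : ∀ x ∈ V, x ∈ Qm ∧ x ∈ Subgroup.centralizer (Qm : Set H) ∧ x ^ p = 1 := by
    have : V ≤ A := by
      apply hVle
      intro S x h1 h2 h3
      have hQS : Cfsg.pCore p ↥L ≤ (S : Subgroup L) := H7.pCore_le_sylow S
      have h4 : x ∈ Subgroup.centralizer (Qm : Set H) :=
        Subgroup.centralizer_le (Subgroup.map_mono hQS) h2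
      refine ⟨?_, h4, h3⟩
      obtain ⟨s, hs, rfl⟩ := h1
      refine ⟨s, hL ?_, rfl⟩
      rw [Subgroup.mem_centralizer_iff]
      intro y hy
      apply Subtype.ext
      exact Subgroup.mem_centralizer_iff.1 h4 (y : H) ⟨y, hy, rfl⟩
    intro x hx
    exact this hx
  have hcomm : ∀ a ∈ V, ∀ b ∈ V, a * b = b * a := fun a ha b hb =>
    Subgroup.mem_centralizer_iff.1 (hVA b hb).2.1 a (hVA a ha).1
  have hexp : ∀ a ∈ V, a ^ p = 1 := fun a ha => (hVA a ha).2.2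
  have hVL : V ≤ L := fun x hx => Subgroup.map_subtype_le _ (hVA x hx).1
  have hconjV : ∀ g ∈ L, ∀ x ∈ V, g * x * g⁻¹ ∈ V := by
    intro g hg
    have : V ≤ V.comap (MulAut.conj g).toMonoidHom := by
      apply hVle
      intro S x h1 h2 h3
      rw [Subgroup.mem_comap]
      show g * x * g⁻¹ ∈ V
      have hmem : ∀ y : L, y ∈ (((⟨g, hg⟩ : L) • S : Sylow p L) : Subgroup L) ↔
          (⟨g, hg⟩ : L)⁻¹ * y * ⟨g, hg⟩ ∈ (S : Subgroup L) := by
        intro y
        rw [Sylow.coe_subgroup_smul, Subgroup.mem_pointwise_smul_iff_inv_smul_mem]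
        simp [MulAut.smul_def]
      apply hgenV ((⟨g, hg⟩ : L) • S)
      · obtain ⟨s, hs, rfl⟩ := h1
        refine ⟨(⟨g, hg⟩ : L) * s * (⟨g, hg⟩ : L)⁻¹, (hmem _).2 ?_, rfl⟩
        have h8 : (⟨g, hg⟩ : L)⁻¹ * ((⟨g, hg⟩ : L) * s * (⟨g, hg⟩ : L)⁻¹) * ⟨g, hg⟩ = s := by group
        rw [h8]; exact hs
      · rw [Subgroup.mem_centralizer_iff]
        rintro _ ⟨y, hy, rfl⟩
        have h5 := (hmem y).1 hy
        have h6 := Subgroup.mem_centralizer_iff.1 h2 _ ⟨_, h5, rfl⟩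
        have h7 : (g⁻¹ * (y : H) * g) * x = x * (g⁻¹ * (y : H) * g) := h6
        show (y : H) * (g * x * g⁻¹) = g * x * g⁻¹ * (y : H)
        calc (y : H) * (g * x * g⁻¹) = g * ((g⁻¹ * y * g) * x) * g⁻¹ := by group
          _ = g * (x * (g⁻¹ * y * g)) * g⁻¹ := by rw [h7]
          _ = g * x * g⁻¹ * y := by group
      · rw [conj_pow, h3]; simp
    intro x hx
    exact this hx
  have hLV : L ≤ Subgroup.normalizer (V : Set H) := by
    intro g hg
    rw [Subgroup.mem_normalizer_iff]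
    intro w
    refine ⟨hconjV g hg w, fun hw => ?_⟩
    have := hconjV g⁻¹ (L.inv_mem hg) _ hw
    have h5 : g⁻¹ * (g * w * g⁻¹) * g⁻¹⁻¹ = w := by group
    rwa [h5] at this
  have hRL : R ≤ L := Subgroup.map_subtype_le _
  have hLR : ∀ h ∈ L, ∀ r ∈ R, h * r * h⁻¹ ∈ R := by
    intro h hh r hr
    obtain ⟨x, hx, rfl⟩ := hr
    exact ⟨⟨h, hh⟩ * x * ⟨h, hh⟩⁻¹, (H7.pResidual_normal p).conj_mem x hx ⟨h, hh⟩, rfl⟩
  have hNV : ⁅V, R⁆ ≤ V := by
    rw [Subgroup.commutator_le]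
    intro x hx r hr
    have h1 : r * x⁻¹ * r⁻¹ ∈ V := hconjV r (hRL hr) _ (V.inv_mem hx)
    rw [commutatorElement_def]
    have : x * r * x⁻¹ * r⁻¹ = x * (r * x⁻¹ * r⁻¹) := by group
    rw [this]; exact V.mul_mem hx h1
  have hLN : ∀ h ∈ L, ∀ n ∈ ⁅V, R⁆, h * n * h⁻¹ ∈ ⁅V, R⁆ := by
    intro h hh n hn
    have h1 : (⁅V, R⁆).map (MulAut.conj h).toMonoidHom ≤ ⁅V, R⁆ := by
      rw [Subgroup.map_commutator]
      apply Subgroup.commutator_mono
      · rintro _ ⟨x, hx, rfl⟩; exact hconjV h hh x hx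
      · rintro _ ⟨x, hx, rfl⟩; exact hLR h hh x hx
    exact h1 ⟨n, hn, rfl⟩
  let K : Subgroup H :=
    { carrier := {v | v ∈ V ∧ ∀ l ∈ L, v * l * v⁻¹ * l⁻¹ ∈ ⁅V, R⁆}
      one_mem' := ⟨one_mem _, fun l _ => by simp⟩
      mul_mem' := by
        rintro v w ⟨hv, hv2⟩ ⟨hw, hw2⟩
        refine ⟨mul_mem hv hw, fun l hl => ?_⟩
        have h1 := hw2 l hl
        have h2 := hcomm v hv _ (hNV h1)
        have h3 : v * w * l * (v * w)⁻¹ * l⁻¹ =
            (v * (w * l * w⁻¹ * l⁻¹)) * v⁻¹ * (v * l * v⁻¹ * l⁻¹) := by group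
        rw [h3, h2]
        have h4 : w * l * w⁻¹ * l⁻¹ * v * v⁻¹ = w * l * w⁻¹ * l⁻¹ := by group
        rw [h4]
        exact mul_mem h1 (hv2 l hl)
      inv_mem' := by
        rintro v ⟨hv, hv2⟩
        refine ⟨inv_mem hv, fun l hl => ?_⟩
        have h1 := inv_mem (hv2 l hl)
        have h2 := hcomm v⁻¹ (inv_mem hv) _ (hNV h1)
        have h3 : v⁻¹ * l * v⁻¹⁻¹ * l⁻¹ = (v⁻¹ * (v * l * v⁻¹ * l⁻¹)⁻¹) * v := by group
        rw [h3, h2]
        have h4 : (v * l * v⁻¹ * l⁻¹)⁻¹ * v⁻¹ * v = (v * l * v⁻¹ * l⁻¹)⁻¹ := by group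
        rw [h4]
        exact h1 }
  have hVK : V ≤ K := by
    apply hVle
    intro S x h1 h2 h3
    refine ⟨hgenV S x h1 h2 h3, fun l hl => ?_⟩
    obtain ⟨s, hs, c, hc, he⟩ := H7.exists_mul_of_sylow_pResidual S ⟨l, hl⟩
    have he' : l = (s : H) * (c : H) := congrArg Subtype.val he
    have h4 : (s : H) * x = x * (s : H) := Subgroup.mem_centralizer_iff.1 h2 _ ⟨s, hs, rfl⟩
    have h5 := Subgroup.commutator_mem_commutator (hgenV S x h1 h2 h3)
      (show (c : H) ∈ R from ⟨c, hc, rfl⟩)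
    rw [commutatorElement_def] at h5
    have h6 := hLN s s.2 _ h5
    have h7 : x * l * x⁻¹ * l⁻¹ = (s : H) * (x * (c : H) * x⁻¹ * (c : H)⁻¹) * (s : H)⁻¹ := by
      rw [he']
      calc x * ((s : H) * (c : H)) * x⁻¹ * ((s : H) * (c : H))⁻¹
          = (x * (s : H)) * (c : H) * x⁻¹ * (c : H)⁻¹ * (s : H)⁻¹ := by group
        _ = ((s : H) * x) * (c : H) * x⁻¹ * (c : H)⁻¹ * (s : H)⁻¹ := by rw [h4]
        _ = _ := by group
    rw [h7]; exact h6
  have hVLN : ⁅V, L⁆ ≤ ⁅V, R⁆ := by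
    rw [Subgroup.commutator_le]
    intro v hv l hl
    rw [commutatorElement_def]
    exact (hVK hv).2 l hl
  refine ⟨le_antisymm ?_ (sup_le ?_ hNV), le_antisymm hVLN (Subgroup.commutator_mono le_rfl hRL)⟩
  · apply hVle
    intro S x h1 h2 h3
    have h4 := S2781.key V L hcomm hexp hLV S x (hgenV S x h1 h2 h3)
      (fun t ht => Subgroup.mem_centralizer_iff.1 h2 _ ⟨t, ht, rfl⟩)
    refine (sup_le (hVLN.trans le_sup_right) ?_) h4
    refine le_trans ?_ le_sup_left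
    intro y hy
    obtain ⟨hy1, hy2⟩ := Subgroup.mem_inf.1 hy
    exact Subgroup.subset_closure ⟨Subgroup.mem_inf.2 ⟨hVL hy1, hy2⟩, hexp y hy1⟩
  · unfold Cfsg.omegaOne
    rw [Subgroup.closure_le]
    rintro x ⟨hx, hxp⟩
    obtain ⟨hxL, hxC⟩ := Subgroup.mem_inf.1 hx
    let S : Sylow p L := T.subtype hTL
    set x' : L := ⟨x, hxL⟩ with hx'
    have hcen : ∀ g : L, g * x' = x' * g := fun g =>
      Subtype.ext (Subgroup.mem_centralizer_iff.1 hxC g g.2)
    have hx'p : x' ^ p = 1 := Subtype.ext hxp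
    have hnorm : (Subgroup.zpowers x').Normal := by
      constructor
      intro n hn g
      have : g * n * g⁻¹ = n := by
        obtain ⟨k, rfl⟩ := Subgroup.mem_zpowers_iff.1 hn
        have h0 : Commute g x' := hcen g
        have h1 : Commute g (x' ^ k) := h0.zpow_right k
        rw [h1.eq]; group
      rw [this]; exact hn
    have hpg : IsPGroup p (Subgroup.zpowers x') := by
      rintro ⟨y, hy⟩
      obtain ⟨k, rfl⟩ := Subgroup.mem_zpowers_iff.1 hy
      refine ⟨1, Subtype.ext ?_⟩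
      show (x' ^ k) ^ (p ^ 1) = 1
      rw [pow_one, ← zpow_natCast, ← zpow_mul, mul_comm, zpow_mul, zpow_natCast, hx'p, one_zpow]
    have hxS : x' ∈ (S : Subgroup L) :=
      H7.pCore_le_sylow S (H7.le_pCore hnorm hpg (Subgroup.mem_zpowers x'))
    apply hgenV S x ⟨x', hxS, rfl⟩ _ hxp
    exact Subgroup.centralizer_le (Subgroup.map_subtype_le _) hxC

end Cfsg.Agent.S2823
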