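import Mathlib
import Cfsg.Statements.S2824
import Mathlib
import Cfsg.Agent.Lib_helper1_PRed5

set_option autoImplicit false
open Cfsg

namespace Cfsg.Agent.S2824

open Cfsg.Agent.H1

/-- Let H be a finite group, p a prime, T a Sylow p-subgroup, L and M subgroups of characteristic p containing T, Y_L the largest p-reduced normal subgroup of L and T₀ = C_T(Y_L). If M·C_H(Y_L) = L·C_H(Y_L), then L* := N_M(T₀) has Y_{L*} = Y_L and L·C_H(Y_L) = L*·C_H(Y_L). -/
theorem result {H : Type*} [Group H] [Finite H] {p : ℕ} [Fact p.Prime] (T : Sylow p H) (L M : Subgroup H) (hTL : (T : Subgroup H) ≤ L) (hTM : (T : Subgroup H) ≤ M) (hL : Subgroup.centralizer (Cfsg.pCore p ↥L : Set ↥L) ≤ Cfsg.pCore p ↥L) (hM : Subgroup.centralizer (Cfsg.pCore p ↥M : Set ↥M) ≤ Cfsg.pCore p ↥M) (T₀ : Subgroup H) (hT₀ : T₀ = (T : Subgroup H) ⊓ Subgroup.centralizer (((Cfsg.largestPReducedOf p L) : Subgroup H) : Set H)) (hfac : M ⊔ Subgroup.centralizer (((Cfsg.largestPReducedOf p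 L) : Subgroup H) : Set H) = L ⊔ Subgroup.centralizer (((Cfsg.largestPReducedOf p L) : Subgroup H) : Set H)) (Ls : Subgroup H) (hLs : Ls = M ⊓ Subgroup.normalizer ((T₀ : Subgroup H) : Set H)) : (Cfsg.largestPReducedOf p Ls) = (Cfsg.largestPReducedOf p L) ∧ L ⊔ Subgroup.centralizer (((Cfsg.largestPReducedOf p L) : Subgroup H) : Set H) = Ls ⊔ Subgroup.centralizer (((Cfsg.largestPReducedOf p L) : Subgroup H) : Set H) := by
  have hL' := largest_pRedIn (p := p) L
  set Y := Cfsg.largestPReducedOf p L with hY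
  set C := Subgroup.centralizer (Y : Set H) with hC
  have hCN : C ≤ Subgroup.normalizer (Y : Set H) := Subgroup.centralizer_le_normalizer _
  have hNC := normalizer_le_normalizer_centralizer Y
  have hLCN : L ⊔ C ≤ Subgroup.normalizer (Y : Set H) := sup_le hL'.norm hCN
  have hMN : M ≤ Subgroup.normalizer (Y : Set H) := (le_sup_left.trans hfac.le).trans hLCN
  have hMC : M ≤ Subgroup.normalizer (C : Set H) := hMN.trans hNC
  have hYT : Y ≤ T := hL'.le_pCoreOf.trans (pCoreOf_le_sylow T hTL)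
  have hYC : Y ≤ C := by
    intro y hy
    rw [hC, Subgroup.mem_centralizer_iff]
    intro z hz
    exact congrArg Subtype.val (hL'.elem.1.is_comm.comm ⟨z, hz⟩ ⟨y, hy⟩)
  have hYT₀ : Y ≤ T₀ := by rw [hT₀]; exact le_inf hYT hYC
  have hT₀T : T₀ ≤ T := by rw [hT₀]; exact inf_le_left
  have hT₀C : T₀ ≤ C := by rw [hT₀]; exact inf_le_right
  have hT₀p : IsPGroup p T₀ := T.isPGroup'.to_le hT₀T
  have hTT₀ : (T : Subgroup H) ≤ Subgroup.normalizer (T₀ : Set H) := by
    rw [hT₀]
    exact le_normalizer_inf Subgroup.le_normalizer (hTM.trans hMC)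
  have hTLs : (T : Subgroup H) ≤ Ls := by rw [hLs]; exact le_inf hTM hTT₀
  have hLsM : Ls ≤ M := by rw [hLs]; exact inf_le_left
  have hLsT₀ : Ls ≤ Subgroup.normalizer (T₀ : Set H) := by rw [hLs]; exact inf_le_right
  -- claim A
  have hA : L ⊔ C = Ls ⊔ C := by
    apply le_antisymm
    · rw [← hfac]
      apply sup_le _ le_sup_right
      have hT₀' : T₀ = (T : Subgroup H) ⊓ (M ⊓ C) := by
        rw [hT₀, ← inf_assoc, inf_eq_left.mpr hTM]
      have hsyl : ¬ p ∣ T₀.relIndex (M ⊓ C) := by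
        rw [hT₀']
        exact not_dvd_relIndex_sylow_inf T (hTM.trans (le_normalizer_inf Subgroup.le_normalizer hMC))
      intro m hm
      obtain ⟨k, hk, hkm⟩ := frattini_internal (le_normalizer_inf Subgroup.le_normalizer hMC)
        (le_inf (hT₀T.trans hTM) hT₀C) hT₀p hsyl m hm
      have e : m = k⁻¹ * (k * m) := by group
      rw [e]
      apply mul_mem (Subgroup.mem_sup_right (inv_mem (Subgroup.mem_inf.mp hk).2))
      apply Subgroup.mem_sup_left
      rw [hLs]
      exact Subgroup.mem_inf.mpr ⟨mul_mem (Subgroup.mem_inf.mp hk).1 hm, hkm⟩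
    · exact sup_le ((hLsM.trans le_sup_left).trans hfac.le) le_sup_right
  refine ⟨?_, hA⟩
  apply le_antisymm
  · have hs := largest_pRedIn (p := p) Ls
    set Ys := Cfsg.largestPReducedOf p Ls with hYs
    have h1 : T₀ ≤ Cfsg.pCoreOf p Ls := le_pCoreOf (hT₀T.trans hTLs) hLsT₀ hT₀p
    have h2 : T₀ ≤ Subgroup.centralizer (Ys : Set H) := h1.trans hs.pCoreOf_le
    have h3 : Ys ≤ T := hs.le_pCoreOf.trans (pCoreOf_le_sylow T hTLs)
    have h4 : Ys ≤ Subgroup.centralizer (T₀ : Set H) := Subgroup.le_centralizer_iff.mp h2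
    have h5 : Ys ≤ C := h4.trans (Subgroup.centralizer_le (SetLike.coe_subset_coe.mpr hYT₀))
    have h6 := largest_eq_omZ T hTL hL
    rw [← hY, ← hC, ← hT₀] at h6
    rw [h6]
    intro y hy
    refine ⟨?_, h4 hy, hs.elem.2 y hy⟩
    rw [hT₀]
    exact Subgroup.mem_inf.mpr ⟨h3 hy, h5 hy⟩
  · apply PRedIn.le_largest
    exact hL'.of_sup_eq hA.symm ((hYT₀.trans hT₀T).trans hTLs)

end Cfsg.Agent.S2824
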