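import Mathlib
import Cfsg.Statements.S2826
import Mathlib
import Cfsg.Agent.Lib_helper1_PRed3
import Cfsg.Agent.Lib_helper1_Trace
import Cfsg.Agent.Lib_helper1_Transfer

set_option autoImplicit false
open Cfsg

namespace Cfsg.Agent.S2826

open Cfsg.Agent.H1
open scoped commutatorElement

/-- Let H be a finite group of characteristic p, T a Sylow p-subgroup, and V a normal elementary abelian p-subgroup of H containing Ω₁(Z(T)). Then C_H(Ω₁(Z(T))) = C_H([V, O^p(H)] ∩ Ω₁(Z(T))), O^p(H) being generated by the elements of order prime to p. -/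
theorem result {H : Type*} [Group H] [Finite H] {p : ℕ} [Fact p.Prime] (hH : Subgroup.centralizer (Cfsg.pCore p H : Set H) ≤ Cfsg.pCore p H) (T : Sylow p H) (V : Subgroup H) [V.Normal] (hV : Cfsg.IsElementaryAbelian p V) (hZV : (Cfsg.omegaOne p ((T : Subgroup H) ⊓ Subgroup.centralizer (((T : Subgroup H) : Subgroup H) : Set H))) ≤ V) : Subgroup.centralizer ((Cfsg.omegaOne p ((T : Subgroup H) ⊓ Subgroup.centralizer (((T : Subgroup H) : Subgroup H) : Set H))) : Set H) = Subgroup.centralizer (((⁅V, Cfsg.pResidual p H⁆ ⊓ (Cfsg.omegaOne p ((T : Subgroup H) ⊓ Subgroup.centralizer (((T : Subgroup H) : Subgroup H) : Set H)))) : Subgroup H) : Set H) := by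
  have hp : p.Prime := Fact.out
  have hVn : V.Normal := inferInstance
  rw [omegaOne_eq_omZ] at hZV ⊢
  set Z := omZ p (T : Subgroup H) with hZ
  set E := Cfsg.pResidual p H with hE
  have hEn : E.Normal := pResidual_normal p
  apply le_antisymm
  · exact Subgroup.centralizer_le (SetLike.coe_subset_coe.mpr inf_le_right)
  · intro c₀ hc₀
    set C := Subgroup.centralizer ((⁅V, E⁆ ⊓ Z : Subgroup H) : Set H) with hC
    rw [Subgroup.mem_centralizer_iff]
    intro z hz
    have hVT : V ≤ T := (isPGroup_of_elemAb hV).le_sylow_of_normal T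
    have hTZ : ∀ t ∈ (T : Subgroup H), ∀ y ∈ Z, t * y = y * t := by
      intro t ht y hy
      exact (Subgroup.mem_centralizer_iff.mp hy.2.1 t ht)
    have hTC : (T : Subgroup H) ≤ C := by
      intro t ht
      rw [hC, Subgroup.mem_centralizer_iff]
      intro y hy
      exact (hTZ t ht y (Subgroup.mem_inf.mp hy).2).symm
    have hfac : ∀ g : H, ∃ e ∈ E, ∃ t ∈ (T : Subgroup H), g = e * t := by
      intro g
      obtain ⟨t, ht, c, hc, hg⟩ := exists_mul_of_pquot T (D := ⊤) (C := E) inferInstance hEn (by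
        intro d _
        obtain ⟨k, hk⟩ := (isPGroup_quotient_pResidual (p := p) (G := H)) (QuotientGroup.mk d)
        refine ⟨k, ?_⟩
        rw [← QuotientGroup.mk_pow] at hk
        exact (QuotientGroup.eq_one_iff _).mp hk) g⁻¹ (Subgroup.mem_top _)
      refine ⟨c⁻¹, inv_mem (Subgroup.mem_inf.mp hc).1, t⁻¹, inv_mem (Subgroup.mem_inf.mp ht).1, ?_⟩
      rw [← mul_inv_rev, ← hg, inv_inv]
    obtain ⟨τ, hτV, hτC, hτU⟩ := exists_trace_conj V
      (fun a ha b hb => congrArg Subtype.val (hV.1.is_comm.comm ⟨a, ha⟩ ⟨b, hb⟩)) C (T : Subgroup H)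
      (by rw [Subgroup.normalizer_eq_top]; exact le_top) (hZV hz) (fun t ht => hTZ t ht z hz)
      ⁅V, E⁆ (by
        intro g _
        obtain ⟨e, he, t, ht, rfl⟩ := hfac g
        have h1 : e * t * z * (e * t)⁻¹ * z⁻¹ = ⁅e, z⁆ := by
          rw [commutatorElement_def]
          calc e * t * z * (e * t)⁻¹ * z⁻¹ = e * (t * z) * t⁻¹ * e⁻¹ * z⁻¹ := by group
            _ = e * z * e⁻¹ * z⁻¹ := by rw [hTZ t ht z hz]; group
        rw [h1, Subgroup.commutator_comm]
        exact Subgroup.commutator_mem_commutator he (hZV hz))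
    set k := (T : Subgroup H).relIndex C with hk
    have hkp : k.Coprime p := by
      apply Nat.Coprime.symm
      rw [Nat.Prime.coprime_iff_not_dvd hp]
      exact fun h => T.not_dvd_index (h.trans (Subgroup.relIndex_dvd_index_of_le hTC))
    set u := τ * (z ^ k)⁻¹ with hu
    have huV : u ∈ V := mul_mem hτV (inv_mem (pow_mem (hZV hz) k))
    have huZ : u ∈ Z := by
      refine ⟨hVT huV, ?_, hV.2 u huV⟩
      rw [Subgroup.mem_centralizer_iff]
      intro t ht
      have h1 : t * τ = τ * t := hτC t (hTC ht)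
      have h2 : Commute t z := hTZ t ht z hz
      have h3 : Commute t τ := h1
      exact (h3.mul_right (h2.pow_right k).inv_right).eq
    have huC : Commute c₀ u :=
      (Subgroup.mem_centralizer_iff.mp hc₀ u (Subgroup.mem_inf.mpr ⟨hτU, huZ⟩)).symm
    have hτc : Commute c₀ τ := hτC c₀ hc₀
    have hzk : Commute c₀ (z ^ k) := by
      have : z ^ k = u⁻¹ * τ := by rw [hu]; group
      rw [this]
      exact huC.inv_right.mul_right hτc
    have hcop : k.Coprime (orderOf z) :=
      Nat.Coprime.coprime_dvd_right (orderOf_dvd_of_pow_eq_one hz.2.2) hkp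
    obtain ⟨m, hm⟩ := exists_pow_eq_self_of_coprime hcop
    have := hzk.pow_right m
    rw [hm] at this
    exact this.eq.symm

end Cfsg.Agent.S2826
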