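import Mathlib
import Cfsg.Statements.S2827
import Cfsg.Agent.Lib_helper1_PIrr

set_option autoImplicit false
open Cfsg

namespace Cfsg.Agent.S2827

open Subgroup Cfsg.Agent.H1
open scoped commutatorElement

/-- Let H be a finite p-irreducible group (not p-closed, and O^p(H) lies in every normal subgroup that is not p-closed) and T a Sylow p-subgroup. Then H is generated by the conjugates of T and H = H'·T; O^p(H) ≤ H'; and for every normal subgroup Y of T not contained in O_p(H), O^p(H) = [O^p(H), Y] and O^p(H) is contained in the normal closure of Y in H. -/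
theorem result {H : Type*} [Group H] [Finite H] {p : ℕ} [Fact p.Prime] (hH : Cfsg.IsPIrreducible p H) (T : Sylow p H) : Subgroup.normalClosure ((T : Subgroup H) : Set H) = ⊤ ∧ commutator H ⊔ (T : Subgroup H) = ⊤ ∧ Cfsg.pResidual p H ≤ commutator H ∧ ∀ Y : Subgroup H, Y ≤ (T : Subgroup H) → (T : Subgroup H) ≤ Subgroup.normalizer (Y : Set H) → ¬ Y ≤ Cfsg.pCore p H → ⁅Cfsg.pResidual p H, Y⁆ = Cfsg.pResidual p H ∧ Cfsg.pResidual p H ≤ Subgroup.normalClosure (Y : Set H) := by
  have hRn : (Cfsg.pResidual p H).Normal := pResidual_normal p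
  have hTR := sylow_sup_pResidual T
  have h1 : Subgroup.normalClosure ((T : Subgroup H) : Set H) = ⊤ := by
    rw [eq_top_iff, ← hTR]
    refine sup_le le_normalClosure (hH.2 _ inferInstance ?_)
    exact not_isPClosed_of_not_le (normalClosure_normal).isSubnormal T.2 le_normalClosure
      (pIrr_not_sylow_le_pCore hH T)
  have h2 : commutator H ⊔ (T : Subgroup H) = ⊤ := by
    have hn : (commutator H ⊔ (T : Subgroup H)).Normal := by
      refine ⟨fun k hk g => ?_⟩
      have e : g * k * g⁻¹ = ⁅g, k⁆ * k := by rw [commutatorElement_def]; group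
      rw [e]
      exact mul_mem (mem_sup_left (commutator_mem_commutator (mem_top g) (mem_top k))) hk
    rw [eq_top_iff, ← h1]
    exact normalClosure_le_normal (le_sup_right : (T : Subgroup H) ≤ _)
  refine ⟨h1, h2, pResidual_le_of_sup_eq_top T.2 h2, ?_⟩
  intro Y hYT hTY hY
  have hYp : IsPGroup p ↥Y := T.2.to_le hYT
  have h3 : Cfsg.pResidual p H ≤ Subgroup.normalClosure (Y : Set H) :=
    hH.2 _ inferInstance (not_isPClosed_of_not_le (normalClosure_normal).isSubnormal hYp le_normalClosure hY)
  refine ⟨?_, h3⟩
  have hTRn : (T : Subgroup H) ≤ normalizer ((Cfsg.pResidual p H : Subgroup H) : Set H) := by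
    rw [normalizer_eq_top]; exact le_top
  have hCn : (⁅Cfsg.pResidual p H, Y⁆).Normal := by
    rw [← normalizer_eq_top_iff, eq_top_iff, ← hTR]
    exact sup_le (le_normalizer_commutator_of hTRn hTY) (normalizer_commutator_ge_left _ _)
  have hCYn : (⁅Cfsg.pResidual p H, Y⁆ ⊔ Y).Normal := by
    rw [← normalizer_eq_top_iff, eq_top_iff, ← hTR]
    apply sup_le
    · refine le_trans ?_ (normalizer_inf_normalizer_le_normalizer_sup _ _)
      refine le_inf ?_ hTY
      rw [normalizer_eq_top]; exact le_top
    · apply le_normalizer_of_conj_mem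
      intro r hr
      apply conj_mem_of_mem_sup
      · intro d hd
        exact mem_sup_left (hCn.conj_mem d hd r)
      · intro d hd
        have e : r * d * r⁻¹ = ⁅r, d⁆ * d := by rw [commutatorElement_def]; group
        rw [e]
        exact mul_mem (mem_sup_left (commutator_mem_commutator hr hd)) (mem_sup_right hd)
  apply le_antisymm (commutator_le_left _ _)
  apply pResidual_le_of_le_sup hYp
  exact h3.trans (normalClosure_le_normal (le_sup_right : Y ≤ _))

end Cfsg.Agent.S2827
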