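import Mathlib
import Cfsg.Statements.S2828
import Cfsg.Agent.Lib_helper1_PIrr2

set_option autoImplicit false
open Cfsg

namespace Cfsg.Agent.S2828

open Subgroup Cfsg.Agent.H1

/-- Let H be a finite group, p a prime and D a normal p-subgroup of H. Then H is p-irreducible if and only if H/D is p-irreducible, and H is strongly p-irreducible if and only if H/D is strongly p-irreducible. -/
theorem result {H : Type*} [Group H] [Finite H] {p : ℕ} [Fact p.Prime] (D : Subgroup H) [D.Normal] (hD : IsPGroup p ↥D) : (Cfsg.IsPIrreducible p H ↔ Cfsg.IsPIrreducible p (H ⧸ D)) ∧ (Cfsg.IsStronglyPIrreducible p H ↔ Cfsg.IsStronglyPIrreducible p (H ⧸ D)) := by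
  have hsurj := QuotientGroup.mk'_surjective D
  have hcl := isPClosed_quotient_iff (p := p) hD
  have hup : ∀ N' : Subgroup (H ⧸ D), Cfsg.pResidual p H ≤ N'.comap (QuotientGroup.mk' D) →
      Cfsg.pResidual p (H ⧸ D) ≤ N' := by
    intro N' h
    refine (pResidual_quotient_le D).trans ?_
    rw [map_le_iff_le_comap]; exact h
  have hcomm : ∀ N : Subgroup H, (⁅N, (⊤ : Subgroup H)⁆).map (QuotientGroup.mk' D) =
      ⁅N.map (QuotientGroup.mk' D), (⊤ : Subgroup (H ⧸ D))⁆ := by
    intro N
    rw [map_commutator, map_top_of_surjective _ hsurj]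
  have hcore := comap_pCore_quotient (p := p) D hD
  refine ⟨⟨?_, ?_⟩, ⟨?_, ?_⟩⟩
  · intro h
    refine ⟨fun hc => h.1 (hcl.mp hc), fun N' hN' hc => hup N' (h.2 _ (hN'.comap _) ?_)⟩
    intro hc'
    apply hc
    rw [← isPClosed_map_iff hD, map_comap_eq_self_of_surjective hsurj] at hc'
    exact hc'
  · intro h
    refine ⟨fun hc => h.1 (hcl.mpr hc), fun N hN hc => ?_⟩
    apply pResidual_le_of_quotient_le hD
    apply h.2 _ (hN.map _ hsurj)
    rw [isPClosed_map_iff hD]
    exact hc
  · intro h
    refine ⟨fun hc => h.1 (hcl.mp hc), fun N' hN' hc => hup N' (h.2 _ (hN'.comap _) ?_)⟩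
    intro hc'
    apply hc
    have h1 := map_mono (f := QuotientGroup.mk' D) hc'
    rw [hcomm, map_comap_eq_self_of_surjective hsurj, ← hcore, map_comap_eq_self_of_surjective hsurj] at h1
    exact h1
  · intro h
    refine ⟨fun hc => h.1 (hcl.mpr hc), fun N hN hc => ?_⟩
    apply pResidual_le_of_quotient_le hD
    apply h.2 _ (hN.map _ hsurj)
    intro hc'
    apply hc
    rw [← hcomm, map_le_iff_le_comap, hcore] at hc'
    exact hc'

end Cfsg.Agent.S2828
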