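import Mathlib
import Cfsg.Statements.S2829
import Cfsg.Agent.Lib_helper1_PIrr

set_option autoImplicit false
open Cfsg

namespace Cfsg.Agent.S2829

open Subgroup Cfsg.Agent.H1
open scoped commutatorElement

/-- Every strongly p-irreducible finite group is p-irreducible. -/
theorem result {H : Type*} [Group H] [Finite H] {p : ℕ} [Fact p.Prime] (hH : Cfsg.IsStronglyPIrreducible p H) : Cfsg.IsPIrreducible p H := by
  refine ⟨hH.1, fun N hN hNc => hH.2 N hN ?_⟩
  intro hle
  apply hNc
  obtain ⟨T⟩ : Nonempty (Sylow p H) := inferInstance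
  apply isPClosed_of_sylow_inf_normal T hN
  refine ⟨fun x hx h => ?_⟩
  have h1 : ⁅x, h⁆ ∈ Cfsg.pCore p H := hle (commutator_mem_commutator hx.2 (mem_top h))
  have h2 : h * x * h⁻¹ = (⁅x, h⁆)⁻¹ * x := by
    rw [commutatorElement_def]; group
  refine mem_inf.mpr ⟨?_, hN.conj_mem x hx.2 h⟩
  rw [h2]
  exact mul_mem (inv_mem ((pCore_isPGroup p).le_sylow_of_normal T h1)) hx.1

end Cfsg.Agent.S2829
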