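import Mathlib
import Cfsg.Statements.S2830
import Cfsg.Agent.Lib_helper1_PIrr

set_option autoImplicit false
open Cfsg

namespace Cfsg.Agent.S2830

open Subgroup Cfsg.Agent.H1

/-- Let H act by conjugation on the elementary abelian p-subgroup V of a finite group G (H ≤ N(V)), with H p-irreducible and O^p(H) not centralizing V. Then C_H(V) is p-closed and C_T(V) ≤ O_p(H) for every p-subgroup T of H. If in addition O_p(H) centralizes V, then C_T(V) = T ∩ O_p(H) for every p-subgroup T of H, and V is p-reduced for H: O_p(H/C_H(V)) = 1. -/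
theorem result {G : Type*} [Group G] [Finite G] {p : ℕ} [Fact p.Prime] (V H : Subgroup G) (hV : Cfsg.IsElementaryAbelian p V) (hHV : H ≤ Subgroup.normalizer (V : Set G)) (hH : Cfsg.IsPIrreducible p ↥H) (hnc : ¬ (Cfsg.pResidual p ↥H).map H.subtype ≤ Subgroup.centralizer (V : Set G)) [hn : ((Subgroup.centralizer (V : Set G)).subgroupOf H).Normal] : Cfsg.IsPClosed p ↥(H ⊓ Subgroup.centralizer (V : Set G)) ∧ (∀ T : Subgroup G, T ≤ H → IsPGroup p ↥T → T ⊓ Subgroup.centralizer (V : Set G) ≤ Cfsg.pCoreOf p H) ∧ (Cfsg.pCoreOf p H ≤ Subgroup.centralizer (V : Set G) → (∀ T : Subgroup G, T ≤ H → IsPGroup p ↥T → T ⊓ Subgroup.centralizer (V : Set G) = T ⊓ Cfsg.pCoreOf p H) ∧ Cfsg.pCore p (↥H ⧸ (Subgroup.centralizer (V : Set G)).subgroupOf H) = ⊥) := by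
  have hN : ¬ Cfsg.pResidual p ↥H ≤ (Subgroup.centralizer (V : Set G)).subgroupOf H := by
    intro h
    apply hnc
    rintro _ ⟨x, hx, rfl⟩
    exact mem_subgroupOf.mp (h hx)
  have hc0 : Cfsg.IsPClosed p ↥((Subgroup.centralizer (V : Set G)).subgroupOf H) :=
    pIrr_isPClosed_of_not_le hH hn hN
  have hc : Cfsg.IsPClosed p ↥(H ⊓ Subgroup.centralizer (V : Set G)) := by
    have e1 : ↥((Subgroup.centralizer (V : Set G)).subgroupOf H) ≃*
        ↥((H ⊓ Subgroup.centralizer (V : Set G)).subgroupOf H) :=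
      MulEquiv.subgroupCongr (inf_subgroupOf_left _ _).symm
    exact isPClosed_of_mulEquiv (e1.trans (subgroupOfEquivOfLe inf_le_left)) hc0
  have h2 : ∀ T : Subgroup G, T ≤ H → IsPGroup p ↥T →
      T ⊓ Subgroup.centralizer (V : Set G) ≤ Cfsg.pCoreOf p H := by
    intro T hT hTp x hx
    have h3 := (isPClosed_sub_iff (H ⊓ Subgroup.centralizer (V : Set G))).mp hc x ⟨hT hx.1, hx.2⟩
      (exists_pow_eq_one_of_mem hTp hx.1)
    exact pCoreOf_le_of_le_normalizer inf_le_left (le_normalizer_inf le_normalizer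
      (hHV.trans (normalizer_le_normalizer_centralizer V))) h3
  refine ⟨hc, h2, fun hO => ⟨fun T hT hTp => le_antisymm (le_inf inf_le_left (h2 T hT hTp))
    (inf_le_inf_left _ hO), ?_⟩⟩
  apply pIrr_pCore_quotient_eq_bot hH hN
  intro x hx
  exact mem_subgroupOf.mpr (hO ⟨x, hx, rfl⟩)

end Cfsg.Agent.S2830
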