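import Mathlib
import Cfsg.Statements.S2831
import Cfsg.Agent.Lib_helper1_PMin

set_option autoImplicit false
open Cfsg

namespace Cfsg.Agent.S2831

open Subgroup Cfsg.Agent.H1

/-- Let H be a finite group with Sylow p-subgroup T such that H is T-minimal (H is generated by the conjugates of T and T lies in exactly one maximal subgroup of H). Then H is p-irreducible: H is not p-closed and O^p(H) lies in every normal subgroup of H that is not p-closed. -/
theorem result {H : Type*} [Group H] [Finite H] {p : ℕ} [Fact p.Prime] (T : Sylow p H) (hmin : Cfsg.IsMinimalOver (T : Subgroup H)) : Cfsg.IsPIrreducible p H := by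
  obtain ⟨M, ⟨hM, hTM⟩, -⟩ := hmin.2
  refine ⟨?_, ?_⟩
  · intro hc
    have := minOver_eq_top_of_normal hmin (hc T) le_rfl
    rw [this] at hTM
    exact hM.1 (top_le_iff.mp hTM)
  · intro N hN hNc
    rcases minOver_sylow_normal_dichotomy T hmin hM hTM hN with ⟨-, h⟩ | h
    · exact absurd (isPClosed_of_sylow_inf_normal T hN h) hNc
    · exact pResidual_le_of_sup_eq_top T.2 h

end Cfsg.Agent.S2831
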