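import Mathlib
import Cfsg.Statements.S2832
import Cfsg.Agent.Lib_helper1_PMin

set_option autoImplicit false
open Cfsg

namespace Cfsg.Agent.S2832

open Subgroup Cfsg.Agent.H1

/-- Let H be a finite group with Sylow p-subgroup T such that H is T-minimal (generated by the conjugates of T, with T in exactly one maximal subgroup), and let N be a normal subgroup of H. Then either H/N is a p-group or H/N is minimal over the image of T in the same sense. -/
theorem result {H : Type*} [Group H] [Finite H] {p : ℕ} [Fact p.Prime] (T : Sylow p H) (hmin : Cfsg.IsMinimalOver (T : Subgroup H)) (N : Subgroup H) [N.Normal] : IsPGroup p (H ⧸ N) ∨ Cfsg.IsMinimalOver ((T : Subgroup H).map (QuotientGroup.mk' N)) := by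
  obtain ⟨M, ⟨hM, hTM⟩, -⟩ := hmin.2
  rcases minOver_sylow_normal_dichotomy T hmin hM hTM (inferInstance : N.Normal) with ⟨hNM, -⟩ | h
  · right
    have hsurj := QuotientGroup.mk'_surjective N
    refine ⟨?_, M.map (QuotientGroup.mk' N), ⟨isCoatom_map_mk_of_le hNM hM, map_mono hTM⟩, ?_⟩
    · have h1 : (normalClosure (((T : Subgroup H).map (QuotientGroup.mk' N) : Subgroup (H ⧸ N)) : Set (H ⧸ N))).comap
          (QuotientGroup.mk' N) = ⊤ := by
        apply minOver_eq_top_of_normal hmin inferInstance
        rw [← map_le_iff_le_comap]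
        exact le_normalClosure
      rw [← map_comap_eq_self_of_surjective hsurj (normalClosure _), h1, ← MonoidHom.range_eq_map,
        MonoidHom.range_eq_top.mpr hsurj]
    · rintro M' ⟨h1, h2⟩
      have h3 := minOver_unique hmin hM hTM _ (isCoatom_comap_mk N h1) (map_le_iff_le_comap.mp h2)
      rw [← h3, map_comap_eq_self_of_surjective hsurj]
  · left
    exact isPGroup_quotient_of_sup_eq_top T.2 h

end Cfsg.Agent.S2832
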