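import Cfsg.Statements.S2833
import Cfsg.Agent.Lib_helper7_Comm
import Cfsg.Agent.Lib_helper3_Solv

set_option autoImplicit false
open Cfsg

namespace Cfsg.Agent.S2833

open Subgroup
open scoped commutatorElement

theorem comm_gen {G : Type*} [Group G] (V X Y U : Subgroup G)
    (hX : X ≤ normalizer (V : Set G)) (hY : Y ≤ normalizer (V : Set G))
    (h1 : ⁅V, X⁆ ≤ U) (h2 : ⁅V, Y⁆ ≤ U) : ⁅V, X ⊔ Y⁆ ≤ U := by
  have hN : ∀ l ∈ normalizer (V : Set G), ∀ v ∈ V, l * v * l⁻¹ ∈ V := fun l hl v hv =>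
    (mem_normalizer_iff.1 hl v).1 hv
  have key : ∀ l ∈ X ⊔ Y, l ∈ normalizer (V : Set G) ∧ ∀ v ∈ V, ⁅v, l⁆ ∈ U := by
    intro l hl
    rw [Subgroup.sup_eq_closure] at hl
    induction hl using Subgroup.closure_induction with
    | mem y hy =>
      rcases hy with hy | hy
      · exact ⟨hX hy, fun v hv => h1 (commutator_mem_commutator hv hy)⟩
      · exact ⟨hY hy, fun v hv => h2 (commutator_mem_commutator hv hy)⟩
    | one => exact ⟨one_mem _, fun v _ => by simp⟩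
    | mul a b _ _ ha hb =>
      refine ⟨mul_mem ha.1 hb.1, fun v hv => ?_⟩
      have hu : ⁅v, b⁆ ∈ V := by
        have : ⁅v, b⁆ = v * (b * v⁻¹ * b⁻¹) := by simp only [commutatorElement_def]; group
        rw [this]
        exact mul_mem hv (hN b hb.1 _ (inv_mem hv))
      have e : ⁅v, a * b⁆ = ⁅v, a⁆ * (⁅⁅v, b⁆, a⁆)⁻¹ * ⁅v, b⁆ := by
        simp only [commutatorElement_def]; group
      rw [e]
      exact mul_mem (mul_mem (ha.2 v hv) (inv_mem (ha.2 _ hu))) (hb.2 v hv)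
    | inv a _ ha =>
      refine ⟨inv_mem ha.1, fun v hv => ?_⟩
      have hv' : a⁻¹ * v * a ∈ V := by
        have := hN a⁻¹ (inv_mem ha.1) v hv
        rwa [inv_inv] at this
      have e : ⁅v, a⁻¹⁆ = (⁅a⁻¹ * v * a, a⁆)⁻¹ := by
        simp only [commutatorElement_def]; group
      rw [e]
      exact inv_mem (ha.2 _ hv')
  rw [Subgroup.commutator_le]
  exact fun v hv l hl => (key l hl).2 v hv

theorem cent_sup {G : Type*} [Group G] (X Y : Subgroup G) (b : G)
    (h1 : b ∈ centralizer (X : Set G)) (h2 : b ∈ centralizer (Y : Set G)) :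
    b ∈ centralizer ((X ⊔ Y : Subgroup G) : Set G) := by
  have hX : X ≤ centralizer ({b} : Set G) := by
    intro x hx
    rw [mem_centralizer_iff]
    rintro _ rfl
    exact ((mem_centralizer_iff.1 h1) x hx).symm
  have hY : Y ≤ centralizer ({b} : Set G) := by
    intro x hx
    rw [mem_centralizer_iff]
    rintro _ rfl
    exact ((mem_centralizer_iff.1 h2) x hx).symm
  rw [mem_centralizer_iff]
  intro l hl
  exact ((mem_centralizer_iff.1 (sup_le hX hY hl)) b rfl).symm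

/-- Let V be a subgroup of a finite group G normalized by the subgroup L, let X ≤ L and g ∈ L with [V, X, X] = 1 and L generated by X and gXg⁻¹. Put W = [V, L]. Then W = [V, X]·[V, gXg⁻¹], C_W(X) = [V, X], and C_W(L) = [V, X] ∩ [V, gXg⁻¹]. -/
theorem result {G : Type*} [Group G] [Finite G] (V L : Subgroup G) (hLV : L ≤ Subgroup.normalizer (V : Set G)) (X : Subgroup G) (hX : X ≤ L) (g : G) (hg : g ∈ L) (hq : ⁅⁅V, X⁆, X⁆ = ⊥) (hgen : X ⊔ X.map (MulAut.conj g).toMonoidHom = L) (W : Subgroup G) (hW : W = ⁅V, L⁆) : ⁅V, X⁆ ⊔ ⁅V, X.map (MulAut.conj g).toMonoidHom⁆ = W ∧ W ⊓ Subgroup.centralizer (X : Set G) = ⁅V, X⁆ ∧ W ⊓ Subgroup.centralizer (L : Set G) = ⁅V, X⁆ ⊓ ⁅V, X.map (MulAut.conj g).toMonoidHom⁆ := by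
  subst hW
  obtain ⟨Y, hY⟩ : ∃ Y, Y = X.map (MulAut.conj g).toMonoidHom := ⟨_, rfl⟩
  rw [← hY] at hgen ⊢
  have hXL : X ≤ L := hX
  have hYL : Y ≤ L := hgen ▸ le_sup_right
  have hVg : V.map (MulAut.conj g).toMonoidHom = V :=
    Cfsg.Agent.H7.map_conj_eq_self_iff.2 (hLV hg)
  have hB : ⁅V, Y⁆ = (⁅V, X⁆).map (MulAut.conj g).toMonoidHom := by
    rw [Subgroup.map_commutator, hVg, hY]
  have hAC : ⁅V, X⁆ ≤ centralizer (X : Set G) := Subgroup.commutator_eq_bot_iff_le_centralizer.1 hq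
  have hBC : ⁅V, Y⁆ ≤ centralizer (Y : Set G) := by
    rw [← Subgroup.commutator_eq_bot_iff_le_centralizer]
    conv_lhs => rw [hB, hY]
    rw [← Subgroup.map_commutator, hq, Subgroup.map_bot]
  have hBV : ⁅V, Y⁆ ≤ V := by
    rw [Subgroup.commutator_le]
    intro v hv y hy
    have : ⁅v, y⁆ = v * (y * v⁻¹ * y⁻¹) := by simp only [commutatorElement_def]; group
    rw [this]
    exact mul_mem hv ((mem_normalizer_iff.1 (hLV (hYL hy)) _).1 (inv_mem hv))
  have h1 : ⁅V, X⁆ ⊔ ⁅V, Y⁆ = ⁅V, L⁆ := by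
    apply le_antisymm
    · exact sup_le (Subgroup.commutator_mono le_rfl hXL) (Subgroup.commutator_mono le_rfl hYL)
    · rw [← hgen]
      exact comm_gen V X Y _ (hXL.trans hLV) (hYL.trans hLV) le_sup_left le_sup_right
  have hCg : ∀ b ∈ centralizer (L : Set G), g * b * g⁻¹ = b := by
    intro b hb
    have := (mem_centralizer_iff.1 hb) g hg
    rw [this, mul_inv_cancel_right]
  have h2 : ⁅V, L⁆ ⊓ centralizer (X : Set G) = ⁅V, X⁆ := by
    apply le_antisymm
    · rintro w ⟨hw, hwX⟩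
      rw [SetLike.mem_coe, ← h1] at hw
      obtain ⟨a, ha, b, hb, rfl⟩ := Cfsg.Agent.H3.mem_sup_of_le_normalizer
        (hBV.trans (Cfsg.Agent.H7.self_le_normalizer_commutator V X)) hw
      have hbX : b ∈ centralizer (X : Set G) := by
        have := mul_mem (inv_mem (hAC ha)) hwX
        rwa [inv_mul_cancel_left] at this
      have hbL : b ∈ centralizer (L : Set G) := hgen ▸ cent_sup X Y b hbX (hBC hb)
      have hbA : b ∈ ⁅V, X⁆ := by
        rw [hB] at hb
        obtain ⟨a', ha', hab⟩ := hb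
        have e1 : a' = g⁻¹ * b * g := by
          rw [← hab]; simp [mul_assoc]
        have e2 : g⁻¹ * b * g = b := by
          have := hCg b hbL
          calc g⁻¹ * b * g = g⁻¹ * (g * b * g⁻¹) * g := by rw [this]
            _ = b := by group
        rw [← e2, ← e1]; exact ha'
      exact mul_mem ha hbA
    · exact le_inf (h1 ▸ le_sup_left) hAC
  refine ⟨h1, h2, ?_⟩
  apply le_antisymm
  · rintro w ⟨hw, hwL⟩
    have hwX : w ∈ centralizer (X : Set G) := Subgroup.centralizer_le hXL hwL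
    have hwA : w ∈ ⁅V, X⁆ := h2 ▸ (⟨hw, hwX⟩ : w ∈ ⁅V, L⁆ ⊓ centralizer (X : Set G))
    refine ⟨hwA, ?_⟩
    rw [SetLike.mem_coe, hB]
    exact ⟨w, hwA, hCg w hwL⟩
  · rintro w ⟨hwA, hwB⟩
    exact ⟨h1 ▸ (le_sup_left : ⁅V, X⁆ ≤ _) hwA, hgen ▸ cent_sup X Y w (hAC hwA) (hBC hwB)⟩

end Cfsg.Agent.S2833
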