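import Mathlib
import Cfsg.Statements.S2835
import Cfsg.Agent.Lib_helper1_PMin

set_option autoImplicit false
open Cfsg

namespace Cfsg.Agent.S2835

open Subgroup Cfsg.Agent.H1

/-- Let L be a finite group, L₀ a maximal subgroup, T a Sylow p-subgroup of L₀ and Y ≤ T, and suppose L is Y-minimal (generated by the conjugates of Y, with Y in exactly one maximal subgroup, necessarily L₀). Then N_L(T) ≤ L₀, O_p(L) ≤ L₀ and T is a Sylow p-subgroup of L; N_L(L₀) = L₀; L = ⟨Y, gYg⁻¹⟩ for each g ∈ L outside L₀; and if Y is abelian then Y ∩ gYg⁻¹ = C_Y(L) for each such g. -/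
theorem result {L : Type*} [Group L] [Finite L] {p : ℕ} [Fact p.Prime] (L₀ : Subgroup L) (hL₀ : IsCoatom L₀) (T : Sylow p ↥L₀) (Y : Subgroup L) (hYT : Y ≤ (T : Subgroup ↥L₀).map L₀.subtype) (hmin : Cfsg.IsMinimalOver Y) : Subgroup.normalizer (((T : Subgroup ↥L₀).map L₀.subtype : Subgroup L) : Set L) ≤ L₀ ∧ Cfsg.pCore p L ≤ L₀ ∧ (∃ P : Sylow p L, (P : Subgroup L) = (T : Subgroup ↥L₀).map L₀.subtype) ∧ Subgroup.normalizer (L₀ : Set L) = L₀ ∧ (∀ g : L, g ∉ L₀ → Y ⊔ Y.map (MulAut.conj g).toMonoidHom = ⊤) ∧ (IsMulCommutative ↥Y → ∀ g : L, g ∉ L₀ → Y ⊓ Y.map (MulAut.conj g).toMonoidHom = Y ⊓ Subgroup.center L) := by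
  have hTL : (T : Subgroup ↥L₀).map L₀.subtype ≤ L₀ := map_subtype_le _
  have hYL : Y ≤ L₀ := hYT.trans hTL
  obtain ⟨P, hP⟩ := minOver_sylow hmin hL₀ T hYT
  have hnn := minOver_coatom_not_normal hmin hL₀ hYL
  refine ⟨minOver_normalizer_le hmin hL₀ hYT hTL, ?_, ⟨P, hP⟩, normalizer_coatom_eq hL₀ hnn,
    fun g hg => minOver_sup_conj_eq_top hmin hL₀ hYL hg, ?_⟩
  · have := pCore_normal (G := L) p
    have h1 : Cfsg.pCore p L ≤ P := (pCore_isPGroup p).le_sylow_of_normal P
    rw [hP] at h1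
    exact h1.trans hTL
  · intro hc g hg
    have htop := minOver_sup_conj_eq_top hmin hL₀ hYL hg
    apply le_antisymm
    · intro x hx
      obtain ⟨hx1, hx2⟩ := mem_inf.mp hx
      refine mem_inf.mpr ⟨hx1, ?_⟩
      rw [← centralizer_univ, ← coe_top, ← htop]
      rw [mem_map_conj_iff] at hx2
      have h1 : Y ⊔ Y.map (MulAut.conj g).toMonoidHom ≤ centralizer ({x} : Set L) := by
        rw [sup_le_iff]
        constructor
        · intro y hy
          rw [mem_centralizer_singleton_iff]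
          have := hc.is_comm.comm ⟨y, hy⟩ ⟨x, hx1⟩
          exact congrArg Subtype.val this
        · intro y hy
          rw [mem_map_conj_iff] at hy
          rw [mem_centralizer_singleton_iff]
          have := hc.is_comm.comm ⟨_, hy⟩ ⟨_, hx2⟩
          have h2 : (g⁻¹ * y * g) * (g⁻¹ * x * g) = (g⁻¹ * x * g) * (g⁻¹ * y * g) := congrArg Subtype.val this
          have h3 : g⁻¹ * (y * x) * g = g⁻¹ * (x * y) * g := by
            calc g⁻¹ * (y * x) * g = (g⁻¹ * y * g) * (g⁻¹ * x * g) := by group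
              _ = (g⁻¹ * x * g) * (g⁻¹ * y * g) := h2
              _ = g⁻¹ * (x * y) * g := by group
          exact mul_left_cancel (mul_right_cancel h3)
      rw [mem_centralizer_iff]
      intro y hy
      have := h1 hy
      rw [mem_centralizer_singleton_iff] at this
      exact this
    · intro x hx
      obtain ⟨hx1, hx2⟩ := mem_inf.mp hx
      refine mem_inf.mpr ⟨hx1, ?_⟩
      rw [mem_map_conj_iff]
      have : g⁻¹ * x * g = x := by
        rw [mem_center_iff] at hx2
        rw [mul_assoc, ← hx2 g, ← mul_assoc, inv_mul_cancel, one_mul]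
      rw [this]; exact hx1

end Cfsg.Agent.S2835
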