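import Mathlib
import Cfsg.Statements.S2836
import Cfsg.Agent.Lib_helper1_PMin2

set_option autoImplicit false
open Cfsg

namespace Cfsg.Agent.S2836

open Subgroup Cfsg.Agent.H1

/-- Let L be a finite group, L₀ a maximal subgroup, T a Sylow p-subgroup of L₀, Y ≤ T, and suppose L is Y-minimal. Let D be the intersection of the conjugates of L₀ (the core of L₀). Then D contains O_p(L) and D/O_p(L) is the Frattini subgroup of L/O_p(L), so D is p-closed; and every normal subgroup N of L contained in L₀ is p-closed with N/O_p(N) a nilpotent group of order prime to p. -/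
theorem result {L : Type*} [Group L] [Finite L] {p : ℕ} [Fact p.Prime] (L₀ : Subgroup L) (hL₀ : IsCoatom L₀) (T : Sylow p ↥L₀) (Y : Subgroup L) (hYT : Y ≤ (T : Subgroup ↥L₀).map L₀.subtype) (hmin : Cfsg.IsMinimalOver Y) : (Cfsg.pCore p L ≤ L₀.normalCore ∧ (L₀.normalCore).map (QuotientGroup.mk' (Cfsg.pCore p L)) = frattini (L ⧸ Cfsg.pCore p L) ∧ Cfsg.IsPClosed p ↥(L₀.normalCore)) ∧ ∀ (N : Subgroup L) [N.Normal], N ≤ L₀ → Cfsg.IsPClosed p ↥N ∧ Group.IsNilpotent (↥N ⧸ Cfsg.pCore p ↥N) ∧ (Nat.card (↥N ⧸ Cfsg.pCore p ↥N)).Coprime p := by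
  have hTL : (T : Subgroup ↥L₀).map L₀.subtype ≤ L₀ := map_subtype_le _
  have hYL : Y ≤ L₀ := hYT.trans hTL
  obtain ⟨P, hP⟩ := minOver_sylow hmin hL₀ T hYT
  have hYP : Y ≤ (P : Subgroup L) := by rw [hP]; exact hYT
  have hPL : (P : Subgroup L) ≤ L₀ := by rw [hP]; exact hTL
  have hOL : Cfsg.pCore p L ≤ L₀ := ((pCore_isPGroup p).le_sylow_of_normal P).trans hPL
  have hOD : Cfsg.pCore p L ≤ L₀.normalCore := normal_le_normalCore.mpr hOL
  have hclosed : ∀ N : Subgroup L, N.Normal → N ≤ L₀ → Cfsg.IsPClosed p ↥N := fun N hN hNL =>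
    isPClosed_of_sylow_inf_normal P hN (minOver_sylow_inf_normal P hmin hL₀ hYL hYP hN hNL)
  have hsurj := QuotientGroup.mk'_surjective (Cfsg.pCore p L)
  have hfr : (L₀.normalCore).map (QuotientGroup.mk' (Cfsg.pCore p L)) = frattini (L ⧸ Cfsg.pCore p L) := by
    apply le_antisymm
    · rw [le_frattini_iff]
      intro K hK
      rw [map_le_iff_le_comap]
      apply minOver_core_le_coatom P hmin hL₀ hYL hYP (isCoatom_comap_mk _ hK)
      intro x hx
      rw [mem_comap]
      have : QuotientGroup.mk' (Cfsg.pCore p L) x = 1 := (QuotientGroup.eq_one_iff x).mpr hx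
      rw [this]; exact one_mem _
    · have h1 : frattini (L ⧸ Cfsg.pCore p L) ≤ L₀.map (QuotientGroup.mk' (Cfsg.pCore p L)) :=
        frattini_le_coatom (isCoatom_map_mk_of_le hOL hL₀)
      have h2 : (frattini (L ⧸ Cfsg.pCore p L)).comap (QuotientGroup.mk' (Cfsg.pCore p L)) ≤ L₀ := by
        rw [← comap_map_mk_of_le hOL]
        exact comap_mono h1
      have h3 := normal_le_normalCore.mpr h2
      rw [← map_comap_eq_self_of_surjective hsurj (frattini (L ⧸ Cfsg.pCore p L))]
      exact map_mono h3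
  refine ⟨⟨hOD, hfr, hclosed _ inferInstance (normalCore_le _)⟩, ?_⟩
  intro N hN hNL
  refine ⟨hclosed N hN hNL, ?_, card_quotient_pCore_coprime (hclosed N hN hNL)⟩
  obtain ⟨f, hf, hfx⟩ := exists_injective_quotient_pCore (p := p) hN
  have hr : ∀ y, f y ∈ frattini (L ⧸ Cfsg.pCore p L) := by
    intro y
    obtain ⟨x, rfl⟩ := QuotientGroup.mk_surjective y
    rw [hfx, ← hfr]
    exact ⟨x, normal_le_normalCore.mpr hNL x.2, rfl⟩
  refine isNilpotent_of_injective (f.codRestrict _ hr) ?_ frattini_nilpotent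
  intro a b hab
  apply hf
  exact congrArg Subtype.val hab

end Cfsg.Agent.S2836
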