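import Mathlib
import Cfsg.Statements.S2837
import Cfsg.Agent.Lib_helper1_PMin4
import Cfsg.Agent.S2835
import Cfsg.Agent.S0093

set_option autoImplicit false
open Cfsg

namespace Cfsg.Agent.S2837

open Subgroup Cfsg.Agent.H1
open scoped commutatorElement

/-- Let L be a finite group of characteristic p, L₀ a maximal subgroup, Y an elementary abelian p-subgroup of L₀ with L Y-minimal and O_p(L) ≤ N_L(Y). Put A = the normal closure of O_p(L) ∩ Y in L. Then for every g ∈ L outside L₀: Φ(A) = A' = [A ∩ Y, A] = [A ∩ Y, A ∩ gYg⁻¹] ≤ C_Y(L), and Y ∩ gYg⁻¹ = (A ∩ Y) ∩ (A ∩ gYg⁻¹) = C_Y(L) = C_A(L). -/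
theorem result {L : Type*} [Group L] [Finite L] {p : ℕ} [Fact p.Prime] (hchar : Subgroup.centralizer (Cfsg.pCore p L : Set L) ≤ Cfsg.pCore p L) (L₀ : Subgroup L) (hL₀ : IsCoatom L₀) (Y : Subgroup L) (hYL₀ : Y ≤ L₀) (hYel : Cfsg.IsElementaryAbelian p Y) (hmin : Cfsg.IsMinimalOver Y) (hOY : Cfsg.pCore p L ≤ Subgroup.normalizer (Y : Set L)) (A : Subgroup L) (hA : A = Subgroup.normalClosure (((Cfsg.pCore p L ⊓ Y : Subgroup L)) : Set L)) (g : L) (hg : g ∉ L₀) : (frattini ↥A).map A.subtype = ⁅A, A⁆ ∧ ⁅A, A⁆ = ⁅A ⊓ Y, A⁆ ∧ ⁅A ⊓ Y, A⁆ = ⁅A ⊓ Y, A ⊓ Y.map (MulAut.conj g).toMonoidHom⁆ ∧ ⁅A ⊓ Y, A⁆ ≤ Y ⊓ Subgroup.center L ∧ Y ⊓ Y.map (MulAut.conj g).toMonoidHom = Y ⊓ Subgroup.center L ∧ (A ⊓ Y) ⊓ (A ⊓ Y.map (MulAut.conj g).toMonoidHom) = Y ⊓ Subgroup.center L ∧ A ⊓ Subgroup.center L = Y ⊓ Subgroup.center L := by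
  have htop := minOver_sup_conj_eq_top hmin hL₀ hYL₀ hg
  have hYc : IsMulCommutative ↥Y := hYel.1
  have hYgc := isMulCommutative_map_conj hYc g
  have hQn : (Cfsg.pCore p L).Normal := inferInstance
  -- `Y ∩ Y^g = C_Y(L)`
  have h5 : Y ⊓ Y.map (MulAut.conj g).toMonoidHom = Y ⊓ Subgroup.center L := by
    obtain ⟨T, hT⟩ := (isPGroup_subgroupOf (isPGroup_of_elemAb hYel) L₀).exists_le_sylow
    have hYT : Y ≤ (T : Subgroup ↥L₀).map L₀.subtype := fun y hy =>
      ⟨⟨y, hYL₀ hy⟩, hT (mem_subgroupOf.mpr hy), rfl⟩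
    exact (Cfsg.Agent.S2835.result L₀ hL₀ T Y hYT hmin).2.2.2.2.2 hYc g hg
  have hOYg : Cfsg.pCore p L ≤ normalizer ((Y.map (MulAut.conj g).toMonoidHom : Subgroup L) : Set L) := by
    intro q hq
    rw [mem_normalizer_map_conj]
    apply hOY
    have := hQn.conj_mem q hq g⁻¹
    rwa [inv_inv] at this
  -- abbreviations
  obtain ⟨Y0, hY0⟩ : ∃ Y0, Y0 = Cfsg.pCore p L ⊓ Y := ⟨_, rfl⟩
  obtain ⟨Y1, hY1⟩ : ∃ Y1, Y1 = Cfsg.pCore p L ⊓ Y.map (MulAut.conj g).toMonoidHom := ⟨_, rfl⟩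
  have hY0Q : Y0 ≤ Cfsg.pCore p L := hY0 ▸ inf_le_left
  have hY1Q : Y1 ≤ Cfsg.pCore p L := hY1 ▸ inf_le_left
  have hY0Y : Y0 ≤ Y := hY0 ▸ inf_le_right
  have hY1Y : Y1 ≤ Y.map (MulAut.conj g).toMonoidHom := hY1 ▸ inf_le_right
  have hQY0 : Cfsg.pCore p L ≤ normalizer (Y0 : Set L) := by
    rw [hY0]; exact le_normalizer_inf le_normalizer hOY
  have hQY1 : Cfsg.pCore p L ≤ normalizer (Y1 : Set L) := by
    rw [hY1]; exact le_normalizer_inf le_normalizer hOYg
  -- `[Q, Y] ≤ Y0`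
  have hcQY : ∀ y ∈ Y, ∀ q ∈ Cfsg.pCore p L, y * q * y⁻¹ * q⁻¹ ∈ Y0 := by
    intro y hy q hq
    rw [hY0]
    refine mem_inf.mpr ⟨mul_mem (hQn.conj_mem q hq y) (inv_mem hq), ?_⟩
    have h1 : q * y⁻¹ * q⁻¹ ∈ Y := (mem_normalizer_iff.mp (hOY hq) _).mp (inv_mem hy)
    have h2 : y * q * y⁻¹ * q⁻¹ = y * (q * y⁻¹ * q⁻¹) := by group
    rw [h2]
    exact mul_mem hy h1
  have hcQY1 : ∀ y ∈ Y.map (MulAut.conj g).toMonoidHom, ∀ q ∈ Cfsg.pCore p L, y * q * y⁻¹ * q⁻¹ ∈ Y1 := by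
    intro y hy q hq
    rw [hY1]
    refine mem_inf.mpr ⟨mul_mem (hQn.conj_mem q hq y) (inv_mem hq), ?_⟩
    have h1 : q * y⁻¹ * q⁻¹ ∈ Y.map (MulAut.conj g).toMonoidHom :=
      (mem_normalizer_iff.mp (hOYg hq) _).mp (inv_mem hy)
    have h2 : y * q * y⁻¹ * q⁻¹ = y * (q * y⁻¹ * q⁻¹) := by group
    rw [h2]
    exact mul_mem hy h1
  -- `D = Y0 Y1` is normal
  have hDn : (Y0 ⊔ Y1).Normal := by
    rw [← normalizer_eq_top_iff, eq_top_iff, ← htop]
    apply sup_le
    · apply le_normalizer_of_conj_mem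
      intro y hy
      apply conj_mem_of_mem_sup
      · intro d hd
        have : y * d * y⁻¹ = d := by
          have := congrArg Subtype.val (hYc.is_comm.comm ⟨y, hy⟩ ⟨d, hY0Y hd⟩)
          change y * d = d * y at this
          rw [this]; group
        rw [this]; exact mem_sup_left hd
      · intro d hd
        have h1 := hcQY y hy d (hY1Q hd)
        have h2 : y * d * y⁻¹ = (y * d * y⁻¹ * d⁻¹) * d := by group
        rw [h2]
        exact mul_mem (mem_sup_left h1) (mem_sup_right hd)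
    · apply le_normalizer_of_conj_mem
      intro y hy
      apply conj_mem_of_mem_sup
      · intro d hd
        have h1 := hcQY1 y hy d (hY0Q hd)
        have h2 : y * d * y⁻¹ = (y * d * y⁻¹ * d⁻¹) * d := by group
        rw [h2]
        exact mul_mem (mem_sup_right h1) (mem_sup_left hd)
      · intro d hd
        have : y * d * y⁻¹ = d := by
          have := congrArg Subtype.val (hYgc.is_comm.comm ⟨y, hy⟩ ⟨d, hY1Y hd⟩)
          change y * d = d * y at this
          rw [this]; group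
        rw [this]; exact mem_sup_right hd
  have hAn : A.Normal := by rw [hA]; infer_instance
  have hY0A : Y0 ≤ A := by rw [hA, hY0]; exact le_normalClosure
  have hAD : A = Y0 ⊔ Y1 := by
    apply le_antisymm
    · rw [hA, ← hY0]
      exact normalClosure_le_normal (le_sup_left : Y0 ≤ Y0 ⊔ Y1)
    · apply sup_le hY0A
      intro b hb
      rw [hY1] at hb
      have h1 : g⁻¹ * b * g ∈ Y0 := by
        rw [hY0]
        refine ⟨?_, mem_map_conj_iff.mp hb.2⟩
        have := hQn.conj_mem b hb.1 g⁻¹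
        rwa [inv_inv] at this
      have h2 := hAn.conj_mem _ (hY0A h1) g
      have h3 : g * (g⁻¹ * b * g) * g⁻¹ = b := by group
      rwa [h3] at h2
  have hAQ : A ≤ Cfsg.pCore p L := by rw [hAD]; exact sup_le hY0Q hY1Q
  have hAY : A ⊓ Y = Y0 := by
    apply le_antisymm
    · rw [hY0]; exact inf_le_inf_right _ hAQ
    · exact le_inf hY0A hY0Y
  have hAY1 : A ⊓ Y.map (MulAut.conj g).toMonoidHom = Y1 := by
    apply le_antisymm
    · rw [hY1]; exact inf_le_inf_right _ hAQ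
    · exact le_inf (hAD ▸ le_sup_right) hY1Y
  -- `Z`
  have hZQ : Subgroup.center L ≤ Cfsg.pCore p L := (center_le_centralizer _).trans hchar
  have hZ0 : Y ⊓ Subgroup.center L ≤ Y0 := by
    rw [hY0]; exact le_inf (inf_le_right.trans hZQ) inf_le_left
  have hZ1 : Y ⊓ Subgroup.center L ≤ Y1 := by
    rw [hY1]; refine le_inf (inf_le_right.trans hZQ) ?_
    rw [← h5]; exact inf_le_right
  have h6 : Y0 ⊓ Y1 = Y ⊓ Subgroup.center L := by
    apply le_antisymm
    · rw [← h5]; exact inf_le_inf hY0Y hY1Y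
    · exact le_inf hZ0 hZ1
  have hC : ⁅Y0, Y1⁆ ≤ Y ⊓ Subgroup.center L := by
    rw [← h6, commutator_le]
    intro a ha b hb
    rw [commutatorElement_def]
    refine mem_inf.mpr ⟨?_, ?_⟩
    · have h1 : b * a⁻¹ * b⁻¹ ∈ Y0 := (mem_normalizer_iff.mp (hQY0 (hY1Q hb)) _).mp (inv_mem ha)
      have h2 : a * b * a⁻¹ * b⁻¹ = a * (b * a⁻¹ * b⁻¹) := by group
      rw [h2]; exact mul_mem ha h1
    · have h1 : a * b * a⁻¹ ∈ Y1 := (mem_normalizer_iff.mp (hQY1 (hY0Q ha)) _).mp hb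
      exact mul_mem h1 (inv_mem hb)
  have hCn : (⁅Y0, Y1⁆).Normal := by
    refine ⟨fun c hc x => ?_⟩
    have := (mem_center_iff.mp (hC hc).2 x)
    have e : x * c * x⁻¹ = c := by rw [this]; group
    rw [e]; exact hc
  have hAA : ⁅A, A⁆ ≤ ⁅Y0, Y1⁆ := by
    rw [hAD]
    apply sup_commutator_le
    · apply commutator_sup_le'
      · rw [commutator_eq_bot_of_comm hYc hY0Y hY0Y]; exact bot_le
      · exact le_rfl
    · apply commutator_sup_le'
      · rw [commutator_comm]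
      · rw [commutator_eq_bot_of_comm hYgc hY1Y hY1Y]; exact bot_le
  have hY1A : Y1 ≤ A := hAD ▸ le_sup_right
  have h2 : ⁅A, A⁆ = ⁅Y0, A⁆ :=
    le_antisymm (hAA.trans (commutator_mono le_rfl hY1A)) (commutator_mono hY0A le_rfl)
  have h3 : ⁅Y0, A⁆ = ⁅Y0, Y1⁆ :=
    le_antisymm ((commutator_mono hY0A le_rfl).trans hAA) (commutator_mono le_rfl hY1A)
  have hAp : IsPGroup p ↥A := (pCore_isPGroup p).to_le hAQ
  -- p-th powers
  have hpow : ∀ x ∈ A, x ^ p ∈ ⁅A, A⁆ := by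
    intro x hx
    rw [h2, h3]
    rw [hAD] at hx
    obtain ⟨a, ha, b, hb, rfl⟩ := exists_mul_of_mem_sup (hY0Q.trans hQY1) hx
    rw [← QuotientGroup.eq_one_iff]
    have hcomm : Commute ((a : L) : L ⧸ ⁅Y0, Y1⁆) ((b : L) : L ⧸ ⁅Y0, Y1⁆) := by
      have h1 : ⁅a, b⁆ ∈ ⁅Y0, Y1⁆ := commutator_mem_commutator ha hb
      rw [← QuotientGroup.eq_one_iff] at h1
      have h2 : ⁅((a : L) : L ⧸ ⁅Y0, Y1⁆), ((b : L) : L ⧸ ⁅Y0, Y1⁆)⁆ = 1 := by
        rw [← h1]; exact (map_commutatorElement (QuotientGroup.mk' ⁅Y0, Y1⁆) a b).symm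
      exact commutatorElement_eq_one_iff_mul_comm.mp h2
    rw [QuotientGroup.mk_pow, QuotientGroup.mk_mul, hcomm.mul_pow, ← QuotientGroup.mk_pow,
      ← QuotientGroup.mk_pow, hYel.2 a (hY0Y ha)]
    have hb' : b ^ p = 1 := by
      obtain ⟨b', hb', rfl⟩ := hY1Y hb
      rw [← map_pow, hYel.2 b' hb', map_one]
    rw [hb', QuotientGroup.mk_one, one_mul]
  have h1 : (frattini ↥A).map A.subtype = ⁅A, A⁆ := by
    rw [← map_subtype_commutator]
    congr 1
    apply le_antisymm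
    · apply Cfsg.Agent.S0093.frattini_le_of_elemAb (p := p)
      · intro a b
        exact commutator_mem_commutator (mem_top a) (mem_top b)
      · intro x
        have := hpow x x.2
        rw [← map_subtype_commutator] at this
        obtain ⟨y, hy, hyx⟩ := this
        have : y = x ^ p := Subtype.ext hyx
        rw [← this]; exact hy
    · exact (pgroup_frattini p hAp).1
  have h7 : A ⊓ Subgroup.center L = Y ⊓ Subgroup.center L := by
    apply le_antisymm
    · intro z hz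
      obtain ⟨hzA, hzc⟩ := mem_inf.mp hz
      refine mem_inf.mpr ⟨?_, hzc⟩
      rw [hAD] at hzA
      obtain ⟨a, ha, b, hb, rfl⟩ := exists_mul_of_mem_sup (hY0Q.trans hQY1) hzA
      have hbc : b ∈ Subgroup.center L := by
        rw [← centralizer_univ, ← coe_top, ← htop]
        have hle : Y ⊔ Y.map (MulAut.conj g).toMonoidHom ≤ centralizer ({b} : Set L) := by
          apply sup_le
          · intro y hy
            rw [mem_centralizer_singleton_iff]
            have e1 : y * a = a * y := congrArg Subtype.val (hYc.is_comm.comm ⟨y, hy⟩ ⟨a, hY0Y ha⟩)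
            have e2 : y * (a * b) = (a * b) * y := mem_center_iff.mp hzc y
            have e3 : a * (y * b) = a * (b * y) := by
              rw [← mul_assoc, ← e1, mul_assoc, e2, mul_assoc]
            exact mul_left_cancel e3
          · intro y hy
            rw [mem_centralizer_singleton_iff]
            exact congrArg Subtype.val (hYgc.is_comm.comm ⟨y, hy⟩ ⟨b, hY1Y hb⟩)
        rw [mem_centralizer_iff]
        intro y hy
        have := hle hy
        rw [mem_centralizer_singleton_iff] at this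
        exact this
      have hbY : b ∈ Y := by
        have h1 := mem_map_conj_iff.mp (hY1Y hb)
        have h2 : g⁻¹ * b * g = b := by
          rw [mul_assoc, ← mem_center_iff.mp hbc g, ← mul_assoc, inv_mul_cancel, one_mul]
        rwa [h2] at h1
      exact mul_mem (hY0Y ha) hbY
    · exact le_inf (hZ0.trans hY0A) inf_le_right
  rw [hAY, hAY1]
  exact ⟨h1, h2, h3, h3 ▸ hC, h5, h6, h7⟩

end Cfsg.Agent.S2837
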