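import Cfsg.Statements.S2838
import Mathlib
import Cfsg.Agent.Lib_helper7_WC
import Cfsg.Agent.Lib_helper2_BaerSuzuki

set_option autoImplicit false
open Cfsg

namespace Cfsg.Agent.S2838

open scoped commutatorElement

open Cfsg.Agent.H7 in
theorem lemB {H : Type*} [Group H] (Q : Subgroup H)
    (h2 : ∀ g : H, Q ≤ Subgroup.normalizer ((Q.map (MulAut.conj g).toMonoidHom : Subgroup H) : Set H) →
      Q.map (MulAut.conj g).toMonoidHom ≤ Subgroup.normalizer (Q : Set H) →
      Q.map (MulAut.conj g).toMonoidHom = Q) (a b : H)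
    (hab : Q.map (MulAut.conj a).toMonoidHom ≤
      Subgroup.normalizer ((Q.map (MulAut.conj b).toMonoidHom : Subgroup H) : Set H))
    (hba : Q.map (MulAut.conj b).toMonoidHom ≤
      Subgroup.normalizer ((Q.map (MulAut.conj a).toMonoidHom : Subgroup H) : Set H)) :
    Q.map (MulAut.conj b).toMonoidHom = Q.map (MulAut.conj a).toMonoidHom := by
  have e1 : (Q.map (MulAut.conj a).toMonoidHom).map (MulAut.conj a⁻¹).toMonoidHom = Q := by
    rw [map_conj_map_conj, inv_mul_cancel, map_conj_one]
  have e2 : (Q.map (MulAut.conj b).toMonoidHom).map (MulAut.conj a⁻¹).toMonoidHom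
      = Q.map (MulAut.conj (a⁻¹ * b)).toMonoidHom := map_conj_map_conj _ _ _
  have h3 : Q ≤ Subgroup.normalizer ((Q.map (MulAut.conj (a⁻¹ * b)).toMonoidHom : Subgroup H) : Set H) := by
    rw [← e2, normalizer_map_conj]
    conv_lhs => rw [← e1]
    exact Subgroup.map_mono hab
  have h4 : Q.map (MulAut.conj (a⁻¹ * b)).toMonoidHom ≤ Subgroup.normalizer (Q : Set H) := by
    have := Subgroup.map_mono (f := (MulAut.conj a⁻¹).toMonoidHom) hba
    rw [← normalizer_map_conj, e1, e2] at this
    exact this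
  have h5 := h2 _ h3 h4
  have h6 := congrArg (Subgroup.map (MulAut.conj a).toMonoidHom) h5
  rw [map_conj_map_conj, mul_inv_cancel_left] at h6
  exact h6

open Cfsg.Agent.H7 in
theorem lemA {H : Type*} [Group H] [Finite H] {p : ℕ} [Fact p.Prime] (Q : Subgroup H)
    (h2 : ∀ g : H, Q ≤ Subgroup.normalizer ((Q.map (MulAut.conj g).toMonoidHom : Subgroup H) : Set H) →
      Q.map (MulAut.conj g).toMonoidHom ≤ Subgroup.normalizer (Q : Set H) →
      Q.map (MulAut.conj g).toMonoidHom = Q) (T : Subgroup H) (hT : IsPGroup p T) (a : H)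
    (ha : Q.map (MulAut.conj a).toMonoidHom ≤ T) :
    T ≤ Subgroup.normalizer ((Q.map (MulAut.conj a).toMonoidHom : Subgroup H) : Set H) := by
  by_contra hcon
  set P := Q.map (MulAut.conj a).toMonoidHom with hP
  have hlt : Subgroup.normalizer (P : Set H) ⊓ T < T := by
    refine lt_of_le_of_ne inf_le_right ?_
    intro h
    exact hcon (h ▸ inf_le_left)
  obtain ⟨y, hyT, hyM, hyN⟩ := H2.exists_normalizer_of_lt hT hlt
  have hPM : P ≤ Subgroup.normalizer (P : Set H) ⊓ T := le_inf Subgroup.le_normalizer ha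
  have hMy : (Subgroup.normalizer (P : Set H) ⊓ T).map (MulAut.conj y).toMonoidHom
      = Subgroup.normalizer (P : Set H) ⊓ T := map_conj_eq_self_iff.2 hyN
  have h1 : P.map (MulAut.conj y).toMonoidHom ≤ Subgroup.normalizer (P : Set H) ⊓ T := by
    rw [← hMy]; exact Subgroup.map_mono hPM
  have h3 : Subgroup.normalizer (P : Set H) ⊓ T ≤
      Subgroup.normalizer ((P.map (MulAut.conj y).toMonoidHom : Subgroup H) : Set H) := by
    rw [normalizer_map_conj P y]
    conv_lhs => rw [← hMy]
    exact Subgroup.map_mono inf_le_left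
  have e : P.map (MulAut.conj y).toMonoidHom = Q.map (MulAut.conj (y * a)).toMonoidHom :=
    map_conj_map_conj _ _ _
  have h4 : Q.map (MulAut.conj (y * a)).toMonoidHom = Q.map (MulAut.conj a).toMonoidHom := by
    apply lemB Q h2
    · rw [← e]; exact hPM.trans h3
    · rw [← e]; exact h1.trans inf_le_left
  rw [← e] at h4
  exact hyM ⟨map_conj_eq_self_iff.1 h4, hyT⟩

/-- For a nontrivial p-subgroup Q of a finite group H the following are equivalent: Q is a weakly closed subgroup (it is the only H-conjugate of itself inside some Sylow p-subgroup containing it); Q = P for every conjugate P of Q with [Q, P] ≤ Q ∩ P; Q is normal in N_H(R) for every p-subgroup R of H containing Q. -/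
theorem result {H : Type*} [Group H] [Finite H] {p : ℕ} [Fact p.Prime] (Q : Subgroup H) (hQp : IsPGroup p ↥Q) (hQ1 : Q ≠ ⊥) : (Cfsg.IsWeaklyClosedSubgroup p Q ↔ ∀ g : H, ⁅Q, ((Q : Subgroup H).map (MulAut.conj (g : H)).toMonoidHom)⁆ ≤ Q ⊓ ((Q : Subgroup H).map (MulAut.conj (g : H)).toMonoidHom) → ((Q : Subgroup H).map (MulAut.conj (g : H)).toMonoidHom) = Q) ∧ (Cfsg.IsWeaklyClosedSubgroup p Q ↔ ∀ R : Subgroup H, IsPGroup p ↥R → Q ≤ R → Subgroup.normalizer ((R : Subgroup H) : Set H) ≤ Subgroup.normalizer ((Q : Subgroup H) : Set H)) := by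
  have hnorm_of_comm : ∀ A B : Subgroup H, ⁅A, B⁆ ≤ A → B ≤ Subgroup.normalizer (A : Set H) := by
    intro A B h
    apply H7.le_normalizer_of_forall_map_conj_le
    intro b hb
    rw [H7.map_conj_le_iff]
    intro x hx
    have h1 : ⁅x, b⁆ ∈ A := h (Subgroup.commutator_mem_commutator hx hb)
    have h2 : b * x * b⁻¹ = x * (x⁻¹ * ⁅x, b⁆⁻¹ * x) := by
      rw [commutatorElement_def]; group
    rw [h2]
    exact A.mul_mem hx (A.mul_mem (A.mul_mem (A.inv_mem hx) (A.inv_mem h1)) hx)
  obtain ⟨T, hQT⟩ := hQp.exists_le_sylow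
  constructor
  · constructor
    · intro hwc g hcomm
      have h1 : Q.map (MulAut.conj g).toMonoidHom ≤ Subgroup.normalizer (Q : Set H) :=
        hnorm_of_comm _ _ (hcomm.trans inf_le_left)
      have hR : IsPGroup p (Q ⊔ Q.map (MulAut.conj g).toMonoidHom : Subgroup H) :=
        hQp.to_sup_of_normal_left' (H7.isPGroup_map_conj hQp g) h1
      exact H7.wc_of_pgroup hwc hR le_sup_left le_sup_right
    · intro h2
      have h2' : ∀ g : H, Q ≤ Subgroup.normalizer ((Q.map (MulAut.conj g).toMonoidHom : Subgroup H) : Set H) →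
          Q.map (MulAut.conj g).toMonoidHom ≤ Subgroup.normalizer (Q : Set H) →
          Q.map (MulAut.conj g).toMonoidHom = Q := by
        intro g h3 h4
        apply h2
        refine le_inf (H1.commutator_le_of_le_normalizer h4) ?_
        rw [Subgroup.commutator_comm]
        exact H1.commutator_le_of_le_normalizer h3
      refine ⟨T, hQT, ?_⟩
      intro g hg
      have hA1 := lemA Q h2' (T : Subgroup H) T.2 1 (by rw [H7.map_conj_one]; exact hQT)
      rw [H7.map_conj_one] at hA1
      have hA2 := lemA Q h2' (T : Subgroup H) T.2 g hg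
      exact h2' g (hQT.trans hA2) (hg.trans hA1)
  · constructor
    · intro hwc R hR hQR n hn
      have h1 : Q.map (MulAut.conj n).toMonoidHom ≤ R := by
        rw [← H7.map_conj_eq_self_iff.2 hn]
        exact Subgroup.map_mono hQR
      exact H7.map_conj_eq_self_iff.1 (H7.wc_of_pgroup hwc hR hQR h1)
    · intro h3
      refine ⟨T, hQT, ?_⟩
      intro g hg
      have hT1 : (T : Subgroup H) ≤ Subgroup.normalizer (Q : Set H) :=
        Subgroup.le_normalizer.trans (h3 T T.2 hQT)
      have hQT' : Q ≤ (T : Subgroup H).map (MulAut.conj g⁻¹).toMonoidHom := by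
        have := Subgroup.map_mono (f := (MulAut.conj g⁻¹).toMonoidHom) hg
        rwa [H7.map_conj_map_conj, inv_mul_cancel, H7.map_conj_one] at this
      have hT2 : (T : Subgroup H).map (MulAut.conj g⁻¹).toMonoidHom ≤ Subgroup.normalizer (Q : Set H) :=
        Subgroup.le_normalizer.trans (h3 _ (H7.isPGroup_map_conj T.2 _) hQT')
      have hS1 : H7.IsSylowIn p (T : Subgroup H) (Subgroup.normalizer (Q : Set H)) :=
        H7.isSylowIn_of_sylow_le T hT1
      have hS2 : H7.IsSylowIn p ((T : Subgroup H).map (MulAut.conj g⁻¹).toMonoidHom)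
          (Subgroup.normalizer (Q : Set H)) := by
        have := (H7.Sylow_isSylowIn_top T).map_conj g⁻¹
        exact this.of_le hT2 (by
          intro x _
          rw [H7.mem_map_conj]; trivial)
      obtain ⟨n, hn, hnT⟩ := hS1.conj_eq hS2
      rw [H7.map_conj_map_conj] at hnT
      have h4 : n * g⁻¹ ∈ Subgroup.normalizer (Q : Set H) :=
        h3 T T.2 hQT (H7.map_conj_eq_self_iff.1 hnT)
      have h5 : g ∈ Subgroup.normalizer (Q : Set H) := by
        have := Subgroup.mul_mem _ (Subgroup.inv_mem _ h4) hn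
        simpa using this
      exact H7.map_conj_eq_self_iff.2 h5

end Cfsg.Agent.S2838
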