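import Cfsg.Statements.S2839
import Mathlib
import Cfsg.Agent.Lib_helper7_WC
import Cfsg.Agent.Lib_helper7_Residual
import Cfsg.Agent.Lib_lead_SylNum

set_option autoImplicit false
open Cfsg

namespace Cfsg.Agent.S2839

open Cfsg.Agent.H7 in
theorem subgroupOf_map_conj {H : Type*} [Group H] (Q K : Subgroup H) (g : K) :
    (Q.subgroupOf K).map (MulAut.conj g).toMonoidHom =
      (Q.map (MulAut.conj (g : H)).toMonoidHom).subgroupOf K := by
  ext x
  rw [mem_map_conj, Subgroup.mem_subgroupOf, Subgroup.mem_subgroupOf, mem_map_conj]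
  simp

open Cfsg.Agent.H7 in
theorem wc_le_normalizer {H : Type*} [Group H] [Finite H] {p : ℕ} [Fact p.Prime] {Q : Subgroup H}
    (hwc : Cfsg.IsWeaklyClosedSubgroup p Q) {R : Subgroup H} (hR : IsPGroup p R) (hQR : Q ≤ R) :
    R ≤ Subgroup.normalizer (Q : Set H) := by
  intro s hs
  apply map_conj_eq_self_iff.mp
  apply wc_of_pgroup hwc hR hQR
  rw [map_conj_le_iff]
  intro q hq
  exact R.mul_mem (R.mul_mem hs (hQR hq)) (R.inv_mem hs)

open Cfsg.Agent.H7 in
theorem sylow_inf_normal {H : Type*} [Group H] [Finite H] {p : ℕ} [Fact p.Prime] (T : Sylow p H)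
    (C : Subgroup H) [hC : C.Normal] : IsSylowIn p ((T : Subgroup H) ⊓ C) C := by
  refine ⟨inf_le_right, T.2.to_le inf_le_left, ?_⟩
  have hT : (T : Subgroup H) ≤ Subgroup.normalizer (C : Set H) := by
    rw [Subgroup.normalizer_eq_top]; exact le_top
  rw [Subgroup.inf_relIndex_right]
  have h1 := Cfsg.Agent.LeadSyl.relIndex_eq_of_sup C ((T : Subgroup H) ⊔ C) (T : Subgroup H)
    le_sup_right (sup_le hT Subgroup.le_normalizer) (by rw [inf_eq_left.mpr le_sup_left, sup_comm])
  rw [← h1]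
  exact fun h => T.not_dvd_index (h.trans (Subgroup.relIndex_dvd_index_of_le le_sup_left))

/-- Let Q be a nontrivial p-subgroup of the finite group H that is a weakly closed subgroup, K a subgroup containing Q and N a normal subgroup of H. Then Q is a weakly closed subgroup of K; every H-conjugate of Q contained in K is a K-conjugate of Q; N_K(Q) contains a Sylow p-subgroup of K; N = N_N(Q)·O^p(N); and QN/N is a weakly closed subgroup of H/N. -/
theorem result {H : Type*} [Group H] [Finite H] {p : ℕ} [Fact p.Prime] (Q : Subgroup H) (hQp : IsPGroup p ↥Q) (hQ1 : Q ≠ ⊥) (hwc : Cfsg.IsWeaklyClosedSubgroup p Q) (K : Subgroup H) (hQK : Q ≤ K) (N' : Subgroup H) [N'.Normal] : Cfsg.IsWeaklyClosedSubgroup p (Q.subgroupOf K) ∧ (∀ g : H, ((Q : Subgroup H).map (MulAut.conj (g : H)).toMonoidHom) ≤ K → ∃ k ∈ K, ((Q : Subgroup H).map (MulAut.conj (g : H)).toMonoidHom) = ((Q : Subgroup H).map (MulAut.conj (k : H)).toMonoidHom)) ∧ Cfsg.IsParabolic p ((Subgroup.normalizer ((Q : Subgroup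 H) : Set H)).subgroupOf K) ∧ (N' ⊓ Subgroup.normalizer ((Q : Subgroup H) : Set H)) ⊔ (Cfsg.pResidual p ↥N').map N'.subtype = N' ∧ Cfsg.IsWeaklyClosedSubgroup p (Q.map (QuotientGroup.mk' N')) := by
  classical
  obtain ⟨S, hQS, hS⟩ := Cfsg.Agent.H7.exists_isSylowIn_ge hQp hQK
  refine ⟨?_, ?_, ?_, ?_, ?_⟩
  · refine ⟨hS.toSylow, ?_, ?_⟩
    · rw [hS.coe_toSylow]; exact Subgroup.comap_mono hQS
    · intro g hg
      rw [hS.coe_toSylow, subgroupOf_map_conj] at hg
      rw [subgroupOf_map_conj]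
      have hle : Q.map (MulAut.conj (g : H)).toMonoidHom ≤ K := by
        rw [Cfsg.Agent.H7.map_conj_le_iff]
        intro q hq
        exact K.mul_mem (K.mul_mem g.2 (hQK hq)) (K.inv_mem g.2)
      have h1 : Q.map (MulAut.conj (g : H)).toMonoidHom ≤ S := by
        intro x hx
        have h2 : (⟨x, hle hx⟩ : K) ∈ (Q.map (MulAut.conj (g : H)).toMonoidHom).subgroupOf K := by
          rw [Subgroup.mem_subgroupOf]; exact hx
        have h3 := hg h2
        rw [Subgroup.mem_subgroupOf] at h3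
        exact h3
      rw [Cfsg.Agent.H7.wc_of_pgroup hwc hS.2.1 hQS h1]
  · intro g hg
    exact Cfsg.Agent.H7.wc_conj_in hQp hwc hQK hg
  · refine ⟨hS.toSylow, ?_⟩
    rw [hS.coe_toSylow]
    exact Subgroup.comap_mono (wc_le_normalizer hwc hS.2.1 hQS)
  · apply le_antisymm
    · apply sup_le inf_le_left
      exact Subgroup.map_subtype_le _
    · intro n hn
      obtain ⟨T, hQT, hT⟩ := id hwc
      have hTN := sylow_inf_normal T N'
      obtain ⟨s, hs, c, hc, rfl⟩ := hTN.exists_mul_pResidual hn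
      exact Subgroup.mul_mem _
        (Subgroup.mem_sup_left ⟨hs.2, wc_le_normalizer hwc T.2 hQT hs.1⟩)
        (Subgroup.mem_sup_right hc)
  · obtain ⟨T, hQT, hT⟩ := id hwc
    have hTb : ((T.mapSurjective (QuotientGroup.mk'_surjective N') : Sylow p (H ⧸ N')) :
        Subgroup (H ⧸ N')) = (T : Subgroup H).map (QuotientGroup.mk' N') := rfl
    refine ⟨T.mapSurjective (QuotientGroup.mk'_surjective N'), ?_, ?_⟩
    · rw [hTb]; exact Subgroup.map_mono hQT
    · intro gb hgb
      obtain ⟨g, rfl⟩ := QuotientGroup.mk'_surjective N' gb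
      rw [hTb] at hgb
      have hcomm : ∀ g : H, (Q.map (QuotientGroup.mk' N')).map
          (MulAut.conj (QuotientGroup.mk' N' g)).toMonoidHom =
          (Q.map (MulAut.conj g).toMonoidHom).map (QuotientGroup.mk' N') := by
        intro g
        rw [Subgroup.map_map, Subgroup.map_map]
        congr 1
      rw [hcomm] at hgb
      have h1 : Q.map (MulAut.conj g).toMonoidHom ≤ (T : Subgroup H) ⊔ N' := by
        have := Subgroup.comap_mono (f := QuotientGroup.mk' N') hgb
        rw [Subgroup.comap_map_eq, Subgroup.comap_map_eq, QuotientGroup.ker_mk'] at this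
        exact le_sup_left.trans this
      have hTS : Cfsg.Agent.H7.IsSylowIn p (T : Subgroup H) ((T : Subgroup H) ⊔ N') :=
        (Cfsg.Agent.H7.Sylow_isSylowIn_top T).of_le le_sup_left le_top
      obtain ⟨x, hx, hx'⟩ := hTS.exists_conj_le (Cfsg.Agent.H7.isPGroup_map_conj hQp g) h1
      rw [Cfsg.Agent.H7.map_conj_map_conj] at hx'
      have h2 := hT (x * g) hx'
      obtain ⟨t, ht, n, hn, rfl⟩ := Subgroup.mem_sup_of_normal_right.1 hx
      have h3 : Q.map (MulAut.conj t⁻¹).toMonoidHom = Q := hT t⁻¹ (by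
        rw [Cfsg.Agent.H7.map_conj_le_iff]
        intro q hq
        exact Subgroup.mul_mem _ (Subgroup.mul_mem _ (Subgroup.inv_mem _ ht) (hQT hq))
          (Subgroup.inv_mem _ (Subgroup.inv_mem _ ht)))
      have h4 : QuotientGroup.mk' N' g = QuotientGroup.mk' N' (t⁻¹ * (t * n * g)) := by
        have h5 : t⁻¹ * (t * n * g) = n * g := by group
        rw [h5, map_mul]
        have h6 : QuotientGroup.mk' N' n = 1 := (QuotientGroup.eq_one_iff n).mpr hn
        rw [h6, one_mul]
      rw [h4, hcomm, ← Cfsg.Agent.H7.map_conj_map_conj, h2, h3]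

end Cfsg.Agent.S2839
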