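import Cfsg.Statements.S2840
import Mathlib
import Cfsg.Agent.Lib_helper7_WC

set_option autoImplicit false
open Cfsg

namespace Cfsg.Agent.S2840

theorem claim {H : Type*} [Group H] [Finite H] {p : ℕ} [Fact p.Prime] (Q : Subgroup H)
    (hQp : IsPGroup p ↥Q) (hwc : Cfsg.IsWeaklyClosedSubgroup p Q) (K : Subgroup H)
    (L : Subgroup ↥K) (hL : L.IsSubnormal) : Q.subgroupOf K ≤ L → Q ≤ K →
    ∀ k ∈ K, Q.map (MulAut.conj k).toMonoidHom ≤ L.map K.subtype := by
  induction hL with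
  | top =>
    intro _ hQK k hk
    rw [← MonoidHom.range_eq_map, Subgroup.range_subtype, H7.map_conj_le_iff]
    intro x hx
    exact K.mul_mem (K.mul_mem hk (hQK hx)) (K.inv_mem hk)
  | step L M hLM hM hN ih =>
    intro hQL hQK k hk
    have h1 := ih (hQL.trans hLM) hQK k hk
    have hQM : Q ≤ M.map K.subtype := by
      have := ih (hQL.trans hLM) hQK 1 K.one_mem
      rwa [H7.map_conj_one] at this
    obtain ⟨m, hm, hkm⟩ := H7.wc_conj_in hQp hwc hQM h1
    rw [hkm, H7.map_conj_le_iff]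
    intro x hx
    obtain ⟨m', hm', rfl⟩ := hm
    have hx' : (⟨x, hQK hx⟩ : K) ∈ L := hQL (by rw [Subgroup.mem_subgroupOf]; exact hx)
    have := hN.conj_mem ⟨⟨x, hQK hx⟩, hLM hx'⟩ (by rw [Subgroup.mem_subgroupOf]; exact hx') ⟨m', hm'⟩
    rw [Subgroup.mem_subgroupOf] at this
    exact ⟨_, this, rfl⟩

/-- Let Q be a nontrivial p-subgroup of the finite group H that is a weakly closed subgroup and K a subgroup containing Q; let K° be the weak closure of Q in K (generated by the H-conjugates of Q inside K). Then K° is generated by the K-conjugates of Q, and K° is the subnormal closure of Q in K. -/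
theorem result {H : Type*} [Group H] [Finite H] {p : ℕ} [Fact p.Prime] (Q : Subgroup H) (hQp : IsPGroup p ↥Q) (hQ1 : Q ≠ ⊥) (hwc : Cfsg.IsWeaklyClosedSubgroup p Q) (K : Subgroup H) (hQK : Q ≤ K) (Kc : Subgroup H) (hKc : Kc = Cfsg.weakClosure Q K) : Kc = ⨆ k : ↥K, ((Q : Subgroup H).map (MulAut.conj ((k : H) : H)).toMonoidHom) ∧ Kc = (Cfsg.subnormalClosure (Q.subgroupOf K)).map K.subtype := by
  have hconjK : ∀ k ∈ K, Q.map (MulAut.conj k).toMonoidHom ≤ K := by
    intro k hk
    rw [H7.map_conj_le_iff]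
    intro x hx
    exact K.mul_mem (K.mul_mem hk (hQK hx)) (K.inv_mem hk)
  have h1 : Kc = ⨆ k : ↥K, ((Q : Subgroup H).map (MulAut.conj ((k : H) : H)).toMonoidHom) := by
    rw [hKc]
    apply le_antisymm
    · apply iSup_le
      intro g
      obtain ⟨k, hk, hgk⟩ := H7.wc_conj_in hQp hwc hQK g.2
      rw [hgk]
      exact le_iSup (fun k : ↥K => (Q : Subgroup H).map (MulAut.conj (k : H)).toMonoidHom) ⟨k, hk⟩
    · apply iSup_le
      intro k
      exact le_iSup (fun g : {g : H // Q.map (MulAut.conj g).toMonoidHom ≤ K} =>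
        Q.map (MulAut.conj (g : H)).toMonoidHom) ⟨k, hconjK k k.2⟩
  refine ⟨h1, ?_⟩
  have hKcK : Kc ≤ K := by
    rw [h1]
    exact iSup_le fun k => hconjK k k.2
  have hNnorm : ∀ k0 ∈ K, Kc.map (MulAut.conj k0).toMonoidHom ≤ Kc := by
    intro k0 hk0
    rw [h1, Subgroup.map_iSup]
    apply iSup_le
    intro k
    rw [H7.map_conj_map_conj]
    exact le_iSup (fun k : ↥K => (Q : Subgroup H).map (MulAut.conj (k : H)).toMonoidHom)
      ⟨k0 * k, K.mul_mem hk0 k.2⟩
  have hNK : (Kc.subgroupOf K).Normal := ⟨fun n hn k => by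
    rw [Subgroup.mem_subgroupOf] at hn ⊢
    exact hNnorm k k.2 (H7.conj_mem_map_conj _ hn)⟩
  have hQKc : Q ≤ Kc := by
    rw [h1]
    have := le_iSup (fun k : ↥K => (Q : Subgroup H).map (MulAut.conj (k : H)).toMonoidHom) 1
    have h3 : (Q : Subgroup H).map (MulAut.conj ((1 : ↥K) : H)).toMonoidHom = Q := H7.map_conj_one Q
    exact h3.symm.le.trans this
  apply le_antisymm
  · rw [h1]
    apply iSup_le
    intro k x hx
    refine ⟨⟨x, hconjK k k.2 hx⟩, ?_, rfl⟩
    show _ ∈ Cfsg.subnormalClosure (Q.subgroupOf K)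
    unfold Cfsg.subnormalClosure
    rw [Subgroup.mem_sInf]
    intro L hL
    obtain ⟨y, hy, hyx⟩ := claim Q hQp hwc K L hL.2 hL.1 hQK k k.2 hx
    have : y = ⟨x, hconjK k k.2 hx⟩ := Subtype.ext hyx
    rw [← this]; exact hy
  · have h2 : Cfsg.subnormalClosure (Q.subgroupOf K) ≤ Kc.subgroupOf K := by
      apply sInf_le
      refine ⟨?_, hNK.isSubnormal⟩
      intro x hx
      rw [Subgroup.mem_subgroupOf] at hx ⊢
      exact hQKc hx
    rintro _ ⟨y, hy, rfl⟩
    exact h2 hy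

end Cfsg.Agent.S2840
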