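import Cfsg.Statements.S2841
import Cfsg.Agent.Lib_helper7_WC

set_option autoImplicit false
open Cfsg

namespace Cfsg.Agent.S2841

open Subgroup
open scoped commutatorElement

/-- Let Q be a nontrivial p-subgroup of the finite group H that is a weakly closed subgroup and N a normal subgroup of H. Then N = N_N(Q)·[N, Q] and [N, Q] = (Q ∩ [N, Q])·[N, Q, Q]. -/
theorem result {H : Type*} [Group H] [Finite H] {p : ℕ} [Fact p.Prime] (Q : Subgroup H) (hQp : IsPGroup p ↥Q) (hQ1 : Q ≠ ⊥) (hwc : Cfsg.IsWeaklyClosedSubgroup p Q) (N' : Subgroup H) [N'.Normal] : (∀ n : H, n ∈ N' → ∃ a ∈ N' ⊓ Subgroup.normalizer ((Q : Subgroup H) : Set H), ∃ b ∈ ⁅N', Q⁆, n = a * b) ∧ (∀ c : H, c ∈ ⁅N', Q⁆ → ∃ a ∈ Q ⊓ ⁅N', Q⁆, ∃ b ∈ ⁅⁅N', Q⁆, Q⁆, c = a * b) := by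
  have hQN : Q ≤ normalizer (N' : Set H) := by rw [normalizer_eq_top]; exact le_top
  have part1 : ∀ n : H, n ∈ N' → ∃ a ∈ N' ⊓ Subgroup.normalizer ((Q : Subgroup H) : Set H),
      ∃ b ∈ ⁅N', Q⁆, n = a * b := fun n hn => Cfsg.Agent.H7.wc_frattini hQp hwc hQN hn
  refine ⟨part1, ?_⟩
  have hQM : Q ≤ normalizer ((⁅N', Q⁆ : Subgroup H) : Set H) :=
    Cfsg.Agent.H1.le_normalizer_commutator hQN
  have hQM1 : Q ≤ normalizer ((⁅⁅N', Q⁆, Q⁆ : Subgroup H) : Set H) :=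
    Cfsg.Agent.H1.le_normalizer_commutator hQM
  have hle : ⁅N', Q⁆ ≤ (Q ⊓ ⁅N', Q⁆) ⊔ ⁅⁅N', Q⁆, Q⁆ := by
    rw [commutator_le]
    intro n hn q hq
    obtain ⟨a, ⟨haN, haQ⟩, b, hb, rfl⟩ := part1 n hn
    rw [Cfsg.Agent.H7.commutatorElement_mul_left]
    have ha1 : a ∈ normalizer ((⁅⁅N', Q⁆, Q⁆ : Subgroup H) : Set H) :=
      Cfsg.Agent.H7.mem_normalizer_commutator (Cfsg.Agent.H7.self_le_normalizer_commutator N' Q haN) haQ
    apply mul_mem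
    · apply mem_sup_right
      exact (mem_normalizer_iff.mp ha1 _).mp (commutator_mem_commutator hb hq)
    · apply mem_sup_left
      refine mem_inf.mpr ⟨?_, commutator_mem_commutator haN hq⟩
      rw [commutatorElement_def]
      exact mul_mem ((mem_normalizer_iff.mp haQ q).mp hq) (inv_mem hq)
  intro c hc
  have h1 : c ∈ (((Q ⊓ ⁅N', Q⁆) ⊔ ⁅⁅N', Q⁆, Q⁆ : Subgroup H) : Set H) := hle hc
  rw [coe_mul_of_left_le_normalizer_right _ _ (inf_le_left.trans hQM1)] at h1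
  obtain ⟨a, ha, b, hb, rfl⟩ := h1
  exact ⟨a, ha, b, hb, rfl⟩

end Cfsg.Agent.S2841
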