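import Cfsg.Statements.S2843
import Cfsg.Agent.S2845

set_option autoImplicit false
open Cfsg

namespace Cfsg.Agent.S2843

open Subgroup Cfsg.Agent.H7
open scoped commutatorElement

/-- Let Q be a nontrivial large p-subgroup of the finite group H, Q ≤ L ≤ H, and Y a nontrivial p-subgroup of H normalized by L. Let L° be the weak closure of Q in L (generated by the conjugates of Q inside L). Then L° equals the weak closure of Q in L·C_H(Y), and [L°, C_H(Y)] ≤ O_p(L°); in particular C_H(Y) normalizes L°. -/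
theorem result {H : Type*} [Group H] [Finite H] {p : ℕ} [Fact p.Prime] (Q : Subgroup H) (hQp : IsPGroup p ↥Q) (hQ1 : Q ≠ ⊥) (hL : Cfsg.IsLarge Q) (L : Subgroup H) (hQL : Q ≤ L) (Y : Subgroup H) (hYp : IsPGroup p ↥Y) (hY1 : Y ≠ ⊥) (hLY : L ≤ Subgroup.normalizer ((Y : Subgroup H) : Set H)) : Cfsg.weakClosure Q L = Cfsg.weakClosure Q (L ⊔ Subgroup.centralizer ((Y : Subgroup H) : Set H)) ∧ ⁅Cfsg.weakClosure Q L, Subgroup.centralizer ((Y : Subgroup H) : Set H)⁆ ≤ (Cfsg.pCoreOf p (Cfsg.weakClosure Q L)) ∧ Subgroup.centralizer ((Y : Subgroup H) : Set H) ≤ Subgroup.normalizer (((Cfsg.weakClosure Q L) : Subgroup H) : Set H) := by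
  have hwc := Cfsg.Agent.S2845.large_wc hQp hQ1 hL
  set C := centralizer ((Y : Subgroup H) : Set H) with hC
  have hLC : L ≤ normalizer (C : Set H) :=
    hLY.trans (Cfsg.Agent.H5.normalizer_le_normalizer_centralizer Y)
  have hMY : L ⊔ C ≤ normalizer (Y : Set H) := sup_le hLY (centralizer_le_normalizer _)
  have key : ∀ Q' : Subgroup H, IsPGroup p Q' → Cfsg.IsLarge Q' → Q' ≤ normalizer (Y : Set H) →
      C ≤ normalizer (Q' : Set H) := by
    intro Q' hQ'p hQ'L hQ'Y
    have h1 := Cfsg.Agent.S2845.inf_centralizer_ne_bot hYp hQ'p hQ'Y hY1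
    have h2 := hQ'L.2 _ inf_le_right h1
    exact ((centralizer_le inf_le_left).trans (centralizer_le_normalizer _)).trans h2
  have keyg : ∀ g : H, Q.map (MulAut.conj g).toMonoidHom ≤ L ⊔ C →
      C ≤ normalizer ((Q.map (MulAut.conj g).toMonoidHom : Subgroup H) : Set H) := by
    intro g hg
    exact key _ (isPGroup_map_conj hQp g) (Cfsg.Agent.S2845.large_conj hL g) (hg.trans hMY)
  have hCQ : C ≤ normalizer (Q : Set H) := key Q hQp hL (hQL.trans hLY)
  have hc : C ≤ normalizer ((Cfsg.weakClosure Q L : Subgroup H) : Set H) := by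
    intro c hc
    rw [← map_conj_eq_self_iff]
    unfold Cfsg.weakClosure
    rw [Subgroup.map_iSup]
    apply iSup_congr
    rintro ⟨g, hg⟩
    exact map_conj_eq_self_iff.mpr (keyg g (hg.trans le_sup_left) hc)
  have hLoL : Cfsg.weakClosure Q L ≤ L := by
    apply iSup_le
    rintro ⟨g, hg⟩
    exact hg
  refine ⟨?_, ?_, hc⟩
  · apply le_antisymm
    · apply iSup_le
      rintro ⟨g, hg⟩
      exact le_iSup (fun g : {g : H // Q.map (MulAut.conj g).toMonoidHom ≤ L ⊔ C} =>
          Q.map (MulAut.conj (g : H)).toMonoidHom) ⟨g, hg.trans le_sup_left⟩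
    · apply iSup_le
      rintro ⟨g, hg⟩
      obtain ⟨k, hk, hke⟩ := wc_conj_in hQp hwc (hQL.trans le_sup_left) hg
      have hk' : k ∈ ((L ⊔ C : Subgroup H) : Set H) := hk
      rw [coe_mul_of_left_le_normalizer_right _ _ hLC] at hk'
      obtain ⟨l, hl, c, hc', rfl⟩ := hk'
      have hl : l ∈ L := hl
      have hc' : c ∈ C := hc'
      have h2 : Q.map (MulAut.conj (l * c)).toMonoidHom = Q.map (MulAut.conj l).toMonoidHom := by
        rw [← map_conj_map_conj, map_conj_eq_self_iff.mpr (hCQ hc')]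
      simp only [] at hke ⊢
      rw [hke, h2]
      have h3 : Q.map (MulAut.conj l).toMonoidHom ≤ L := by
        rw [map_conj_le_iff]
        intro q hq
        exact mul_mem (mul_mem hl (hQL hq)) (inv_mem hl)
      exact le_iSup (fun g : {g : H // Q.map (MulAut.conj g).toMonoidHom ≤ L} =>
          Q.map (MulAut.conj (g : H)).toMonoidHom) ⟨l, h3⟩
  · set N := Cfsg.Agent.H5.pCoreIn p C with hN
    have hLN : L ≤ normalizer (N : Set H) := by
      haveI := Cfsg.Agent.H1.pCore_characteristic (G := ↥C) p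
      exact hLC.trans (Cfsg.Agent.H1.normalizer_le_normalizer_map_of_characteristic _ (Cfsg.pCore p _))
    have h1 : ∀ x ∈ Cfsg.weakClosure Q L, x ∈ L ∧ ∀ c ∈ C, ⁅x, c⁆ ∈ N := by
      intro x hx
      unfold Cfsg.weakClosure at hx
      induction hx using Subgroup.iSup_induction' with
      | hp i x hx =>
        obtain ⟨g, hg⟩ := i
        refine ⟨hg hx, ?_⟩
        intro c hc'
        have h2 : ⁅Q.map (MulAut.conj g).toMonoidHom, C⁆ ≤ Q.map (MulAut.conj g).toMonoidHom ⊓ C := by
          apply le_inf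
          · exact Subgroup.le_normalizer_iff_commutator_le_left.1 (keyg g (hg.trans le_sup_left))
          · exact Subgroup.le_normalizer_iff_commutator_le_right.1 (hg.trans hLC)
        have h3 : Q.map (MulAut.conj g).toMonoidHom ⊓ C ≤ N :=
          Cfsg.Agent.H5.le_pCoreIn inf_le_right ((isPGroup_map_conj hQp g).to_le inf_le_left)
            (Cfsg.Agent.H5.inf_le_normalizer_of_le (keyg g (hg.trans le_sup_left)))
        exact h3 (h2 (commutator_mem_commutator hx hc'))
      | h1 =>
        refine ⟨one_mem _, ?_⟩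
        intro c _
        rw [commutatorElement_one_left]; exact one_mem _
      | hmul x y _ _ hx hy =>
        refine ⟨mul_mem hx.1 hy.1, ?_⟩
        intro c hc'
        rw [commutatorElement_mul_left]
        exact mul_mem ((mem_normalizer_iff.1 (hLN hx.1) _).1 (hy.2 c hc')) (hx.2 c hc')
    have h2 : ⁅Cfsg.weakClosure Q L, C⁆ ≤ N ⊓ Cfsg.weakClosure Q L := by
      apply le_inf
      · rw [commutator_le]
        intro x hx c hc'
        exact (h1 x hx).2 c hc'
      · exact Subgroup.le_normalizer_iff_commutator_le_left.1 hc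
    refine h2.trans ?_
    exact Cfsg.Agent.H5.le_pCoreIn inf_le_right ((Cfsg.Agent.H5.pCoreIn_isPGroup p C).to_le inf_le_left)
      (Cfsg.Agent.H5.inf_le_normalizer_of_le (hLoL.trans hLN))

end Cfsg.Agent.S2843
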