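import Cfsg.Statements.S2844
import Cfsg.Agent.Lib_helper5_Large

set_option autoImplicit false
open Cfsg

namespace Cfsg.Agent.S2844


/-- Let Q be a nontrivial large p-subgroup of the finite group H and Q• = O_p(N_H(Q)). Then for every g ∈ H outside N_H(Q): C_H(Q) ∩ C_H(gQg⁻¹) = 1, C_H(Q•) ∩ C_H(gQ•g⁻¹) = 1, Z(Q) ∩ Z(gQg⁻¹) = 1 and Z(Q•) ∩ Z(gQ•g⁻¹) = 1; moreover N_H(Q) = N_H(Q•) and Q• is large in H. -/
theorem result {H : Type*} [Group H] [Finite H] {p : ℕ} [Fact p.Prime] (Q : Subgroup H) (hQp : IsPGroup p ↥Q) (hQ1 : Q ≠ ⊥) (hL : Cfsg.IsLarge Q) (Qb : Subgroup H) (hQb : Qb = Cfsg.largeBullet p Q) : (∀ g : H, g ∉ Subgroup.normalizer ((Q : Subgroup H) : Set H) → Subgroup.centralizer ((Q : Subgroup H) : Set H) ⊓ Subgroup.centralizer ((((Q : Subgroup H).map (MulAut.conj (g : H)).toMonoidHom) : Subgroup H) : Set H) = ⊥ ∧ Subgroup.centralizer ((Qb : Subgroup H) : Set H) ⊓ Subgroup.centralizer ((((Qb : Subgroup H).map (MulAut.conj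 (g : H)).toMonoidHom) : Subgroup H) : Set H) = ⊥ ∧ (Q ⊓ Subgroup.centralizer ((Q : Subgroup H) : Set H)) ⊓ (((Q : Subgroup H).map (MulAut.conj (g : H)).toMonoidHom) ⊓ Subgroup.centralizer ((((Q : Subgroup H).map (MulAut.conj (g : H)).toMonoidHom) : Subgroup H) : Set H)) = ⊥ ∧ (Qb ⊓ Subgroup.centralizer ((Qb : Subgroup H) : Set H)) ⊓ (((Qb : Subgroup H).map (MulAut.conj (g : H)).toMonoidHom) ⊓ Subgroup.centralizer ((((Qb : Subgroup H).map (MulAut.conj (g : H)).toMonoidHom) : Subgroup H) : Set H)) = ⊥) ∧ Subgroup.normalizer ((Q : Subgroup H) : Set H) = Subgroup.normalizer ((Qb : Subgroup H) : Set H) ∧ Cfsg.IsLarge Qb := by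
  subst hQb
  have hb : Cfsg.largeBullet p Q = H5.pCoreIn p (Subgroup.normalizer (Q : Set H)) := rfl
  rw [hb]
  have hQQb : Q ≤ H5.pCoreIn p (Subgroup.normalizer (Q : Set H)) :=
    H5.le_pCoreIn Subgroup.le_normalizer hQp le_rfl
  have hQbp : IsPGroup p (H5.pCoreIn p (Subgroup.normalizer (Q : Set H))) := H5.pCoreIn_isPGroup p _
  have hN1 := H5.le_normalizer_pCoreIn p (Subgroup.normalizer (Q : Set H))
  generalize H5.pCoreIn p (Subgroup.normalizer (Q : Set H)) = Qb at hQQb hQbp hN1 ⊢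
  have hCC : Subgroup.centralizer (Qb : Set H) ≤ Subgroup.centralizer (Q : Set H) :=
    Subgroup.centralizer_le hQQb
  have hNN : Subgroup.normalizer (Q : Set H) = Subgroup.normalizer (Qb : Set H) :=
    le_antisymm hN1 (H5.large_le_normalizer hL hQ1 hQbp hQQb)
  refine ⟨fun g hg => ?_, hNN, ?_⟩
  · have h1 := H5.large_centralizer_inf hQp hL hQ1 hg
    have hCCg : Subgroup.centralizer ((Qb.map (MulAut.conj g).toMonoidHom : Subgroup H) : Set H) ≤
        Subgroup.centralizer ((Q.map (MulAut.conj g).toMonoidHom : Subgroup H) : Set H) :=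
      Subgroup.centralizer_le (Subgroup.map_mono hQQb)
    have h2 : Subgroup.centralizer (Qb : Set H) ⊓
        Subgroup.centralizer ((Qb.map (MulAut.conj g).toMonoidHom : Subgroup H) : Set H) = ⊥ := by
      rw [eq_bot_iff, ← h1]
      exact inf_le_inf hCC hCCg
    refine ⟨h1, h2, ?_, ?_⟩
    · rw [eq_bot_iff, ← h1]
      exact inf_le_inf inf_le_right inf_le_right
    · rw [eq_bot_iff, ← h2]
      exact inf_le_inf inf_le_right inf_le_right
  · refine ⟨hCC.trans (hL.1.trans hQQb), fun U hU hU1 => ?_⟩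
    rw [← hNN]
    exact hL.2 U (hU.trans hCC) hU1

end Cfsg.Agent.S2844
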