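import Cfsg.Statements.S2872
import Cfsg.Agent.Lib_helper7_TT2
import Cfsg.Agent.Lib_helper1_Frattini

set_option autoImplicit false
open Cfsg

namespace Cfsg.Agent.S2872

open Subgroup
open scoped commutatorElement

/-- Let S be a Sylow 2-subgroup of the finite group G. Then G has a proper normal subgroup of 2-power index (O²(G) ≠ G), or Ω₁(Z(S)) is contained in the Frattini subgroup of S, or N_G(S) acts nontrivially on Ω₁(Z(S)) by conjugation. -/
theorem result {G : Type*} [Group G] [Finite G] (S : Sylow 2 G) : Cfsg.pResidual 2 G ≠ ⊤ ∨ Cfsg.omegaOne 2 ((S : Subgroup G) ⊓ Subgroup.centralizer ((S : Subgroup G) : Set G)) ≤ (frattini ↥(S : Subgroup G)).map (S : Subgroup G).subtype ∨ ∃ g ∈ Subgroup.normalizer ((S : Subgroup G) : Set G), ∃ z ∈ Cfsg.omegaOne 2 ((S : Subgroup G) ⊓ Subgroup.centralizer ((S : Subgroup G) : Set G)), g * z * g⁻¹ ≠ z := by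
  by_contra hcon
  push Not at hcon
  obtain ⟨h1, h2, h3⟩ := hcon
  -- find z
  have hz : ∃ z : G, z ∈ (S : Subgroup G) ⊓ centralizer ((S : Subgroup G) : Set G) ∧ z ^ 2 = 1 ∧
      z ∉ (frattini ↥(S : Subgroup G)).map (S : Subgroup G).subtype := by
    by_contra hno
    push Not at hno
    apply h2
    rw [Cfsg.omegaOne, closure_le]
    rintro x ⟨hx1, hx2⟩
    exact hno x hx1 hx2
  obtain ⟨z, hzZ, hz2, hzΦ⟩ := hz
  have hzS : z ∈ (S : Subgroup G) := hzZ.1
  have hzC : z ∈ centralizer ((S : Subgroup G) : Set G) := hzZ.2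
  have hz1 : z ≠ 1 := by
    rintro rfl
    exact hzΦ (one_mem _)
  have hzo : orderOf z = 2 := orderOf_eq_prime hz2 hz1
  have hzΩ : z ∈ Cfsg.omegaOne 2 ((S : Subgroup G) ⊓ centralizer ((S : Subgroup G) : Set G)) :=
    subset_closure ⟨hzZ, hz2⟩
  have hnle : ¬ zpowers (⟨z, hzS⟩ : (S : Subgroup G)) ≤ frattini ↥(S : Subgroup G) := by
    intro h
    exact hzΦ ⟨⟨z, hzS⟩, h (mem_zpowers _), rfl⟩
  obtain ⟨M, hM, hzM⟩ := Cfsg.Agent.H1.exists_coatom_not_le hnle
  rw [zpowers_le] at hzM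
  obtain ⟨hMn, hMi⟩ := Cfsg.Agent.H1.coatom_of_pgroup S.2 hM
  set T := M.map (S : Subgroup G).subtype with hT
  have hTS : T ≤ (S : Subgroup G) := map_subtype_le _
  have hTM : T.subgroupOf (S : Subgroup G) = M := by
    rw [hT, subgroupOf, comap_map_eq_self_of_injective (S : Subgroup G).subtype_injective]
  have hTn : (T.subgroupOf (S : Subgroup G)).Normal := hTM ▸ hMn
  have hcard : Nat.card (↥(S : Subgroup G) ⧸ T.subgroupOf (S : Subgroup G)) = 2 := by
    rw [← index_eq_card, hTM, hMi]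
  have hcyc : IsCyclic (↥(S : Subgroup G) ⧸ T.subgroupOf (S : Subgroup G)) := isCyclic_of_prime_card hcard
  have hzT : z ∉ T := by
    rintro ⟨w, hw, hwz⟩
    apply hzM
    have : w = ⟨z, hzS⟩ := Subtype.ext hwz
    rwa [← this]
  obtain ⟨g, hg1, -, hg3⟩ := Cfsg.Agent.H7.thompson_transfer_extremal S T hTS hcyc z hzo hzS hzT (by
    rintro N hNn - ⟨k, hk⟩
    have hle : Cfsg.pResidual 2 G ≤ N := by
      rw [Cfsg.pResidual, closure_le]
      intro x hx
      have hx : Nat.Coprime (orderOf x) 2 := hx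
      change x ∈ N
      rw [← QuotientGroup.eq_one_iff, ← orderOf_eq_one_iff]
      have e1 : orderOf (QuotientGroup.mk x : G ⧸ N) ∣ orderOf x := orderOf_map_dvd (QuotientGroup.mk' N) x
      have e2 : orderOf (QuotientGroup.mk x : G ⧸ N) ∣ 2 ^ k := by
        rw [← hk, index_eq_card]
        exact _root_.orderOf_dvd_natCard _
      exact Nat.eq_one_of_dvd_coprimes (Nat.Coprime.pow_right k hx) e1 e2
    rw [h1] at hle
    exact hle (mem_top z))
  have hSC : (S : Subgroup G) ⊓ centralizer {z} = (S : Subgroup G) := by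
    apply inf_eq_left.mpr
    intro s hs
    rw [mem_centralizer_singleton_iff]
    exact (mem_centralizer_iff.mp hzC s hs)
  rw [hSC] at hg3
  have hgN : g ∈ normalizer ((S : Subgroup G) : Set G) := by
    rw [← Cfsg.Agent.H7.map_conj_eq_self_iff]
    apply eq_of_le_of_card_ge (hg3.trans inf_le_left)
    rw [Cfsg.Agent.H7.card_map_conj]
  rw [h3 g hgN z hzΩ] at hg1
  exact hzT hg1

end Cfsg.Agent.S2872
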