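import Cfsg.Statements.S2881
import Mathlib
import Cfsg.Agent.Lib_lead_XS5

set_option autoImplicit false
open Cfsg

namespace Cfsg.Agent.S2881

/-- Let E be an extraspecial 2-group of order 2^(2m+1) of plus type (containing an elementary abelian subgroup of order 2^(m+1)), and let ω be an automorphism of E of order 5 whose fixed points are exactly the centre of E. Then m is divisible by 4. -/
theorem result {E : Type*} [Group E] [Finite E] (m : ℕ) (hm : 1 ≤ m) (hE : Cfsg.IsExtraspecial 2 E) (hcard : Nat.card E = 2 ^ (2 * m + 1)) (hplus : ∃ A : Subgroup E, Cfsg.IsElementaryAbelian 2 A ∧ Nat.card A = 2 ^ (m + 1)) (ω : E ≃* E) (hω : orderOf ω = 5) (hfix : ∀ x : E, ω x = x ↔ x ∈ Subgroup.center E) : 4 ∣ m := by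
  classical
  have : Fact (Nat.Prime 2) := ⟨Nat.prime_two⟩
  have : Fact (Nat.Prime 5) := ⟨by norm_num⟩
  have := Fintype.ofFinite E
  have hX := Cfsg.Agent.LeadXS.XS.of_extraspecial hE
  obtain ⟨A, hA, hAc⟩ := hplus
  have h1 := hX.card_sq_eq_one_of_plus hcard A hA hAc
  have hω5 : ω ^ 5 = 1 := by rw [← hω]; exact pow_orderOf_eq_one ω
  have hiter : ∀ (k : ℕ) (x : E), (ω ^ k) x = (ω : E → E)^[k] x := by
    intro k x
    induction k generalizing x with
    | zero => rfl
    | succ k ih =>
      rw [pow_succ, MulAut.mul_apply, ih, Function.iterate_succ_apply]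
  -- action on E
  let f : Function.End E := fun x => ω x
  have hfpow : ∀ (k : ℕ) (x : E), (f ^ k) x = (ω ^ k) x := by
    intro k
    induction k with
    | zero => intro x; rfl
    | succ k ih =>
      intro x
      rw [pow_succ, pow_succ, MulAut.mul_apply, ← ih]
      rfl
  have hf : f ^ 5 ^ 1 = 1 := by
    funext x
    rw [pow_one, hfpow, hω5]
    rfl
  have m1 := Equiv.Perm.card_fixedPoints_modEq hf
  have hfix1 : Fintype.card (Function.fixedPoints f) = 2 := by
    rw [← Nat.card_eq_fintype_card, ← hX.card_center]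
    apply Nat.card_congr
    exact Equiv.subtypeEquivRight (fun x => hfix x)
  -- action on involutions
  let g : Function.End {x : E // x ^ 2 = 1} := fun x => ⟨ω x, by rw [← map_pow, x.2, map_one]⟩
  have hgpow : ∀ (k : ℕ) (x : {x : E // x ^ 2 = 1}), (((g ^ k) x : {x : E // x ^ 2 = 1}) : E) = (ω ^ k) x := by
    intro k
    induction k with
    | zero => intro x; rfl
    | succ k ih =>
      intro x
      rw [pow_succ, pow_succ, MulAut.mul_apply]
      exact ih (g x)
  have hg : g ^ 5 ^ 1 = 1 := by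
    funext x
    apply Subtype.ext
    rw [pow_one, hgpow, hω5]
    rfl
  have m2 := Equiv.Perm.card_fixedPoints_modEq hg
  have hfix2 : Fintype.card (Function.fixedPoints g) = 2 := by
    rw [← Nat.card_eq_fintype_card]
    refine Eq.trans ?_ hX.card_center
    apply Nat.card_congr
    exact
      { toFun := fun x => ⟨x.1.1, (hfix _).1 (congrArg Subtype.val x.2)⟩
        invFun := fun z => ⟨⟨z.1, hX.center_sq z.2⟩, Subtype.ext ((hfix _).2 z.2)⟩
        left_inv := fun x => rfl
        right_inv := fun z => rfl }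
  rw [hfix1, ← Nat.card_eq_fintype_card, hcard] at m1
  rw [hfix2, ← Nat.card_eq_fintype_card, h1] at m2
  obtain ⟨k, r, hr, rfl⟩ : ∃ k r, r < 4 ∧ m = 4 * k + r := ⟨m / 4, m % 4, Nat.mod_lt _ (by norm_num), by omega⟩
  have h16 : ∀ j : ℕ, 16 ^ j % 5 = 1 := by
    intro j
    rw [Nat.pow_mod]; simp
  have a1 : 2 ^ (4 * k + r) = 16 ^ k * 2 ^ r := by rw [pow_add, pow_mul]; norm_num
  have a2 : 2 ^ (2 * (4 * k + r)) = 16 ^ (2 * k) * 4 ^ r := by
    rw [show 2 * (4 * k + r) = 4 * (2 * k) + 2 * r by ring, pow_add, pow_mul, pow_mul 2 2 r]; norm_num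
  rw [a1, a2] at m2
  unfold Nat.ModEq at m2
  rw [Nat.add_mod, Nat.mul_mod, Nat.mul_mod (16 ^ k), h16, h16] at m2
  interval_cases r
  · omega
  · norm_num at m2
  · norm_num at m2
  · exfalso
    rw [show 2 * (4 * k + 3) + 1 = 4 * (2 * k + 1) + 3 by ring, pow_add, pow_mul] at m1
    unfold Nat.ModEq at m1
    norm_num at m1
    rw [Nat.mul_mod, h16] at m1
    norm_num at m1

end Cfsg.Agent.S2881
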