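import Cfsg.Statements.S2882
import Cfsg.Agent.Lib_H9_Fus3
import Cfsg.Agent.Lib_H9_FusD24

set_option autoImplicit false
open Cfsg

namespace Cfsg.Agent.S2882

/-- In the Mathieu group of degree 24 (realised as the automorphism group of the extended binary Golay code) every Sylow 2-subgroup is self-normalizing. -/
theorem result (S : Sylow 2 ↥Cfsg.M24) : Subgroup.normalizer ((S : Subgroup ↥Cfsg.M24) : Set ↥Cfsg.M24) = (S : Subgroup ↥Cfsg.M24) := by
  have h := (Cfsg.Agent.H9.fus_transfer Cfsg.Agent.H9.M24_eq_GS (fun S' => Cfsg.Agent.H9.Tab.main Cfsg.Agent.H9.D24.tab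
    Cfsg.Agent.H9.D24.colok Cfsg.Agent.H9.D24.len (by norm_num) Cfsg.Agent.H9.card_GS24 (by norm_num)
    Cfsg.Agent.H9.D24.cen Cfsg.Agent.H9.D24.crt S') S).2
  apply le_antisymm
  · intro n hn
    apply h
    intro x hx
    exact (Subgroup.mem_normalizer_iff.mp hn x).mp hx
  · exact Subgroup.le_normalizer

end Cfsg.Agent.S2882
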