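import Mathlib
import Cfsg.Statements.S2905
import Cfsg.Agent.Lib_helper1_PMin3

set_option autoImplicit false
open Cfsg

namespace Cfsg.Agent.S2905

open Subgroup Cfsg.Agent.H1

/-- Let P be a finite p-minimal group (a Sylow p-subgroup S is not normal and lies in a unique maximal subgroup M of P) and let F be the normal core of M. Then: every subnormal subgroup N of P contained in M satisfies N ∩ S ≤ O_p(P); if O^p(P) has a normal Sylow p-subgroup then the order of P has at most two prime divisors; every normal subgroup N of P either contains O^p(P) or is contained in F; and O^p(P)F ⧸ F is a minimal normal subgroup of P ⧸ F. -/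
theorem result {P : Type*} [Group P] [Finite P] {p : ℕ} [Fact p.Prime] (hP : Cfsg.IsPMinimal p P) (S : Sylow p P) (M : Subgroup P) (hM : IsCoatom M) (hSM : (S : Subgroup P) ≤ M) [hF : M.normalCore.Normal] : (∀ N : Subgroup P, N.IsSubnormal → N ≤ M → N ⊓ (S : Subgroup P) ≤ Cfsg.pCore p P) ∧ ((∀ T : Sylow p ↥(Cfsg.pResidual p P), (T : Subgroup ↥(Cfsg.pResidual p P)).Normal) → (Nat.card P).primeFactors.card ≤ 2) ∧ (∀ N : Subgroup P, N.Normal → Cfsg.pResidual p P ≤ N ∨ N ≤ M.normalCore) ∧ (∀ N : Subgroup P, N.Normal → M.normalCore ≤ N → N ≤ Cfsg.pResidual p P ⊔ M.normalCore → N = M.normalCore ∨ N = Cfsg.pResidual p P ⊔ M.normalCore) ∧ M.normalCore < Cfsg.pResidual p P ⊔ M.normalCore := by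
  have hmin := isMinimalOver_of_isPMinimal hP S
  have hRn : (Cfsg.pResidual p P).Normal := pResidual_normal p
  have hdich : ∀ N : Subgroup P, N.Normal → Cfsg.pResidual p P ≤ N ∨ N ≤ M.normalCore := by
    intro N hN
    rcases minOver_sylow_normal_dichotomy S hmin hM hSM hN with ⟨h, -⟩ | h
    · right; exact normal_le_normalCore.mpr h
    · left; exact pResidual_le_of_sup_eq_top S.2 h
  refine ⟨?_, ?_, hdich, ?_, ?_⟩
  · intro N hN hNM
    have h1 := minOver_subnormal_le_core hmin hM hSM hN hNM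
    have h2 := minOver_sylow_inf_normal S hmin hM hSM le_rfl (inferInstance : M.normalCore.Normal)
      (normalCore_le M)
    have h3 : (S : Subgroup P) ⊓ M.normalCore ≤ Cfsg.pCore p P := le_pCore p h2 (S.2.to_le inf_le_left)
    exact (le_inf inf_le_right (inf_le_left.trans h1)).trans h3
  · intro hcl
    have hcl' : Cfsg.IsPClosed p ↥(Cfsg.pResidual p P) := hcl
    have hUn : (Cfsg.pCore p P ⊓ Cfsg.pResidual p P).Normal := inferInstance
    have hUeq : (S : Subgroup P) ⊓ Cfsg.pResidual p P = Cfsg.pCore p P ⊓ Cfsg.pResidual p P :=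
      le_antisymm (fun x hx => ⟨mem_pCore_of_isPClosed_subnormal hRn.isSubnormal hcl' hx.2
        (exists_pow_eq_one_of_mem S.2 hx.1), hx.2⟩)
        (inf_le_inf_right _ ((pCore_isPGroup p).le_sylow_of_normal S))
    have hidx : ¬ p ∣ (Cfsg.pCore p P ⊓ Cfsg.pResidual p P).relIndex (Cfsg.pResidual p P) := by
      rw [← hUeq]; exact not_dvd_relIndex_sylow_inf S (by rw [normalizer_eq_top]; exact le_top)
    have hQR : ∀ (r : ℕ) [Fact r.Prime], r ≠ p → ∀ Q : Sylow r P, (Q : Subgroup P) ≤ Cfsg.pResidual p P := by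
      intro r _ hrp Q x hx
      apply mem_pResidual_of_coprime
      obtain ⟨k, hk⟩ := exists_pow_eq_one_of_mem Q.2 hx
      exact Nat.Coprime.coprime_dvd_left (orderOf_dvd_of_pow_eq_one hk)
        (Nat.Coprime.pow_left k ((Nat.coprime_primes Fact.out Fact.out).mpr hrp))
    have hex : ∃ (r : ℕ) (_ : Fact r.Prime) (Q : Sylow r P),
        (S : Subgroup P) ≤ normalizer (((Cfsg.pCore p P ⊓ Cfsg.pResidual p P) ⊔ (Q : Subgroup P) : Subgroup P) : Set P) ∧
        (S : Subgroup P) ⊔ ((Cfsg.pCore p P ⊓ Cfsg.pResidual p P) ⊔ (Q : Subgroup P)) = ⊤ := by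
      by_contra hno
      apply hM.1
      rw [← index_eq_one]
      by_contra h1
      obtain ⟨r, hr, hrd⟩ := Nat.exists_prime_and_dvd h1
      haveI : Fact r.Prime := ⟨hr⟩
      by_cases hrp : r = p
      · subst hrp
        exact S.not_dvd_index (hrd.trans (index_dvd_of_le hSM))
      · obtain ⟨Q, hQ⟩ := exists_sylow_normalized S hRn hUn inf_le_right hidx r (hQR r hrp)
        have h2 : (S : Subgroup P) ⊔ ((Cfsg.pCore p P ⊓ Cfsg.pResidual p P) ⊔ (Q : Subgroup P)) ≠ ⊤ :=
          fun h => hno ⟨r, ‹_›, Q, hQ, h⟩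
        have h3 := minOver_le_coatom hmin hM hSM le_sup_left h2
        exact Q.not_dvd_index (hrd.trans (index_dvd_of_le ((le_sup_right.trans le_sup_right).trans h3)))
    obtain ⟨r, hr, Q, hQ, htop⟩ := hex
    have hWn : ((Cfsg.pCore p P ⊓ Cfsg.pResidual p P) ⊔ (Q : Subgroup P)).Normal := by
      rw [← normalizer_eq_top_iff, eq_top_iff, ← htop]; exact sup_le hQ le_normalizer
    have hquot : IsPGroup p (P ⧸ ((Cfsg.pCore p P ⊓ Cfsg.pResidual p P) ⊔ (Q : Subgroup P))) :=
      isPGroup_quotient_of_sup_eq_top S.2 (by rw [sup_comm]; exact htop)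
    obtain ⟨a, ha⟩ := IsPGroup.iff_card.mp hquot
    obtain ⟨b, hb⟩ := IsPGroup.iff_card.mp
      ((pCore_isPGroup p).to_le inf_le_left : IsPGroup p ↥(Cfsg.pCore p P ⊓ Cfsg.pResidual p P))
    obtain ⟨c, hc⟩ := IsPGroup.iff_card.mp Q.2
    have hcard : Nat.card P ∣ p ^ a * (p ^ b * r ^ c) := by
      rw [← card_mul_index ((Cfsg.pCore p P ⊓ Cfsg.pResidual p P) ⊔ (Q : Subgroup P)), index_eq_card, ha,
        mul_comm]
      apply Nat.mul_dvd_mul_left
      rw [← hb, ← hc]
      exact card_sup_dvd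
    have hsub : (Nat.card P).primeFactors ⊆ {p, r} := by
      intro q hq
      have hqp := Nat.prime_of_mem_primeFactors hq
      have hqd := (Nat.dvd_of_mem_primeFactors hq).trans hcard
      simp only [Finset.mem_insert, Finset.mem_singleton]
      rcases (Nat.Prime.dvd_mul hqp).mp hqd with h | h
      · left; exact (Nat.prime_dvd_prime_iff_eq hqp Fact.out).mp (hqp.dvd_of_dvd_pow h)
      · rcases (Nat.Prime.dvd_mul hqp).mp h with h | h
        · left; exact (Nat.prime_dvd_prime_iff_eq hqp Fact.out).mp (hqp.dvd_of_dvd_pow h)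
        · right; exact (Nat.prime_dvd_prime_iff_eq hqp Fact.out).mp (hqp.dvd_of_dvd_pow h)
    exact (Finset.card_le_card hsub).trans Finset.card_le_two
  · intro N hN h1 h2
    rcases hdich N hN with h | h
    · right; exact le_antisymm h2 (sup_le h h1)
    · left; exact le_antisymm h h1
  · refine lt_of_le_of_ne le_sup_right ?_
    intro heq
    have h1 : Cfsg.pResidual p P ≤ M := (le_sup_left.trans heq.ge).trans (normalCore_le M)
    have h2 : (S : Subgroup P) ⊔ Cfsg.pResidual p P = ⊤ :=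
      sylow_sup_eq_top_of_isPGroup_quotient S _ (isPGroup_quotient_pResidual p)
    exact hM.1 (top_le_iff.mp (h2 ▸ sup_le hSM h1))

end Cfsg.Agent.S2905
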