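import Cfsg.Statements.S2911
import Cfsg.Agent.S2872
import Cfsg.Agent.Lib_helper7_Residual

set_option autoImplicit false
open Cfsg

namespace Cfsg.Agent.S2911

open Subgroup

abbrev M := Multiplicative (ZMod 2) × DihedralGroup 4

def z0 : M := (Multiplicative.ofAdd 1, 1)
def z1 : M := (1, DihedralGroup.r 2)

theorem sq_M : ∀ x : M, x * x = 1 ∨ x * x = z1 := by decide
theorem z1_sq : ((1, DihedralGroup.r 1) : M) * (1, DihedralGroup.r 1) = z1 := by decide
theorem z1_ne : z1 ≠ 1 := by decide
theorem z1_mul : z1 * z1 = 1 := by decide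
theorem center_M : ∀ c : M, (∀ x : M, x * c = c * x) → c = 1 ∨ c = z1 ∨ c = z0 ∨ c = z0 * z1 := by
  decide
theorem z0_central : ∀ x : M, x * z0 = z0 * x := by decide
theorem z0_sq : z0 * z0 = 1 := by decide

theorem aut_M (β : M ≃* M) (c : M) (hc : ∀ x : M, x * c = c * x) : β (β c) = c := by
  have h1 : β z1 = z1 := by
    have := sq_M (β (1, DihedralGroup.r 1))
    rw [← map_mul, z1_sq] at this
    rcases this with h | h
    · exfalso
      apply z1_ne
      apply β.injective
      rw [h, map_one]
    · exact h
  have hcen : ∀ c : M, (∀ x : M, x * c = c * x) → ∀ x : M, x * β c = β c * x := by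
    intro c hc x
    obtain ⟨x', rfl⟩ := β.surjective x
    rw [← map_mul, ← map_mul, hc]
  have h0 : β (β z0) = z0 := by
    rcases center_M _ (hcen z0 z0_central) with h | h | h | h
    · have : z0 = 1 := β.injective (by rw [h, map_one])
      rw [this, map_one, map_one]
    · have : z0 = z1 := β.injective (by rw [h, h1])
      rw [this, h1, h1]
    · rw [h, h]
    · rw [h, map_mul, h, h1, mul_assoc, z1_mul, mul_one]
  rcases center_M c hc with rfl | rfl | rfl | rfl
  · simp
  · rw [h1, h1]
  · exact h0
  · rw [map_mul, map_mul, h0, h1, h1]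

/-- A finite group whose Sylow 2-subgroups are isomorphic to the direct product of a group of order 2 and a dihedral group of order 8 has a subgroup of index two. -/
theorem result {G : Type*} [Group G] [Finite G] (S : Sylow 2 G) (hS : Nonempty (↥(S : Subgroup G) ≃* Multiplicative (ZMod 2) × DihedralGroup 4)) : ∃ H : Subgroup G, H.index = 2 := by
  obtain ⟨e⟩ := hS
  rcases Cfsg.Agent.S2872.result S with h | h | h
  · have hn := Cfsg.Agent.H7.pResidual_normal (G := G) 2
    have hp : IsPGroup 2 (G ⧸ Cfsg.pResidual 2 G) := Cfsg.Agent.H7.isPGroup_quotient_pResidual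
    obtain ⟨k, hk⟩ := hp.exists_card_eq
    have hk0 : k ≠ 0 := by
      rintro rfl
      rw [pow_zero, ← index_eq_card, index_eq_one] at hk
      exact h hk
    obtain ⟨k', rfl⟩ := Nat.exists_eq_succ_of_ne_zero hk0
    obtain ⟨K, hK⟩ := Sylow.exists_subgroup_card_pow_prime (G := G ⧸ Cfsg.pResidual 2 G) 2 (n := k')
      (by rw [hk]; exact pow_dvd_pow 2 (Nat.le_succ k'))
    refine ⟨K.comap (QuotientGroup.mk' _), ?_⟩
    rw [index_comap_of_surjective _ (QuotientGroup.mk'_surjective _)]
    have h1 := K.card_mul_index
    rw [hK, hk, pow_succ] at h1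
    exact Nat.eq_of_mul_eq_mul_left (pow_pos (by norm_num) k') h1
  · exfalso
    set z : ↥(S : Subgroup G) := e.symm z0 with hz
    have hzc : ∀ x : ↥(S : Subgroup G), x * z = z * x := by
      intro x
      apply e.injective
      rw [map_mul, map_mul, hz, e.apply_symm_apply]
      exact z0_central _
    have hzz : z * z = 1 := by
      apply e.injective
      rw [map_mul, hz, e.apply_symm_apply, map_one]
      exact z0_sq
    have hzΩ : (z : G) ∈ Cfsg.omegaOne 2 ((S : Subgroup G) ⊓ centralizer ((S : Subgroup G) : Set G)) := by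
      apply Subgroup.subset_closure
      refine ⟨mem_inf.mpr ⟨z.2, ?_⟩, ?_⟩
      · rw [mem_centralizer_iff]
        intro s hs
        exact congrArg Subtype.val (hzc ⟨s, hs⟩)
      · rw [pow_two]
        exact congrArg Subtype.val hzz
    obtain ⟨w, hw, hwz⟩ := h hzΩ
    have hwz' : w = z := Subtype.ext hwz
    rw [hwz'] at hw
    let π : ↥(S : Subgroup G) →* Multiplicative (ZMod 2) :=
      (MonoidHom.fst (Multiplicative (ZMod 2)) (DihedralGroup 4)).comp e.toMonoidHom
    have hπs : Function.Surjective π := by
      intro a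
      exact ⟨e.symm (a, 1), by simp [π]⟩
    have hidx : π.ker.index = 2 := by
      rw [index_ker, MonoidHom.range_eq_top.mpr hπs, card_top]
      simp
    have hco : IsCoatom π.ker := by
      refine ⟨?_, ?_⟩
      · intro htop
        rw [htop, index_top] at hidx
        norm_num at hidx
      · intro L hL
        have h1 := relIndex_mul_index hL.le
        rw [hidx] at h1
        have h2 : π.ker.relIndex L ≠ 1 := by
          intro h3
          exact hL.not_ge (relIndex_eq_one.mp h3)
        have h3 : π.ker.relIndex L ∣ 2 := Dvd.intro _ h1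
        rcases (Nat.dvd_prime Nat.prime_two).mp h3 with h4 | h4
        · exact absurd h4 h2
        · rw [h4] at h1
          have h5 : L.index = 1 := by omega
          exact index_eq_one.mp h5
    have h6 : z ∈ π.ker := frattini_le_coatom hco hw
    rw [MonoidHom.mem_ker] at h6
    have h7 : π z = Multiplicative.ofAdd 1 := by simp [π, hz, z0]
    rw [h7] at h6
    exact absurd h6 (by decide)
  · exfalso
    obtain ⟨g, hg, z, hz, hne⟩ := h
    apply hne
    have hΩ : Cfsg.omegaOne 2 ((S : Subgroup G) ⊓ centralizer ((S : Subgroup G) : Set G)) ≤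
        (S : Subgroup G) ⊓ centralizer ((S : Subgroup G) : Set G) := by
      rw [Cfsg.omegaOne, closure_le]
      rintro x ⟨hx, -⟩
      exact hx
    have hzZ := hΩ hz
    set Z := (S : Subgroup G) ⊓ centralizer ((S : Subgroup G) : Set G) with hZ
    have hsq : g * g ∈ centralizer (Z : Set G) := by
      rw [mem_centralizer_iff]
      intro c hc
      set α : MulAut ↥(S : Subgroup G) := (S : Subgroup G).normalizerMonoidHom ⟨g, hg⟩ with hα
      have hαa : ∀ x : ↥(S : Subgroup G), ((α x : ↥(S : Subgroup G)) : G) = g * x * g⁻¹ := fun x => rfl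
      let β : M ≃* M := e.symm.trans (α.trans e)
      have hβ : ∀ x : ↥(S : Subgroup G), β (e x) = e (α x) := by
        intro x
        simp [β]
      have hcc : ∀ x : M, x * e ⟨c, hc.1⟩ = e ⟨c, hc.1⟩ * x := by
        intro x
        obtain ⟨x', rfl⟩ := e.surjective x
        rw [← map_mul, ← map_mul]
        congr 1
        apply Subtype.ext
        exact mem_centralizer_iff.mp hc.2 x' x'.2
      have h1 := aut_M β _ hcc
      rw [hβ, hβ] at h1
      have h2 := congrArg Subtype.val (e.injective h1)
      rw [hαa, hαa] at h2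
      simp only at h2
      calc c * (g * g) = (g * (g * c * g⁻¹) * g⁻¹) * (g * g) := by rw [h2]
        _ = g * g * c := by group
    obtain ⟨a, m, hm, hgm⟩ := Nat.exists_eq_pow_mul_and_not_dvd (orderOf_pos g).ne' 2 (by norm_num)
    have hgmS : g ^ m ∈ (S : Subgroup G) := by
      have h1 : IsPGroup 2 (zpowers (g ^ m)) := by
        apply IsPGroup.of_card (n := a)
        rw [Nat.card_zpowers, orderOf_pow, hgm, Nat.gcd_eq_right (Dvd.intro_left _ rfl),
          Nat.mul_div_cancel _ (Nat.pos_of_ne_zero (fun h0 : m = 0 => hm (by rw [h0]; exact dvd_zero 2)))]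
      have h2 := h1.inf_normalizer_sylow S
      have h3 : zpowers (g ^ m) ≤ normalizer ((S : Subgroup G) : Set G) := zpowers_le.mpr (pow_mem hg m)
      have h4 : zpowers (g ^ m) ⊓ normalizer ((S : Subgroup G) : Set G) = zpowers (g ^ m) :=
        inf_eq_left.mpr h3
      have h5 : zpowers (g ^ m) ≤ (S : Subgroup G) := by
        rw [← h4]
        exact (le_of_eq h2).trans inf_le_right
      exact h5 (mem_zpowers _)
    have hgmC : g ^ m ∈ centralizer (Z : Set G) := by
      rw [mem_centralizer_iff]
      intro c hc
      exact (mem_centralizer_iff.mp hc.2 _ hgmS).symm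
    have hgC : g ∈ centralizer (Z : Set G) := by
      obtain ⟨j, hj⟩ : Odd m := Nat.not_even_iff_odd.mp (fun h => hm (even_iff_two_dvd.mp h))
      have h1 : g = ((g * g) ^ j)⁻¹ * g ^ m := by
        rw [hj, ← pow_two, ← pow_mul, pow_succ]
        group
      rw [h1]
      exact mul_mem (inv_mem (pow_mem hsq j)) hgmC
    have h8 := mem_centralizer_iff.mp hgC z hzZ
    rw [← h8]; group

end Cfsg.Agent.S2911
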