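import Cfsg.Statements.S2925
import Cfsg.Agent.Lib_helper5_Parab
import Cfsg.Agent.Lib_helper5_Comp2
import Cfsg.Agent.Lib_helper5_RkOne
import Cfsg.Agent.Lib_helper5_Sylow

set_option autoImplicit false
open Cfsg

namespace Cfsg.Agent.S2925

open Subgroup Cfsg.Agent.H5 Cfsg.Agent.H5.RkOne
open scoped commutatorElement

/-- Let K be a component of the finite group X and T a Sylow 2-subgroup of X. If some abelian normal subgroup Y of T does not normalize K, then K ⧸ Z(K) has abelian Sylow 2-subgroups. -/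
theorem result {X : Type*} [Group X] [Finite X] (K : Subgroup X) (hK : Cfsg.IsComponent K) (T : Sylow 2 X) (Y : Subgroup X) (hYT : Y ≤ (T : Subgroup X)) (hYn : (Y.subgroupOf (T : Subgroup X)).Normal) (hYab : IsMulCommutative ↥Y) (hnot : ¬ Y ≤ Subgroup.normalizer (K : Set X)) (P : Sylow 2 (↥K ⧸ Subgroup.center ↥K)) : IsMulCommutative ↥(P : Subgroup (↥K ⧸ Subgroup.center ↥K)) := by
  obtain ⟨a, haY, haK⟩ := SetLike.not_le_iff_exists.1 hnot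
  have hne : K ≠ conjBy K a := fun h => haK (conjBy_eq_self_iff.1 h.symm)
  have hcomm := components_commute hK (component_conj hK a) hne
  rw [commutator_comm, commutator_eq_bot_iff_le_centralizer] at hcomm
  have hcm : ∀ k ∈ K, ∀ k' ∈ conjBy K a, k * k' = k' * k :=
    fun k hk k' hk' => mem_centralizer_iff.1 (hcomm hk') k hk
  have hyt : ∀ t ∈ (T : Subgroup X), t⁻¹ * (a * t * a⁻¹) ∈ Y := by
    intro t ht
    have h1 : (⟨t, ht⟩ : ↥(T : Subgroup X))⁻¹ * ⟨a, hYT haY⟩ * (⟨t, ht⟩ : ↥(T : Subgroup X))⁻¹⁻¹ ∈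
        Y.subgroupOf (T : Subgroup X) := hYn.conj_mem _ (mem_subgroupOf.2 haY) _
    have h2 : t⁻¹ * a * t⁻¹⁻¹ ∈ Y := mem_subgroupOf.1 h1
    have e : t⁻¹ * (a * t * a⁻¹) = (t⁻¹ * a * t⁻¹⁻¹) * a⁻¹ := by group
    rw [e]
    exact Y.mul_mem h2 (Y.inv_mem haY)
  have hYc : ∀ y₁ ∈ Y, ∀ y₂ ∈ Y, y₁ * y₂ = y₂ * y₁ := by
    intro y₁ h₁ y₂ h₂
    have h3 : (⟨y₁, h₁⟩ : Y) * ⟨y₂, h₂⟩ = ⟨y₂, h₂⟩ * ⟨y₁, h₁⟩ := mul_comm' _ _
    exact congrArg Subtype.val h3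
  have core : ∀ t ∈ (T : Subgroup X) ⊓ K, ∀ u ∈ (T : Subgroup X) ⊓ K,
      t * u * t⁻¹ * u⁻¹ ∈ centralizer (K : Set X) := by
    rintro t ⟨htT, htK⟩ u ⟨huT, huK⟩
    have ht' : a * t * a⁻¹ ∈ conjBy K a := conj_mem_conjBy a htK
    have hu' : a * u * a⁻¹ ∈ conjBy K a := conj_mem_conjBy a huK
    set t' := a * t * a⁻¹ with ht'd
    set u' := a * u * a⁻¹ with hu'd
    have h1 := hYc _ (hyt t htT) _ (hyt u huT)
    have h2 : t⁻¹ * u⁻¹ * (t' * u') = u⁻¹ * t⁻¹ * (u' * t') := by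
      calc t⁻¹ * u⁻¹ * (t' * u') = t⁻¹ * (u⁻¹ * t') * u' := by group
        _ = t⁻¹ * (t' * u⁻¹) * u' := by rw [hcm u⁻¹ (K.inv_mem huK) t' ht']
        _ = (t⁻¹ * t') * (u⁻¹ * u') := by group
        _ = (u⁻¹ * u') * (t⁻¹ * t') := h1
        _ = u⁻¹ * (u' * t⁻¹) * t' := by group
        _ = u⁻¹ * (t⁻¹ * u') * t' := by rw [hcm t⁻¹ (K.inv_mem htK) u' hu']
        _ = u⁻¹ * t⁻¹ * (u' * t') := by group
    have h3 : t * u * t⁻¹ * u⁻¹ = u' * t' * u'⁻¹ * t'⁻¹ := by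
      calc t * u * t⁻¹ * u⁻¹ = t * u * (t⁻¹ * u⁻¹ * (t' * u')) * (u'⁻¹ * t'⁻¹) := by group
        _ = t * u * (u⁻¹ * t⁻¹ * (u' * t')) * (u'⁻¹ * t'⁻¹) := by rw [h2]
        _ = u' * t' * u'⁻¹ * t'⁻¹ := by group
    rw [h3]
    exact hcomm (mul_mem (mul_mem (mul_mem hu' ht') (inv_mem hu')) (inv_mem ht'))
  have hSyl := isSylowIn_inf_of_subnormal T K hK.1
  obtain ⟨P₁, rfl⟩ := Sylow.mapSurjective_surjective
    (QuotientGroup.mk'_surjective (Subgroup.center ↥K)) 2 P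
  obtain ⟨k, rfl⟩ := MulAction.exists_smul_eq ↥K hSyl.toSylow P₁
  refine ⟨⟨fun x y => ?_⟩⟩
  obtain ⟨x, hx⟩ := x
  obtain ⟨y, hy⟩ := y
  apply Subtype.ext
  show x * y = y * x
  rw [Sylow.coe_mapSurjective] at hx hy
  obtain ⟨s₁, hs₁, rfl⟩ := hx
  obtain ⟨s₂, hs₂, rfl⟩ := hy
  have hs₁' : k⁻¹ * s₁ * k ∈ hSyl.toSylow := (mem_smul_sylow_iff _ k s₁).1 hs₁
  have hs₂' : k⁻¹ * s₂ * k ∈ hSyl.toSylow := (mem_smul_sylow_iff _ k s₂).1 hs₂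
  have h₁ : ((k⁻¹ * s₁ * k : ↥K) : X) ∈ (T : Subgroup X) ⊓ K := mem_subgroupOf.1 hs₁'
  have h₂ : ((k⁻¹ * s₂ * k : ↥K) : X) ∈ (T : Subgroup X) ⊓ K := mem_subgroupOf.1 hs₂'
  have hc := core _ h₁ _ h₂
  have hcen : (k⁻¹ * s₁ * k) * (k⁻¹ * s₂ * k) * (k⁻¹ * s₁ * k)⁻¹ * (k⁻¹ * s₂ * k)⁻¹ ∈
      Subgroup.center ↥K := by
    rw [Subgroup.mem_center_iff]
    intro g
    apply Subtype.ext
    exact mem_centralizer_iff.1 hc g g.2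
  have hcen2 : s₁ * s₂ * s₁⁻¹ * s₂⁻¹ ∈ Subgroup.center ↥K := by
    have h5 := (inferInstance : (Subgroup.center ↥K).Normal).conj_mem _ hcen k
    have e : k * ((k⁻¹ * s₁ * k) * (k⁻¹ * s₂ * k) * (k⁻¹ * s₁ * k)⁻¹ * (k⁻¹ * s₂ * k)⁻¹) * k⁻¹ =
        s₁ * s₂ * s₁⁻¹ * s₂⁻¹ := by group
    rwa [e] at h5
  rw [← map_mul, ← map_mul]
  have h6 : QuotientGroup.mk' (Subgroup.center ↥K) (s₁ * s₂ * s₁⁻¹ * s₂⁻¹) = 1 :=
    (QuotientGroup.eq_one_iff _).2 hcen2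
  have e2 : s₁ * s₂ = (s₁ * s₂ * s₁⁻¹ * s₂⁻¹) * (s₂ * s₁) := by group
  rw [e2, map_mul, h6, one_mul]

end Cfsg.Agent.S2925
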