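import Cfsg.Statements.S2947
import Cfsg.Agent.Lib_helper8_FusDW

set_option autoImplicit false
open Cfsg

namespace Cfsg.Agent.S2947

/-- Let G be a finite group of characteristic 2 type in which every 2-local subgroup is solvable and the centralizer of Ω₁(Z(S)) lies in N_G(S) for every Sylow 2-subgroup S; suppose O₂(G) = 1, fix a Sylow 2-subgroup S and a 2-local subgroup M containing N_G(J(S)) (J the Thompson subgroup generated by the elementary abelian 2-subgroups of largest order). Then M is strongly embedded in G (a proper subgroup of even order whose intersection with each conjugate by an element outside M has odd order) if and only if no nontrivial 2-subgroup of M lies in a 2-local subgroup of G not contained in M. -/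
theorem result {G : Type*} [Group G] [Finite G] (hL : Cfsg.IsCharacteristicTwoType G) (hN : ∀ N : Subgroup G, Cfsg.IsTwoLocal N → Group.IsSolvable ↥N)
    (hZ : ∀ S : Sylow 2 G, Subgroup.centralizer (Cfsg.omegaCenterOf (S : Subgroup G) : Set G) ≤ Subgroup.normalizer ((S : Subgroup G) : Set G)) (hO : Cfsg.pCore 2 G = ⊥) (S : Sylow 2 G) (M : Subgroup G) (hM : Cfsg.IsTwoLocal M)
    (hMJ : Subgroup.normalizer (Cfsg.thompsonSubgroupOf 2 (S : Subgroup G) : Set G) ≤ M) :
    Cfsg.IsStronglyEmbedded M ↔ Cfsg.straddlingTwoSubgroups M = ∅ := by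
  classical
  obtain ⟨R₀, hR₀p, hR₀ne, hMR₀⟩ := hM
  have hdiv : ∀ Q : Subgroup G, IsPGroup 2 Q → Q ≠ ⊥ → 2 ∣ Nat.card Q := by
    intro Q hQ hne
    obtain ⟨n, hn⟩ := IsPGroup.iff_card.1 hQ
    have h1 : n ≠ 0 := by
      rintro rfl
      exact hne (Subgroup.card_eq_one.1 (by simpa using hn))
    rw [hn]; exact dvd_pow_self 2 h1
  have hR₀M : R₀ ≤ M := by rw [hMR₀]; exact Subgroup.le_normalizer
  constructor
  · rintro ⟨-, -, hse⟩
    have B1 : ∀ Q : Subgroup G, IsPGroup 2 Q → Q ≠ ⊥ → Q ≤ M →
        Subgroup.normalizer (Q : Set G) ≤ M := by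
      intro Q hQ hne hQM g hg
      by_contra hgM
      have hodd := hse g hgM
      have hle : Q ≤ M ⊓ M.map (MulAut.conj g).toMonoidHom := by
        intro q hq
        refine ⟨hQM hq, g⁻¹ * q * g, ?_, by simp [MulAut.conj_apply, mul_assoc]⟩
        have := (Subgroup.mem_normalizer_iff.1 (inv_mem hg) q).1 hq
        rw [inv_inv] at this
        exact hQM this
      have h2 : 2 ∣ Nat.card ↥(M ⊓ M.map (MulAut.conj g).toMonoidHom) :=
        dvd_trans (hdiv Q hQ hne) (Subgroup.card_dvd_of_le hle)
      exact (Nat.not_even_iff_odd.2 hodd) (even_iff_two_dvd.2 h2)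
    rw [Set.eq_empty_iff_forall_notMem]
    rintro T ⟨hTp, hTne, hTM, L, ⟨R, hRp, hRne, hLR⟩, hTL, hLM⟩
    apply hLM
    have hTR : T ≤ Subgroup.normalizer (R : Set G) := hLR ▸ hTL
    set X := T ⊔ R with hX
    have hXp : IsPGroup 2 X := hTp.to_sup_of_normal_right' hRp hTR
    have hXM : X ≤ M := by
      by_contra hcon
      have hnil : Group.IsNilpotent X := hXp.isNilpotent
      have hNC := normalizerCondition_of_isNilpotent (G := X)
      have hlt : M.subgroupOf X < ⊤ := by
        rw [lt_top_iff_ne_top]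
        intro h
        exact hcon (Subgroup.subgroupOf_eq_top.1 h)
      obtain ⟨x, hxN, hxM⟩ := SetLike.exists_of_lt (hNC _ hlt)
      apply hxM
      have hYp : IsPGroup 2 (X ⊓ M : Subgroup G) := hXp.to_le inf_le_left
      have hYne : (X ⊓ M : Subgroup G) ≠ ⊥ := by
        intro h
        apply hTne
        rw [eq_bot_iff, ← h]
        exact le_inf le_sup_left hTM
      have hxG : (x : G) ∈ Subgroup.normalizer ((X ⊓ M : Subgroup G) : Set G) := by
        apply H8.mem_normalizer_of_forall
        rintro z ⟨hzX, hzM⟩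
        have h1 := (Subgroup.mem_normalizer_iff.1 hxN ⟨z, hzX⟩).1 hzM
        exact ⟨X.mul_mem (X.mul_mem x.2 hzX) (X.inv_mem x.2), h1⟩
      exact B1 _ hYp hYne inf_le_right hxG
    have hRM : R ≤ M := le_trans le_sup_right hXM
    rw [hLR]
    exact B1 R hRp hRne hRM
  · intro hemp
    have NS : ∀ T : Subgroup G, IsPGroup 2 T → T ≠ ⊥ → T ≤ M → ∀ L : Subgroup G,
        Cfsg.IsTwoLocal L → T ≤ L → L ≤ M := by
      intro T h1 h2 h3 L h4 h5
      by_contra h6
      have : T ∈ Cfsg.straddlingTwoSubgroups M := ⟨h1, h2, h3, L, h4, h5, h6⟩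
      rw [hemp] at this
      exact this
    refine ⟨?_, ?_, ?_⟩
    · intro htop
      have hn : R₀.Normal := by
        rw [← Subgroup.normalizer_eq_top_iff, ← hMR₀, htop]
      have := H1.le_pCore 2 hn hR₀p
      rw [hO] at this
      exact hR₀ne (eq_bot_iff.2 this)
    · exact even_iff_two_dvd.2 (dvd_trans (hdiv R₀ hR₀p hR₀ne) (Subgroup.card_dvd_of_le hR₀M))
    · intro g hgM
      by_contra hodd
      have heven : 2 ∣ Nat.card ↥(M ⊓ M.map (MulAut.conj g).toMonoidHom) :=
        even_iff_two_dvd.1 (Nat.not_odd_iff_even.1 hodd)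
      obtain ⟨x, hx⟩ := exists_prime_orderOf_dvd_card' 2 heven
      have hxo : orderOf (x : G) = 2 := by rw [Subgroup.orderOf_coe]; exact hx
      set T := Subgroup.zpowers (x : G) with hT
      have hTp : IsPGroup 2 T := by
        apply IsPGroup.of_card (n := 1)
        rw [hT, Nat.card_zpowers, hxo, pow_one]
      have hTne : T ≠ ⊥ := by
        rw [hT, Subgroup.zpowers_ne_bot]
        intro h
        rw [h, orderOf_one] at hxo
        omega
      have hTM : T ≤ M := by
        rw [hT, Subgroup.zpowers_le]; exact x.2.1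
      have hTL : T ≤ M.map (MulAut.conj g).toMonoidHom := by
        rw [hT, Subgroup.zpowers_le]; exact x.2.2
      have hL2 : Cfsg.IsTwoLocal (M.map (MulAut.conj g).toMonoidHom) := by
        refine ⟨R₀.map (MulAut.conj g).toMonoidHom, hR₀p.map _, ?_, ?_⟩
        · intro h
          exact hR₀ne ((Subgroup.map_eq_bot_iff_of_injective _ (MulAut.conj g).injective).1 h)
        · rw [hMR₀]
          exact Subgroup.map_equiv_normalizer_eq R₀ (MulAut.conj g)
      have hLM := NS T hTp hTne hTM _ hL2 hTL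
      -- Sylow argument
      obtain ⟨S₀, hRS, hS₀M, hS₀⟩ := H8.exists_sylIn_ge hR₀M hR₀p
      have hS₀p : IsPGroup 2 S₀ := hS₀.isPGroup hS₀M
      have hS₀ne : S₀ ≠ ⊥ := by
        intro h
        apply hR₀ne
        rw [eq_bot_iff, ← h]; exact hRS
      have hNS₀ : Subgroup.normalizer (S₀ : Set G) ≤ M :=
        NS S₀ hS₀p hS₀ne hS₀M _ ⟨S₀, hS₀p, hS₀ne, rfl⟩ Subgroup.le_normalizer
      have hconj : S₀.map (MulAut.conj g).toMonoidHom ≤ M :=
        le_trans (Subgroup.map_mono hS₀M) hLM
      obtain ⟨γ, hγM, hγ⟩ := H8.sylow_conj hS₀ hconj (hS₀p.map _)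
      have hγg : γ * g ∈ Subgroup.normalizer (S₀ : Set G) := by
        apply H8.mem_normalizer_of_forall
        intro s hs
        have h1 := hγ (g * s * g⁻¹) ⟨s, hs, rfl⟩
        have e : γ * g * s * (γ * g)⁻¹ = γ * (g * s * g⁻¹) * γ⁻¹ := by group
        rw [e]; exact h1
      apply hgM
      have : g = γ⁻¹ * (γ * g) := by group
      rw [this]
      exact mul_mem (inv_mem hγM) (hNS₀ hγg)

end Cfsg.Agent.S2947
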