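import Cfsg.Statements.S2968
import Mathlib
import Cfsg.Agent.Lib_lead_Isolated

set_option autoImplicit false
open Cfsg

namespace Cfsg.Agent.S2968

/-- Let G be a finite group, p a prime, P a Sylow p-subgroup of G and x ∈ P an element of p-power order which is isolated in G (the only conjugate of x commuting with x is x itself). Then x lies in the centre of P, and the subgroup generated by x is both strongly closed and weakly closed in P with respect to G. -/
theorem result {G : Type*} [Group G] [Finite G] {p : ℕ} [Fact p.Prime] (P : Sylow p G) (x : G) (hxP : x ∈ (P : Subgroup G)) (hx : ∃ k : ℕ, orderOf x = p ^ k) (hiso : Cfsg.IsIsolated x) : x ∈ (P : Subgroup G) ⊓ Subgroup.centralizer ((P : Subgroup G) : Set G) ∧ Cfsg.IsStronglyClosed (Subgroup.zpowers x) (P : Subgroup G) ∧ Cfsg.IsWeaklyClosed (Subgroup.zpowers x) (P : Subgroup G) := by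
  have hc := Cfsg.Agent.LeadIso.central_of_mem hiso P P.2 hxP
  refine ⟨⟨hxP, ?_⟩, ⟨by simpa using hxP, ?_⟩, ⟨by simpa using hxP, ?_⟩⟩
  · show x ∈ Subgroup.centralizer ((P : Subgroup G) : Set G)
    rw [Subgroup.mem_centralizer_iff]
    intro r hr
    exact hc r hr
  · intro y hy g hg
    obtain ⟨k, rfl⟩ := Subgroup.mem_zpowers_iff.mp hy
    -- z = g x^k g⁻¹
    set z := g * x ^ k * g⁻¹ with hz
    have hz' : z = (g * x * g⁻¹) ^ k := by rw [hz, conj_zpow]
    have h1 : x ∈ Subgroup.centralizer ({z} : Set G) := by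
      rw [Subgroup.mem_centralizer_singleton_iff]
      exact (hc z hg).symm
    have h2 : g * x * g⁻¹ ∈ Subgroup.centralizer ({z} : Set G) := by
      rw [Subgroup.mem_centralizer_singleton_iff, hz']
      exact ((Commute.refl _).zpow_right k).eq
    obtain ⟨s, hs, hs'⟩ := Cfsg.Agent.LeadIso.exists_conj_in hx hiso _ h1 g h2
    rw [Subgroup.mem_centralizer_singleton_iff] at hs
    have h3 : z = s * z * s⁻¹ := by rw [hs]; group
    rw [h3, hz', ← conj_zpow, hs']
    exact Subgroup.zpow_mem_zpowers x k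
  · intro g hg
    have h1 : g * x * g⁻¹ ∈ (P : Subgroup G) := hg ⟨x, Subgroup.mem_zpowers x, rfl⟩
    have h2 := Cfsg.Agent.LeadIso.conj_eq_of_mem hiso P P.2 hxP g h1
    rw [MonoidHom.map_zpowers]
    show Subgroup.zpowers (g * x * g⁻¹) = _
    rw [h2]

end Cfsg.Agent.S2968
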