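import Cfsg.Statements.S2969
import Mathlib
import Cfsg.Agent.Lib_lead_Isolated

set_option autoImplicit false
open Cfsg

namespace Cfsg.Agent.S2969

/-- Let G be a finite group, p a prime and x ∈ G an element of p-power order which is isolated in G. If R is a p-subgroup of G containing x, then N_G(R) ≤ C_G(x); in particular x lies in the centre of R. Moreover, if x lies in a normal subgroup N of a subgroup H of G, then H = N·C_H(x). -/
theorem result {G : Type*} [Group G] [Finite G] {p : ℕ} [Fact p.Prime] (x : G) (hx : ∃ k : ℕ, orderOf x = p ^ k) (hiso : Cfsg.IsIsolated x) : (∀ R : Subgroup G, IsPGroup p ↥R → x ∈ R → Subgroup.normalizer (R : Set G) ≤ Subgroup.centralizer ({x} : Set G)) ∧ (∀ H N : Subgroup G, N ≤ H → H ≤ Subgroup.normalizer (N : Set G) → x ∈ N → N ⊔ (H ⊓ Subgroup.centralizer ({x} : Set G)) = H) := by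
  constructor
  · intro R hR hxR n hn
    rw [Subgroup.mem_centralizer_singleton_iff]
    have h1 : n * x * n⁻¹ ∈ R := (Subgroup.mem_normalizer_iff.mp hn x).mp hxR
    have h2 := Cfsg.Agent.LeadIso.conj_eq_of_mem hiso R hR hxR n h1
    calc n * x = n * x * n⁻¹ * n := by group
      _ = x * n := by rw [h2]
  · intro H N hNH hHN hxN
    apply le_antisymm (sup_le hNH inf_le_left)
    intro h hh
    have h1 : h * x * h⁻¹ ∈ N := (Subgroup.mem_normalizer_iff.mp (hHN hh) x).mp hxN
    obtain ⟨s, hs, hs'⟩ := Cfsg.Agent.LeadIso.exists_conj_in hx hiso N hxN h h1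
    have h2 : s * h ∈ H ⊓ Subgroup.centralizer ({x} : Set G) := by
      refine ⟨H.mul_mem (hNH hs) hh, ?_⟩
      show s * h ∈ Subgroup.centralizer ({x} : Set G)
      rw [Subgroup.mem_centralizer_singleton_iff]
      calc s * h * x = s * (h * x * h⁻¹) * s⁻¹ * (s * h) := by group
        _ = x * (s * h) := by rw [hs']
    have h3 : h = s⁻¹ * (s * h) := by group
    rw [h3]
    exact Subgroup.mul_mem_sup (N.inv_mem hs) h2

end Cfsg.Agent.S2969
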