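import Cfsg.Statements.S2970
import Mathlib
import Cfsg.Agent.Lib_lead_Isolated

set_option autoImplicit false
open Cfsg

namespace Cfsg.Agent.S2970

theorem mem_of_pow_mem_coprime {G : Type*} [Group G] (C : Subgroup G) (n : G) (a b : ℕ)
    (hab : Nat.Coprime a b) (ha : n ^ a ∈ C) (hb : n ^ b ∈ C) : n ∈ C := by
  have h := Nat.gcd_eq_gcd_ab a b
  rw [hab] at h
  have h1 : n = (n ^ a) ^ (Nat.gcdA a b) * (n ^ b) ^ (Nat.gcdB a b) := by
    rw [← zpow_natCast n a, ← zpow_natCast n b, ← zpow_mul, ← zpow_mul, ← zpow_add, ← h]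
    simp
  rw [h1]
  exact C.mul_mem (C.zpow_mem ha _) (C.zpow_mem hb _)

theorem conj_pow_iter {G : Type*} [Group G] (n a : G) (k : ℕ) (h : n * a * n⁻¹ = a ^ k) (i : ℕ) :
    n ^ i * a * (n ^ i)⁻¹ = a ^ (k ^ i) := by
  induction i with
  | zero => simp
  | succ i ih =>
    calc n ^ (i + 1) * a * (n ^ (i + 1))⁻¹ = n * (n ^ i * a * (n ^ i)⁻¹) * n⁻¹ := by
          rw [pow_succ']; group
      _ = n * a ^ (k ^ i) * n⁻¹ := by rw [ih]
      _ = (n * a * n⁻¹) ^ (k ^ i) := by rw [conj_pow]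
      _ = a ^ (k ^ (i + 1)) := by rw [h, ← pow_mul, pow_succ']

theorem norm_le_cent {G : Type*} [Group G] [Finite G] {p : ℕ} [Fact p.Prime] (x : G)
    (hiso : Cfsg.IsIsolated x) (hx1 : x ≠ 1) (P : Sylow p G) (hxP : x ∈ (P : Subgroup G))
    (hcyc : IsCyclic ↥(P : Subgroup G)) :
    Subgroup.normalizer ((P : Subgroup G) : Set G) ≤ Subgroup.centralizer ((P : Subgroup G) : Set G) := by
  have hp : p.Prime := Fact.out
  obtain ⟨a, ha⟩ := hcyc.exists_generator
  obtain ⟨m, hm⟩ : ∃ m, orderOf (a : G) = p ^ m := by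
    obtain ⟨m, hm⟩ := (IsPGroup.iff_orderOf.mp P.2) a
    exact ⟨m, by rw [Subgroup.orderOf_coe, hm]⟩
  have hgen : ∀ y ∈ (P : Subgroup G), ∃ j : ℕ, (a : G) ^ j = y := by
    intro y hy
    have h1 := ha ⟨y, hy⟩
    rw [← mem_powers_iff_mem_zpowers] at h1
    obtain ⟨j, hj⟩ := h1
    exact ⟨j, by simpa using congrArg Subtype.val hj⟩
  intro n hn
  have key : n ∈ Subgroup.centralizer ({(a : G)} : Set G) := by
    obtain ⟨k, hk⟩ := hgen (n * a * n⁻¹) ((Subgroup.mem_normalizer_iff.mp hn a).mp a.2)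
    obtain ⟨j, hj⟩ := hgen x hxP
    have hnx : n * x * n⁻¹ = x :=
      Cfsg.Agent.LeadIso.conj_eq_of_mem hiso P P.2 hxP n ((Subgroup.mem_normalizer_iff.mp hn x).mp hxP)
    have h1 : (a : G) ^ (k * j) = (a : G) ^ j := by
      rw [pow_mul, hk, conj_pow, hj, hnx]
    rw [pow_eq_pow_iff_modEq, hm] at h1
    have hj' : ¬ p ^ m ∣ j := by
      intro hd
      apply hx1
      rw [← hj, ← hm] at *
      exact orderOf_dvd_iff_pow_eq_one.mp hd
    have h2 : ((p ^ m : ℕ) : ℤ) ∣ ((k : ℤ) - 1) * j := by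
      have := (Nat.modEq_iff_dvd.mp h1.symm)
      push_cast at this ⊢
      convert this using 1
      ring
    have h3 : (p : ℤ) ∣ (k : ℤ) - 1 := by
      by_contra hnd
      have hcop : IsCoprime ((p ^ m : ℕ) : ℤ) ((k : ℤ) - 1) := by
        push_cast
        apply IsCoprime.pow_left
        exact (Prime.coprime_iff_not_dvd (Nat.prime_iff_prime_int.mp hp)).mpr hnd
      have := hcop.dvd_of_dvd_mul_left h2
      exact hj' (Int.natCast_dvd_natCast.mp this)
    have h4 := dvd_sub_pow_of_dvd_sub h3 m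
    have h5 : n ^ (p ^ m) ∈ Subgroup.centralizer ({(a : G)} : Set G) := by
      rw [Subgroup.mem_centralizer_singleton_iff]
      have h6 := conj_pow_iter n a k hk.symm (p ^ m)
      have h7 : (a : G) ^ (k ^ (p ^ m)) = a := by
        conv_rhs => rw [← pow_one (a : G)]
        rw [pow_eq_pow_iff_modEq, hm]
        apply Nat.ModEq.symm
        rw [Nat.modEq_iff_dvd]
        push_cast
        rw [one_pow] at h4
        exact dvd_trans (pow_dvd_pow _ (Nat.le_succ m)) h4
      rw [h7] at h6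
      calc n ^ (p ^ m) * a = n ^ (p ^ m) * a * (n ^ (p ^ m))⁻¹ * n ^ (p ^ m) := by group
        _ = a * n ^ (p ^ m) := by rw [h6]
    obtain ⟨s, t, ht, hst⟩ := Nat.exists_eq_pow_mul_and_not_dvd (orderOf_pos n).ne' p hp.ne_one
    have h8 : n ^ t ∈ (P : Subgroup G) := by
      have hpz : IsPGroup p (Subgroup.zpowers (n ^ t)) := by
        apply Cfsg.Agent.LeadIso.isPGroup_zpowers
        refine ⟨s, ?_⟩
        rw [orderOf_pow_of_dvd (by rintro rfl; simp at ht) (hst ▸ Dvd.intro_left _ rfl), hst]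
        exact Nat.mul_div_cancel _ (Nat.pos_of_ne_zero (by rintro rfl; simp at ht))
      have h9 := hpz.inf_normalizer_sylow P
      have h10 : n ^ t ∈ Subgroup.zpowers (n ^ t) ⊓ Subgroup.normalizer ((P : Subgroup G) : Set G) :=
        ⟨Subgroup.mem_zpowers _, Subgroup.pow_mem _ hn t⟩
      have h10' : n ^ t ∈ Subgroup.zpowers (n ^ t) ⊓ (P : Subgroup G) := h9 ▸ h10
      exact h10'.2
    have h11 : n ^ t ∈ Subgroup.centralizer ({(a : G)} : Set G) := by
      rw [Subgroup.mem_centralizer_singleton_iff]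
      obtain ⟨i, hi⟩ := hgen _ h8
      rw [← hi]
      exact ((Commute.refl (a : G)).pow_left i).eq
    exact mem_of_pow_mem_coprime _ n (p ^ m) t
      (Nat.Coprime.pow_left m ((Nat.Prime.coprime_iff_not_dvd hp).mpr ht)) h5 h11
  rw [Subgroup.mem_centralizer_singleton_iff] at key
  rw [Subgroup.mem_centralizer_iff]
  intro y hy
  obtain ⟨j, rfl⟩ := hgen y hy
  exact ((Commute.pow_right (show Commute n (a : G) from key) j).eq).symm


/-- Let G be a finite group, p a prime and x ∈ G an element of p-power order which is isolated in G. Then the image of x in any quotient G ⧸ N is isolated in G ⧸ N; and if x ≠ 1 and the Sylow p-subgroups of G are cyclic, then G has a normal p-complement. -/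
theorem result {G : Type*} [Group G] [Finite G] {p : ℕ} [Fact p.Prime] (x : G) (hx : ∃ k : ℕ, orderOf x = p ^ k) (hiso : Cfsg.IsIsolated x) : (∀ (N : Subgroup G) [N.Normal], Cfsg.IsIsolated (QuotientGroup.mk x : G ⧸ N)) ∧ (x ≠ 1 → (∀ P : Sylow p G, IsCyclic ↥(P : Subgroup G)) → Cfsg.HasNormalPComplement p G) := by
  constructor
  · intro N _ gbar hcomm
    obtain ⟨g, rfl⟩ := QuotientGroup.mk_surjective gbar
    set xb : G ⧸ N := QuotientGroup.mk x with hxb
    set yb : G ⧸ N := (QuotientGroup.mk g : G ⧸ N) * xb * (QuotientGroup.mk g : G ⧸ N)⁻¹ with hyb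
    let A : Subgroup (G ⧸ N) := Subgroup.closure {xb, yb}
    let H : Subgroup G := A.comap (QuotientGroup.mk' N)
    have hxH : x ∈ H := Subgroup.subset_closure (by simp [hxb])
    have hyH : g * x * g⁻¹ ∈ H := by
      show QuotientGroup.mk' N (g * x * g⁻¹) ∈ A
      apply Subgroup.subset_closure
      right
      simp [hyb, hxb]
    obtain ⟨s, hs, hs'⟩ := Cfsg.Agent.LeadIso.exists_conj_in hx hiso H hxH g hyH
    have hA : A ≤ Subgroup.centralizer ({yb} : Set (G ⧸ N)) := by
      rw [Subgroup.closure_le]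
      rintro z (rfl | rfl)
      · show xb ∈ Subgroup.centralizer ({yb} : Set (G ⧸ N))
        rw [Subgroup.mem_centralizer_singleton_iff]
        exact hcomm.eq
      · show yb ∈ Subgroup.centralizer ({yb} : Set (G ⧸ N))
        rw [Subgroup.mem_centralizer_singleton_iff]
    have h1 := hA hs
    rw [Subgroup.mem_centralizer_singleton_iff] at h1
    have h2 : (QuotientGroup.mk' N s) * yb * (QuotientGroup.mk' N s)⁻¹ = xb := by
      have := congrArg (QuotientGroup.mk' N) hs'
      simpa [hyb, hxb] using this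
    rw [← h2, h1]
    group
  · intro hx1 hcyc
    obtain ⟨P, hP⟩ := (Cfsg.Agent.LeadIso.isPGroup_zpowers hx).exists_le_sylow
    have hxP : x ∈ (P : Subgroup G) := hP (Subgroup.mem_zpowers x)
    have h := norm_le_cent x hiso hx1 P hxP (hcyc P)
    exact ⟨P, _, inferInstance, MonoidHom.ker_transferSylow_isComplement' P h⟩

end Cfsg.Agent.S2970
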