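import Cfsg.Statements.S2971
import Cfsg.Agent.Lib_helper7_CycIdx2
import Cfsg.Agent.Lib_helper7_Cores

set_option autoImplicit false
open Cfsg

namespace Cfsg.Agent.S2971

/-- Let G be a finite group and p an odd prime such that G has p-rank at most 1 (no elementary abelian subgroup of order p²). If x ∈ G is an isolated element of order p, then x is central modulo the largest normal subgroup of G of order prime to p. -/
theorem result {G : Type*} [Group G] [Finite G] {p : ℕ} [Fact p.Prime] (hp : p ≠ 2) (hrk : Cfsg.PRankLE p 1 G) (x : G) (hx : orderOf x = p) (hiso : Cfsg.IsIsolated x) : Cfsg.InZStar p x := by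
  classical
  have hpp : p.Prime := Fact.out
  have bez : ∀ (C : Subgroup G) (g : G) (u v : ℕ), Nat.Coprime u v → g ^ u ∈ C → g ^ v ∈ C → g ∈ C := by
    intro C g u v huv h1 h2
    have h3 := Nat.gcd_eq_gcd_ab u v
    rw [Nat.Coprime.gcd_eq_one huv] at h3
    have : g = (g ^ u) ^ (u.gcdA v) * (g ^ v) ^ (u.gcdB v) := by
      rw [← zpow_natCast, ← zpow_natCast, ← zpow_mul, ← zpow_mul, ← zpow_add, ← h3]; simp
    rw [this]; exact mul_mem (zpow_mem h1 _) (zpow_mem h2 _)
  have hxp : IsPGroup p (Subgroup.zpowers x) := by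
    apply IsPGroup.of_card (n := 1); rw [Nat.card_zpowers, hx, pow_one]
  obtain ⟨P, hxP⟩ := hxp.exists_le_sylow
  have hxP' : x ∈ (P : Subgroup G) := hxP (Subgroup.mem_zpowers x)
  have hPc : IsCyclic (P : Subgroup G) := by
    by_contra hnc
    have hnc' : ¬ IsCyclic (⊤ : Subgroup (P : Subgroup G)) := by
      intro h
      exact hnc (isCyclic_of_surjective Subgroup.topEquiv.toMonoidHom Subgroup.topEquiv.surjective)
    obtain ⟨A, -, -, hAe, hAc⟩ := Cfsg.Agent.H7.exists_normal_elemAb_sq hp P.2 ⊤ inferInstance hnc'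
    haveI := hAe.1
    have h1 := hrk (A.map (P : Subgroup G).subtype) (Subgroup.map_isMulCommutative A _) (by
      rintro _ ⟨e, he, rfl⟩
      have := hAe.2 e he
      simpa using congrArg Subtype.val this)
    rw [Subgroup.card_map_of_injective (P : Subgroup G).subtype_injective, hAc, pow_one, pow_two] at h1
    nlinarith [hpp.one_lt]
  obtain ⟨a, ha⟩ := Cfsg.Agent.H7.exists_zpowers_eq_of_isCyclic (P : Subgroup G) hPc
  have haP : a ∈ (P : Subgroup G) := ha ▸ Subgroup.mem_zpowers a
  have hPcomm : ∀ u ∈ (P : Subgroup G), ∀ v ∈ (P : Subgroup G), u * v = v * u := by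
    intro u hu v hv
    rw [← ha] at hu hv
    obtain ⟨i, rfl⟩ := hu
    obtain ⟨j, rfl⟩ := hv
    exact ((Commute.refl a).zpow_zpow i j).eq
  have hNC : Subgroup.normalizer ((P : Subgroup G) : Set G) ≤ Subgroup.centralizer ((P : Subgroup G) : Set G) := by
    intro g hg
    have hgx : g * x * g⁻¹ = x := by
      apply hiso
      have : g * x * g⁻¹ ∈ (P : Subgroup G) := (Subgroup.mem_normalizer_iff.1 hg x).1 hxP'
      exact hPcomm x hxP' _ this
    have hga : g * a * g⁻¹ ∈ Subgroup.zpowers a := by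
      rw [ha]; exact (Subgroup.mem_normalizer_iff.1 hg a).1 haP
    obtain ⟨r, hr⟩ : ∃ r : ℕ, a ^ r = g * a * g⁻¹ := (mem_powers_iff_mem_zpowers).2 hga
    obtain ⟨i, hi⟩ : ∃ i : ℕ, a ^ i = x := (mem_powers_iff_mem_zpowers).2 (ha ▸ hxP')
    have hxr : x ^ r = x := by
      rw [← hi, ← pow_mul, mul_comm, pow_mul, hr, conj_pow, hi, hgx]
    have hr1 : r ≡ 1 [MOD p] := by
      rw [← hx, ← pow_eq_pow_iff_modEq, pow_one]; exact hxr
    obtain ⟨m, hm⟩ := (IsPGroup.iff_orderOf.1 P.2) ⟨a, haP⟩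
    rw [Subgroup.orderOf_mk] at hm
    have h2 : r ^ p ^ m ≡ 1 [MOD p ^ m] := by
      have h3 : (p : ℤ) ∣ (r : ℤ) - 1 := by
        have := (Nat.modEq_iff_dvd.1 hr1.symm)
        simpa using this
      have h4 := dvd_sub_pow_of_dvd_sub h3 m
      apply Nat.ModEq.symm
      rw [Nat.modEq_iff_dvd]
      push_cast
      rw [one_pow] at h4
      exact (pow_dvd_pow (p : ℤ) (Nat.le_succ m)).trans h4
    have h3 : g ^ (p ^ m) ∈ Subgroup.centralizer {a} := by
      rw [Subgroup.mem_centralizer_singleton_iff]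
      have h4 := Cfsg.Agent.H7.conj_pow_pow' hr.symm (p ^ m)
      have h5 : a ^ (r ^ p ^ m) = a := by
        rw [← pow_one a, ← pow_mul, one_mul, pow_eq_pow_iff_modEq, hm]; exact h2
      rw [h5] at h4
      calc g ^ p ^ m * a = g ^ p ^ m * a * (g ^ p ^ m)⁻¹ * g ^ p ^ m := by group
        _ = a * g ^ p ^ m := by rw [h4]
    obtain ⟨e, k', hk', hgo⟩ := Nat.exists_eq_pow_mul_and_not_dvd (orderOf_pos g).ne' p hpp.one_lt.ne'
    have h4 : g ^ k' ∈ Subgroup.centralizer {a} := by
      have h5 : IsPGroup p (Subgroup.zpowers (g ^ k')) := by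
        have h6 : orderOf (g ^ k') ∣ p ^ e := by
          rw [orderOf_dvd_iff_pow_eq_one, ← pow_mul, mul_comm, ← hgo, pow_orderOf_eq_one]
        obtain ⟨j, -, hj⟩ := (Nat.dvd_prime_pow hpp).1 h6
        apply IsPGroup.of_card (n := j)
        rw [Nat.card_zpowers, hj]
      have h6 := h5.inf_normalizer_sylow P
      have h7 : g ^ k' ∈ Subgroup.zpowers (g ^ k') ⊓ Subgroup.normalizer ((P : Subgroup G) : Set G) :=
        ⟨Subgroup.mem_zpowers _, Subgroup.pow_mem _ hg _⟩
      have h8 := h6.le h7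
      rw [Subgroup.mem_centralizer_singleton_iff]
      exact hPcomm _ h8.2 _ haP
    have h5 : g ∈ Subgroup.centralizer {a} :=
      bez _ g (p ^ m) k' (Nat.Coprime.pow_left m ((Nat.Prime.coprime_iff_not_dvd hpp).2 hk')) h3 h4
    rw [Subgroup.mem_centralizer_singleton_iff] at h5
    rw [Subgroup.mem_centralizer_iff]
    intro y hy
    have hy' : y ∈ Subgroup.zpowers a := by rw [ha]; exact hy
    obtain ⟨j, rfl⟩ := hy'
    exact ((Commute.zpow_right (show Commute g a from h5) j).eq).symm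
  have hcop : (Nat.card (MonoidHom.transferSylow P hNC).ker).Coprime p :=
    ((Nat.Prime.coprime_iff_not_dvd hpp).2 (MonoidHom.not_dvd_card_ker_transferSylow P hNC)).symm
  intro g
  apply Cfsg.Agent.H7.le_pPrimeCore (inferInstance : (MonoidHom.transferSylow P hNC).ker.Normal) hcop
  rw [MonoidHom.mem_ker, map_mul, map_mul, map_mul, map_inv, map_inv]
  have hc : ∀ u v : (P : Subgroup G), u * v = v * u := fun u v => Subtype.ext (hPcomm u.1 u.2 v.1 v.2)
  rw [hc (MonoidHom.transferSylow P hNC g)]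
  group

end Cfsg.Agent.S2971
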