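import Cfsg.Statements.S2972
import Mathlib
import Cfsg.Agent.Lib_helper5_PComp3
import Cfsg.Agent.Lib_helper7_Alperin
import Cfsg.Agent.Lib_helper5_Comp4
import Cfsg.Agent.Lib_helper1_Hall
import Cfsg.Agent.Lib_helper3_Chain

set_option autoImplicit false
open Cfsg

namespace Cfsg.Agent.S2972

open Cfsg.Agent
open scoped commutatorElement

/-- an isolated element is central in every `p`-subgroup containing it -/
theorem iso_central {G : Type*} [Group G] [Finite G] {p : ℕ} [Fact p.Prime] {x : G}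
    (hiso : Cfsg.IsIsolated x) (P : Subgroup G) (hP : IsPGroup p P) (hxP : x ∈ P) :
    ∀ y ∈ P, y * x = x * y := by
  by_contra hcon
  push Not at hcon
  obtain ⟨y, hyP, hy⟩ := hcon
  have hlt : P ⊓ Subgroup.centralizer {x} < P := by
    refine lt_of_le_of_ne inf_le_left ?_
    intro h
    have : y ∈ P ⊓ Subgroup.centralizer {x} := by rw [h]; exact hyP
    have h2 := (Subgroup.mem_inf.1 this).2
    rw [Subgroup.mem_centralizer_singleton_iff] at h2
    exact hy h2
  have h1 := H7.lt_inf_normalizer hP hlt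
  obtain ⟨g, hg, hgn⟩ := SetLike.exists_of_lt h1
  obtain ⟨hgP, hgN⟩ := Subgroup.mem_inf.1 hg
  have hxC : x ∈ P ⊓ Subgroup.centralizer {x} :=
    Subgroup.mem_inf.2 ⟨hxP, by rw [Subgroup.mem_centralizer_singleton_iff]⟩
  have h2 : g * x * g⁻¹ ∈ P ⊓ Subgroup.centralizer {x} :=
    (Subgroup.mem_normalizer_iff.1 hgN x).1 hxC
  have h3 := (Subgroup.mem_inf.1 h2).2
  rw [Subgroup.mem_centralizer_singleton_iff] at h3
  have h4 := hiso g h3.symm
  apply hgn
  refine Subgroup.mem_inf.2 ⟨hgP, ?_⟩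
  rw [Subgroup.mem_centralizer_singleton_iff]
  calc g * x = g * x * g⁻¹ * g := by group
    _ = x * g := by rw [h4]

/-- no proper normal subgroup contains `x` -/
theorem false_of_normal {G : Type*} [Group G] [Finite G] {p : ℕ} [Fact p.Prime] (x : G)
    (hiso : Cfsg.IsIsolated x) (hnz : ¬ Cfsg.InZStar p x)
    (hmin : ∀ (H : Subgroup G) (hxH : x ∈ H), H ≠ ⊤ → Cfsg.InZStar p (⟨x, hxH⟩ : ↥H))
    (hO : Cfsg.pPrimeCore p G = ⊥) (C : Subgroup G) (hC : C.Normal) (hxC : x ∈ C) (hne : C ≠ ⊤) :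
    False := by
  have h1 := hmin C hxC hne
  have h2 : ∀ c ∈ C, c * x * c⁻¹ * x⁻¹ = 1 := by
    intro c hc
    have h3 := h1 ⟨c, hc⟩
    rw [H5.mem_pPrimeCore_subtype_iff p C hC.isSubnormal, hO, Subgroup.mem_bot] at h3
    simpa using h3
  apply hnz
  intro g
  have h3 : g * x * g⁻¹ ∈ C := hC.conj_mem x hxC g
  have h4 := h2 _ h3
  have h5 : Commute x (g * x * g⁻¹) := by
    have : (g * x * g⁻¹) * x = x * (g * x * g⁻¹) := by
      calc (g * x * g⁻¹) * x = ((g * x * g⁻¹) * x * (g * x * g⁻¹)⁻¹ * x⁻¹) * (x * (g * x * g⁻¹)) := by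
            group
        _ = x * (g * x * g⁻¹) := by rw [h4, one_mul]
    exact this.symm
  rw [hiso g h5]
  simp

theorem abelian_case {G : Type*} [Group G] [Finite G] {p : ℕ} [hp : Fact p.Prime] (x : G)
    (hx : orderOf x = p)
    (hiso : Cfsg.IsIsolated x) (hnz : ¬ Cfsg.InZStar p x)
    (hmin : ∀ (H : Subgroup G) (hxH : x ∈ H), H ≠ ⊤ → Cfsg.InZStar p (⟨x, hxH⟩ : ↥H))
    (hquot : ∀ (N : Subgroup G) [N.Normal], N ≠ ⊥ → Cfsg.InZStar p (QuotientGroup.mk x : G ⧸ N))
    (hO : Cfsg.pPrimeCore p G = ⊥) (N : Subgroup G) (hN : N.Normal) (hNne : N ≠ ⊥)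
    (hcomm : ∀ a ∈ N, ∀ b ∈ N, a * b = b * a) : False := by
  have hsn : ∀ A : Subgroup G, A.IsSubnormal → (Nat.card A).Coprime p → A = ⊥ := by
    intro A hA hc
    have := H5.subnormal_coprime_le_pPrimeCore p A hA hc
    rw [hO] at this
    exact le_bot_iff.1 this
  -- N is a p-group
  have hNp : IsPGroup p N := by
    rintro ⟨n, hn⟩
    obtain ⟨k, m, hm, hkm⟩ := Nat.exists_eq_pow_mul_and_not_dvd (orderOf_pos n).ne' p hp.out.ne_one
    refine ⟨k, ?_⟩
    have hA : (Subgroup.zpowers (n ^ p ^ k)).IsSubnormal := by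
      apply H5.subnormal_of_normal_in hN.isSubnormal
      · rw [Subgroup.zpowers_le]; exact N.pow_mem hn _
      · intro a ha
        rw [Subgroup.mem_normalizer_iff]
        intro h
        have key : ∀ h ∈ Subgroup.zpowers (n ^ p ^ k), a * h * a⁻¹ = h := by
          intro h hh
          have hhN : h ∈ N := by
            have : Subgroup.zpowers (n ^ p ^ k) ≤ N := by
              rw [Subgroup.zpowers_le]; exact N.pow_mem hn _
            exact this hh
          rw [hcomm a ha h hhN]; group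
        constructor
        · intro hh; rw [key h hh]; exact hh
        · intro hh
          have hhN : a * h * a⁻¹ ∈ N := by
            have : Subgroup.zpowers (n ^ p ^ k) ≤ N := by
              rw [Subgroup.zpowers_le]; exact N.pow_mem hn _
            exact this hh
          have hhN' : h ∈ N := by
            have := N.mul_mem (N.mul_mem (N.inv_mem ha) hhN) ha
            simpa [mul_assoc] using this
          have : a * h * a⁻¹ = h := by rw [hcomm a ha h hhN']; group
          rwa [this] at hh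
    have hc : (Nat.card (Subgroup.zpowers (n ^ p ^ k))).Coprime p := by
      rw [Nat.card_zpowers, orderOf_pow, hkm]
      have : Nat.gcd (p ^ k * m) (p ^ k) = p ^ k := Nat.gcd_eq_right (Dvd.intro _ rfl)
      rw [this, Nat.mul_div_cancel_left _ (pow_pos hp.out.pos k)]
      exact ((Nat.Prime.coprime_iff_not_dvd hp.out).2 hm).symm
    have h1 := hsn _ hA hc
    rw [Subgroup.zpowers_eq_bot] at h1
    exact Subtype.ext (by simpa using h1)
  have hxp : IsPGroup p (Subgroup.zpowers x) := by
    apply IsPGroup.of_card (n := 1)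
    rw [Nat.card_zpowers, hx, pow_one]
  have hNx : IsPGroup p (N ⊔ Subgroup.zpowers x : Subgroup G) :=
    IsPGroup.to_sup_of_normal_left hNp hxp
  have hcen := iso_central hiso _ hNx (le_sup_right (a := N) (Subgroup.mem_zpowers x))
  have hxc : x ∈ Subgroup.centralizer (N : Set G) := by
    rw [Subgroup.mem_centralizer_iff]
    intro n hn
    exact hcen n (le_sup_left (b := Subgroup.zpowers x) hn)
  have hctop : Subgroup.centralizer (N : Set G) = ⊤ := by
    by_contra hne
    exact false_of_normal x hiso hnz hmin hO _ inferInstance hxc hne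
  have hNZ : ∀ n ∈ N, ∀ g : G, n * g = g * n := by
    intro n hn g
    have : g ∈ Subgroup.centralizer (N : Set G) := by rw [hctop]; trivial
    exact (Subgroup.mem_centralizer_iff.1 this) n hn
  -- the quotient
  have hq := hquot N hNne
  obtain ⟨K, hK⟩ : ∃ K : Subgroup G, K = (Cfsg.pPrimeCore p (G ⧸ N)).comap (QuotientGroup.mk' N) :=
    ⟨_, rfl⟩
  have hKn : K.Normal := by
    rw [hK]
    have := H1.pPrimeCore_normal (G := G ⧸ N) p
    infer_instance
  have hNK : N ≤ K := by
    rw [hK]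
    intro n hn
    rw [Subgroup.mem_comap]
    have : QuotientGroup.mk' N n = 1 := by
      rw [QuotientGroup.mk'_apply, QuotientGroup.eq_one_iff]; exact hn
    rw [this]; exact Subgroup.one_mem _
  have hKcard : Nat.card K = Nat.card (Cfsg.pPrimeCore p (G ⧸ N)) * Nat.card N := by
    rw [hK]; exact H1.card_comap_mk N _
  have hcomK : ∀ g : G, g * x * g⁻¹ * x⁻¹ ∈ K := by
    intro g
    rw [hK, Subgroup.mem_comap]
    have := hq (QuotientGroup.mk g)
    simpa using this
  have hKx : K ⊔ Subgroup.zpowers x = ⊤ := by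
    by_contra hne
    have hle : Subgroup.normalClosure {x} ≤ K ⊔ Subgroup.zpowers x := by
      rw [Subgroup.normalClosure, Subgroup.closure_le]
      intro y hy
      rw [Group.mem_conjugatesOfSet_iff] at hy
      obtain ⟨a, ha, hay⟩ := hy
      rw [Set.mem_singleton_iff] at ha
      subst ha
      rw [isConj_iff] at hay
      obtain ⟨c, rfl⟩ := hay
      have h1 : c * a * c⁻¹ = (c * a * c⁻¹ * a⁻¹) * a := by group
      rw [SetLike.mem_coe, h1]
      exact Subgroup.mul_mem _ (le_sup_left (b := Subgroup.zpowers a) (hcomK c))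
        (le_sup_right (a := K) (Subgroup.mem_zpowers a))
    have hne' : Subgroup.normalClosure {x} ≠ ⊤ := by
      intro h
      rw [h] at hle
      exact hne (top_le_iff.1 hle)
    exact false_of_normal x hiso hnz hmin hO _ Subgroup.normalClosure_normal
      (Subgroup.subset_normalClosure (Set.mem_singleton x)) hne'
  -- Schur-Zassenhaus in K
  have hcardN' : Nat.card (N.subgroupOf K) = Nat.card N :=
    Nat.card_congr (Subgroup.subgroupOfEquivOfLe hNK).toEquiv
  have hidx : (N.subgroupOf K).index = Nat.card (Cfsg.pPrimeCore p (G ⧸ N)) := by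
    have h1 := Subgroup.card_mul_index (N.subgroupOf K)
    rw [hcardN', hKcard, mul_comm] at h1
    exact Nat.eq_of_mul_eq_mul_right Nat.card_pos h1
  have hcopi : ((N.subgroupOf K).index).Coprime p := by
    rw [hidx]; exact H1.card_pPrimeCore_coprime p
  have hcop : (Nat.card (N.subgroupOf K)).Coprime (N.subgroupOf K).index := by
    rw [hcardN']
    obtain ⟨k, hk⟩ := IsPGroup.iff_card.1 hNp
    rw [hk]
    exact (Nat.Coprime.pow_right k hcopi).symm
  obtain ⟨Q, hQ⟩ := Subgroup.exists_right_complement'_of_coprime hcop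
  have hQn : Q.Normal := by
    constructor
    intro q hq k
    obtain ⟨⟨⟨n, hn⟩, ⟨q0, hq0⟩⟩, hnq⟩ := hQ.2 k
    have hnq' : n * q0 = k := hnq
    have hnc : ∀ y : K, n * y = y * n := by
      intro y
      apply Subtype.ext
      exact hNZ n (Subgroup.mem_subgroupOf.1 hn) y
    have : k * q * k⁻¹ = q0 * q * q0⁻¹ := by
      rw [← hnq']
      calc n * q0 * q * (n * q0)⁻¹ = n * (q0 * q * q0⁻¹) * n⁻¹ := by group
        _ = (q0 * q * q0⁻¹) * n * n⁻¹ := by rw [hnc]
        _ = q0 * q * q0⁻¹ := by group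
    rw [this]
    exact Q.mul_mem (Q.mul_mem hq0 hq) (Q.inv_mem hq0)
  have hQc : (Nat.card Q).Coprime p := by
    have := hQ.symm.index_eq_card
    rw [← this]; exact hcopi
  have hQbot : Q.map K.subtype = ⊥ := by
    apply hsn
    · exact hQn.isSubnormal.trans' hKn.isSubnormal
    · rw [Nat.card_congr (Q.equivMapOfInjective K.subtype K.subtype_injective).symm.toEquiv]
      exact hQc
  have hQbot' : Q = ⊥ := by
    rw [Subgroup.map_eq_bot_iff_of_injective _ K.subtype_injective] at hQbot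
    exact hQbot
  have hKN : K ≤ N := by
    rw [hQbot'] at hQ
    have := hQ.sup_eq_top
    rw [sup_bot_eq, Subgroup.subgroupOf_eq_top] at this
    exact this
  have htop : N ⊔ Subgroup.zpowers x = ⊤ := by
    rw [← top_le_iff, ← hKx]
    exact sup_le_sup_right hKN _
  have hxZ : ∀ g : G, g * x = x * g := by
    intro g
    have hle : N ⊔ Subgroup.zpowers x ≤ Subgroup.centralizer {x} := by
      rw [sup_le_iff]
      constructor
      · intro n hn
        rw [Subgroup.mem_centralizer_singleton_iff]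
        exact hNZ n hn x
      · rw [Subgroup.zpowers_le, Subgroup.mem_centralizer_singleton_iff]
    have : g ∈ Subgroup.centralizer {x} := hle (by rw [htop]; trivial)
    rwa [Subgroup.mem_centralizer_singleton_iff] at this
  apply hnz
  intro g
  rw [hxZ g]
  simp

theorem le_normalizer_of_conj {G : Type*} [Group G] {N T : Subgroup G}
    (h : ∀ n ∈ N, ∀ t ∈ T, n * t * n⁻¹ ∈ T) : N ≤ Subgroup.normalizer (T : Set G) := by
  intro n hn
  rw [Subgroup.mem_normalizer_iff]
  intro a
  constructor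
  · exact h n hn a
  · intro h'
    have := h n⁻¹ (N.inv_mem hn) _ h'
    simpa [mul_assoc] using this

theorem conj_of_le_normalizer {G : Type*} [Group G] {N T : Subgroup G}
    (h : N ≤ Subgroup.normalizer (T : Set G)) : ∀ n ∈ N, ∀ t ∈ T, n * t * n⁻¹ ∈ T :=
  fun n hn t ht => (Subgroup.mem_normalizer_iff.1 (h hn) t).1 ht

theorem nonabelian_case {G : Type*} [Group G] [Finite G] {p : ℕ} [hp : Fact p.Prime] (x : G)
    (hx : orderOf x = p)
    (hiso : Cfsg.IsIsolated x) (hnz : ¬ Cfsg.InZStar p x)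
    (hmin : ∀ (H : Subgroup G) (hxH : x ∈ H), H ≠ ⊤ → Cfsg.InZStar p (⟨x, hxH⟩ : ↥H))
    (hO : Cfsg.pPrimeCore p G = ⊥) (N : Subgroup G) (hN : N.Normal) (hNne : N ≠ ⊥)
    (hNmin : ∀ M : Subgroup G, M.Normal → M ≤ N → M ≠ ⊥ → M = N)
    (hcomm : ¬ ∀ a ∈ N, ∀ b ∈ N, a * b = b * a) :
    N ⊔ Subgroup.zpowers x = ⊤ ∧
      ∀ M : Subgroup G, M ≤ N → N ≤ Subgroup.normalizer (M : Set G) → M ≠ ⊥ → M = N := by
  have hsn : ∀ A : Subgroup G, A.IsSubnormal → (Nat.card A).Coprime p → A = ⊥ := by
    intro A hA hc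
    have := H5.subnormal_coprime_le_pPrimeCore p A hA hc
    rw [hO] at this
    exact le_bot_iff.1 this
  have hxc : x ∉ Subgroup.centralizer (N : Set G) := by
    intro hxc
    have hne : Subgroup.centralizer (N : Set G) ≠ ⊤ := by
      intro h
      apply hcomm
      intro a ha b hb
      have : b ∈ Subgroup.centralizer (N : Set G) := by rw [h]; trivial
      exact (Subgroup.mem_centralizer_iff.1 this) a ha
    exact false_of_normal x hiso hnz hmin hO _ inferInstance hxc hne
  have htop : N ⊔ Subgroup.zpowers x = ⊤ := by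
    by_contra hne
    obtain ⟨H, hH⟩ : ∃ H : Subgroup G, H = N ⊔ Subgroup.zpowers x := ⟨_, rfl⟩
    rw [← hH] at hne
    have hNH : N ≤ H := hH ▸ le_sup_left
    have hxH : x ∈ H := hH ▸ (le_sup_right (a := N) (Subgroup.mem_zpowers x))
    have h1 := hmin H hxH hne
    obtain ⟨A, hA⟩ : ∃ A : Subgroup G, A = ((Cfsg.pPrimeCore p ↥H).map H.subtype) ⊓ N := ⟨_, rfl⟩
    have hAsn : A.IsSubnormal := by
      apply H5.subnormal_of_normal_in hN.isSubnormal (hA ▸ inf_le_right)
      intro n hn
      have hconj : ∀ n ∈ N, ∀ a ∈ A, n * a * n⁻¹ ∈ A := by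
        intro n hn a ha
        rw [hA] at ha ⊢
        obtain ⟨ha1, ha2⟩ := Subgroup.mem_inf.1 ha
        refine Subgroup.mem_inf.2 ⟨?_, hN.conj_mem a ha2 n⟩
        obtain ⟨b, hb, rfl⟩ := ha1
        refine ⟨⟨n, hNH hn⟩ * b * ⟨n, hNH hn⟩⁻¹, ?_, by simp⟩
        exact (H1.pPrimeCore_normal (G := ↥H) p).conj_mem b hb _
      rw [Subgroup.mem_normalizer_iff]
      intro a
      constructor
      · exact hconj n hn a
      · intro h
        have := hconj n⁻¹ (N.inv_mem hn) _ h
        simpa [mul_assoc] using this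
    have hAc : (Nat.card A).Coprime p := by
      have h2 : (Nat.card ((Cfsg.pPrimeCore p ↥H).map H.subtype)).Coprime p := by
        rw [Nat.card_congr ((Cfsg.pPrimeCore p ↥H).equivMapOfInjective H.subtype
          H.subtype_injective).symm.toEquiv]
        exact H1.card_pPrimeCore_coprime p
      exact h2.coprime_dvd_left (Subgroup.card_dvd_of_le (hA ▸ inf_le_left))
    have hAbot := hsn A hAsn hAc
    apply hxc
    rw [Subgroup.mem_centralizer_iff]
    intro n hn
    have h2 := h1 ⟨n, hNH hn⟩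
    have h3 : n * x * n⁻¹ * x⁻¹ ∈ A := by
      rw [hA]
      refine Subgroup.mem_inf.2 ⟨⟨_, h2, by simp⟩, ?_⟩
      have : n * x * n⁻¹ * x⁻¹ = n * (x * n⁻¹ * x⁻¹) := by group
      rw [this]
      exact N.mul_mem hn (hN.conj_mem _ (N.inv_mem hn) x)
    rw [hAbot, Subgroup.mem_bot] at h3
    calc n * x = (n * x * n⁻¹ * x⁻¹) * (x * n) := by group
      _ = x * n := by rw [h3, one_mul]
  refine ⟨htop, ?_⟩
  intro M hMN hMn hMne
  obtain ⟨T, hT, hTmin⟩ := (measure (fun T : Subgroup G => Nat.card T)).wf.has_min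
    {T : Subgroup G | T ≤ M ∧ N ≤ Subgroup.normalizer (T : Set G) ∧ T ≠ ⊥} ⟨M, le_rfl, hMn, hMne⟩
  obtain ⟨hTM, hTn, hTne⟩ := hT
  have hTc := conj_of_le_normalizer hTn
  have hxp : IsPGroup p (Subgroup.zpowers x) := by
    apply IsPGroup.of_card (n := 1)
    rw [Nat.card_zpowers, hx, pow_one]
  have hxT : ∀ t ∈ T, x * t * x⁻¹ ∈ T := by
    by_contra hcon
    push Not at hcon
    obtain ⟨t0, ht0, ht0'⟩ := hcon
    obtain ⟨T', hT'⟩ : ∃ T' : Subgroup G, T' = T.map (MulAut.conj x).toMonoidHom := ⟨_, rfl⟩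
    have hmemT' : ∀ t ∈ T, x * t * x⁻¹ ∈ T' := by
      intro t ht
      rw [hT']
      exact ⟨t, ht, by simp⟩
    have hD : T ⊓ T' = ⊥ := by
      by_contra hDne
      have hDS : (T ⊓ T') ∈ {T : Subgroup G | T ≤ M ∧ N ≤ Subgroup.normalizer (T : Set G) ∧ T ≠ ⊥} := by
        refine ⟨inf_le_left.trans hTM, ?_, hDne⟩
        apply le_normalizer_of_conj
        intro n hn d hd
        obtain ⟨hd1, hd2⟩ := Subgroup.mem_inf.1 hd
        refine Subgroup.mem_inf.2 ⟨hTc n hn d hd1, ?_⟩
        rw [hT'] at hd2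
        obtain ⟨t, ht, rfl⟩ := hd2
        have h1 : x⁻¹ * n * x ∈ N := by
          have := hN.conj_mem n hn x⁻¹
          simpa using this
        have h2 := hmemT' _ (hTc _ h1 t ht)
        have h3 : n * (MulAut.conj x).toMonoidHom t * n⁻¹
            = x * (x⁻¹ * n * x * t * (x⁻¹ * n * x)⁻¹) * x⁻¹ := by
          simp only [MulEquiv.coe_toMonoidHom, MulAut.conj_apply]
          group
        rw [h3]; exact h2
      have h1 := hTmin _ hDS
      have h2 : Nat.card T ≤ Nat.card (T ⊓ T' : Subgroup G) := by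
        by_contra h; exact h1 (not_le.1 h)
      have h3 : T ⊓ T' = T := Subgroup.eq_of_le_of_card_ge inf_le_left h2
      have h4 : T ≤ T' := by rw [← h3]; exact inf_le_right
      have h5 : Nat.card T' = Nat.card T := by
        rw [hT']
        exact Nat.card_congr (T.equivMapOfInjective _ (MulAut.conj x).injective).symm.toEquiv
      have h6 : T = T' := Subgroup.eq_of_le_of_card_ge h4 h5.le
      apply ht0'
      rw [h6]; exact hmemT' t0 ht0
    have hpT : p ∣ Nat.card T := by
      by_contra hnd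
      apply hTne
      apply hsn T (H5.subnormal_of_normal_in hN.isSubnormal (hTM.trans hMN) hTn)
      exact ((Nat.Prime.coprime_iff_not_dvd hp.out).2 hnd).symm
    obtain ⟨⟨t, htT⟩, ht⟩ := exists_prime_orderOf_dvd_card' (G := ↥T) p hpT
    have ht' : orderOf t = p := by
      rw [← ht]; exact (Subgroup.orderOf_mk t htT).symm
    have htp : IsPGroup p (Subgroup.zpowers t) := by
      apply IsPGroup.of_card (n := 1)
      rw [Nat.card_zpowers, ht', pow_one]
    obtain ⟨P, hP⟩ := hxp.exists_le_sylow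
    obtain ⟨P2, hP2⟩ := htp.exists_le_sylow
    obtain ⟨g, hg⟩ := MulAction.exists_smul_eq G P2 P
    have hs : g * t * g⁻¹ ∈ (P : Subgroup G) := by
      rw [← hg, H3.mem_smul_sylow]
      have : g⁻¹ * (g * t * g⁻¹) * g = t := by group
      rw [this]; exact hP2 (Subgroup.mem_zpowers t)
    have hsx := iso_central hiso P P.2 (hP (Subgroup.mem_zpowers x)) _ hs
    have hgtop : g ∈ N ⊔ Subgroup.zpowers x := by rw [htop]; trivial
    obtain ⟨n, hn, z, hz, rfl⟩ := Subgroup.mem_sup_of_normal_left.1 hgtop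
    have hzx : z * x = x * z := by
      obtain ⟨k, rfl⟩ := Subgroup.mem_zpowers_iff.1 hz
      exact ((Commute.refl x).zpow_left k).eq
    have hzn : z⁻¹ * n * z ∈ N := by
      have := hN.conj_mem n hn z⁻¹
      simpa using this
    have hu := hTc _ hzn t htT
    have hu2 : x * (z⁻¹ * n * z * t * (z⁻¹ * n * z)⁻¹) * x⁻¹ = z⁻¹ * n * z * t * (z⁻¹ * n * z)⁻¹ := by
      have e1 : z⁻¹ * n * z * t * (z⁻¹ * n * z)⁻¹ = z⁻¹ * (n * z * t * (n * z)⁻¹) * z := by group
      have hzx' : x * z⁻¹ = z⁻¹ * x := by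
        calc x * z⁻¹ = z⁻¹ * (z * x) * z⁻¹ := by group
          _ = z⁻¹ * (x * z) * z⁻¹ := by rw [hzx]
          _ = z⁻¹ * x := by group
      rw [e1]
      calc x * (z⁻¹ * (n * z * t * (n * z)⁻¹) * z) * x⁻¹
          = (x * z⁻¹) * (n * z * t * (n * z)⁻¹) * z * x⁻¹ := by group
        _ = z⁻¹ * (x * (n * z * t * (n * z)⁻¹)) * z * x⁻¹ := by rw [hzx']; group
        _ = z⁻¹ * ((n * z * t * (n * z)⁻¹) * x) * z * x⁻¹ := by rw [hsx]
        _ = z⁻¹ * (n * z * t * (n * z)⁻¹) * (x * z) * x⁻¹ := by group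
        _ = z⁻¹ * (n * z * t * (n * z)⁻¹) * (z * x) * x⁻¹ := by rw [hzx]
        _ = z⁻¹ * (n * z * t * (n * z)⁻¹) * z := by group
    have hu3 : z⁻¹ * n * z * t * (z⁻¹ * n * z)⁻¹ ∈ T ⊓ T' := by
      refine Subgroup.mem_inf.2 ⟨hu, ?_⟩
      rw [← hu2]; exact hmemT' _ hu
    rw [hD, Subgroup.mem_bot] at hu3
    have ht1 : t = 1 := by
      have : t = (z⁻¹ * n * z)⁻¹ * (z⁻¹ * n * z * t * (z⁻¹ * n * z)⁻¹) * (z⁻¹ * n * z) := by group
      rw [this, hu3]; group
    rw [ht1, orderOf_one] at ht'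
    exact hp.out.one_lt.ne ht'
  have hzT : ∀ z ∈ Subgroup.zpowers x, ∀ t ∈ T, z * t * z⁻¹ ∈ T := by
    intro z hz
    obtain ⟨k, hk⟩ := mem_powers_iff_mem_zpowers.2 hz
    have hk' : x ^ k = z := hk
    rw [← hk']
    clear hk hk' hz
    induction k with
    | zero => intro t ht; simpa using ht
    | succ k ih =>
      intro t ht
      have : x ^ (k + 1) * t * (x ^ (k + 1))⁻¹ = x * (x ^ k * t * (x ^ k)⁻¹) * x⁻¹ := by
        rw [pow_succ']; group
      rw [this]
      exact hxT _ (ih t ht)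
  have hTnorm : T.Normal := by
    rw [← Subgroup.normalizer_eq_top_iff, ← top_le_iff, ← htop, sup_le_iff]
    exact ⟨hTn, le_normalizer_of_conj hzT⟩
  have hTN := hNmin T hTnorm (hTM.trans hMN) hTne
  exact le_antisymm hMN (hTN ▸ hTM)

/-- Let G be a finite group, p a prime and x ∈ G an isolated element of order p (the only conjugate of x commuting with x is x) which is not central modulo the largest normal subgroup of order prime to p, while x is central modulo the largest normal subgroup of order prime to p in every proper subgroup containing x, and the image of x is so in every quotient of G by a nontrivial normal subgroup (a minimal counterexample to the Z*_p statement). Then the derived subgroup G' is a non-abelian simple group and G = G'⟨x⟩. -/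
theorem result {G : Type*} [Group G] [Finite G] {p : ℕ} [Fact p.Prime] (x : G) (hx : orderOf x = p) (hiso : Cfsg.IsIsolated x) (hnz : ¬ Cfsg.InZStar p x) (hmin : ∀ (H : Subgroup G) (hxH : x ∈ H), H ≠ ⊤ → Cfsg.InZStar p (⟨x, hxH⟩ : ↥H)) (hquot : ∀ (N : Subgroup G) [N.Normal], N ≠ ⊥ → Cfsg.InZStar p (QuotientGroup.mk x : G ⧸ N)) : IsSimpleGroup ↥(commutator G) ∧ ¬ IsMulCommutative ↥(commutator G) ∧ commutator G ⊔ Subgroup.zpowers x = ⊤ := by
  classical
  have hp : Fact p.Prime := inferInstance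
  -- O_{p'}(G) = 1
  have hO : Cfsg.pPrimeCore p G = ⊥ := by
    by_contra hne
    have hnorm := H1.pPrimeCore_normal (G := G) p
    have h1 := hquot (Cfsg.pPrimeCore p G) hne
    apply hnz
    intro g
    have h2 := h1 (QuotientGroup.mk g)
    rw [H1.pPrimeCore_quotient_eq_bot, Subgroup.mem_bot] at h2
    have h3 : (QuotientGroup.mk (g * x * g⁻¹ * x⁻¹) : G ⧸ Cfsg.pPrimeCore p G) = 1 := by
      simpa using h2
    exact (QuotientGroup.eq_one_iff _).1 h3
  have hx1 : x ≠ 1 := by
    intro h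
    rw [h, orderOf_one] at hx
    exact hp.out.one_lt.ne hx
  obtain ⟨N, hNS, hNmin'⟩ := (measure (fun T : Subgroup G => Nat.card T)).wf.has_min
    {T : Subgroup G | T.Normal ∧ T ≠ ⊥} ⟨⊤, inferInstance, by
      intro h
      have : x ∈ (⊤ : Subgroup G) := trivial
      rw [h, Subgroup.mem_bot] at this
      exact hx1 this⟩
  obtain ⟨hN, hNne⟩ := hNS
  have hNmin : ∀ M : Subgroup G, M.Normal → M ≤ N → M ≠ ⊥ → M = N := by
    intro M hM hMN hMne
    have h1 := hNmin' M ⟨hM, hMne⟩
    exact Subgroup.eq_of_le_of_card_ge hMN (by by_contra h; exact h1 (not_le.1 h))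
  by_cases hcomm : ∀ a ∈ N, ∀ b ∈ N, a * b = b * a
  · exact (abelian_case x hx hiso hnz hmin hquot hO N hN hNne hcomm).elim
  obtain ⟨htop, hsimple⟩ := nonabelian_case x hx hiso hnz hmin hO N hN hNne hNmin hcomm
  have hcN : commutator G = N := by
    apply hNmin _ inferInstance
    · rw [commutator_def, Subgroup.commutator_le]
      intro g _ h _
      have hz : ∀ g : G, ∃ k : ℤ, (QuotientGroup.mk g : G ⧸ N) = (QuotientGroup.mk x : G ⧸ N) ^ k := by
        intro g
        have hg : g ∈ N ⊔ Subgroup.zpowers x := by rw [htop]; trivial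
        obtain ⟨n, hn, z, hz, rfl⟩ := Subgroup.mem_sup_of_normal_left.1 hg
        obtain ⟨k, rfl⟩ := Subgroup.mem_zpowers_iff.1 hz
        refine ⟨k, ?_⟩
        rw [QuotientGroup.mk_mul, (QuotientGroup.eq_one_iff n).2 hn, one_mul, QuotientGroup.mk_zpow]
      obtain ⟨i, hi⟩ := hz g
      obtain ⟨j, hj⟩ := hz h
      rw [← QuotientGroup.eq_one_iff, commutatorElement_def]
      simp only [QuotientGroup.mk_mul, QuotientGroup.mk_inv, hi, hj]
      group
    · intro hbot
      apply hcomm
      intro a _ b _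
      have : ⁅a, b⁆ ∈ commutator G := by
        rw [commutator_def]
        exact Subgroup.commutator_mem_commutator (Subgroup.mem_top a) (Subgroup.mem_top b)
      rw [hbot, Subgroup.mem_bot, commutatorElement_eq_one_iff_mul_comm] at this
      exact this
  rw [hcN]
  refine ⟨?_, ?_, htop⟩
  · have hnt : Nontrivial ↥N := (Subgroup.nontrivial_iff_ne_bot N).2 hNne
    refine ⟨fun H hH => ?_⟩
    by_cases hHb : H = ⊥
    · exact Or.inl hHb
    right
    have h1 : H.map N.subtype = N := by
      apply hsimple _ (Subgroup.map_subtype_le H)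
      · apply le_normalizer_of_conj
        rintro n hn _ ⟨t, ht, rfl⟩
        exact ⟨⟨n, hn⟩ * t * ⟨n, hn⟩⁻¹, hH.conj_mem t ht _, by simp⟩
      · intro h
        rw [Subgroup.map_eq_bot_iff_of_injective _ N.subtype_injective] at h
        exact hHb h
    rw [eq_top_iff]
    rintro ⟨n, hn⟩ _
    have : n ∈ H.map N.subtype := by rw [h1]; exact hn
    obtain ⟨t, ht, htn⟩ := this
    have : t = ⟨n, hn⟩ := Subtype.ext htn
    rwa [← this]
  · intro hc
    apply hcomm
    intro a ha b hb
    have := hc.is_comm.comm ⟨a, ha⟩ ⟨b, hb⟩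
    exact congrArg Subtype.val this

end Cfsg.Agent.S2972
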