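import Cfsg.Statements.S2975
import Cfsg.Agent.Lib_lead_Isolated
import Cfsg.Agent.Lib_helper1_Coprime
import Cfsg.Agent.Lib_helper1_Cores
import Cfsg.Agent.Lib_helper7_Alperin
import Cfsg.Agent.Lib_helper7_Sylow

set_option autoImplicit false
open Cfsg

namespace Cfsg.Agent.S2975

theorem mem_normalizer_fin {G : Type*} [Group G] [Finite G] {P : Subgroup G} {g : G}
    (h : ∀ x ∈ P, g * x * g⁻¹ ∈ P) : g ∈ Subgroup.normalizer (P : Set G) := by
  rw [Subgroup.mem_normalizer_iff_map_conj_eq]
  apply Subgroup.eq_of_le_of_card_ge
  · rintro _ ⟨x, hx, rfl⟩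
    exact h x hx
  · exact (Subgroup.card_map_of_injective (MulAut.conj g).injective).ge

/-- Let G be a finite group, p a prime and x ∈ G an isolated element of order p (the only conjugate of x commuting with x is x) which is not central modulo the largest normal subgroup of order prime to p, while x is central modulo the largest normal subgroup of order prime to p in every proper subgroup containing x, and the image of x is so in every quotient of G by a nontrivial normal subgroup (a minimal counterexample to the Z*_p statement). Then for every prime q, every q-subgroup of G that is normalized by x and maximal among the q-subgroups normalized by x is either trivial or a Sylow q-subgroup of G; and C_G(x) permutes the x-invariant Sylow q-subgroups of G transitively by conjugation. -/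
theorem result {G : Type*} [Group G] [Finite G] {p : ℕ} [Fact p.Prime] (x : G) (hx : orderOf x = p) (hiso : Cfsg.IsIsolated x) (hnz : ¬ Cfsg.InZStar p x) (hmin : ∀ (H : Subgroup G) (hxH : x ∈ H), H ≠ ⊤ → Cfsg.InZStar p (⟨x, hxH⟩ : ↥H)) (hquot : ∀ (N : Subgroup G) [N.Normal], N ≠ ⊥ → Cfsg.InZStar p (QuotientGroup.mk x : G ⧸ N)) (q : ℕ) [Fact q.Prime] : (∀ Q : Subgroup G, IsPGroup q ↥Q → x ∈ Subgroup.normalizer (Q : Set G) → (∀ R : Subgroup G, IsPGroup q ↥R → x ∈ Subgroup.normalizer (R : Set G) → Q ≤ R → R = Q) → Q = ⊥ ∨ ∃ S : Sylow q G, (S : Subgroup G) = Q) ∧ (∀ S₁ S₂ : Sylow q G, x ∈ Subgroup.normalizer ((S₁ : Subgroup G) : Set G) → x ∈ Subgroup.normalizer ((S₂ : Subgroup G) : Set G) → ∃ c ∈ Subgroup.centralizer ({x} : Set G), (S₁ : Subgroup G).map (MulAut.conj c).toMonoidHom = (S₂ : Subgroup G)) := by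
  have hxp : IsPGroup p (Subgroup.zpowers x) := LeadIso.isPGroup_zpowers ⟨1, by rw [hx, pow_one]⟩
  constructor
  · intro Q hQ hxQ hmax
    by_cases hQb : Q = ⊥
    · exact Or.inl hQb
    right
    by_cases hqp : q = p
    · subst hqp
      have h1 : IsPGroup q (Subgroup.zpowers x ⊔ Q : Subgroup G) :=
        IsPGroup.to_sup_of_normal_right' hxp hQ (by rw [Subgroup.zpowers_le]; exact hxQ)
      have h2 := hmax _ h1 (Subgroup.le_normalizer (Subgroup.mem_sup_left (Subgroup.mem_zpowers x)))
        le_sup_right
      have hxQ' : x ∈ Q := h2 ▸ (Subgroup.mem_sup_left (Subgroup.mem_zpowers x))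
      obtain ⟨P, hP⟩ := hQ.exists_le_sylow
      exact ⟨P, hmax P P.2 (Subgroup.le_normalizer (hP hxQ')) hP⟩
    · obtain ⟨P, hP⟩ := hQ.exists_le_sylow
      refine ⟨P, ?_⟩
      by_contra hne
      have hlt : Q < (P : Subgroup G) := lt_of_le_of_ne hP (fun h => hne h.symm)
      have hR := H7.lt_inf_normalizer P.2 hlt
      set R := (P : Subgroup G) ⊓ Subgroup.normalizer (Q : Set G) with hRdef
      have hRq : IsPGroup q R := P.2.to_le inf_le_left
      have hcopqp : Nat.Coprime q p := (Nat.coprime_primes Fact.out Fact.out).2 hqp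
      by_cases hH : Subgroup.normalizer (Q : Set G) = ⊤
      · haveI hQn : Q.Normal := Subgroup.normalizer_eq_top_iff.1 hH
        have h1 := hquot Q hQb
        apply hnz
        intro g
        have h2 := h1 (g : G ⧸ Q)
        set O' := (Cfsg.pPrimeCore p (G ⧸ Q)).comap (QuotientGroup.mk' Q) with hO'
        have h3 : O' ≤ Cfsg.pPrimeCore p G := by
          apply H1.le_pPrimeCore p
          · haveI := H1.pPrimeCore_normal (G := G ⧸ Q) p
            exact Subgroup.Normal.comap inferInstance _
          · have hc : Nat.card O' = Nat.card (Cfsg.pPrimeCore p (G ⧸ Q)) * Nat.card Q := by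
              have hle : Q ≤ O' := by
                intro y hy
                change (y : G ⧸ Q) ∈ Cfsg.pPrimeCore p (G ⧸ Q)
                rw [(QuotientGroup.eq_one_iff y).2 hy]
                exact Subgroup.one_mem _
              rw [← H1.relIndex_mul_card' hle]
              congr 1
              have := Subgroup.relIndex_ker (K := O') (QuotientGroup.mk' Q)
              rw [QuotientGroup.ker_mk'] at this
              rw [this, hO', Subgroup.map_comap_eq_self_of_surjective (QuotientGroup.mk'_surjective Q)]
            rw [hc]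
            apply Nat.Coprime.mul_left (H1.card_pPrimeCore_coprime p)
            obtain ⟨k, hk⟩ := IsPGroup.iff_card.1 hQ
            rw [hk]
            exact Nat.Coprime.pow_left k hcopqp
        apply h3
        exact h2
      · set H := Subgroup.normalizer (Q : Set G) with hHdef
        have hz := hmin H hxQ hH
        set O := (Cfsg.pPrimeCore p ↥H).map H.subtype with hO
        have hOH : O ≤ H := by
          rintro _ ⟨y, -, rfl⟩; exact y.2
        have hOn : H ≤ Subgroup.normalizer (O : Set G) := by
          apply H1.le_normalizer_of_forall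
          rintro g hg _ ⟨y, hy, rfl⟩
          exact ⟨⟨g, hg⟩ * y * ⟨g, hg⟩⁻¹, (H1.pPrimeCore_normal (G := ↥H) p).conj_mem y hy _, rfl⟩
        have hRH : R ≤ H := inf_le_right
        set W := O ⊔ R with hW
        have hcO : (Nat.card O).Coprime p := by
          rw [hO, Nat.card_congr ((Cfsg.pPrimeCore p ↥H).equivMapOfInjective H.subtype
            H.subtype_injective).symm.toEquiv]
          exact H1.card_pPrimeCore_coprime p
        have hcW : (Nat.card W).Coprime p := by
          have h1 := H1.card_sup_mul_card_inf' O R (hRH.trans hOn)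
          apply Nat.Coprime.coprime_dvd_left ⟨_, h1.symm⟩
          apply Nat.Coprime.mul_left hcO
          obtain ⟨k, hk⟩ := IsPGroup.iff_card.1 hRq
          rw [hk]
          exact Nat.Coprime.pow_left k hcopqp
        have hxW : x ∈ Subgroup.normalizer (W : Set G) := by
          rw [← H7.map_conj_eq_self_iff]
          apply Subgroup.eq_of_le_of_card_ge _ (H7.card_map_conj W x).ge
          rw [hW, Subgroup.map_sup]
          apply sup_le
          · rw [H7.map_conj_eq_self_iff.2 (hOn hxQ)]
            exact le_sup_left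
          · rw [H7.map_conj_le_iff]
            intro r hr
            have h1 := hz ⟨r, hRH hr⟩
            have h2 : r * x * r⁻¹ * x⁻¹ ∈ O := ⟨_, h1, rfl⟩
            have h3 : x * r * x⁻¹ = (r * x * r⁻¹ * x⁻¹)⁻¹ * r := by group
            rw [h3]
            exact Subgroup.mul_mem _ (Subgroup.mem_sup_left (O.inv_mem h2)) (Subgroup.mem_sup_right hr)
        have hcard : Nat.card (Subgroup.zpowers x) = p := by rw [Nat.card_zpowers, hx]
        obtain ⟨T, hT1, hT2⟩ := H1.coprime_invariant_psubgroup_le_sylow (Subgroup.zpowers x) W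
          (by rw [Subgroup.zpowers_le]; exact hxW) (by rw [hcard]; exact hcW.symm)
          (Or.inl inferInstance) q Q (hR.le.trans le_sup_right) hQ
          (by rw [Subgroup.zpowers_le]; exact hxQ)
        have hT3 := hmax _ (H7.isPGroup_map_subtype T.2) (hT2 (Subgroup.mem_zpowers x)) hT1
        have hT4 := (H7.Sylow_isSylowIn T).card_le hRq le_sup_right
        rw [hT3] at hT4
        exact absurd (H7.card_lt_of_lt hR) (not_lt.2 hT4)
  · intro S₁ S₂ h1 h2
    obtain ⟨g, hg⟩ := MulAction.exists_smul_eq G S₁ S₂
    have hg' : (S₁ : Subgroup G).map (MulAut.conj g).toMonoidHom = (S₂ : Subgroup G) := by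
      rw [← hg]; rfl
    have hy : g * x * g⁻¹ ∈ Subgroup.normalizer ((S₂ : Subgroup G) : Set G) := by
      rw [← hg', H7.normalizer_map_conj]
      exact H7.conj_mem_map_conj g h1
    obtain ⟨s, hs, hs2⟩ := LeadIso.exists_conj_in (p := p) ⟨1, by rw [hx, pow_one]⟩ hiso _ h2 g hy
    refine ⟨s * g, ?_, ?_⟩
    · rw [Subgroup.mem_centralizer_singleton_iff]
      calc s * g * x = s * (g * x * g⁻¹) * s⁻¹ * (s * g) := by group
        _ = x * (s * g) := by rw [hs2]
    · rw [← H7.map_conj_map_conj, hg']
      exact H7.map_conj_eq_self_iff.2 hs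

end Cfsg.Agent.S2975
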