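import Mathlib
import Cfsg.Statements.S2998
import Cfsg.Agent.Lib_helper1_PRed5
import Cfsg.Agent.Lib_helper1_Transfer

set_option autoImplicit false
open Cfsg

namespace Cfsg.Agent.S2998

open scoped Pointwise

/-- Let G be a finite group, p a prime, P a Sylow p-subgroup of G and x ∈ P an element such that N_G(R) ≤ C_G(x) for every nontrivial subgroup R of P. Then P ≤ C_G(x); every G-conjugate of x lying in P equals x (so g ∈ C_G(x) whenever g x g⁻¹ ∈ P); and for every normal subgroup N of G, the image of x in G ⧸ N has the same property with respect to the image of P: the normalizer of every nontrivial subgroup of the image of P centralizes the image of x. -/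
theorem result {G : Type*} [Group G] [Finite G] {p : ℕ} [Fact p.Prime] (P : Sylow p G) (x : G) (hxP : x ∈ (P : Subgroup G)) (hlc : ∀ R : Subgroup G, R ≤ (P : Subgroup G) → R ≠ ⊥ → Subgroup.normalizer (R : Set G) ≤ Subgroup.centralizer ({x} : Set G)) : (P : Subgroup G) ≤ Subgroup.centralizer ({x} : Set G) ∧ (∀ g : G, g * x * g⁻¹ ∈ (P : Subgroup G) → g * x * g⁻¹ = x) ∧ ∀ (N : Subgroup G) [N.Normal], ∀ R : Subgroup (G ⧸ N), R ≤ (P : Subgroup G).map (QuotientGroup.mk' N) → R ≠ ⊥ → Subgroup.normalizer (R : Set (G ⧸ N)) ≤ Subgroup.centralizer ({(QuotientGroup.mk x : G ⧸ N)} : Set (G ⧸ N)) := by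
  have hmemC : ∀ t : G, t ∈ Subgroup.centralizer ({x} : Set G) ↔ x * t = t * x := by
    intro t
    rw [Subgroup.mem_centralizer_iff]
    simp
  have h1 : (P : Subgroup G) ≤ Subgroup.centralizer ({x} : Set G) := by
    by_cases hP : (P : Subgroup G) = ⊥
    · rw [hP]; exact bot_le
    · exact Subgroup.le_normalizer.trans (hlc P le_rfl hP)
  refine ⟨h1, ?_, ?_⟩
  · intro g hy
    by_cases hx1 : x = 1
    · rw [hx1]; group
    have hP : (P : Subgroup G) ≠ ⊥ := by
      intro h
      rw [h, Subgroup.mem_bot] at hxP
      exact hx1 hxP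
    set y := g * x * g⁻¹ with hydef
    have hy1 : y ≠ 1 := by
      intro h
      apply hx1
      have : x = g⁻¹ * y * g := by rw [hydef]; group
      rw [this, h]; group
    have hR : Subgroup.normalizer ((Subgroup.zpowers y : Subgroup G) : Set G) ≤
        Subgroup.centralizer ({x} : Set G) := by
      apply hlc _ (Subgroup.zpowers_le.2 hy)
      intro h
      exact hy1 (Subgroup.zpowers_eq_bot.1 h)
    have hQ : ((g • P : Sylow p G) : Subgroup G) ≤ Subgroup.centralizer ({x} : Set G) := by
      intro t ht
      apply hR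
      have ht' : g⁻¹ * t * g ∈ (P : Subgroup G) := H1.mem_conj_smul.1 ht
      have hc := (hmemC _).1 (h1 ht')
      have hty : t * y = y * t := by
        calc t * y = g * ((g⁻¹ * t * g) * x) * g⁻¹ := by rw [hydef]; group
          _ = g * (x * (g⁻¹ * t * g)) * g⁻¹ := by rw [hc]
          _ = y * t := by rw [hydef]; group
      rw [Subgroup.mem_normalizer_iff]
      intro z
      have hcz : ∀ k : ℤ, t * y ^ k * t⁻¹ = y ^ k := by
        intro k
        have : Commute t (y ^ k) := (show Commute t y from hty).zpow_right k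
        rw [this.eq, mul_inv_cancel_right]
      constructor
      · intro hz
        obtain ⟨k, rfl⟩ := Subgroup.mem_zpowers_iff.1 hz
        rw [hcz]; exact hz
      · intro hz
        obtain ⟨k, hk⟩ := Subgroup.mem_zpowers_iff.1 hz
        have : z = y ^ k := by
          have h2 : z = t⁻¹ * (t * z * t⁻¹) * t := by group
          have h3 : t⁻¹ * (t * y ^ k * t⁻¹) * t = y ^ k := by group
          calc z = t⁻¹ * (t * z * t⁻¹) * t := h2
            _ = t⁻¹ * y ^ k * t := by rw [← hk]
            _ = t⁻¹ * (t * y ^ k * t⁻¹) * t := by rw [hcz k]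
            _ = y ^ k := h3
        rw [this]; exact Subgroup.zpow_mem_zpowers y k
    obtain ⟨c, hc, hcP⟩ := H1.sylow_conj_of_le P (g • P) _ h1 hQ
    have h3 : c⁻¹ * g ∈ Subgroup.normalizer ((P : Subgroup G) : Set G) := by
      rw [← H1.conj_smul_eq_iff_mem_normalizer, map_mul, mul_smul, map_inv, inv_smul_eq_iff]
      exact hcP.symm
    have h4 := hlc P le_rfl hP h3
    have h5 : g ∈ Subgroup.centralizer ({x} : Set G) := by
      have : g = c * (c⁻¹ * g) := by group
      rw [this]; exact mul_mem hc h4
    rw [hydef, ← (hmemC g).1 h5, mul_inv_cancel_right]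
  · intro N _ R hRP hR1 g' hg'
    obtain ⟨g, rfl⟩ := QuotientGroup.mk'_surjective N g'
    set π := QuotientGroup.mk' N with hπ
    have hπs : Function.Surjective π := QuotientGroup.mk'_surjective N
    set M := R.comap π with hM
    have hNM : N ≤ M := by
      intro n hn
      change π n ∈ R
      have : π n = 1 := (QuotientGroup.eq_one_iff n).2 hn
      rw [this]; exact one_mem _
    set R0 := (P : Subgroup G) ⊓ M with hR0
    have hlift : ∀ m ∈ M, ∃ t ∈ R0, π t = π m := by
      intro m hm
      obtain ⟨t, ht, htm⟩ := hRP hm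
      refine ⟨t, ⟨ht, ?_⟩, htm⟩
      change π t ∈ R
      rw [htm]; exact hm
    have hR01 : R0 ≠ ⊥ := by
      intro h0
      apply hR1
      rw [eq_bot_iff]
      intro r hr
      obtain ⟨m, rfl⟩ := hπs r
      obtain ⟨t, ht, htm⟩ := hlift m hr
      rw [h0, Subgroup.mem_bot] at ht
      rw [← htm, ht, map_one]; exact one_mem _
    have hMsup : M = R0 ⊔ N := by
      apply le_antisymm _ (sup_le inf_le_right hNM)
      intro m hm
      obtain ⟨t, ht, htm⟩ := hlift m hm
      have h2 : t⁻¹ * m ∈ N := by
        rw [← QuotientGroup.eq_one_iff]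
        change π (t⁻¹ * m) = 1
        rw [map_mul, map_inv, htm, inv_mul_cancel]
      have : m = t * (t⁻¹ * m) := by group
      rw [this]
      exact mul_mem (Subgroup.mem_sup_left ht) (Subgroup.mem_sup_right h2)
    have hinf : R0 ⊓ N = (P : Subgroup G) ⊓ N := by
      rw [hR0, inf_assoc, inf_eq_right.2 hNM]
    have hsyl : ¬ p ∣ R0.relIndex M := by
      have e1 := H1.card_sup_mul_card_inf R0 N
      rw [← hMsup, hinf] at e1
      have e2 := H1.relIndex_mul_card' (inf_le_right : R0 ≤ M)
      have e3 := H1.relIndex_mul_card' (inf_le_right : (P : Subgroup G) ⊓ N ≤ N)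
      have e4 : R0.relIndex M = ((P : Subgroup G) ⊓ N).relIndex N := by
        have hpos : 0 < Nat.card R0 * Nat.card ((P : Subgroup G) ⊓ N : Subgroup G) :=
          Nat.mul_pos Nat.card_pos Nat.card_pos
        apply Nat.eq_of_mul_eq_mul_right hpos
        calc R0.relIndex M * (Nat.card R0 * Nat.card ((P : Subgroup G) ⊓ N : Subgroup G))
            = (R0.relIndex M * Nat.card R0) * Nat.card ((P : Subgroup G) ⊓ N : Subgroup G) := by ring
          _ = Nat.card R0 * Nat.card N := by rw [e2, e1]
          _ = _ := by rw [← e3]; ring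
      rw [e4]
      exact H1.not_dvd_relIndex_sylow_inf P (by rw [Subgroup.normalizer_eq_top]; exact le_top)
    have hgM : g ∈ Subgroup.normalizer (M : Set G) := by
      rw [hM, ← Subgroup.comap_normalizer_eq_of_surjective _ hπs]
      exact hg'
    obtain ⟨k, hk, hkg⟩ := H1.frattini_internal (M := Subgroup.normalizer (M : Set G)) (K := M)
      (U := R0) le_rfl inf_le_right (P.2.to_le inf_le_left) hsyl g hgM
    have h6 := (hmemC _).1 (hlc R0 inf_le_left hR01 hkg)
    obtain ⟨t, ht, htk⟩ := hlift k hk
    have h7 := (hmemC _).1 (h1 ht.1)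
    rw [Subgroup.mem_centralizer_iff]
    intro z hz
    rw [Set.mem_singleton_iff.1 hz]
    change π x * π g = π g * π x
    have h8 : π x * π (k * g) = π (k * g) * π x := by rw [← map_mul, ← map_mul, h6]
    have h9 : π x * π k = π k * π x := by rw [← htk, ← map_mul, ← map_mul, h7]
    rw [map_mul] at h8
    have h10 : π k * (π x * π g) = π k * (π g * π x) := by
      rw [← mul_assoc, ← h9, mul_assoc, h8, mul_assoc]
    exact mul_left_cancel h10

end Cfsg.Agent.S2998
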