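import Cfsg.Statements.S3011
import Mathlib
import Cfsg.Agent.S0199
import Cfsg.Agent.Lib_helper1_Cores

set_option autoImplicit false
open Cfsg

namespace Cfsg.Agent.S3011

theorem comm_of_sq {G : Type*} [Group G] (g k : G) (hg : Odd (orderOf g)) (h : Commute (g ^ 2) k) :
    Commute g k := by
  obtain ⟨j, hj⟩ := hg
  have h1 : g ^ (2 * j + 1) = 1 := by rw [← hj]; exact pow_orderOf_eq_one g
  have h2 : (g ^ 2) ^ (j + 1) = g := by
    rw [← pow_mul]
    have : 2 * (j + 1) = (2 * j + 1) + 1 := by ring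
    rw [this, pow_succ, h1, one_mul]
  rw [← h2]
  exact h.pow_left _

theorem eq_one_of_inv {G : Type*} [Group G] (k : G) (hk : Odd (orderOf k)) (h : k⁻¹ = k) : k = 1 := by
  have h2 : k ^ 2 = 1 := by
    rw [sq]
    nth_rewrite 1 [← h]
    exact inv_mul_cancel k
  have h3 := orderOf_dvd_of_pow_eq_one h2
  have h4 : orderOf k = 1 := by
    rcases (Nat.dvd_prime Nat.prime_two).mp h3 with h' | h'
    · exact h'
    · rw [h'] at hk
      exact absurd hk (by decide)
  exact orderOf_eq_one_iff.mp h4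

theorem not_inv_of_odd {G : Type*} [Group G] (g k : G) (hg : Odd (orderOf g)) (hk : Odd (orderOf k))
    (hk1 : k ≠ 1) (h : g * k * g⁻¹ = k⁻¹) : False := by
  have h2 : Commute (g ^ 2) k := by
    have : g ^ 2 * k * (g ^ 2)⁻¹ = k := by
      calc g ^ 2 * k * (g ^ 2)⁻¹ = g * (g * k * g⁻¹) * g⁻¹ := by
            rw [sq, mul_inv_rev]; simp only [mul_assoc]
        _ = g * k⁻¹ * g⁻¹ := by rw [h]
        _ = (g * k * g⁻¹)⁻¹ := by simp only [mul_inv_rev, inv_inv, mul_assoc]
        _ = k := by rw [h, inv_inv]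
    calc g ^ 2 * k = (g ^ 2 * k * (g ^ 2)⁻¹) * g ^ 2 := by group
      _ = k * g ^ 2 := by rw [this]
  have h3 := comm_of_sq g k hg h2
  have h4 : g * k * g⁻¹ = k := by rw [h3.eq, mul_inv_cancel_right]
  exact hk1 (eq_one_of_inv k hk (h ▸ h4))

theorem core {G : Type*} [Group G] (V : Subgroup G) (hS : Cfsg.IsSidkiPair V) (b x z h k : G)
    (hb : b ∈ V) (hz : z ∈ V)
    (hall : ∀ w ∈ V, w ≠ 1 → w = b ∨ w = x ∨ w = z) (hh : Odd (orderOf h)) (hk : Odd (orderOf k))
    (hh1 : h ≠ 1) (hk1 : k ≠ 1) (bh : b * h = h * b) (xh : x * h * x⁻¹ = h⁻¹)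
    (zh : z * h * z⁻¹ = h⁻¹) (bk : b * k * b⁻¹ = k⁻¹) (xk : x * k = k * x)
    (zk : z * k * z⁻¹ = k⁻¹) : False := by
  have hconj : ∀ w : G, w * h * w⁻¹ = h⁻¹ → h * w * h⁻¹ = w * (h ^ 2)⁻¹ := by
    intro w hw
    have e0 : w * h⁻¹ * w⁻¹ = h := by
      calc w * h⁻¹ * w⁻¹ = (w * h * w⁻¹)⁻¹ := by group
        _ = h := by rw [hw, inv_inv]
    have e : h * w = w * h⁻¹ := by
      calc h * w = (w * h⁻¹ * w⁻¹) * w := by rw [e0]
        _ = w * h⁻¹ := by group
    rw [e]
    group
  have hh2 : Odd (orderOf ((h ^ 2)⁻¹)) := by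
    rw [orderOf_inv]
    exact Odd.of_dvd_nat hh (orderOf_pow_dvd 2)
  -- step i
  have hcomm : Commute h k := by
    have hodd : Odd (orderOf (h⁻¹ * k * h)) := by
      have : h⁻¹ * k * h = MulAut.conj h⁻¹ k := by rw [MulAut.conj_apply, inv_inv]
      rw [this, MulEquiv.orderOf_eq]
      exact hk
    have hbi : b * (h⁻¹ * k * h) * b⁻¹ = (h⁻¹ * k * h)⁻¹ := by
      have e1 : b * h⁻¹ = h⁻¹ * b := by
        calc b * h⁻¹ = h⁻¹ * (h * b) * h⁻¹ := by group
          _ = h⁻¹ * (b * h) * h⁻¹ := by rw [bh]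
          _ = h⁻¹ * b := by group
      calc b * (h⁻¹ * k * h) * b⁻¹ = (b * h⁻¹) * k * (b * h⁻¹)⁻¹ := by group
        _ = h⁻¹ * (b * k * b⁻¹) * h := by rw [e1]; group
        _ = (h⁻¹ * k * h)⁻¹ := by rw [bk]; group
    obtain ⟨w, hwV, hw1, hw⟩ := hS _ b hb hodd hbi
    have hw' : (h * w * h⁻¹) * k = k * (h * w * h⁻¹) := by
      calc (h * w * h⁻¹) * k = h * (w * (h⁻¹ * k * h)) * h⁻¹ := by group
        _ = h * ((h⁻¹ * k * h) * w) * h⁻¹ := by rw [hw]
        _ = k * (h * w * h⁻¹) := by group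
    rcases hall w hwV hw1 with rfl | rfl | rfl
    · exfalso
      have e1 : h * w * h⁻¹ = w := by rw [← bh]; group
      rw [e1] at hw'
      have e2 : w * k * w⁻¹ = k := by rw [hw']; group
      exact hk1 (eq_one_of_inv k hk (bk ▸ e2))
    · rw [hconj w xh] at hw'
      have e1 : Commute ((h ^ 2)⁻¹) k := by
        calc (h ^ 2)⁻¹ * k = w⁻¹ * (w * (h ^ 2)⁻¹ * k) := by group
          _ = w⁻¹ * (k * (w * (h ^ 2)⁻¹)) := by rw [hw']
          _ = w⁻¹ * (k * w) * (h ^ 2)⁻¹ := by group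
          _ = w⁻¹ * (w * k) * (h ^ 2)⁻¹ := by rw [xk]
          _ = k * (h ^ 2)⁻¹ := by group
      exact comm_of_sq h k hh (Commute.inv_left_iff.mp e1)
    · exfalso
      rw [hconj w zh] at hw'
      apply not_inv_of_odd ((h ^ 2)⁻¹) k hh2 hk hk1
      have e0 : w⁻¹ * k * w = k⁻¹ := by
        have e00 : k = w⁻¹ * k⁻¹ * w := by rw [← zk]; group
        calc w⁻¹ * k * w = (w⁻¹ * k⁻¹ * w)⁻¹ := by group
          _ = k⁻¹ := by rw [← e00]
      calc (h ^ 2)⁻¹ * k * ((h ^ 2)⁻¹)⁻¹ = w⁻¹ * ((w * (h ^ 2)⁻¹) * k) * ((h ^ 2)⁻¹)⁻¹ := by group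
        _ = w⁻¹ * (k * (w * (h ^ 2)⁻¹)) * ((h ^ 2)⁻¹)⁻¹ := by rw [hw']
        _ = w⁻¹ * k * w := by group
        _ = k⁻¹ := e0
  -- step ii
  have hodd : Odd (orderOf (h * k)) := by
    apply Odd.of_dvd_nat (hh.mul hk)
    exact hcomm.orderOf_mul_dvd_lcm.trans (Nat.lcm_dvd_mul _ _)
  have hzi : z * (h * k) * z⁻¹ = (h * k)⁻¹ := by
    calc z * (h * k) * z⁻¹ = (z * h * z⁻¹) * (z * k * z⁻¹) := by group
      _ = h⁻¹ * k⁻¹ := by rw [zh, zk]
      _ = (k * h)⁻¹ := by group
      _ = (h * k)⁻¹ := by rw [hcomm.eq]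
  obtain ⟨w, hwV, hw1, hw⟩ := hS _ z hz hodd hzi
  have hw' : w * (h * k) * w⁻¹ = h * k := by rw [hw]; group
  have hsplit : w * (h * k) * w⁻¹ = (w * h * w⁻¹) * (w * k * w⁻¹) := by group
  rcases hall w hwV hw1 with rfl | rfl | rfl
  · rw [hsplit, bk] at hw'
    have e1 : w * h * w⁻¹ = h := by rw [bh]; group
    rw [e1] at hw'
    exact hk1 (eq_one_of_inv k hk (mul_left_cancel hw'))
  · rw [hsplit, xh] at hw'
    have e1 : w * k * w⁻¹ = k := by rw [xk]; group
    rw [e1] at hw'
    exact hh1 (eq_one_of_inv h hh (mul_right_cancel hw'))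
  · rw [hzi] at hw'
    have e1 := eq_one_of_inv _ hodd hw'
    have e2 : h = k⁻¹ := eq_inv_of_mul_eq_one_left e1
    rw [e2] at xh
    have e3 : x * k⁻¹ * x⁻¹ = k⁻¹ := by
      calc x * k⁻¹ * x⁻¹ = (x * k * x⁻¹)⁻¹ := by group
        _ = (k * x * x⁻¹)⁻¹ := by rw [xk]
        _ = k⁻¹ := by group
    rw [e3, inv_inv] at xh
    exact hk1 (eq_one_of_inv k hk xh)

/-- Let G be a finite group and V a nontrivial elementary abelian 2-subgroup of G of order at most 4 such that, whenever an element of V inverts an element h of G of odd order, some nontrivial element of V commutes with h. Then V meets O₂(G) nontrivially. (The case of order at most 4 has a short argument from the Baer–Suzuki theorem.) -/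
theorem result {G : Type*} [Group G] [Finite G] (V : Subgroup G) (hV : Cfsg.IsElementaryAbelian 2 V) (hV1 : V ≠ ⊥) (hS : Cfsg.IsSidkiPair V) (h4 : Nat.card V ≤ 4) : V ⊓ Cfsg.pCore 2 G ≠ ⊥ := by
  classical
  by_contra hcon
  haveI : Fact (Nat.Prime 2) := ⟨Nat.prime_two⟩
  have hV2 : ∀ v ∈ V, v ^ 2 = 1 := hV.2
  have hVinv : ∀ v ∈ V, v⁻¹ = v := by
    intro v hv
    rw [inv_eq_iff_mul_eq_one, ← sq]; exact hV2 v hv
  have step1 : ∀ v ∈ V, v ≠ 1 → ∃ h : G, h ≠ 1 ∧ Odd (orderOf h) ∧ v * h * v⁻¹ = h⁻¹ := by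
    intro v hv hv1
    have hvinv := hVinv v hv
    by_contra hno
    push Not at hno
    have hX : IsPGroup 2 (Subgroup.zpowers v) := by
      apply IsPGroup.of_card (n := 1)
      rw [Nat.card_zpowers, orderOf_eq_prime (hV2 v hv) hv1, pow_one]
    have hpg : ∀ g : G, IsPGroup 2 ↥(Subgroup.zpowers v ⊔ (Subgroup.zpowers v).map (MulAut.conj g).toMonoidHom) := by
      intro g
      obtain ⟨t, ht⟩ : ∃ t, t = g * v * g⁻¹ := ⟨_, rfl⟩
      obtain ⟨u, hu⟩ : ∃ u, u = v * t := ⟨_, rfl⟩
      have htinv : t⁻¹ = t := by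
        rw [ht]
        calc (g * v * g⁻¹)⁻¹ = g * v⁻¹ * g⁻¹ := by group
          _ = g * v * g⁻¹ := by rw [hvinv]
      have hvu : v * u * v⁻¹ = u⁻¹ := by
        rw [hu, mul_inv_rev, htinv, hvinv]
        calc v * (v * t) * v = (v ^ 2) * t * v := by simp only [sq, mul_assoc]
          _ = t * v := by rw [hV2 v hv, one_mul]
      have hup : IsPGroup 2 (Subgroup.zpowers u) := by
        rcases Nat.eq_two_pow_or_exists_odd_prime_and_dvd (orderOf u) with ⟨k, hk⟩ | ⟨q, hq, hqd, hqo⟩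
        · apply IsPGroup.of_card (n := k)
          rw [Nat.card_zpowers, hk]
        · exfalso
          have ho : orderOf (u ^ (orderOf u / q)) = q :=
            orderOf_pow_orderOf_div (orderOf_pos u).ne' hqd
          apply hno (u ^ (orderOf u / q))
          · intro h1
            rw [h1, orderOf_one] at ho
            exact hq.one_lt.ne ho
          · rw [ho]; exact hqo
          · rw [← conj_pow, hvu, inv_pow]
      have hle : Subgroup.zpowers v ⊔ (Subgroup.zpowers v).map (MulAut.conj g).toMonoidHom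
          ≤ Subgroup.zpowers v ⊔ Subgroup.zpowers u := by
        apply sup_le le_sup_left
        rw [MonoidHom.map_zpowers, Subgroup.zpowers_le]
        have : (MulAut.conj g).toMonoidHom v = v⁻¹ * u := by
          rw [hu, ht]
          simp [MulAut.conj_apply]
        rw [this]
        exact Subgroup.mul_mem _ (Subgroup.inv_mem _ (le_sup_left (a := Subgroup.zpowers v)
          (Subgroup.mem_zpowers v))) (le_sup_right (a := Subgroup.zpowers v)
          (Subgroup.mem_zpowers u))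
      refine IsPGroup.to_le ?_ hle
      apply IsPGroup.to_sup_of_normal_right' hX hup
      rw [Subgroup.zpowers_le, Subgroup.mem_normalizer_iff]
      intro x
      constructor
      · rintro ⟨i, rfl⟩
        change v * u ^ i * v⁻¹ ∈ _
        rw [← conj_zpow, hvu]
        exact Subgroup.zpow_mem _ (Subgroup.inv_mem _ (Subgroup.mem_zpowers u)) i
      · rintro ⟨i, hi⟩
        have hi' : u ^ i = v * x * v⁻¹ := hi
        have : x = v * u ^ i * v⁻¹ := by
          rw [hi', hvinv]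
          calc x = (v ^ 2) * x * (v ^ 2) := by rw [hV2 v hv]; simp
            _ = _ := by simp only [sq, mul_assoc]
        rw [this, ← conj_zpow, hvu]
        exact Subgroup.zpow_mem _ (Subgroup.inv_mem _ (Subgroup.mem_zpowers u)) i
    obtain ⟨N, hNn, hNp, hXN⟩ := Cfsg.Agent.S0199.result (Subgroup.zpowers v) hX hpg
    have : v ∈ V ⊓ Cfsg.pCore 2 G :=
      ⟨hv, Cfsg.Agent.H1.le_pCore 2 hNn hNp (hXN (Subgroup.mem_zpowers v))⟩
    rw [hcon] at this
    exact hv1 this
  obtain ⟨a, ha, ha1⟩ : ∃ a ∈ V, a ≠ 1 := by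
    by_contra hno
    push Not at hno
    exact hV1 ((Subgroup.eq_bot_iff_forall _).mpr hno)
  obtain ⟨h, hh1, hho, ah⟩ := step1 a ha ha1
  obtain ⟨b, hb, hb1, bh⟩ := hS h a ha hho ah
  have hab : a ≠ b := by
    rintro rfl
    have : a * h * a⁻¹ = h := by rw [bh]; group
    exact hh1 (eq_one_of_inv h hho (ah ▸ this))
  have hc : a * b ∈ V := V.mul_mem ha hb
  have hc1 : a * b ≠ 1 := by
    intro h0
    apply hab
    rw [eq_inv_of_mul_eq_one_left h0, hVinv b hb]
  have hall : ∀ w ∈ V, w = 1 ∨ w = a ∨ w = b ∨ w = a * b := by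
    have hF : (({1, a, b, a * b} : Finset G) : Set G) = (V : Set G) := by
      apply Set.eq_of_subset_of_ncard_le
      · intro w hw
        simp only [Finset.coe_insert, Finset.coe_singleton, Set.mem_insert_iff,
          Set.mem_singleton_iff] at hw
        rcases hw with rfl | rfl | rfl | rfl
        · exact V.one_mem
        · exact ha
        · exact hb
        · exact hc
      · rw [Set.ncard_coe_finset]
        have hcard : ({1, a, b, a * b} : Finset G).card = 4 := by
          rw [Finset.card_insert_of_notMem, Finset.card_insert_of_notMem,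
            Finset.card_insert_of_notMem, Finset.card_singleton]
          · simp only [Finset.mem_singleton]
            intro h0
            exact ha1 (by simpa using h0.symm)
          · simp only [Finset.mem_insert, Finset.mem_singleton, not_or]
            exact ⟨hab, fun h0 => hb1 (by simpa using h0.symm)⟩
          · simp only [Finset.mem_insert, Finset.mem_singleton, not_or]
            exact ⟨ha1.symm, hb1.symm, hc1.symm⟩
        rw [hcard]
        exact h4
      · exact Set.toFinite _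
    intro w hw
    have : w ∈ (({1, a, b, a * b} : Finset G) : Set G) := by rw [hF]; exact hw
    simpa using this
  have ch : (a * b) * h * (a * b)⁻¹ = h⁻¹ := by
    calc (a * b) * h * (a * b)⁻¹ = a * (b * h) * b⁻¹ * a⁻¹ := by group
      _ = a * (h * b) * b⁻¹ * a⁻¹ := by rw [bh]
      _ = a * h * a⁻¹ := by group
      _ = h⁻¹ := ah
  obtain ⟨k, hk1, hko, bk⟩ := step1 b hb hb1
  obtain ⟨w, hw, hw1, wk⟩ := hS k b hb hko bk
  have inv_of : ∀ x : G, x * k = k * x → (x * b) * k * (x * b)⁻¹ = k⁻¹ := by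
    intro x hx
    calc (x * b) * k * (x * b)⁻¹ = x * (b * k * b⁻¹) * x⁻¹ := by group
      _ = (x * k * x⁻¹)⁻¹ := by rw [bk]; group
      _ = k⁻¹ := by rw [hx]; group
  rcases hall w hw with rfl | rfl | rfl | rfl
  · exact hw1 rfl
  · refine core V hS b w (w * b) h k hb hc ?_ hho hko hh1 hk1 bh ah ch bk wk (inv_of w wk)
    intro x hx hx1
    rcases hall x hx with h0 | h0 | h0 | h0
    · exact absurd h0 hx1
    · right; left; exact h0
    · left; exact h0
    · right; right; exact h0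
  · have : w * k * w⁻¹ = k := by rw [wk]; group
    exact hk1 (eq_one_of_inv k hko (bk ▸ this))
  · have e : a = (a * b) * b := by
      rw [mul_assoc, ← sq, hV2 b hb, mul_one]
    have ak : a * k * a⁻¹ = k⁻¹ := by
      have := inv_of (a * b) wk
      rwa [← e] at this
    refine core V hS b (a * b) a h k hb ha ?_ hho hko hh1 hk1 bh ch ah bk wk ak
    intro x hx hx1
    rcases hall x hx with h0 | h0 | h0 | h0
    · exact absurd h0 hx1
    · right; right; exact h0
    · left; exact h0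
    · right; left; exact h0

end Cfsg.Agent.S3011
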