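import Mathlib
import Cfsg.Statements.S3059
import Cfsg.Agent.Lib_helper1_PMin
import Cfsg.Agent.Lib_helper1_Transfer

set_option autoImplicit false
open Cfsg

namespace Cfsg.Agent.S3059


/-- Let p be a prime and H a strongly p-embedded subgroup of the finite group G in the classical sense: H is proper, p divides the order of H, and H ∩ gHg⁻¹ has order prime to p for every g outside H. Then for every normal subgroup N of G of order divisible by p, G = H · O^p(N), where O^p(N) is the subgroup generated by the elements of N of order prime to p. -/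
theorem result {G : Type*} [Group G] [Finite G]
    (p : ℕ) [Fact p.Prime] (H : Subgroup G) (hH : H ≠ ⊤) (hpH : p ∣ Nat.card H)
    (hse : ∀ g : G, g ∉ H → ¬ p ∣ Nat.card ↥(H ⊓ H.map (MulAut.conj g).toMonoidHom))
    (N : Subgroup G) [N.Normal] (hN : p ∣ Nat.card N) :
    H ⊔ Subgroup.closure {g : G | g ∈ N ∧ (orderOf g).Coprime p} = ⊤ := by
  have hp : p.Prime := Fact.out
  have hnorm : ∀ X : Subgroup G, X ≤ H → IsPGroup p X → X ≠ ⊥ →
      Subgroup.normalizer (X : Set G) ≤ H := by
    intro X hXH hXp hX1 g hg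
    by_contra hgH
    apply hse g hgH
    have h1 : X ≤ H ⊓ H.map (MulAut.conj g).toMonoidHom := by
      refine le_inf hXH ?_
      intro x hx
      refine ⟨g⁻¹ * x * g, hXH ((Subgroup.mem_normalizer_iff''.1 hg x).1 hx), ?_⟩
      change g * (g⁻¹ * x * g) * g⁻¹ = x
      group
    obtain ⟨k, hk⟩ := IsPGroup.iff_card.1 hXp
    have hk0 : k ≠ 0 := by
      rintro rfl
      rw [pow_zero] at hk
      exact hX1 (Subgroup.card_eq_one.1 hk)
    exact ((dvd_pow_self p hk0).trans hk.symm.dvd).trans (Subgroup.card_dvd_of_le h1)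
  obtain ⟨S, hSH⟩ : ∃ S : Sylow p G, (S : Subgroup G) ≤ H := by
    let T0 : Sylow p H := default
    set T := (T0 : Subgroup H).map H.subtype with hT
    have hTH : T ≤ H := Subgroup.map_subtype_le _
    have hTp : IsPGroup p T := T0.2.map _
    have hT1 : T ≠ ⊥ := by
      intro h0
      have h1 : Nat.card T = p ^ (Nat.card H).factorization p := by
        rw [hT, Subgroup.card_map_of_injective H.subtype_injective, Sylow.card_eq_multiplicity]
      rw [h0, Subgroup.card_bot] at h1
      have h2 : (Nat.card H).factorization p ≠ 0 :=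
        (hp.factorization_pos_of_dvd Nat.card_pos.ne' hpH).ne'
      exact h2 ((Nat.pow_eq_one.1 h1.symm).resolve_left hp.ne_one)
    obtain ⟨S, hS⟩ := hTp.exists_le_sylow
    refine ⟨S, ?_⟩
    by_contra hSH
    have hlt : T < S := lt_of_le_of_ne hS (by rintro h; exact hSH (h ▸ hTH))
    have h1 := H1.lt_inf_normalizer_of_nilpotent (S.2.isNilpotent) hlt
    obtain ⟨g, hg, hgT⟩ := SetLike.exists_of_lt h1
    have hgH : g ∈ H := hnorm T hTH hTp hT1 hg.2
    set Q := (T ⊔ Subgroup.zpowers g).subgroupOf H with hQ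
    have hQp : IsPGroup p Q :=
      H1.isPGroup_subgroupOf (S.2.to_le (sup_le hS (Subgroup.zpowers_le.2 hg.1))) H
    have hle : (T0 : Subgroup H) ≤ Q :=
      fun x hx => Subgroup.mem_subgroupOf.2 (Subgroup.mem_sup_left ⟨x, hx, rfl⟩)
    have hmax := T0.is_maximal' hQp hle
    apply hgT
    have h2 : (⟨g, hgH⟩ : H) ∈ Q :=
      Subgroup.mem_subgroupOf.2 (Subgroup.mem_sup_right (Subgroup.mem_zpowers g))
    rw [hmax] at h2
    exact ⟨⟨g, hgH⟩, h2, rfl⟩
  set T := (S : Subgroup G) ⊓ N with hT
  have hfr := H1.frattini_sylow_inf S (N := N) inferInstance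
  have hnd := H1.not_dvd_relIndex_sylow_inf S (C := N)
    (by rw [Subgroup.normalizer_eq_top]; exact le_top)
  have hT1 : T ≠ ⊥ := by
    intro h0
    apply hnd
    rw [← hT, h0, Subgroup.relIndex_bot_left]; exact hN
  have hTn := hnorm T (inf_le_left.trans hSH) (S.2.to_le inf_le_left) hT1
  set K := Subgroup.closure {g : G | g ∈ N ∧ (orderOf g).Coprime p} with hK
  have hKmap : K = (Cfsg.pResidual p N).map N.subtype := by
    rw [hK, Cfsg.pResidual, MonoidHom.map_closure]
    congr 1
    ext x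
    constructor
    · rintro ⟨hx, hxo⟩
      refine ⟨⟨x, hx⟩, ?_, rfl⟩
      change Nat.Coprime (orderOf (⟨x, hx⟩ : N)) p
      rw [← Subgroup.orderOf_coe]; exact hxo
    · rintro ⟨y, hy, rfl⟩
      refine ⟨y.2, ?_⟩
      change Nat.Coprime (orderOf y) p at hy
      rw [Subgroup.coe_subtype, Subgroup.orderOf_coe]; exact hy
  have hKrel : ∃ k, K.relIndex N = p ^ k := by
    haveI := H1.pResidual_normal (G := N) p
    obtain ⟨k, hk⟩ := IsPGroup.iff_card.1 (H1.isPGroup_quotient_pResidual (G := N) p)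
    refine ⟨k, ?_⟩
    rw [Subgroup.relIndex, hKmap, Subgroup.subgroupOf,
      Subgroup.comap_map_eq_self_of_injective N.subtype_injective, Subgroup.index_eq_card, hk]
  obtain ⟨k, hk⟩ := hKrel
  have hNle : N ≤ T ⊔ K := by
    rw [← Subgroup.relIndex_eq_one]
    have h1 : (T ⊔ K).relIndex N ∣ T.relIndex N := Subgroup.relIndex_dvd_of_le_left N le_sup_left
    have h2 : (T ⊔ K).relIndex N ∣ p ^ k := hk ▸ Subgroup.relIndex_dvd_of_le_left N le_sup_right
    obtain ⟨j, -, hj⟩ := (Nat.dvd_prime_pow hp).1 h2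
    rcases Nat.eq_zero_or_pos j with rfl | hjpos
    · simpa using hj
    · exact absurd ((dvd_pow_self p hjpos.ne').trans (hj ▸ h1)) hnd
  rw [eq_top_iff, ← hfr]
  exact sup_le (hNle.trans (sup_le ((inf_le_left.trans hSH).trans le_sup_left) le_sup_right))
    (hTn.trans le_sup_left)

end Cfsg.Agent.S3059
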