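import Mathlib
import Cfsg.Statements.S3062
import Cfsg.Agent.Lib_helper1_DStar

set_option autoImplicit false
open Cfsg

namespace Cfsg.Agent.S3062

open scoped commutatorElement
open Cfsg.Agent.H1 in
theorem dStar_le_maxAb {S : Type*} [Group S] [Finite S] {p : ℕ} [Fact p.Prime]
    (hS : IsPGroup p S) {A : Subgroup S} (hA : A ∈ Cfsg.maxAbelianSubgroups S) :
    Cfsg.dStar S ≤ A := by
  have hD := dStar_mem hS
  have hn := dStar_normal hS
  set D := Cfsg.dStar S with hDdef
  have hAA : ⁅A, A⁆ = ⊥ := commutator_eq_bot_of_comm hA.1 le_rfl le_rfl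
  have hact : AbAct D A := by
    refine ⟨fun v hv w hw => Cfsg.Agent.LeadJ.comm_of hD.1 hv hw, ?_, ?_⟩
    · rw [Subgroup.normalizer_eq_top]; exact le_top
    · rw [hAA]; exact bot_le
  have hmax : ∀ B : Subgroup S, B ≤ A →
      Nat.card B * Nat.card ↥(D ⊓ Subgroup.centralizer (B : Set S)) ≤
      Nat.card A * Nat.card ↥(D ⊓ Subgroup.centralizer (A : Set S)) := by
    intro B hBA
    set C := D ⊓ Subgroup.centralizer (B : Set S) with hC
    have hcomm : ∀ b ∈ B, ∀ c ∈ C, b * c = c * b := by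
      intro b hb c hc
      exact (Subgroup.mem_centralizer_iff.mp (Subgroup.mem_inf.mp hc).2) b hb
    have hE : IsMulCommutative (B ⊔ C : Subgroup S) :=
      Cfsg.Agent.LeadJ.comm_sup
        (Cfsg.Agent.LeadJ.comm_mk fun a ha b hb => Cfsg.Agent.LeadJ.comm_of hA.1 (hBA ha) (hBA hb))
        (Cfsg.Agent.LeadJ.comm_mk fun a ha b hb => Cfsg.Agent.LeadJ.comm_of hD.1
          (Subgroup.mem_inf.mp ha).1 (Subgroup.mem_inf.mp hb).1) hcomm
    have h1 := hA.2 _ hE
    have hnorm : C ≤ Subgroup.normalizer (B : Set S) := by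
      apply le_normalizer_of_conj_mem
      intro k hk d hd
      have : k * d * k⁻¹ = d := by rw [← hcomm d hd k hk]; group
      rw [this]; exact hd
    have h2 := card_sup_mul_card_inf' B C hnorm
    have h3 : B ⊓ C ≤ D ⊓ Subgroup.centralizer (A : Set S) := by
      intro x hx
      obtain ⟨hx1, hx2⟩ := Subgroup.mem_inf.mp hx
      refine Subgroup.mem_inf.mpr ⟨(Subgroup.mem_inf.mp hx2).1, ?_⟩
      rw [Subgroup.mem_centralizer_iff]
      intro a ha
      exact Cfsg.Agent.LeadJ.comm_of hA.1 ha (hBA hx1)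
    have h4 := Subgroup.card_le_of_le h3
    rw [← h2]
    exact Nat.mul_le_mul h1 h4
  have hr := hact.repl hmax (le_refl D)
  have hB0 : D ≤ Subgroup.centralizer
      ((A ⊓ Subgroup.centralizer ((⁅D, A⁆ : Subgroup S) : Set S) : Subgroup S) : Set S) := by
    rw [Subgroup.le_centralizer_iff]
    intro b hb
    obtain ⟨hb1, hb2⟩ := Subgroup.mem_inf.mp hb
    rw [Subgroup.mem_centralizer_iff]
    apply dStar_comm_of_quadratic hS
    intro d hd
    rw [commutatorElement_eq_one_iff_mul_comm]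
    exact Subgroup.mem_centralizer_iff.mp hb2 _ (Subgroup.commutator_mem_commutator hd hb1)
  have h2 : D = ⁅D, A⁆ ⊔ (D ⊓ Subgroup.centralizer (A : Set S)) := by
    rw [← hr.2]; exact (inf_eq_left.mpr hB0).symm
  have h3 : ⁅D, A⁆ = ⊥ := by
    apply hact.commutator_eq_bot_of_eq_sup le_rfl h2
    intro hne
    exact commutator_lt_of_pgroups (hS.to_subgroup _) (hS.to_subgroup _)
      (Subgroup.normalizer_commutator_ge_right D A) hne
  rw [Subgroup.commutator_eq_bot_iff_le_centralizer] at h3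
  have hE : IsMulCommutative (A ⊔ D : Subgroup S) :=
    Cfsg.Agent.LeadJ.comm_sup hA.1 hD.1 (fun a ha d hd => Subgroup.mem_centralizer_iff.mp (h3 hd) a ha)
  have h4 : A = A ⊔ D := Subgroup.eq_of_le_of_card_ge le_sup_left (hA.2 _ hE)
  rw [h4]; exact le_sup_right

/-- Let S be a finite p-group, J(S) the subgroup generated by the abelian subgroups of S of largest order and Z(J(S)) its centre. Then Z(S) ≤ D*(S) ≤ Z(J(S)), and every maximal normal abelian subgroup of S contains D*(S). -/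
theorem result {S : Type*} [Group S] [Finite S] {p : ℕ} [Fact p.Prime]
    (hS : IsPGroup p S) :
    Subgroup.center S ≤ Cfsg.dStar S ∧
    Cfsg.dStar S ≤ Cfsg.thompsonSubgroupA S ⊓ Subgroup.centralizer (Cfsg.thompsonSubgroupA S : Set S) ∧
    ∀ A : Subgroup S, A.Normal → IsMulCommutative A →
      (∀ B : Subgroup S, B.Normal → IsMulCommutative B → A ≤ B → B = A) → Cfsg.dStar S ≤ A := by
  have hD := Cfsg.Agent.H1.dStar_mem hS
  have hn := Cfsg.Agent.H1.dStar_normal hS
  refine ⟨le_sSup Cfsg.Agent.H1.center_mem_dStarFamily, le_inf ?_ ?_, ?_⟩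
  · have : Nonempty {A : Subgroup S // IsMulCommutative A} :=
      ⟨⟨⊥, Cfsg.Agent.LeadJ.comm_mk (by
        intro a ha b hb
        rw [Subgroup.mem_bot] at ha hb
        rw [ha, hb])⟩⟩
    obtain ⟨A, hA⟩ := Finite.exists_max (fun A : {A : Subgroup S // IsMulCommutative A} => Nat.card A.1)
    have hA' : A.1 ∈ Cfsg.maxAbelianSubgroups S := ⟨A.2, fun B hB => hA ⟨B, hB⟩⟩
    exact (dStar_le_maxAb hS hA').trans (le_sSup hA')
  · rw [Subgroup.le_centralizer_iff]
    apply sSup_le
    intro A hA a ha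
    rw [Subgroup.mem_centralizer_iff]
    intro d hd
    exact Cfsg.Agent.LeadJ.comm_of hA.1 (dStar_le_maxAb hS hA hd) ha
  · intro A hAn hAc hAmax
    have hcomm : ∀ a ∈ A, ∀ d ∈ Cfsg.dStar S, a * d = d * a := by
      intro a ha d hd
      symm
      apply Cfsg.Agent.H1.dStar_comm_of_quadratic hS _ d hd
      intro d' hd'
      rw [commutatorElement_eq_one_iff_mul_comm]
      apply Cfsg.Agent.LeadJ.comm_of hAc _ ha
      rw [commutatorElement_def]
      exact mul_mem (hAn.conj_mem a ha d') (inv_mem ha)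
    have hE : IsMulCommutative (A ⊔ Cfsg.dStar S : Subgroup S) :=
      Cfsg.Agent.LeadJ.comm_sup hAc hD.1 hcomm
    have h1 := hAmax (A ⊔ Cfsg.dStar S) inferInstance hE le_sup_left
    rw [← h1]; exact le_sup_right

end Cfsg.Agent.S3062
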