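import Cfsg.Statements.S3075
import Mathlib
import Cfsg.Agent.S3011

set_option autoImplicit false
open Cfsg

namespace Cfsg.Agent.S3075

/-- Let p be an odd prime and N a finite group with a normal elementary abelian subgroup A of order p² that is its own centralizer in N, such that N/A is isomorphic to SL₂(p) (over any field F with p elements). Then N splits over A: some subgroup U of N satisfies A ∩ U = 1 and AU = N. -/
theorem result {N : Type*} [Group N] [Finite N] {p : ℕ} [Fact p.Prime] (hp : p ≠ 2)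
    (A : Subgroup N) [A.Normal] (hAcomm : IsMulCommutative A) (hAcard : Nat.card A = p ^ 2) (hAexp : Monoid.exponent ↥A = p)
    (hAself : Subgroup.centralizer (A : Set N) = A)
    {F : Type*} [Field F] [Fintype F] (hF : Fintype.card F = p) (e : N ⧸ A ≃* Matrix.SpecialLinearGroup (Fin 2) F) :
    ∃ U : Subgroup N, A ⊓ U = ⊥ ∧ A ⊔ U = ⊤ := by
  classical
  have hpp : p.Prime := Fact.out
  have hpodd : Odd p := hpp.odd_of_ne_two hp
  -- the field has odd characteristic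
  have hneg : (-1 : F) ≠ 1 := by
    apply Ring.neg_one_ne_one_of_char_ne_two
    intro h2
    have := FiniteField.even_card_iff_char_two.mp h2
    rw [hF] at this
    rcases hpodd with ⟨j, hj⟩
    omega
  -- central involution of SL₂
  let ζ : Matrix.SpecialLinearGroup (Fin 2) F := ⟨-1, by rw [Matrix.det_neg, Matrix.det_one]; simp⟩
  have hζ1 : ζ ≠ 1 := by
    intro h0
    have := congrArg (fun M : Matrix.SpecialLinearGroup (Fin 2) F => (M : Matrix (Fin 2) (Fin 2) F) 0 0) h0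
    simp [ζ] at this
    exact hneg this
  have hζ2 : ζ * ζ = 1 := by
    apply Subtype.ext
    rw [Matrix.SpecialLinearGroup.coe_mul, Matrix.SpecialLinearGroup.coe_one]
    change (-1 : Matrix (Fin 2) (Fin 2) F) * (-1) = 1
    simp
  have hζc : ∀ g, ζ * g = g * ζ := by
    intro g
    apply Subtype.ext
    rw [Matrix.SpecialLinearGroup.coe_mul, Matrix.SpecialLinearGroup.coe_mul]
    change (-1 : Matrix (Fin 2) (Fin 2) F) * (g : Matrix (Fin 2) (Fin 2) F) = (g : Matrix (Fin 2) (Fin 2) F) * (-1)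
    simp
  have hnc : ∃ u v : Matrix.SpecialLinearGroup (Fin 2) F, u * v ≠ v * u := by
    refine ⟨⟨!![1, 1; 0, 1], by simp [Matrix.det_fin_two]⟩, ⟨!![1, 0; 1, 1], by simp [Matrix.det_fin_two]⟩, ?_⟩
    intro h0
    have := congrArg (fun M : Matrix.SpecialLinearGroup (Fin 2) F => (M : Matrix (Fin 2) (Fin 2) F) 0 0) h0
    change ((!![1, 1; 0, 1] : Matrix (Fin 2) (Fin 2) F) * (!![1, 0; 1, 1] : Matrix (Fin 2) (Fin 2) F) : Matrix (Fin 2) (Fin 2) F) 0 0
      = ((!![1, 0; 1, 1] : Matrix (Fin 2) (Fin 2) F) * (!![1, 1; 0, 1] : Matrix (Fin 2) (Fin 2) F) : Matrix (Fin 2) (Fin 2) F) 0 0 at this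
    simp [Matrix.mul_apply, Fin.sum_univ_two] at this
  set π := QuotientGroup.mk' A with hπ
  obtain ⟨z, hz⟩ : ∃ z, z = e.symm ζ := ⟨_, rfl⟩
  have hz1 : z ≠ 1 := by
    intro h0
    apply hζ1
    rw [hz] at h0
    have := congrArg e h0
    rwa [e.apply_symm_apply, map_one] at this
  have hz2 : z * z = 1 := by
    rw [hz, ← map_mul, hζ2, map_one]
  have hzc : ∀ q, z * q = q * z := by
    intro q
    apply e.injective
    rw [map_mul, map_mul, hz, e.apply_symm_apply, hζc]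
  obtain ⟨t₀, ht₀⟩ := QuotientGroup.mk'_surjective A z
  have hAp : ∀ a ∈ A, a ^ p = 1 := by
    intro a ha
    have := Monoid.pow_exponent_eq_one (⟨a, ha⟩ : A)
    rw [hAexp] at this
    exact congrArg Subtype.val this
  have hAodd : ∀ a ∈ A, Odd (orderOf a) := fun a ha =>
    Odd.of_dvd_nat hpodd (orderOf_dvd_of_pow_eq_one (hAp a ha))
  have hAc : ∀ a ∈ A, ∀ b ∈ A, a * b = b * a := fun a ha b hb =>
    congrArg Subtype.val (hAcomm.is_comm.comm ⟨a, ha⟩ ⟨b, hb⟩)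
  have hconjA : ∀ (g a : N), a ∈ A → g * a * g⁻¹ ∈ A := fun g a ha =>
    (inferInstance : A.Normal).conj_mem a ha g
  obtain ⟨t, ht⟩ : ∃ t, t = t₀ ^ p := ⟨_, rfl⟩
  have hπt : π t = z := by
    rw [ht, map_pow, ht₀]
    obtain ⟨j, hj⟩ := hpodd
    rw [hj, pow_succ, pow_mul, sq, hz2, one_pow, one_mul]
  have ht2 : t ^ 2 = 1 := by
    have h1 : t₀ ^ 2 ∈ A := by
      rw [← QuotientGroup.eq_one_iff]
      change π (t₀ ^ 2) = 1
      rw [map_pow, ht₀, sq, hz2]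
    rw [ht, ← pow_mul, mul_comm, pow_mul]
    exact hAp _ h1
  have htA : t ∉ A := by
    intro h0
    apply hz1
    rw [← hπt]
    exact (QuotientGroup.eq_one_iff t).mpr h0
  have htt : ∀ a, t * (t * a * t⁻¹) * t⁻¹ = a := by
    intro a
    calc t * (t * a * t⁻¹) * t⁻¹ = t ^ 2 * a * (t ^ 2)⁻¹ := by
          rw [sq, mul_inv_rev]; simp only [mul_assoc]
      _ = a := by rw [ht2]; simp
  have heq : ∀ g a, a ∈ A → t * (g * a * g⁻¹) * t⁻¹ = g * (t * a * t⁻¹) * g⁻¹ := by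
    intro g a ha
    have h1 : g⁻¹ * t * g * t⁻¹ ∈ A := by
      rw [← QuotientGroup.eq_one_iff]
      change π (g⁻¹ * t * g * t⁻¹) = 1
      rw [map_mul, map_mul, map_mul, map_inv, map_inv, hπt, mul_assoc (π g)⁻¹, hzc, ← mul_assoc,
        inv_mul_cancel, one_mul, mul_inv_cancel]
    have h2 := hAc _ h1 _ (hconjA t a ha)
    calc t * (g * a * g⁻¹) * t⁻¹
        = g * ((g⁻¹ * t * g * t⁻¹) * (t * a * t⁻¹)) * (g⁻¹ * t * g * t⁻¹)⁻¹ * g⁻¹ := by group
      _ = g * ((t * a * t⁻¹) * (g⁻¹ * t * g * t⁻¹)) * (g⁻¹ * t * g * t⁻¹)⁻¹ * g⁻¹ := by rw [h2]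
      _ = g * (t * a * t⁻¹) * g⁻¹ := by group
  have hcyc : ∀ (B : Subgroup N) (x y : N), B ≤ A → x ∈ B → x ≠ 1 → y ∈ A → y ∉ B →
      B = Subgroup.zpowers x := by
    intro B x y hBA hxB hx1 hyA hyB
    have hox : orderOf x = p := orderOf_eq_prime (hAp x (hBA hxB)) hx1
    have hle : Subgroup.zpowers x ≤ B := by rw [Subgroup.zpowers_le]; exact hxB
    have hd : Nat.card B ∣ p ^ 2 := hAcard ▸ Subgroup.card_dvd_of_le hBA
    obtain ⟨i, hi2, hi⟩ := (Nat.dvd_prime_pow hpp).mp hd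
    have hi012 : i = 0 ∨ i = 1 ∨ i = 2 := by omega
    rcases hi012 with rfl | rfl | rfl
    · exfalso
      rw [pow_zero] at hi
      have := Subgroup.card_eq_one.mp hi
      rw [this, Subgroup.mem_bot] at hxB
      exact hx1 hxB
    · symm
      apply Subgroup.eq_of_le_of_card_ge hle
      rw [hi, Nat.card_zpowers, hox, pow_one]
    · exfalso
      apply hyB
      have : B = A := Subgroup.eq_of_le_of_card_ge hBA (by rw [hi, hAcard])
      rw [this]; exact hyA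
  have hcomm_on : ∀ x : N, (∀ g : N, g * x * g⁻¹ ∈ Subgroup.zpowers x) → ∀ (g₁ g₂ u : N),
      u ∈ Subgroup.zpowers x → (g₁ * g₂) * u * (g₁ * g₂)⁻¹ = (g₂ * g₁) * u * (g₂ * g₁)⁻¹ := by
    intro x hx g₁ g₂ u hu
    obtain ⟨i, hi⟩ := hx g₁
    obtain ⟨j, hj⟩ := hx g₂
    obtain ⟨k, rfl⟩ := hu
    have hi' : x ^ i = g₁ * x * g₁⁻¹ := hi
    have hj' : x ^ j = g₂ * x * g₂⁻¹ := hj
    change (g₁ * g₂) * x ^ k * (g₁ * g₂)⁻¹ = (g₂ * g₁) * x ^ k * (g₂ * g₁)⁻¹
    rw [← conj_zpow, ← conj_zpow]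
    congr 1
    calc g₁ * g₂ * x * (g₁ * g₂)⁻¹ = g₁ * (g₂ * x * g₂⁻¹) * g₁⁻¹ := by group
      _ = (g₁ * x * g₁⁻¹) ^ j := by rw [← hj', conj_zpow]
      _ = x ^ (i * j) := by rw [← hi', zpow_mul]
      _ = (g₂ * x * g₂⁻¹) ^ i := by rw [← hj', ← zpow_mul, mul_comm]
      _ = g₂ * (g₁ * x * g₁⁻¹) * g₂⁻¹ := by rw [← hi', conj_zpow]
      _ = g₂ * g₁ * x * (g₂ * g₁)⁻¹ := by group
  have hfix : ∀ x ∈ A, t * x * t⁻¹ = x → x = 1 := by
    intro x hxA hx
    by_contra hx1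
    obtain ⟨y, hyA, hy1, hy⟩ : ∃ y ∈ A, y ≠ 1 ∧ t * y * t⁻¹ = y⁻¹ := by
      by_contra hno
      push Not at hno
      apply htA
      rw [← hAself, Subgroup.mem_centralizer_iff]
      intro a ha
      have hw : a * (t * a * t⁻¹)⁻¹ = 1 := by
        by_contra hw1
        apply hno _ (A.mul_mem ha (A.inv_mem (hconjA t a ha))) hw1
        calc t * (a * (t * a * t⁻¹)⁻¹) * t⁻¹ = (t * a * t⁻¹) * (t * (t * a * t⁻¹) * t⁻¹)⁻¹ := by group
          _ = (t * a * t⁻¹) * a⁻¹ := by rw [htt]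
          _ = (a * (t * a * t⁻¹)⁻¹)⁻¹ := by group
      have h1 : a = t * a * t⁻¹ := mul_inv_eq_one.mp hw
      calc a * t = (t * a * t⁻¹) * t := by rw [← h1]
        _ = t * a := by group
    let Am : Subgroup N :=
      { carrier := {a | a ∈ A ∧ t * a * t⁻¹ = a⁻¹}
        one_mem' := ⟨A.one_mem, by simp⟩
        mul_mem' := by
          rintro a b ⟨ha, ha'⟩ ⟨hb, hb'⟩
          refine ⟨A.mul_mem ha hb, ?_⟩
          calc t * (a * b) * t⁻¹ = (t * a * t⁻¹) * (t * b * t⁻¹) := by group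
            _ = a⁻¹ * b⁻¹ := by rw [ha', hb']
            _ = (b * a)⁻¹ := by group
            _ = (a * b)⁻¹ := by rw [hAc a ha b hb]
        inv_mem' := by
          rintro a ⟨ha, ha'⟩
          refine ⟨A.inv_mem ha, ?_⟩
          calc t * a⁻¹ * t⁻¹ = (t * a * t⁻¹)⁻¹ := by group
            _ = a⁻¹⁻¹ := by rw [ha'] }
    have hmemAp : ∀ a, a ∈ A ⊓ Subgroup.centralizer ({t} : Set N) ↔ a ∈ A ∧ t * a * t⁻¹ = a := by
      intro a
      rw [Subgroup.mem_inf, Subgroup.mem_centralizer_singleton_iff]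
      constructor
      · rintro ⟨h1, h2⟩
        exact ⟨h1, by rw [← h2]; group⟩
      · rintro ⟨h1, h2⟩
        refine ⟨h1, ?_⟩
        calc a * t = (t * a * t⁻¹) * t := by rw [h2]
          _ = t * a := by group
    have hApx : A ⊓ Subgroup.centralizer ({t} : Set N) = Subgroup.zpowers x := by
      apply hcyc _ x y inf_le_left ((hmemAp x).mpr ⟨hxA, hx⟩) hx1 hyA
      intro h0
      have := ((hmemAp y).mp h0).2
      exact hy1 (Cfsg.Agent.S3011.eq_one_of_inv y (hAodd y hyA) (hy ▸ this))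
    have hAmy : Am = Subgroup.zpowers y := by
      apply hcyc Am y x (fun a ha => ha.1) ⟨hyA, hy⟩ hy1 hxA
      intro h0
      have : t * x * t⁻¹ = x⁻¹ := h0.2
      exact hx1 (Cfsg.Agent.S3011.eq_one_of_inv x (hAodd x hxA) (this ▸ hx))
    have hxn : ∀ g : N, g * x * g⁻¹ ∈ Subgroup.zpowers x := by
      intro g
      rw [← hApx, hmemAp]
      exact ⟨hconjA g x hxA, by rw [heq g x hxA, hx]⟩
    have hyn : ∀ g : N, g * y * g⁻¹ ∈ Subgroup.zpowers y := by
      intro g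
      rw [← hAmy]
      refine ⟨hconjA g y hyA, ?_⟩
      rw [heq g y hyA, hy]
      group
    have hab : ∀ g₁ g₂ : N, π (g₁ * g₂) = π (g₂ * g₁) := by
      intro g₁ g₂
      have hc : (g₂ * g₁)⁻¹ * (g₁ * g₂) ∈ A := by
        rw [← hAself, Subgroup.mem_centralizer_iff]
        intro a ha
        have hP : a * (t * a * t⁻¹) ∈ Subgroup.zpowers x := by
          rw [← hApx, hmemAp]
          refine ⟨A.mul_mem ha (hconjA t a ha), ?_⟩
          calc t * (a * (t * a * t⁻¹)) * t⁻¹ = (t * a * t⁻¹) * (t * (t * a * t⁻¹) * t⁻¹) := by group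
            _ = (t * a * t⁻¹) * a := by rw [htt]
            _ = a * (t * a * t⁻¹) := hAc _ (hconjA t a ha) _ ha
        have hM : a * (t * a * t⁻¹)⁻¹ ∈ Subgroup.zpowers y := by
          rw [← hAmy]
          refine ⟨A.mul_mem ha (A.inv_mem (hconjA t a ha)), ?_⟩
          calc t * (a * (t * a * t⁻¹)⁻¹) * t⁻¹ = (t * a * t⁻¹) * (t * (t * a * t⁻¹) * t⁻¹)⁻¹ := by group
            _ = (t * a * t⁻¹) * a⁻¹ := by rw [htt]
            _ = (a * (t * a * t⁻¹)⁻¹)⁻¹ := by group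
        have e1 := hcomm_on x hxn g₁ g₂ _ hP
        have e2 := hcomm_on y hyn g₁ g₂ _ hM
        have hsq : a ^ 2 = (a * (t * a * t⁻¹)) * (a * (t * a * t⁻¹)⁻¹) := by
          calc a ^ 2 = a * a := sq a
            _ = a * (a * (t * a * t⁻¹)) * (t * a * t⁻¹)⁻¹ := by group
            _ = a * ((t * a * t⁻¹) * a) * (t * a * t⁻¹)⁻¹ := by rw [hAc a ha _ (hconjA t a ha)]
            _ = _ := by group
        have e3 : (g₁ * g₂) * a ^ 2 * (g₁ * g₂)⁻¹ = (g₂ * g₁) * a ^ 2 * (g₂ * g₁)⁻¹ := by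
          rw [hsq]
          calc (g₁ * g₂) * ((a * (t * a * t⁻¹)) * (a * (t * a * t⁻¹)⁻¹)) * (g₁ * g₂)⁻¹
              = ((g₁ * g₂) * (a * (t * a * t⁻¹)) * (g₁ * g₂)⁻¹)
                * ((g₁ * g₂) * (a * (t * a * t⁻¹)⁻¹) * (g₁ * g₂)⁻¹) := by group
            _ = ((g₂ * g₁) * (a * (t * a * t⁻¹)) * (g₂ * g₁)⁻¹)
                * ((g₂ * g₁) * (a * (t * a * t⁻¹)⁻¹) * (g₂ * g₁)⁻¹) := by rw [e1, e2]
            _ = _ := by group
        have e4 : Commute (a ^ 2) ((g₂ * g₁)⁻¹ * (g₁ * g₂)) := by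
          calc a ^ 2 * ((g₂ * g₁)⁻¹ * (g₁ * g₂))
              = (g₂ * g₁)⁻¹ * ((g₂ * g₁) * a ^ 2 * (g₂ * g₁)⁻¹) * (g₁ * g₂) := by group
            _ = (g₂ * g₁)⁻¹ * ((g₁ * g₂) * a ^ 2 * (g₁ * g₂)⁻¹) * (g₁ * g₂) := by rw [e3]
            _ = (g₂ * g₁)⁻¹ * (g₁ * g₂) * a ^ 2 := by group
        exact (Cfsg.Agent.S3011.comm_of_sq a _ (hAodd a ha) e4).eq
      have := (QuotientGroup.eq_one_iff _).mpr hc
      change π ((g₂ * g₁)⁻¹ * (g₁ * g₂)) = 1 at this
      rw [map_mul, map_inv, inv_mul_eq_one] at this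
      exact this.symm
    obtain ⟨u, v, huv⟩ := hnc
    obtain ⟨g₁, hg₁⟩ := QuotientGroup.mk'_surjective A (e.symm u)
    obtain ⟨g₂, hg₂⟩ := QuotientGroup.mk'_surjective A (e.symm v)
    apply huv
    have := hab g₁ g₂
    rw [map_mul, map_mul] at this
    change QuotientGroup.mk' A g₁ * QuotientGroup.mk' A g₂
      = QuotientGroup.mk' A g₂ * QuotientGroup.mk' A g₁ at this
    rw [hg₁, hg₂, ← map_mul, ← map_mul] at this
    exact e.symm.injective this
  have hinv : ∀ a ∈ A, t * a * t⁻¹ = a⁻¹ := by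
    intro a ha
    have h1 : a * (t * a * t⁻¹) = 1 := by
      apply hfix _ (A.mul_mem ha (hconjA t a ha))
      calc t * (a * (t * a * t⁻¹)) * t⁻¹ = (t * a * t⁻¹) * (t * (t * a * t⁻¹) * t⁻¹) := by group
        _ = (t * a * t⁻¹) * a := by rw [htt]
        _ = a * (t * a * t⁻¹) := hAc _ (hconjA t a ha) _ ha
    exact eq_inv_of_mul_eq_one_right h1
  refine ⟨Subgroup.centralizer ({t} : Set N), ?_, ?_⟩
  · rw [Subgroup.eq_bot_iff_forall]
    intro x hx
    obtain ⟨h1, h2⟩ := Subgroup.mem_inf.mp hx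
    rw [Subgroup.mem_centralizer_singleton_iff] at h2
    apply hfix x h1
    rw [← h2]; group
  · rw [eq_top_iff]
    intro g _
    have ha : g * t * g⁻¹ * t⁻¹ ∈ A := by
      rw [← QuotientGroup.eq_one_iff]
      change π (g * t * g⁻¹ * t⁻¹) = 1
      rw [map_mul, map_mul, map_mul, map_inv, map_inv, hπt, ← hzc, mul_assoc z, mul_inv_cancel,
        mul_one, mul_inv_cancel]
    obtain ⟨a, haa⟩ : ∃ a, a = g * t * g⁻¹ * t⁻¹ := ⟨_, rfl⟩
    rw [← haa] at ha
    obtain ⟨j, hj⟩ := hpodd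
    have hb : a ^ (j + 1) ∈ A := A.pow_mem ha _
    have hb2 : a ^ (j + 1) * a ^ (j + 1) = a := by
      rw [← pow_add]
      have : j + 1 + (j + 1) = p + 1 := by omega
      rw [this, pow_succ, hAp a ha, one_mul]
    obtain ⟨b, hbb⟩ : ∃ b, b = a ^ (j + 1) := ⟨_, rfl⟩
    rw [← hbb] at hb hb2
    have hbt : b * t * b⁻¹ = g * t * g⁻¹ := by
      have h1 := hinv b⁻¹ (A.inv_mem hb)
      rw [inv_inv] at h1
      calc b * t * b⁻¹ = b * (t * b⁻¹ * t⁻¹) * t := by group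
        _ = b * b * t := by rw [h1]
        _ = a * t := by rw [hb2]
        _ = g * t * g⁻¹ := by rw [haa]; group
    have hc : b⁻¹ * g ∈ Subgroup.centralizer ({t} : Set N) := by
      rw [Subgroup.mem_centralizer_singleton_iff]
      symm
      calc t * (b⁻¹ * g) = b⁻¹ * (b * t * b⁻¹) * g := by group
        _ = b⁻¹ * (g * t * g⁻¹) * g := by rw [hbt]
        _ = b⁻¹ * g * t := by group
    have : g = b * (b⁻¹ * g) := by group
    rw [this]
    exact Subgroup.mul_mem_sup hb hc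

end Cfsg.Agent.S3075
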