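import Cfsg.Statements.S3076
import Cfsg.Agent.Lib_helper8_FusEK

set_option autoImplicit false
open Cfsg

namespace Cfsg.Agent.S3076

/-- Let P be a Sylow p-subgroup of the finite group G and H ≤ P a subgroup with N_P(H) a Sylow p-subgroup of N_G(H). Let N be the preimage in N_G(H) of O_p(N_G(H)/C_G(H)). Then H is a Sylow p-subgroup of N if and only if C_P(H) ≤ H and O_{p',p}(N_G(H)) = H·C_G(H). -/
theorem result {G : Type*} [Group G] [Finite G] {p : ℕ} [Fact p.Prime]
    (P : Sylow p G) (H : Subgroup G) (hHP : H ≤ (P : Subgroup G))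
    (hSyl : ¬ p ∣ ((P : Subgroup G) ⊓ Subgroup.normalizer (H : Set G)).relIndex (Subgroup.normalizer (H : Set G)))
    [hC : ((Subgroup.centralizer (H : Set G)).subgroupOf (Subgroup.normalizer (H : Set G))).Normal] :
    (H ≤ ((Cfsg.pCore p (↥(Subgroup.normalizer (H : Set G)) ⧸
              (Subgroup.centralizer (H : Set G)).subgroupOf (Subgroup.normalizer (H : Set G)))).comap
            (QuotientGroup.mk' _)).map (Subgroup.normalizer (H : Set G)).subtype ∧
      ¬ p ∣ H.relIndex (((Cfsg.pCore p (↥(Subgroup.normalizer (H : Set G)) ⧸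
              (Subgroup.centralizer (H : Set G)).subgroupOf (Subgroup.normalizer (H : Set G)))).comap
            (QuotientGroup.mk' _)).map (Subgroup.normalizer (H : Set G)).subtype)) ↔
    ((P : Subgroup G) ⊓ Subgroup.centralizer (H : Set G) ≤ H ∧
      (Cfsg.pPrimePCore p ↥(Subgroup.normalizer (H : Set G))).map (Subgroup.normalizer (H : Set G)).subtype =
        H ⊔ Subgroup.centralizer (H : Set G)) := by
  classical
  set Y := Subgroup.normalizer (H : Set G) with hY
  set C := (Subgroup.centralizer (H : Set G)).subgroupOf Y with hCdef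
  set Q := H.subgroupOf Y with hQ
  have hHY : H ≤ Y := Subgroup.le_normalizer
  have hCY : Subgroup.centralizer (H : Set G) ≤ Y := by
    intro c hc
    rw [hY, Subgroup.mem_normalizer_iff]
    intro h
    constructor
    · intro hh
      have := Subgroup.mem_centralizer_iff.1 hc h hh
      have e : c * h * c⁻¹ = h := by rw [← this]; group
      rwa [e]
    · intro hh
      have := Subgroup.mem_centralizer_iff.1 hc _ hh
      have e : h = c * h * c⁻¹ := by
        have h2 : c * h * c⁻¹ * c = c * (c * h * c⁻¹) := this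
        have h3 : c * h = c * (c * h * c⁻¹) := by rw [← h2]; group
        exact mul_left_cancel h3
      rw [e]; exact hh
  have hQn : Q.Normal := by
    constructor
    intro q hq y
    exact (Subgroup.mem_normalizer_iff.1 y.2 q).1 hq
  have hRp : IsPGroup p (((P : Subgroup G) ⊓ Y).subgroupOf Y) :=
    (P.2.to_le inf_le_left).comap_subtype
  set R : Sylow p Y := hRp.toSylow hSyl with hR
  have hRc : (R : Subgroup Y) = ((P : Subgroup G) ⊓ Y).subgroupOf Y := rfl
  have hQR : Q ≤ R := by
    intro q hq
    rw [hRc, Subgroup.mem_subgroupOf]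
    exact ⟨hHP hq, q.2⟩
  have hCeq : C = Subgroup.centralizer (Q : Set Y) := by
    ext y
    rw [hCdef, Subgroup.mem_subgroupOf, Subgroup.mem_centralizer_iff, Subgroup.mem_centralizer_iff]
    constructor
    · intro h q hq
      exact Subtype.ext (h q hq)
    · intro h x hx
      exact congrArg Subtype.val (h ⟨x, hHY hx⟩ hx)
  have key := H8.centric_radical_iff R Q hQn hQR C hCeq
  set L := (Cfsg.pCore p (↥Y ⧸ C)).comap (QuotientGroup.mk' C) with hL
  have hLmap : (L.map Y.subtype).subgroupOf Y = L :=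
    Subgroup.comap_map_eq_self_of_injective Y.subtype_injective L
  have hLY : L.map Y.subtype ≤ Y := Subgroup.map_subtype_le L
  have e1 : (H ≤ L.map Y.subtype) ↔ Q ≤ L := by
    constructor
    · intro h q hq
      obtain ⟨l, hl, hlq⟩ := h hq
      have : l = q := Subtype.ext hlq
      rwa [← this]
    · intro h x hx
      exact ⟨⟨x, hHY hx⟩, h hx, rfl⟩
  have e2 : H.relIndex (L.map Y.subtype) = Q.relIndex L := by
    have := Subgroup.relIndex_subgroupOf (H := H) hLY
    rw [hLmap] at this
    exact this.symm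
  have e3 : ((P : Subgroup G) ⊓ Subgroup.centralizer (H : Set G) ≤ H) ↔ (R : Subgroup Y) ⊓ C ≤ Q := by
    constructor
    · rintro h y ⟨hy1, hy2⟩
      have hy1' : (y : G) ∈ (P : Subgroup G) ⊓ Y := hy1
      exact h ⟨hy1'.1, hy2⟩
    · rintro h x ⟨hx1, hx2⟩
      exact h (x := ⟨x, hCY hx2⟩) ⟨⟨hx1, hCY hx2⟩, hx2⟩
  have e4 : (Q ⊔ C).map Y.subtype = H ⊔ Subgroup.centralizer (H : Set G) := by
    rw [Subgroup.map_sup, hQ, hCdef, Subgroup.subgroupOf_map_subtype, Subgroup.subgroupOf_map_subtype,
      inf_eq_left.2 hHY, inf_eq_left.2 hCY]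
  have e5 : ((Cfsg.pPrimePCore p ↥Y).map Y.subtype = H ⊔ Subgroup.centralizer (H : Set G)) ↔
      Cfsg.pPrimePCore p ↥Y = Q ⊔ C := by
    rw [← e4]
    exact (Subgroup.map_injective Y.subtype_injective).eq_iff
  rw [e1, e2, e3, e5]
  exact key

end Cfsg.Agent.S3076
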