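import Cfsg.Statements.S3195
import Mathlib
import Cfsg.Agent.S3011

set_option autoImplicit false
open Cfsg

namespace Cfsg.Agent.S3195

/-- Let A be a Klein four-subgroup of a finite group G. If every G-conjugate of every involution of A commutes with some involution of A (its centralizer meets A nontrivially), then A meets the largest normal 2-subgroup O₂(G) nontrivially. -/
theorem result {G : Type*} [Group G] [Finite G]
    (A : Subgroup G) (hA : IsKleinFour ↥A)
    (h : ∀ a ∈ A, a ≠ 1 → ∀ g : G, A ⊓ Subgroup.centralizer ({g * a * g⁻¹} : Set G) ≠ ⊥) :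
    A ⊓ Cfsg.pCore 2 G ≠ ⊥ := by
  classical
  have hexp : Monoid.exponent ↥A = 2 := hA.exponent_two
  have hA2 : ∀ a ∈ A, a ^ 2 = 1 := by
    intro a ha
    have := Monoid.pow_exponent_eq_one (⟨a, ha⟩ : A)
    rw [hexp] at this
    exact congrArg Subtype.val this
  have hcomm : ∀ a b : A, a * b = b * a := fun a b => mul_comm_of_exponent_two hexp a b
  have hEA : Cfsg.IsElementaryAbelian 2 A := ⟨⟨⟨hcomm⟩⟩, hA2⟩
  have hA1 : A ≠ ⊥ := by
    intro h0
    have := hA.card_four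
    rw [h0, Subgroup.card_bot] at this
    omega
  apply Cfsg.Agent.S3011.result A hEA hA1 _ hA.card_four.le
  intro x v hv hx hvx
  by_cases hv1 : v = 1
  · subst hv1
    have hx1 : x = 1 := by
      apply Cfsg.Agent.S3011.eq_one_of_inv x hx
      rw [← hvx]; group
    obtain ⟨w, hw, hw1⟩ : ∃ a ∈ A, a ≠ 1 := by
      by_contra hno
      push Not at hno
      exact hA1 ((Subgroup.eq_bot_iff_forall _).mpr hno)
    exact ⟨w, hw, hw1, by rw [hx1]; simp⟩
  · obtain ⟨w, hw, hw1⟩ : ∃ a ∈ A ⊓ Subgroup.centralizer ({x * v * x⁻¹} : Set G), a ≠ 1 := by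
      by_contra hno
      push Not at hno
      exact h v hv hv1 x ((Subgroup.eq_bot_iff_forall _).mpr hno)
    obtain ⟨hwA, hwc⟩ := Subgroup.mem_inf.mp hw
    refine ⟨w, hwA, hw1, ?_⟩
    have hwc' : (x * v * x⁻¹) * w = w * (x * v * x⁻¹) :=
      Subgroup.mem_centralizer_iff.mp hwc _ rfl
    have e0 : v * x⁻¹ * v⁻¹ = x := by
      calc v * x⁻¹ * v⁻¹ = (v * x * v⁻¹)⁻¹ := by group
        _ = x := by rw [hvx, inv_inv]
    have e : x * v = v * x⁻¹ := by
      calc x * v = (v * x⁻¹ * v⁻¹) * v := by rw [e0]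
        _ = v * x⁻¹ := by group
    have e1 : x * v * x⁻¹ = v * (x ^ 2)⁻¹ := by rw [e]; group
    rw [e1] at hwc'
    have hvw : v * w = w * v := congrArg Subtype.val (hcomm ⟨v, hv⟩ ⟨w, hwA⟩)
    have e2 : Commute ((x ^ 2)⁻¹) w := by
      calc (x ^ 2)⁻¹ * w = v⁻¹ * (v * (x ^ 2)⁻¹ * w) := by group
        _ = v⁻¹ * (w * (v * (x ^ 2)⁻¹)) := by rw [hwc']
        _ = v⁻¹ * (w * v) * (x ^ 2)⁻¹ := by group
        _ = v⁻¹ * (v * w) * (x ^ 2)⁻¹ := by rw [hvw]
        _ = w * (x ^ 2)⁻¹ := by group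
    exact (Cfsg.Agent.S3011.comm_of_sq x w hx (Commute.inv_left_iff.mp e2)).eq.symm

end Cfsg.Agent.S3195
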