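import Cfsg.Statements.S3305
import Mathlib
import Cfsg.Agent.S3180

set_option autoImplicit false
open Cfsg

namespace Cfsg.Agent.S3305

theorem lift_sylow {G : Type*} [Group G] [Finite G] {p : ℕ} [Fact p.Prime] (H : Subgroup G) [H.Normal]
    (Sb : Sylow p (G ⧸ H)) (R : Subgroup G) (hR : IsPGroup p R)
    (hRS : R ≤ (Sb : Subgroup (G ⧸ H)).comap (QuotientGroup.mk' H)) :
    ∃ P : Sylow p G, R ≤ P ∧ (P : Subgroup G).map (QuotientGroup.mk' H) = Sb := by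
  obtain ⟨S0, hS0⟩ := Sylow.mapSurjective_surjective (QuotientGroup.mk'_surjective H) p Sb
  have hS0' : (S0 : Subgroup G).map (QuotientGroup.mk' H) = Sb := by
    rw [← hS0]; rfl
  have hS0le : (S0 : Subgroup G) ≤ (Sb : Subgroup (G ⧸ H)).comap (QuotientGroup.mk' H) := by
    rw [← Subgroup.map_le_iff_le_comap, hS0']
  obtain ⟨s, hs, P, hRP, hSP⟩ := Cfsg.Agent.S3180.conj_into_common _ R (S0 : Subgroup G) hRS hS0le hR S0.2
  refine ⟨P, hRP, ?_⟩
  apply Sb.is_maximal' (P.2.map _)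
  intro xb hxb
  have h1 : (QuotientGroup.mk' H s)⁻¹ * xb * (QuotientGroup.mk' H s) ∈ (Sb : Subgroup (G ⧸ H)) :=
    Subgroup.mul_mem _ (Subgroup.mul_mem _ (Subgroup.inv_mem _ hs) hxb) hs
  rw [← hS0'] at h1
  obtain ⟨y, hy, hy'⟩ := h1
  refine ⟨s * y * s⁻¹, hSP ⟨y, hy, rfl⟩, ?_⟩
  rw [map_mul, map_mul, hy', map_inv]
  group


/-- If any two distinct Sylow 2-subgroups of the finite group G intersect in a cyclic group, then the same holds in every quotient group G/H, H a normal subgroup of G. -/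
theorem result {G : Type*} [Group G] [Finite G]
    (hC : ∀ S T : Sylow 2 G, S ≠ T → IsCyclic ↥((S : Subgroup G) ⊓ (T : Subgroup G))) (H : Subgroup G) [H.Normal] :
    ∀ S T : Sylow 2 (G ⧸ H), S ≠ T → IsCyclic ↥((S : Subgroup (G ⧸ H)) ⊓ (T : Subgroup (G ⧸ H))) := by
  intro Sb Tb hne
  obtain ⟨S0, -, hS0⟩ := lift_sylow H Sb ⊥ (IsPGroup.of_bot) bot_le
  set R : Subgroup G := (S0 : Subgroup G) ⊓ ((Sb : Subgroup (G ⧸ H)) ⊓ (Tb : Subgroup (G ⧸ H))).comap (QuotientGroup.mk' H) with hR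
  have hRp : IsPGroup 2 R := S0.2.to_le inf_le_left
  obtain ⟨P, hRP, hP⟩ := lift_sylow H Tb R hRp (fun x hx => hx.2.2)
  have hne' : S0 ≠ P := by
    rintro rfl
    apply hne
    apply Sylow.ext
    rw [← hS0, ← hP]
  have hcyc := hC S0 P hne'
  have hmap : ((S0 : Subgroup G) ⊓ (P : Subgroup G)).map (QuotientGroup.mk' H) = (Sb : Subgroup (G ⧸ H)) ⊓ (Tb : Subgroup (G ⧸ H)) := by
    apply le_antisymm
    · rintro _ ⟨x, hx, rfl⟩
      exact ⟨hS0 ▸ ⟨x, hx.1, rfl⟩, hP ▸ ⟨x, hx.2, rfl⟩⟩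
    · intro xb hxb
      have h1 := hxb.1
      rw [← hS0] at h1
      obtain ⟨y, hy, rfl⟩ := h1
      have hyR : y ∈ R := ⟨hy, hxb⟩
      exact ⟨y, ⟨hy, hRP hyR⟩, rfl⟩
  rw [← hmap]
  exact isCyclic_of_surjective _ ((QuotientGroup.mk' H).subgroupMap_surjective _)

end Cfsg.Agent.S3305
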