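import Cfsg.Statements.S3303
import Mathlib
import Cfsg.Agent.S3305
import Cfsg.Agent.Lib_helper1_Cores2
import Cfsg.Agent.Lib_helper7_Cores

set_option autoImplicit false
open Cfsg

namespace Cfsg.Agent.S3303

theorem isPGroup_mulAut_cyclic {Q : Type*} [Group Q] [Finite Q] (hcyc : IsCyclic Q) (hQ : IsPGroup 2 Q) :
    IsPGroup 2 (MulAut Q) := by
  obtain ⟨k, hk⟩ := IsPGroup.iff_card.mp hQ
  have e := IsCyclic.mulAutMulEquiv Q
  have h1 : Nat.card (MulAut Q) = Nat.totient (2 ^ k) := by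
    rw [Nat.card_congr e.toEquiv, hk]
    haveI : NeZero (2 ^ k) := ⟨by positivity⟩
    rw [Nat.card_eq_fintype_card, ZMod.card_units_eq_totient]
  rcases Nat.eq_zero_or_pos k with rfl | hkpos
  · apply IsPGroup.of_card (n := 0)
    rw [h1]; simp
  · apply IsPGroup.of_card (n := k - 1)
    rw [h1, Nat.totient_prime_pow Nat.prime_two hkpos]
    simp

theorem core_case {X : Type*} [Group X] [Finite X] (hs : Group.IsSolvable X)
    (hO : Cfsg.pPrimeCore 2 X = ⊥)
    (hC : ∀ S T : Sylow 2 X, S ≠ T → IsCyclic ↥((S : Subgroup X) ⊓ (T : Subgroup X))) :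
    ∃ P : Sylow 2 X, (P : Subgroup X).Normal := by
  haveI : Fact (Nat.Prime 2) := ⟨Nat.prime_two⟩
  obtain ⟨P⟩ : Nonempty (Sylow 2 X) := inferInstance
  by_cases huniq : ∀ T : Sylow 2 X, T = P
  · haveI : Subsingleton (Sylow 2 X) := ⟨fun a b => (huniq a).trans (huniq b).symm⟩
    exact ⟨P, Sylow.normal_of_subsingleton P⟩
  push Not at huniq
  obtain ⟨T, hT⟩ := huniq
  have hcyc := hC T P hT
  set Q := Cfsg.pCore 2 X with hQ
  have hQle : Q ≤ (T : Subgroup X) ⊓ (P : Subgroup X) :=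
    le_inf (Cfsg.Agent.H7.pCore_le_sylow T) (Cfsg.Agent.H7.pCore_le_sylow P)
  have hQcyc : IsCyclic Q := by
    have h1 : IsCyclic (Q.subgroupOf ((T : Subgroup X) ⊓ (P : Subgroup X))) := inferInstance
    exact isCyclic_of_surjective _ (Subgroup.subgroupOfEquivOfLe hQle).surjective
  have hQp : IsPGroup 2 Q := Cfsg.Agent.H7.pCore_isPGroup 2
  have hcent : Subgroup.centralizer (Q : Set X) ≤ Q := by
    have h1 := Cfsg.Agent.H1.centralizer_fitting_le (G := X)
    rwa [Cfsg.Agent.H1.fitting_eq_pCore_of_pPrimeCore_eq_bot 2 hO] at h1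
  have hAut := isPGroup_mulAut_cyclic hQcyc hQp
  have hX : IsPGroup 2 X := by
    intro x
    obtain ⟨k, hk⟩ := hAut (MulAut.conjNormal x : MulAut Q)
    have h1 : x ^ 2 ^ k ∈ Q := by
      apply hcent
      rw [Subgroup.mem_centralizer_iff]
      intro q hq
      rw [← map_pow] at hk
      have h2 := congrArg (fun f : MulAut Q => ((f ⟨q, hq⟩ : Q) : X)) hk
      simp only [MulAut.conjNormal_apply, MulAut.one_apply] at h2
      calc q * x ^ 2 ^ k = (x ^ 2 ^ k * q * (x ^ 2 ^ k)⁻¹) * x ^ 2 ^ k := by rw [h2]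
        _ = x ^ 2 ^ k * q := by group
    obtain ⟨j, hj⟩ := hQp ⟨_, h1⟩
    refine ⟨k + j, ?_⟩
    have := congrArg Subtype.val hj
    simp only [Subgroup.coe_pow, Subgroup.coe_one] at this
    rw [pow_add, pow_mul, this]
  have : (P : Subgroup X) = ⊤ := by
    have := P.is_maximal' (Q := ⊤) (hX.to_subgroup ⊤) le_top
    exact this.symm
  exact ⟨P, this ▸ inferInstance⟩


/-- Let G be a finite solvable group in which the intersection of any two distinct Sylow 2-subgroups is cyclic. Then G/O(G) has a normal Sylow 2-subgroup, where O(G) is the largest normal subgroup of odd order. -/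
theorem result {G : Type*} [Group G] [Finite G] (hs : Group.IsSolvable G)
    (hC : ∀ S T : Sylow 2 G, S ≠ T → IsCyclic ↥((S : Subgroup G) ⊓ (T : Subgroup G))) :
    ∃ P : Sylow 2 (G ⧸ Cfsg.oddCore G), (P : Subgroup (G ⧸ Cfsg.oddCore G)).Normal := by
  apply core_case
  · infer_instance
  · exact Cfsg.Agent.H1.pPrimeCore_quotient_eq_bot 2
  · exact Cfsg.Agent.S3305.result hC _

end Cfsg.Agent.S3303
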