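import Cfsg.Statements.S3532
import Cfsg.Agent.Lib_helper6_AffSpec
import Cfsg.Agent.S2475

set_option autoImplicit false
open Cfsg

namespace Cfsg.Agent.S3532

theorem range_orderOf_prod {α β : Type*} [Monoid α] [Monoid β] :
    Set.range (orderOf : α × β → ℕ) =
      Set.image2 Nat.lcm (Set.range (orderOf : α → ℕ)) (Set.range (orderOf : β → ℕ)) := by
  ext m
  simp only [Set.mem_range, Set.mem_image2, Prod.exists, Prod.orderOf]
  constructor
  · rintro ⟨a, b, rfl⟩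
    exact ⟨_, ⟨a, rfl⟩, _, ⟨b, rfl⟩, rfl⟩
  · rintro ⟨_, ⟨a, rfl⟩, _, ⟨b, rfl⟩, rfl⟩
    exact ⟨a, b, rfl⟩

theorem image2_lcm_eq (p A B : ℕ) :
    Set.image2 Nat.lcm {m : ℕ | m ∣ p ∨ m ∣ A} {m : ℕ | m ∣ p ∨ m ∣ B} =
      Set.image2 Nat.lcm {m : ℕ | m ∣ p ∨ m ∣ A ∨ m ∣ B} {m : ℕ | m ∣ p ∨ m ∣ A ∨ m ∣ B} := by
  ext m
  simp only [Set.mem_image2, Set.mem_ofPred_eq]
  constructor
  · rintro ⟨a, ha, b, hb, rfl⟩
    refine ⟨a, ?_, b, ?_, rfl⟩
    · rcases ha with h | h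
      · exact Or.inl h
      · exact Or.inr (Or.inl h)
    · rcases hb with h | h
      · exact Or.inl h
      · exact Or.inr (Or.inr h)
  · rintro ⟨a, ha, b, hb, rfl⟩
    rcases ha with ha | ha | ha <;> rcases hb with hb | hb | hb
    · exact ⟨a.lcm b, Or.inl (Nat.lcm_dvd ha hb), 1, Or.inl (one_dvd _), by simp⟩
    · exact ⟨b, Or.inr hb, a, Or.inl ha, Nat.lcm_comm _ _⟩
    · exact ⟨a, Or.inl ha, b, Or.inr hb, rfl⟩
    · exact ⟨a, Or.inr ha, b, Or.inl hb, rfl⟩
    · exact ⟨a.lcm b, Or.inr (Nat.lcm_dvd ha hb), 1, Or.inl (one_dvd _), by simp⟩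
    · exact ⟨a, Or.inr ha, b, Or.inr hb, rfl⟩
    · exact ⟨b, Or.inl hb, a, Or.inr ha, Nat.lcm_comm _ _⟩
    · exact ⟨b, Or.inr hb, a, Or.inr ha, Nat.lcm_comm _ _⟩
    · exact ⟨1, Or.inl (one_dvd _), a.lcm b, Or.inr (Nat.lcm_dvd ha hb), by simp⟩

/-- Let q ≥ 4 be a prime power and L = PSL(2,q). There is a finite solvable group with the same set of element orders as L × L (so L × L is not determined by its spectrum). -/
theorem result {F : Type*} [Field F] [Fintype F] (hF : 4 ≤ Fintype.card F) :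
    ∃ (H : Type) (_ : Group H) (_ : Finite H), Group.IsSolvable H ∧
      Set.range (orderOf : H → ℕ) = Set.range (orderOf : Matrix.ProjectiveSpecialLinearGroup (Fin 2) F × Matrix.ProjectiveSpecialLinearGroup (Fin 2) F → ℕ) := by
  classical
  obtain ⟨p, hchar⟩ := CharP.exists F
  haveI : Fact p.Prime := ⟨CharP.char_is_prime F p⟩
  obtain ⟨n, -, hq⟩ := FiniteField.card F p
  set q := Fintype.card F with hqdef
  have hn0 : (n : ℕ) ≠ 0 := n.ne_zero
  letI : Fintype (GaloisField p n) := Fintype.ofFinite _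
  letI : Fintype (GaloisField p (2 * n)) := Fintype.ofFinite _
  have hc1 : Fintype.card (GaloisField p n) = q := by
    rw [← Nat.card_eq_fintype_card, GaloisField.card p n hn0, hq]
  have hc2 : Fintype.card (GaloisField p (2 * n)) = q ^ 2 := by
    rw [← Nat.card_eq_fintype_card, GaloisField.card p (2 * n) (by omega), hq, ← pow_mul, mul_comm]
  have hA : (q - 1) / Nat.gcd 2 (q - 1) ∣ Fintype.card (GaloisField p n) - 1 := by
    rw [hc1]
    exact Nat.div_dvd_of_dvd (Nat.gcd_dvd_right _ _)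
  have hB : (q + 1) / Nat.gcd 2 (q - 1) ∣ Fintype.card (GaloisField p (2 * n)) - 1 := by
    rw [hc2, H6.GL2C.sq_sub_one_eq q (by omega)]
    have hgd : Nat.gcd 2 (q - 1) ∣ q + 1 := by
      have h1 := Nat.gcd_dvd_left 2 (q - 1)
      have h2 := Nat.gcd_dvd_right 2 (q - 1)
      have : q + 1 = (q - 1) + 2 := by omega
      rw [this]
      exact Nat.dvd_add h2 h1
    exact (Nat.div_dvd_of_dvd hgd).mul_right _
  haveI := H6.Aff.finite_affG (E := GaloisField p n) (k := (q - 1) / Nat.gcd 2 (q - 1))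
  haveI := H6.Aff.finite_affG (E := GaloisField p (2 * n)) (k := (q + 1) / Nat.gcd 2 (q - 1))
  haveI := H6.Aff.isSolvable_affG (E := GaloisField p n) (k := (q - 1) / Nat.gcd 2 (q - 1))
  haveI := H6.Aff.isSolvable_affG (E := GaloisField p (2 * n)) (k := (q + 1) / Nat.gcd 2 (q - 1))
  refine ⟨H6.Aff.AffG (GaloisField p n) ((q - 1) / Nat.gcd 2 (q - 1)) ×
    H6.Aff.AffG (GaloisField p (2 * n)) ((q + 1) / Nat.gcd 2 (q - 1)), inferInstance, inferInstance,
    inferInstance, ?_⟩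
  rw [range_orderOf_prod, range_orderOf_prod, H6.Aff.spectrum_affG p hA, H6.Aff.spectrum_affG p hB,
    S2475.result p hF]
  exact image2_lcm_eq _ _ _

end Cfsg.Agent.S3532
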