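import Cfsg.Statements.S3554
import Mathlib

set_option autoImplicit false
open Cfsg

namespace Cfsg.Agent.S3554

/-- Let G act faithfully and transitively on a finite set and suppose G has a non-trivial cyclic normal subgroup. Then some element of G of prime order fixes no point. -/
theorem result {G Ω : Type*} [Group G] [Finite G] [MulAction G Ω] [FaithfulSMul G Ω] [Finite Ω]
    (htrans : MulAction.IsPretransitive G Ω) (C : Subgroup G) (hC : C.Normal) (hC1 : C ≠ ⊥) (hcyc : IsCyclic ↥C) :
    ∃ g : G, (orderOf g).Prime ∧ ∀ ω : Ω, g • ω ≠ ω := by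
  haveI := hC
  have hne : Nat.card C ≠ 1 := by
    intro h; exact hC1 (Subgroup.card_eq_one.mp h)
  obtain ⟨p, hp, hpd⟩ := Nat.exists_prime_and_dvd hne
  haveI := Fact.mk hp
  obtain ⟨c, hc⟩ := exists_prime_orderOf_dvd_card' p hpd
  refine ⟨(c : G), by rw [Subgroup.orderOf_coe, hc]; exact hp, ?_⟩
  intro ω hω
  have hall : ∀ ω' : Ω, (c : G) • ω' = ω' := by
    intro ω'
    obtain ⟨g, rfl⟩ := MulAction.exists_smul_eq G ω ω'
    obtain ⟨m, hm⟩ := MonoidHom.map_cyclic ((MulAut.conjNormal g⁻¹ : MulAut C).toMonoidHom)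
    have h1 : g⁻¹ * (c : G) * g = (c : G) ^ m := by
      have h2 := congrArg (Subtype.val) (hm c)
      simpa [MulAut.conjNormal_apply] using h2
    have h3 : ((c : G) ^ m) • ω = ω := by
      have : (c : G) ∈ MulAction.stabilizer G ω := hω
      exact (MulAction.stabilizer G ω).zpow_mem this m
    calc (c : G) • g • ω = g • ((g⁻¹ * c * g) • ω) := by simp [mul_smul]
      _ = g • ω := by rw [h1, h3]
  have h1 : (c : G) = 1 := FaithfulSMul.eq_of_smul_eq_smul (α := Ω) (fun ω' => by rw [hall, one_smul])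
  have h2 : orderOf (c : G) = p := by rw [Subgroup.orderOf_coe, hc]
  rw [h1, orderOf_one] at h2
  exact hp.one_lt.ne h2

end Cfsg.Agent.S3554
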