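import Cfsg.Statements.S3634
import Mathlib

set_option autoImplicit false
set_option linter.style.haveILetI false

open Cfsg

namespace Cfsg.Agent.S3634

/-- commuting nontrivial `p`- and `q`-elements give an element of order `p q`. -/
lemma exists_order_mul {G : Type*} [Group G] (p q : ℕ) (hp : p.Prime) (hq : q.Prime) (hpq : p ≠ q)
    (a b : G) (hab : a * b = b * a) (ha : a ≠ 1) (hb : b ≠ 1)
    (ha' : ∃ m : ℕ, a ^ (p ^ m) = 1) (hb' : ∃ m : ℕ, b ^ (q ^ m) = 1) :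
    ∃ x : G, orderOf x = p * q := by
  have key : ∀ (s : ℕ) (hs : s.Prime) (c : G), c ≠ 1 → (∃ m : ℕ, c ^ (s ^ m) = 1) →
      ∃ j : ℕ, orderOf (c ^ j) = s := by
    intro s hs c hc ⟨m, hm⟩
    obtain ⟨k, hk, hk'⟩ := (Nat.dvd_prime_pow hs).1 (orderOf_dvd_of_pow_eq_one hm)
    have hk0 : k ≠ 0 := by
      rintro rfl
      rw [pow_zero, orderOf_eq_one_iff] at hk'
      exact hc hk'
    refine ⟨orderOf c / s, ?_⟩
    have hdvd : s ∣ orderOf c := by
      rw [hk']; exact dvd_pow_self s hk0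
    have hpos : orderOf c ≠ 0 := by
      rw [hk']; exact pow_ne_zero _ hs.ne_zero
    exact orderOf_pow_orderOf_div hpos hdvd
  obtain ⟨i, hi⟩ := key p hp a ha ha'
  obtain ⟨j, hj⟩ := key q hq b hb hb'
  have hc : Commute (a ^ i) (b ^ j) := (show Commute a b from hab).pow_pow i j
  refine ⟨a ^ i * b ^ j, ?_⟩
  rw [hc.orderOf_mul_eq_mul_orderOf_of_coprime (by rw [hi, hj]; exact (Nat.coprime_primes hp hq).2 hpq),
    hi, hj]

/-- The Frobenius sum trick. -/
lemma core_prod {Γ W : Type*} [Group Γ] [CommGroup W] (φ : Γ →* MulAut W) (E : Subgroup Γ)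
    [Finite E] (x : Γ) (r : ℕ) (hr0 : 0 < r)
    (hx : x ^ r = 1) (hxE : ∀ e ∈ E, x * e * x⁻¹ ∈ E)
    (h1 : ∀ w : W, (∀ e ∈ E, φ e w = w) → w = 1)
    (h2 : ∀ g ∈ E, ∀ w : W, φ (g * x * g⁻¹) w = w → w = 1)
    (h3 : ∀ i, 0 < i → i < r → ∀ e ∈ E, x ^ i * e * (x ^ i)⁻¹ = e → e = 1) (v : W) :
    v ^ (Nat.card E) = 1 := by
  classical
  haveI : Fintype E := Fintype.ofFinite E
  have hT : ∀ w : W, ∏ e : E, φ (e : Γ) w = 1 := by
    intro w
    apply h1
    intro e' he'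
    rw [map_prod]
    refine Fintype.prod_equiv (Equiv.mulLeft (⟨e', he'⟩ : E)) _ _ ?_
    intro e
    simp [map_mul]
  have hS : ∀ g ∈ E, ∀ w : W, ∏ i ∈ Finset.range r, φ ((g * x * g⁻¹) ^ i) w = 1 := by
    intro g hg w
    apply h2 g hg
    rw [map_prod]
    have hgr : (g * x * g⁻¹) ^ r = 1 := by
      rw [conj_pow, hx]; simp
    have e1 : ∀ i, φ (g * x * g⁻¹) (φ ((g * x * g⁻¹) ^ i) w) = φ ((g * x * g⁻¹) ^ (i + 1)) w := by
      intro i
      rw [pow_succ', map_mul (f := φ) (g * x * g⁻¹)]; rfl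
    simp only [e1]
    have := Finset.prod_range_succ (fun i => φ ((g * x * g⁻¹) ^ i) w) r
    have h' := Finset.prod_range_succ' (fun i => φ ((g * x * g⁻¹) ^ i) w) r
    rw [this] at h'
    simp only [hgr, pow_zero] at h'
    exact (mul_right_cancel h').symm
  have hxiE : ∀ (i : ℕ), ∀ e ∈ E, x ^ i * e * (x ^ i)⁻¹ ∈ E := by
    intro i
    induction i with
    | zero => intro e he; simpa using he
    | succ k ih =>
      intro e he
      have := hxE _ (ih e he)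
      have e2 : x ^ (k + 1) * e * (x ^ (k + 1))⁻¹ = x * (x ^ k * e * (x ^ k)⁻¹) * x⁻¹ := by
        rw [pow_succ']; group
      rw [e2]; exact this
  have hmid : ∀ i, 0 < i → i < r → ∏ g : E, φ ((g : Γ) * x ^ i * (g : Γ)⁻¹) v = 1 := by
    intro i hi0 hir
    let f : E → E := fun g => ⟨(g : Γ) * (x ^ i * (g : Γ)⁻¹ * (x ^ i)⁻¹),
      E.mul_mem g.2 (hxiE i _ (E.inv_mem g.2))⟩
    have hfinj : Function.Injective f := by
      intro a b hab
      have hab' : (a : Γ) * (x ^ i * (a : Γ)⁻¹ * (x ^ i)⁻¹) = (b : Γ) * (x ^ i * (b : Γ)⁻¹ * (x ^ i)⁻¹) :=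
        congrArg Subtype.val hab
      -- b⁻¹ a is fixed
      have hfix : x ^ i * ((b : Γ)⁻¹ * a) * (x ^ i)⁻¹ = (b : Γ)⁻¹ * a := by
        have e3 : (b : Γ)⁻¹ * a = (x ^ i * (b : Γ)⁻¹ * (x ^ i)⁻¹) * (x ^ i * (a : Γ)⁻¹ * (x ^ i)⁻¹)⁻¹ := by
          rw [eq_mul_inv_iff_mul_eq, mul_assoc, hab', inv_mul_cancel_left]
        calc x ^ i * ((b : Γ)⁻¹ * a) * (x ^ i)⁻¹
            = (x ^ i * (b : Γ)⁻¹ * (x ^ i)⁻¹) * (x ^ i * (a : Γ)⁻¹ * (x ^ i)⁻¹)⁻¹ := by group
          _ = (b : Γ)⁻¹ * a := e3.symm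
      have := h3 i hi0 hir _ (E.mul_mem (E.inv_mem b.2) a.2) hfix
      exact Subtype.ext (inv_mul_eq_one.1 this).symm
    have hfbij : Function.Bijective f := Finite.injective_iff_bijective.1 hfinj
    rw [← hT (φ (x ^ i) v)]
    refine Fintype.prod_bijective f hfbij _ _ ?_
    intro g
    have e4 : (g : Γ) * x ^ i * (g : Γ)⁻¹ = ((f g : E) : Γ) * x ^ i := by
      simp only [f]; group
    rw [e4, map_mul]; rfl
  have htot : ∏ g : E, ∏ i ∈ Finset.range r, φ (((g : Γ) * x * (g : Γ)⁻¹) ^ i) v = 1 :=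
    Finset.prod_eq_one (fun g _ => hS g g.2 v)
  rw [Finset.prod_comm] at htot
  rw [Finset.prod_eq_single_of_mem 0 (Finset.mem_range.2 hr0)] at htot
  · simpa [Nat.card_eq_fintype_card] using htot
  · intro i hi hi0
    have := hmid i (Nat.pos_of_ne_zero hi0) (Finset.mem_range.1 hi)
    simpa [conj_pow] using this

lemma core {Γ : Type*} [Group Γ] [Finite Γ] (P Q : Subgroup Γ) [P.Normal] (p q r : ℕ)
    (hp : p.Prime) (hq : q.Prime) (hr : r.Prime) (hpq : p ≠ q) (hpr : p ≠ r) (hqr : q ≠ r)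
    (hP : IsPGroup p P) (hP1 : P ≠ ⊥) (hQ : IsPGroup q Q) (hQ1 : Q ≠ ⊥) (x : Γ)
    (hx : orderOf x = r) (hxQ : ∀ e ∈ Q, x * e * x⁻¹ ∈ Q)
    (no1 : ¬ ∃ y : Γ, orderOf y = p * q) (no2 : ¬ ∃ y : Γ, orderOf y = p * r)
    (no3 : ¬ ∃ y : Γ, orderOf y = q * r) : False := by
  classical
  haveI : Fact p.Prime := ⟨hp⟩
  haveI : Fact q.Prime := ⟨hq⟩
  let V : Subgroup Γ := P ⊓ Subgroup.centralizer (P : Set Γ)
  haveI hVn : V.Normal := inferInstance
  have hVc : ∀ a b : V, a * b = b * a := by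
    intro a b
    apply Subtype.ext
    have := (Subgroup.mem_centralizer_iff.1 b.2.2) a a.2.1
    exact this
  letI : CommGroup V := { (inferInstance : Group V) with mul_comm := hVc }
  have hVp : ∀ w : V, ∃ m : ℕ, (w : Γ) ^ (p ^ m) = 1 := by
    intro w
    obtain ⟨m, hm⟩ := hP ⟨w, w.2.1⟩
    exact ⟨m, congrArg Subtype.val hm⟩
  have hQp : ∀ e ∈ Q, ∃ m : ℕ, e ^ (q ^ m) = 1 := by
    intro e he
    obtain ⟨m, hm⟩ := hQ ⟨e, he⟩
    exact ⟨m, congrArg Subtype.val hm⟩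
  -- nontrivial central element
  haveI : Nontrivial P := (Subgroup.nontrivial_iff_ne_bot P).2 hP1
  haveI := hP.center_nontrivial
  obtain ⟨z, hz⟩ := exists_ne (1 : Subgroup.center P)
  have hzV : ((z : P) : Γ) ∈ V := by
    refine Subgroup.mem_inf.2 ⟨(z : P).2, ?_⟩
    rw [Subgroup.mem_centralizer_iff]
    intro h hh
    have := (Subgroup.mem_center_iff.1 z.2) ⟨h, hh⟩
    exact congrArg Subtype.val this
  obtain ⟨e₀, he₀, he₀1⟩ : ∃ e ∈ Q, e ≠ 1 := by
    by_contra hcon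
    exact hQ1 ((Subgroup.eq_bot_iff_forall Q).2 (fun e he => by
      by_contra h1
      exact hcon ⟨e, he, h1⟩))
  have hxr : x ^ r = 1 := by rw [← hx]; exact pow_orderOf_eq_one x
  have hx1 : x ≠ 1 := by
    rintro rfl
    rw [orderOf_one] at hx
    exact hr.one_lt.ne hx
  have key := core_prod (MulAut.conjNormal : Γ →* MulAut V) Q x r hr.pos hxr hxQ
    (by
      intro w hw
      by_contra hw1
      have h := congrArg Subtype.val (hw e₀ he₀)
      rw [MulAut.conjNormal_apply] at h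
      apply no1
      refine exists_order_mul p q hp hq hpq (w : Γ) e₀ ?_ (fun h' => hw1 (Subtype.ext h')) he₀1
        (hVp w) (hQp e₀ he₀)
      exact (mul_inv_eq_iff_eq_mul.1 h).symm)
    (by
      intro g hg w hw
      by_contra hw1
      have h := congrArg Subtype.val hw
      rw [MulAut.conjNormal_apply] at h
      apply no2
      refine exists_order_mul p r hp hr hpr (w : Γ) (g * x * g⁻¹) ?_ (fun h' => hw1 (Subtype.ext h'))
        ?_ (hVp w) ⟨1, by rw [pow_one, conj_pow, hxr]; simp⟩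
      · exact (mul_inv_eq_iff_eq_mul.1 h).symm
      · intro h'
        apply hx1
        have : x = g⁻¹ * (g * x * g⁻¹) * g := by group
        rw [this, h']; simp)
    (by
      intro i hi0 hir e he hfix
      by_contra he1
      apply no3
      refine exists_order_mul q r hq hr hqr e (x ^ i) ?_ he1
        (pow_ne_one_of_lt_orderOf hi0.ne' (by rw [hx]; exact hir)) (hQp e he)
        ⟨1, by rw [pow_one, ← pow_mul, mul_comm, pow_mul, hxr, one_pow]⟩
      exact (mul_inv_eq_iff_eq_mul.1 hfix).symm)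
    ⟨((z : P) : Γ), hzV⟩
  obtain ⟨n, hn⟩ := (IsPGroup.iff_card).1 hQ
  obtain ⟨m, hm⟩ := hVp ⟨((z : P) : Γ), hzV⟩
  have k' : (((z : P) : Γ)) ^ (q ^ n) = 1 := by
    have := congrArg Subtype.val key
    rw [hn] at this
    simpa using this
  have d1 := orderOf_dvd_of_pow_eq_one k'
  have d2 := orderOf_dvd_of_pow_eq_one hm
  have hcop : Nat.Coprime (q ^ n) (p ^ m) :=
    Nat.Coprime.pow n m ((Nat.coprime_primes hq hp).2 hpq.symm)
  have h1 : orderOf (((z : P) : Γ)) = 1 := Nat.dvd_one.1 (hcop ▸ Nat.dvd_gcd d1 d2)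
  rw [orderOf_eq_one_iff] at h1
  apply hz
  apply Subtype.ext
  apply Subtype.ext
  exact h1

lemma exists_pow_order {G : Type*} [Group G] [Finite G] (L : Subgroup G) [L.Normal] (s : ℕ)
    (hs : s.Prime) (n : G) (h1 : n ∉ L) (h2 : n ^ s ∈ L) : ∃ j : ℕ, orderOf (n ^ j) = s := by
  haveI : Fact s.Prime := ⟨hs⟩
  have ho : orderOf (QuotientGroup.mk' L n) = s := by
    apply orderOf_eq_prime
    · rw [← map_pow]
      exact (QuotientGroup.eq_one_iff _).2 h2
    · intro h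
      exact h1 ((QuotientGroup.eq_one_iff _).1 h)
  have hdvd : s ∣ orderOf n := ho ▸ orderOf_map_dvd (QuotientGroup.mk' L) n
  exact ⟨orderOf n / s, orderOf_pow_orderOf_div (orderOf_pos n).ne' hdvd⟩

lemma lift_aux {G : Type*} [Group G] (L : Subgroup G) [L.Normal] (n n₁ k : G) (hk : k ∈ L)
    (h : n = n₁ * k) (s : ℕ) (h1 : n ∉ L) (h2 : n ^ s ∈ L) : n₁ ∉ L ∧ n₁ ^ s ∈ L := by
  constructor
  · intro h'
    exact h1 (h ▸ L.mul_mem h' hk)
  · have e : QuotientGroup.mk' L n = QuotientGroup.mk' L n₁ := by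
      rw [h, map_mul, (QuotientGroup.eq_one_iff k).2 hk |> (fun t => (t : QuotientGroup.mk' L k = 1)),
        mul_one]
    have : QuotientGroup.mk' L (n₁ ^ s) = 1 := by
      rw [map_pow, ← e, ← map_pow]
      exact (QuotientGroup.eq_one_iff _).2 h2
    exact (QuotientGroup.eq_one_iff _).1 this

lemma cauchy_quot {G : Type*} [Group G] [Finite G] (L : Subgroup G) [L.Normal] (s : ℕ)
    (hs : s.Prime) (hd : s ∣ Nat.card G / Nat.card L) : ∃ n : G, n ∉ L ∧ n ^ s ∈ L := by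
  haveI : Fact s.Prime := ⟨hs⟩
  have hc : Nat.card (G ⧸ L) = Nat.card G / Nat.card L := by
    rw [← Subgroup.index_eq_card, ← Subgroup.card_mul_index L,
      Nat.mul_div_cancel_left _ Nat.card_pos]
  obtain ⟨x, hx⟩ := exists_prime_orderOf_dvd_card' (G := G ⧸ L) s (hc ▸ hd)
  obtain ⟨n, rfl⟩ := QuotientGroup.mk_surjective x
  refine ⟨n, ?_, ?_⟩
  · intro h
    have : (QuotientGroup.mk n : G ⧸ L) = 1 := (QuotientGroup.eq_one_iff _).2 h
    rw [this, orderOf_one] at hx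
    exact hs.one_lt.ne hx
  · apply (QuotientGroup.eq_one_iff _).1
    rw [QuotientGroup.mk_pow, ← hx]
    exact pow_orderOf_eq_one _

lemma frattini {G : Type*} [Group G] [Finite G] (L : Subgroup G) [L.Normal] (s : ℕ)
    [Fact s.Prime] (S : Sylow s L) (g : G) :
    ∃ n ∈ Subgroup.normalizer (((S : Subgroup L).map L.subtype : Subgroup G) : Set G),
      ∃ k ∈ L, g = n * k := by
  have h := Sylow.normalizer_sup_eq_top S
  have hg : g ∈ Subgroup.normalizer (((S : Subgroup L).map L.subtype : Subgroup G) : Set G) ⊔ L := by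
    rw [h]; trivial
  obtain ⟨y, hy, z, hz, e⟩ := Subgroup.mem_sup_of_normal_right.1 hg
  exact ⟨y, hy, z, hz, e.symm⟩

/-- Let G be a finite group with normal subgroups K ≤ M, and let p, q, r be distinct primes with p dividing the order of K, q dividing the order of M/K and r dividing the order of G/M. Then p, q, r are not pairwise non-adjacent in the prime graph of G: G has an element of order pq, pr or qr. -/
theorem result {G : Type*} [Group G] [Finite G] (K M : Subgroup G) [K.Normal] [M.Normal] (hKM : K ≤ M)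
    (p q r : ℕ) (hp : p.Prime) (hq : q.Prime) (hr : r.Prime) (hpq : p ≠ q) (hpr : p ≠ r) (hqr : q ≠ r)
    (hpK : p ∣ Nat.card ↥K) (hqM : q ∣ Nat.card ↥M / Nat.card ↥K) (hrG : r ∣ Nat.card G / Nat.card ↥M) :
    (∃ x : G, orderOf x = p * q) ∨ (∃ x : G, orderOf x = p * r) ∨ (∃ x : G, orderOf x = q * r) := by

  classical
  by_contra hno
  have no1 : ¬ ∃ x : G, orderOf x = p * q := fun h => hno (Or.inl h)
  have no2 : ¬ ∃ x : G, orderOf x = p * r := fun h => hno (Or.inr (Or.inl h))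
  have no3 : ¬ ∃ x : G, orderOf x = q * r := fun h => hno (Or.inr (Or.inr h))
  haveI : Fact p.Prime := ⟨hp⟩
  haveI : Fact q.Prime := ⟨hq⟩
  let P₀ : Sylow p K := default
  let P : Subgroup G := (P₀ : Subgroup K).map K.subtype
  have hP : IsPGroup p P := P₀.isPGroup'.map K.subtype
  have hP1 : P ≠ ⊥ := by
    intro h
    exact P₀.ne_bot_of_dvd_card hpK
      ((Subgroup.map_eq_bot_iff_of_injective _ K.subtype_injective).1 h)
  let N₁ : Subgroup G := Subgroup.normalizer (P : Set G)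
  let P' : Subgroup N₁ := P.subgroupOf N₁
  haveI : P'.Normal := Subgroup.normal_in_normalizer
  have hP' : IsPGroup p P' := hP.comap_subtype
  have hP'1 : P' ≠ ⊥ := by
    intro h
    apply hP1
    rw [Subgroup.eq_bot_iff_forall]
    intro z hz
    have : (⟨z, Subgroup.le_normalizer hz⟩ : N₁) ∈ P' := Subgroup.mem_subgroupOf.2 hz
    rw [h, Subgroup.mem_bot] at this
    exact congrArg Subtype.val this
  let M' : Subgroup N₁ := M.subgroupOf N₁
  haveI : M'.Normal := inferInstance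
  -- element of order q in M ⊓ N₁
  have hcK : Nat.card (K.subgroupOf M) = Nat.card K :=
    Nat.card_congr (Subgroup.subgroupOfEquivOfLe hKM).toEquiv
  obtain ⟨m, hm1, hm2⟩ := cauchy_quot (K.subgroupOf M) q hq (by rw [hcK]; exact hqM)
  have hm1' : (m : G) ∉ K := fun h => hm1 (Subgroup.mem_subgroupOf.2 h)
  have hm2' : (m : G) ^ q ∈ K := by
    have := Subgroup.mem_subgroupOf.1 hm2
    simpa using this
  obtain ⟨n₁, hn₁, k, hk, e1⟩ := frattini K p P₀ (m : G)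
  obtain ⟨hn₁K, hn₁q⟩ := lift_aux K _ n₁ k hk e1 q hm1' hm2'
  have hn₁M : n₁ ∈ M := by
    have : n₁ = (m : G) * k⁻¹ := by rw [e1]; group
    rw [this]
    exact M.mul_mem m.2 (M.inv_mem (hKM hk))
  obtain ⟨j, hj⟩ := exists_pow_order K q hq n₁ hn₁K hn₁q
  let Q₀ : Sylow q M' := default
  let Q : Subgroup N₁ := (Q₀ : Subgroup M').map M'.subtype
  have hQ : IsPGroup q Q := Q₀.isPGroup'.map M'.subtype
  have hQ1 : Q ≠ ⊥ := by
    intro h
    refine Q₀.ne_bot_of_dvd_card ?_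
      ((Subgroup.map_eq_bot_iff_of_injective _ M'.subtype_injective).1 h)
    have hy : (⟨n₁ ^ j, N₁.pow_mem hn₁ j⟩ : N₁) ∈ M' := Subgroup.mem_subgroupOf.2 (M.pow_mem hn₁M j)
    have := orderOf_dvd_natCard (⟨⟨n₁ ^ j, N₁.pow_mem hn₁ j⟩, hy⟩ : M')
    rwa [Subgroup.orderOf_mk, Subgroup.orderOf_mk, hj] at this
  -- element of order r
  obtain ⟨n, hn1, hn2⟩ := cauchy_quot M r hr hrG
  obtain ⟨n₂, hn₂, k₂, hk₂, e2⟩ := frattini K p P₀ n
  obtain ⟨hn₂M, hn₂r⟩ := lift_aux M _ n₂ k₂ (hKM hk₂) e2 r hn1 hn2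
  have hν1 : (⟨n₂, hn₂⟩ : N₁) ∉ M' := fun h => hn₂M (Subgroup.mem_subgroupOf.1 h)
  have hν2 : (⟨n₂, hn₂⟩ : N₁) ^ r ∈ M' := by
    apply Subgroup.mem_subgroupOf.2
    simpa using hn₂r
  obtain ⟨ν₁, hν₁, μ, hμ, e3⟩ := frattini M' q Q₀ (⟨n₂, hn₂⟩ : N₁)
  obtain ⟨ha, hb⟩ := lift_aux M' _ ν₁ μ hμ e3 r hν1 hν2
  obtain ⟨j', hj'⟩ := exists_pow_order M' r hr ν₁ ha hb
  have hxN : ν₁ ^ j' ∈ Subgroup.normalizer (Q : Set N₁) := Subgroup.pow_mem _ hν₁ j'
  refine core P' Q p q r hp hq hr hpq hpr hqr hP' hP'1 hQ hQ1 (ν₁ ^ j') hj'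
    (fun e he => (Subgroup.mem_normalizer_iff.1 hxN e).1 he) ?_ ?_ ?_
  · rintro ⟨y, hy⟩
    exact no1 ⟨(y : G), by rw [Subgroup.orderOf_coe, hy]⟩
  · rintro ⟨y, hy⟩
    exact no2 ⟨(y : G), by rw [Subgroup.orderOf_coe, hy]⟩
  · rintro ⟨y, hy⟩
    exact no3 ⟨(y : G), by rw [Subgroup.orderOf_coe, hy]⟩

end Cfsg.Agent.S3634
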