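import Cfsg.Statements.S3633
import Cfsg.Agent.S3634
import Mathlib

set_option autoImplicit false
set_option linter.style.haveILetI false

open Cfsg
open scoped commutatorElement

namespace Cfsg.Agent.S3633

lemma dvd_div_aux (q a b : ℕ) (hq : q.Prime) (hab : a ∣ b) (hqb : q ∣ b) (hna : ¬ q ∣ a) :
    q ∣ b / a := by
  obtain ⟨c, rfl⟩ := hab
  rcases Nat.eq_zero_or_pos a with h0 | h0
  · subst h0; exact absurd (dvd_zero q) hna
  · rw [Nat.mul_div_cancel_left _ h0]
    exact (hq.dvd_mul.1 hqb).resolve_left hna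

/-- two primes in an abelian section -/
lemma abelian_section {G : Type*} [Group G] [Finite G] (N K : Subgroup G) [N.Normal]
    (hc : ⁅K, K⁆ ≤ N) (a b : ℕ) (ha : a.Prime) (hb : b.Prime) (hab : a ≠ b)
    (haK : a ∣ Nat.card K) (hbK : b ∣ Nat.card K) (haN : ¬ a ∣ Nat.card N)
    (hbN : ¬ b ∣ Nat.card N) : ∃ x : G, orderOf x = a * b := by
  haveI : Fact a.Prime := ⟨ha⟩
  haveI : Fact b.Prime := ⟨hb⟩
  obtain ⟨x, hx⟩ := exists_prime_orderOf_dvd_card' (G := K) a haK
  obtain ⟨y, hy⟩ := exists_prime_orderOf_dvd_card' (G := K) b hbK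
  have key : ∀ (s : ℕ) [Fact s.Prime] (u : K), orderOf u = s → ¬ s ∣ Nat.card N →
      orderOf (QuotientGroup.mk' N (u : G)) = s := by
    intro s _ u hu hs
    apply orderOf_eq_prime
    · rw [← map_pow, ← Subgroup.coe_pow, ← hu, pow_orderOf_eq_one]; simp
    · intro h
      have hm : (u : G) ∈ N := (QuotientGroup.eq_one_iff _).1 h
      apply hs
      have := orderOf_dvd_natCard (⟨(u : G), hm⟩ : N)
      rwa [Subgroup.orderOf_mk, Subgroup.orderOf_coe, hu] at this
  have ox := key a x hx haN
  have oy := key b y hy hbN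
  have hcomm : Commute (QuotientGroup.mk' N (x : G)) (QuotientGroup.mk' N (y : G)) := by
    have hm : ⁅(x : G), (y : G)⁆ ∈ N := hc (Subgroup.commutator_mem_commutator x.2 y.2)
    have h1 : QuotientGroup.mk' N ⁅(x : G), (y : G)⁆ = 1 := (QuotientGroup.eq_one_iff _).2 hm
    rw [map_commutatorElement, commutatorElement_eq_one_iff_commute] at h1
    exact h1
  have oxy := hcomm.orderOf_mul_eq_mul_orderOf_of_coprime
    (by rw [ox, oy]; exact (Nat.coprime_primes ha hb).2 hab)
  rw [ox, oy, ← map_mul] at oxy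
  have hdvd : a * b ∣ orderOf ((x : G) * y) := oxy ▸ orderOf_map_dvd (QuotientGroup.mk' N) _
  exact ⟨_, orderOf_pow_orderOf_div (orderOf_pos _).ne' hdvd⟩

lemma main {G : Type*} [Group G] [Finite G] : ∀ (n : ℕ) (K : Subgroup G), K.Normal →
    Group.IsSolvable K → Nat.card K = n → ∀ r s t : ℕ, r.Prime → s.Prime → t.Prime →
    r ≠ s → r ≠ t → s ≠ t → r ∣ Nat.card K → s ∣ Nat.card K → t ∣ Nat.card G →
    (∃ x : G, orderOf x = r * s) ∨ (∃ x : G, orderOf x = r * t) ∨ (∃ x : G, orderOf x = s * t) := by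
  intro n
  induction n using Nat.strong_induction_on with
  | _ n ih =>
    intro K hKn hKs hn r s t hr hs ht hrs hrt hst hrK hsK htG
    haveI := hKn
    haveI := hKs
    let K' : Subgroup G := ⁅K, K⁆
    haveI hK'n : K'.Normal := inferInstance
    have hKbot : K ≠ ⊥ := by
      rintro rfl
      rw [Subgroup.card_bot] at hrK
      exact hr.one_lt.ne' (Nat.dvd_one.1 hrK)
    have hlt : K' < K := by
      have hH := (Subgroup.nontrivial_iff_ne_bot K).2 hKbot
      have := Group.IsSolvable.commutator_lt_top_of_nontrivial K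
      have h2 : (commutator K).map K.subtype < (⊤ : Subgroup K).map K.subtype :=
        (Subgroup.map_subtype_lt_map_subtype).2 this
      rw [commutator_def, Subgroup.map_commutator, ← MonoidHom.range_eq_map, K.range_subtype] at h2
      exact h2
    have hK's : Group.IsSolvable K' :=
      Group.isSolvable_of_isSolvable_injective (Subgroup.inclusion_injective hlt.le)
    have hcard : Nat.card K' < n := by
      rw [← hn]
      exact Set.ncard_lt_ncard (s := (K' : Set G)) (t := (K : Set G)) (SetLike.coe_ssubset_coe.2 hlt) (Set.toFinite _)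
    have IH := ih _ hcard K' hK'n hK's rfl
    by_cases hr' : r ∣ Nat.card K' <;> by_cases hs' : s ∣ Nat.card K'
    · exact IH r s t hr hs ht hrs hrt hst hr' hs' htG
    · -- r deep, s not
      by_cases ht' : t ∣ Nat.card K'
      · have hsG : s ∣ Nat.card G := hsK.trans (Subgroup.card_subgroup_dvd_card K)
        rcases IH r t s hr ht hs hrt hrs hst.symm hr' ht' hsG with h | h | h
        · exact Or.inr (Or.inl h)
        · exact Or.inl h
        · obtain ⟨x, hx⟩ := h
          exact Or.inr (Or.inr ⟨x, by rw [hx, mul_comm]⟩)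
      · by_cases htK : t ∣ Nat.card K
        · exact Or.inr (Or.inr (abelian_section K' K le_rfl s t hs ht hst hsK htK hs' ht'))
        · exact Cfsg.Agent.S3634.result K' K hlt.le r s t hr hs ht hrs hrt hst hr'
            (dvd_div_aux s _ _ hs (Subgroup.card_dvd_of_le hlt.le) hsK hs')
            (dvd_div_aux t _ _ ht (Subgroup.card_subgroup_dvd_card K) htG htK)
    · -- s deep, r not
      by_cases ht' : t ∣ Nat.card K'
      · have hrG : r ∣ Nat.card G := hrK.trans (Subgroup.card_subgroup_dvd_card K)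
        rcases IH s t r hs ht hr hst hrs.symm hrt.symm hs' ht' hrG with h | h | h
        · exact Or.inr (Or.inr h)
        · obtain ⟨x, hx⟩ := h
          exact Or.inl ⟨x, by rw [hx, mul_comm]⟩
        · obtain ⟨x, hx⟩ := h
          exact Or.inr (Or.inl ⟨x, by rw [hx, mul_comm]⟩)
      · by_cases htK : t ∣ Nat.card K
        · exact Or.inr (Or.inl (abelian_section K' K le_rfl r t hr ht hrt hrK htK hr' ht'))
        · rcases Cfsg.Agent.S3634.result K' K hlt.le s r t hs hr ht hrs.symm hst hrt hs'
            (dvd_div_aux r _ _ hr (Subgroup.card_dvd_of_le hlt.le) hrK hr')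
            (dvd_div_aux t _ _ ht (Subgroup.card_subgroup_dvd_card K) htG htK) with h | h | h
          · obtain ⟨x, hx⟩ := h
            exact Or.inl ⟨x, by rw [hx, mul_comm]⟩
          · exact Or.inr (Or.inr h)
          · exact Or.inr (Or.inl h)
    · exact Or.inl (abelian_section K' K le_rfl r s hr hs hrs hrK hsK hr' hs')

/-- Let G be a finite group and ρ a set of at least three prime divisors of the order of G that are pairwise non-adjacent in the prime graph (no element of order rs for distinct r, s ∈ ρ). Then at most one prime of ρ divides the order of any given solvable normal subgroup of G; in particular G is not solvable. -/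
theorem result {G : Type*} [Group G] [Finite G] (ρ : Finset ℕ) (hρ : 3 ≤ ρ.card) (hc : ((∀ r ∈ ρ, r.Prime ∧ r ∣ Nat.card G) ∧ (∀ r ∈ ρ, ∀ s ∈ ρ, r ≠ s → ¬ ∃ x : G, orderOf x = r * s)))
    (K : Subgroup G) [K.Normal] (hK : Group.IsSolvable ↥K) :
    (∀ r ∈ ρ, ∀ s ∈ ρ, r ∣ Nat.card ↥K → s ∣ Nat.card ↥K → r = s) ∧ ¬ Group.IsSolvable G := by

  classical
  have gen : ∀ (L : Subgroup G), L.Normal → Group.IsSolvable L →
      ∀ r ∈ ρ, ∀ s ∈ ρ, r ∣ Nat.card L → s ∣ Nat.card L → r = s := by
    intro L hLn hLs r hr s hs hrL hsL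
    by_contra hrs
    have h2 : 1 < (ρ.erase r).card := by
      rw [Finset.card_erase_of_mem hr]; omega
    obtain ⟨t, ht, hts⟩ := Finset.exists_mem_ne h2 s
    have htr : t ≠ r := Finset.ne_of_mem_erase ht
    have htρ : t ∈ ρ := Finset.mem_of_mem_erase ht
    rcases main _ L hLn hLs rfl r s t (hc.1 r hr).1 (hc.1 s hs).1 (hc.1 t htρ).1 hrs htr.symm hts.symm
      hrL hsL (hc.1 t htρ).2 with h | h | h
    · exact hc.2 r hr s hs hrs h
    · exact hc.2 r hr t htρ htr.symm h
    · exact hc.2 s hs t htρ hts.symm h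
  refine ⟨gen K inferInstance hK, ?_⟩
  intro hG
  haveI := hG
  obtain ⟨a, b, c, ha, hb, hc', hab, hac, hbc⟩ := Finset.two_lt_card_iff.1 (show 2 < ρ.card by omega)
  apply hab
  refine gen ⊤ inferInstance inferInstance a ha b hb ?_ ?_
  · rw [Subgroup.card_top]; exact (hc.1 a ha).2
  · rw [Subgroup.card_top]; exact (hc.1 b hb).2

end Cfsg.Agent.S3633
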