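import Cfsg.Statements.S3660
import Cfsg.Agent.Lib_helper6_NatModExt
import Cfsg.Agent.S2475

set_option autoImplicit false
open Cfsg

namespace Cfsg.Agent.S3660

open H6.GL2C H6.NatExt

theorem exists_orderOf_psl_iff {F : Type*} [Field F] [Fintype F] (p : ℕ) [Fact p.Prime] [CharP F p]
    (h4 : 4 ≤ Fintype.card F) (m : ℕ) :
    (∃ g : Matrix.ProjectiveSpecialLinearGroup (Fin 2) F, orderOf g = m) ↔
      (m ∣ p ∨ m ∣ (Fintype.card F - 1) / Nat.gcd 2 (Fintype.card F - 1) ∨
        m ∣ (Fintype.card F + 1) / Nat.gcd 2 (Fintype.card F - 1)) := by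
  have := S2475.result (F := F) p h4
  have h1 : m ∈ Set.range (orderOf : Matrix.ProjectiveSpecialLinearGroup (Fin 2) F → ℕ) ↔
      m ∈ {m : ℕ | m ∣ p ∨ m ∣ (Fintype.card F - 1) / Nat.gcd 2 (Fintype.card F - 1) ∨
        m ∣ (Fintype.card F + 1) / Nat.gcd 2 (Fintype.card F - 1)} := by rw [this]
  exact h1

theorem exists_orderOf_ext_iff {E : Type} [Field E] [Fintype E] [CharP E 2]
    (h4 : 4 ≤ Fintype.card E) (k : ℕ) {p r : ℕ} (hp : p.Prime) (hr : r.Prime) (hne : p ≠ r) :
    (∃ h : ExtG E k, orderOf h = p * r) ↔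
      (p * r ∣ 2 ∨ p * r ∣ (Fintype.card E - 1) / Nat.gcd 2 (Fintype.card E - 1) ∨
        p * r ∣ (Fintype.card E + 1) / Nat.gcd 2 (Fintype.card E - 1)) := by
  have h2 : (2 : E) = 0 := by
    have := CharP.cast_eq_zero E 2
    exact_mod_cast this
  haveI : Fact (Nat.Prime 2) := ⟨Nat.prime_two⟩
  rw [exists_orderOf_iff h2 hp hr hne, ← exists_orderOf_psl_iff 2 h4]
  constructor
  · rintro ⟨s, hs⟩
    exact ⟨projEquiv h2 s, by rw [MulEquiv.orderOf_eq, hs]⟩
  · rintro ⟨s, hs⟩
    exact ⟨(projEquiv h2).symm s, by rw [MulEquiv.orderOf_eq, hs]⟩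

theorem lt_card_extG {E : Type} [Field E] [Fintype E] (N : ℕ) : N < Nat.card (ExtG E N) := by
  rw [card_extG]
  have hq : 1 < Fintype.card E := Fintype.one_lt_card
  have h1 : N < Fintype.card E ^ N := Nat.lt_pow_self hq
  have h2 : Fintype.card E ^ N ≤ Fintype.card E ^ (2 * N) :=
    Nat.pow_le_pow_right (by omega) (by omega)
  have h3 : 0 < Nat.card (Matrix.SpecialLinearGroup (Fin 2) E) := Nat.card_pos
  calc N < Fintype.card E ^ (2 * N) := lt_of_lt_of_le h1 h2
    _ ≤ _ := Nat.le_mul_of_pos_right _ h3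

/-- The prime graph of a finite group has the prime divisors of its order as vertices, two distinct primes p, q being joined when the group has an element of order pq; two groups have the same prime graph when they have the same prime divisors and the same joined pairs. Let F be a finite field of characteristic 2 with at least 4 elements. Then there are finite groups of arbitrarily large order with the same prime graph as PSL(2,F); in particular PSL(2,F) is not determined by its prime graph. -/
theorem result {F : Type*} [Field F] [Fintype F] [CharP F 2] (hF : 4 ≤ Fintype.card F) (N : ℕ) :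
    ∃ (H : Type) (_ : Group H) (_ : Finite H), N < Nat.card H ∧
      ((∀ p : ℕ, p.Prime → (p ∣ Nat.card (Matrix.ProjectiveSpecialLinearGroup (Fin 2) F) ↔ p ∣ Nat.card H)) ∧
      (∀ p q : ℕ, p.Prime → q.Prime → p ≠ q → ((∃ g : (Matrix.ProjectiveSpecialLinearGroup (Fin 2) F), orderOf g = p * q) ↔ (∃ g : H, orderOf g = p * q)))) := by
  classical
  haveI : Fact (Nat.Prime 2) := ⟨Nat.prime_two⟩
  obtain ⟨n, -, hq⟩ := FiniteField.card F 2
  set q := Fintype.card F with hqdef
  have hn0 : (n : ℕ) ≠ 0 := n.ne_zero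
  letI : Fintype (GaloisField 2 n) := Fintype.ofFinite _
  have hc1 : Fintype.card (GaloisField 2 n) = q := by
    rw [← Nat.card_eq_fintype_card, GaloisField.card 2 n hn0, hq]
  have h2 : (2 : F) = 0 := by
    have := CharP.cast_eq_zero F 2
    exact_mod_cast this
  haveI := finite_extG (E := GaloisField 2 n) (k := N)
  refine ⟨ExtG (GaloisField 2 n) N, inferInstance, inferInstance, lt_card_extG N, ?_, ?_⟩
  · intro p hp
    rw [card_extG, card_SL2, hc1, ← Nat.card_congr (projEquiv h2).toEquiv, card_SL2]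
    constructor
    · intro h
      exact Dvd.dvd.mul_left h _
    · intro h
      rcases (Nat.Prime.dvd_mul hp).mp h with h | h
      · exact Dvd.dvd.mul_right (hp.dvd_of_dvd_pow h) _
      · exact h
  · intro p r hp hr hne
    rw [exists_orderOf_ext_iff (by rw [hc1]; exact hF) N hp hr hne, hc1,
      exists_orderOf_psl_iff 2 hF]

end Cfsg.Agent.S3660
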