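import Cfsg.Statements.S3678
import Cfsg.Agent.S3660
import Cfsg.Agent.Lib_helper6_SLCard

set_option autoImplicit false
open Cfsg

namespace Cfsg.Agent.S3678

open H6.GL2C H6.NatExt

theorem not_dvd_prime_pow {p r l e : ℕ} (hp : p.Prime) (hr : r.Prime) (hne : p ≠ r)
    (hl : l.Prime) : ¬ p * r ∣ l ^ e := by
  intro h
  have h1 : p ∣ l := hp.dvd_of_dvd_pow ((dvd_mul_right p r).trans h)
  have h2 : r ∣ l := hr.dvd_of_dvd_pow ((dvd_mul_left r p).trans h)
  exact hne (((Nat.prime_dvd_prime_iff_eq hp hl).mp h1).trans
    ((Nat.prime_dvd_prime_iff_eq hr hl).mp h2).symm)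

/-- The prime graph of a finite group has the prime divisors of its order as vertices, two distinct primes p, q being joined when the group has an element of order pq; two groups have the same prime graph when they have the same prime divisors and the same joined pairs. Let F be the field with 7 elements. There are finite groups of arbitrarily large order with the same prime graph as PSL(2,F) (the graph on {2, 3, 7} with no edges, which is also the prime graph of PSL(2,8)). -/
theorem result {F : Type*} [Field F] [Fintype F] (hF : Fintype.card F = 7) (N : ℕ) :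
    ∃ (H : Type) (_ : Group H) (_ : Finite H), N < Nat.card H ∧
      ((∀ p : ℕ, p.Prime → (p ∣ Nat.card (Matrix.ProjectiveSpecialLinearGroup (Fin 2) F) ↔ p ∣ Nat.card H)) ∧
      (∀ p q : ℕ, p.Prime → q.Prime → p ≠ q → ((∃ g : (Matrix.ProjectiveSpecialLinearGroup (Fin 2) F), orderOf g = p * q) ↔ (∃ g : H, orderOf g = p * q)))) := by
  classical
  haveI : Fact (Nat.Prime 2) := ⟨Nat.prime_two⟩
  haveI : Fact (Nat.Prime 7) := ⟨by norm_num⟩
  letI : Fintype (GaloisField 2 3) := Fintype.ofFinite _
  have hc1 : Fintype.card (GaloisField 2 3) = 8 := by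
    rw [← Nat.card_eq_fintype_card, GaloisField.card 2 3 (by norm_num)]; norm_num
  have hchar : CharP F 7 := by
    obtain ⟨p, hchar⟩ := CharP.exists F
    haveI : Fact p.Prime := ⟨CharP.char_is_prime F p⟩
    obtain ⟨n, hp, hq⟩ := FiniteField.card F p
    rw [hF] at hq
    have h1 : p ∣ 7 := by rw [hq]; exact dvd_pow_self p n.ne_zero
    have h2 : p = 7 := (Nat.prime_dvd_prime_iff_eq hp (by norm_num)).mp h1
    rw [← h2]; exact hchar
  have hcard : Nat.card (Matrix.ProjectiveSpecialLinearGroup (Fin 2) F) = 168 := by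
    have := H6.card_PSL_field (F := F) 2 (by norm_num)
    rw [Fin.prod_univ_two, hF] at this
    have e0 : Nat.gcd 2 (7 - 1) = 2 := by norm_num
    rw [e0] at this
    simp only [Fin.val_zero, Fin.val_one] at this
    omega
  haveI := finite_extG (E := GaloisField 2 3) (k := N)
  refine ⟨ExtG (GaloisField 2 3) N, inferInstance, inferInstance, S3660.lt_card_extG N, ?_, ?_⟩
  · intro p hp
    rw [card_extG, card_SL2, hc1, hcard]
    constructor
    · intro h
      apply Dvd.dvd.mul_left
      exact h.trans (by norm_num)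
    · intro h
      rcases (Nat.Prime.dvd_mul hp).mp h with h | h
      · exact (hp.dvd_of_dvd_pow h).trans (by norm_num)
      · have h5 : p ∣ 168 * 3 := by
          have : 8 * (8 ^ 2 - 1) = 168 * 3 := by norm_num
          rwa [this] at h
        rcases (Nat.Prime.dvd_mul hp).mp h5 with h | h
        · exact h
        · exact h.trans (by norm_num)
  · intro p r hp hr hne
    rw [S3660.exists_orderOf_ext_iff (by rw [hc1]; norm_num) N hp hr hne, hc1,
      S3660.exists_orderOf_psl_iff 7 (by rw [hF]; norm_num), hF]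
    have e1 : (7 - 1) / Nat.gcd 2 (7 - 1) = 3 ^ 1 := by norm_num
    have e2 : (7 + 1) / Nat.gcd 2 (7 - 1) = 2 ^ 2 := by norm_num
    have e3 : (8 - 1) / Nat.gcd 2 (8 - 1) = 7 ^ 1 := by norm_num
    have e4 : (8 + 1) / Nat.gcd 2 (8 - 1) = 3 ^ 2 := by norm_num
    rw [e1, e2, e3, e4]
    have a1 := not_dvd_prime_pow (e := 1) hp hr hne (l := 7) (by norm_num)
    have a2 := not_dvd_prime_pow (e := 1) hp hr hne (l := 3) (by norm_num)
    have a3 := not_dvd_prime_pow (e := 2) hp hr hne (l := 2) (by norm_num)
    have a4 := not_dvd_prime_pow (e := 1) hp hr hne (l := 2) (by norm_num)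
    have a5 := not_dvd_prime_pow (e := 2) hp hr hne (l := 3) (by norm_num)
    rw [pow_one] at a1 a4
    tauto

end Cfsg.Agent.S3678
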