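import Cfsg.Statements.S3680
import Mathlib
import Cfsg.Agent.S0721
import Cfsg.Agent.Lib_helper3_CharSimple

set_option autoImplicit false
open Cfsg

namespace Cfsg.Agent.S3680

open MulAction in
theorem trans_of_normal {G Ω : Type*} [Group G] [MulAction G Ω] [FaithfulSMul G Ω]
    (hprim : MulAction.IsPreprimitive G Ω) (V : Subgroup G) (hV : V.Normal) (hne : V ≠ ⊥)
    (a b : Ω) : ∃ v ∈ V, v • a = b := by
  have h1 : MulAction.fixedPoints V Ω ≠ Set.univ := by
    intro h
    apply hne
    rw [Subgroup.eq_bot_iff_forall]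
    intro v hv
    apply FaithfulSMul.eq_of_smul_eq_smul (α := Ω)
    intro x
    have : x ∈ MulAction.fixedPoints V Ω := by rw [h]; trivial
    rw [one_smul]
    exact this ⟨v, hv⟩
  have h2 : MulAction.IsPretransitive V Ω :=
    MulAction.IsQuasiPreprimitive.isPretransitive_of_normal h1
  obtain ⟨v, hv⟩ := h2.exists_smul_eq a b
  exact ⟨v.1, v.2, hv⟩

theorem semireg {G Ω : Type*} [Group G] [MulAction G Ω] [FaithfulSMul G Ω]
    (V : Subgroup G) (ht : ∀ a b : Ω, ∃ v ∈ V, v • a = b) (c : G) (hc : ∀ v ∈ V, c * v = v * c)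
    (a : Ω) (hca : c • a = a) : c = 1 := by
  apply FaithfulSMul.eq_of_smul_eq_smul (α := Ω)
  intro b
  obtain ⟨v, hv, rfl⟩ := ht a b
  rw [one_smul, smul_smul, hc v hv, mul_smul, hca]

theorem regular_iso {G Ω : Type*} [Group G] [MulAction G Ω] [FaithfulSMul G Ω]
    (V W : Subgroup G) (htV : ∀ a b : Ω, ∃ v ∈ V, v • a = b) (htW : ∀ a b : Ω, ∃ v ∈ W, v • a = b)
    (hc : ∀ v ∈ V, ∀ w ∈ W, v * w = w * v) (a : Ω) : Nonempty (V ≃* W) := by
  classical
  have hex : ∀ v : V, ∃ w : W, (w : G) • (v : G) • a = a := by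
    intro v
    obtain ⟨w, hw, h⟩ := htW ((v : G) • a) a
    exact ⟨⟨w, hw⟩, h⟩
  choose ψ hψ using hex
  have huniq : ∀ (w w' : W) (b : Ω), (w : G) • b = (w' : G) • b → w = w' := by
    intro w w' b h
    have : (w' : G)⁻¹ * w = 1 := by
      apply semireg V htV _ _ b
      · rw [mul_smul, h, inv_smul_smul]
      · intro v hv
        rw [hc v hv _ (W.mul_mem (W.inv_mem w'.2) w.2)]
    apply Subtype.ext
    rw [inv_mul_eq_one] at this
    exact this.symm
  have huniqV : ∀ (w w' : V) (b : Ω), (w : G) • b = (w' : G) • b → w = w' := by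
    intro w w' b h
    have : (w' : G)⁻¹ * w = 1 := by
      apply semireg W htW _ _ b
      · rw [mul_smul, h, inv_smul_smul]
      · intro v hv
        rw [hc _ (V.mul_mem (V.inv_mem w'.2) w.2) v hv]
    apply Subtype.ext
    rw [inv_mul_eq_one] at this
    exact this.symm
  have hmul : ∀ v1 v2 : V, ψ (v1 * v2) = ψ v1 * ψ v2 := by
    intro v1 v2
    apply huniq _ _ (((v1 * v2 : V) : G) • a)
    rw [hψ]
    have : ((ψ v1 * ψ v2 : W) : G) • ((v1 * v2 : V) : G) • a
        = (ψ v1 : G) • (v1 : G) • ((ψ v2 : G) • (v2 : G) • a) := by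
      simp only [Subgroup.coe_mul, smul_smul]
      congr 1
      have := hc v1 v1.2 (ψ v2) (ψ v2).2
      calc (ψ v1 : G) * (ψ v2 : G) * ((v1 : G) * v2) = (ψ v1 : G) * ((ψ v2 : G) * (v1 : G)) * v2 := by group
        _ = (ψ v1 : G) * ((v1 : G) * (ψ v2 : G)) * v2 := by rw [this]
        _ = _ := by group
    rw [this, hψ, hψ]
  refine ⟨MulEquiv.ofBijective (MonoidHom.mk' ψ hmul) ⟨?_, ?_⟩⟩
  · intro v v' h
    change ψ v = ψ v' at h
    apply huniqV _ _ a
    have h1 := hψ v
    have h2 := hψ v'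
    rw [← h] at h2
    have := h1.trans h2.symm
    exact smul_left_cancel _ this
  · intro w
    obtain ⟨v, hv, h⟩ := htV a ((w : G)⁻¹ • a)
    refine ⟨⟨v, hv⟩, ?_⟩
    change ψ ⟨v, hv⟩ = w
    apply huniq _ _ (v • a)
    rw [hψ ⟨v, hv⟩, h, smul_inv_smul]

def appendMulEquiv (T : Type) [Group T] (m n : ℕ) :
    (Fin m → T) × (Fin n → T) ≃* (Fin (m + n) → T) :=
  { Fin.appendEquiv m n with
    map_mul' := by
      intro a b
      funext i
      refine Fin.addCases (fun j => ?_) (fun j => ?_) i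
      · simp [Fin.appendEquiv]
      · simp [Fin.appendEquiv] }

theorem elem_ab {G : Type*} [Group G] [Finite G] (V : Subgroup G) (hVn : V.Normal) (hne : V ≠ ⊥)
    (hmin : ∀ M : Subgroup G, M.Normal → M ≤ V → M = ⊥ ∨ M = V)
    (hab : ∀ x ∈ V, ∀ y ∈ V, x * y = y * x) : ∃ p : ℕ, p.Prime ∧ ∀ x ∈ V, x ^ p = 1 := by
  classical
  have hcard : Nat.card V ≠ 1 := by
    intro h
    exact hne (Subgroup.card_eq_one.mp h)
  obtain ⟨p, hp, hdvd⟩ := Nat.exists_prime_and_dvd hcard
  haveI := Fact.mk hp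
  obtain ⟨z, hz⟩ := exists_prime_orderOf_dvd_card' (G := V) p hdvd
  let M : Subgroup G :=
    { carrier := {x | x ∈ V ∧ x ^ p = 1}
      one_mem' := ⟨V.one_mem, one_pow _⟩
      mul_mem' := by
        rintro x y ⟨hx, hx1⟩ ⟨hy, hy1⟩
        refine ⟨V.mul_mem hx hy, ?_⟩
        rw [(show Commute x y from hab x hx y hy).mul_pow, hx1, hy1, one_mul]
      inv_mem' := by
        rintro x ⟨hx, hx1⟩
        exact ⟨V.inv_mem hx, by rw [inv_pow, hx1, inv_one]⟩ }
  have hMn : M.Normal := by
    refine ⟨?_⟩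
    rintro x ⟨hx, hx1⟩ g
    refine ⟨hVn.conj_mem x hx g, ?_⟩
    rw [conj_pow, hx1, mul_one, mul_inv_cancel]
  have hMV : M ≤ V := fun x hx => hx.1
  refine ⟨p, hp, ?_⟩
  rcases hmin M hMn hMV with h | h
  · exfalso
    have hzM : (z : G) ∈ M := by
      refine ⟨z.2, ?_⟩
      have := pow_orderOf_eq_one z
      rw [hz] at this
      exact_mod_cast congrArg Subtype.val this
    rw [h, Subgroup.mem_bot] at hzM
    have : z = 1 := Subtype.ext hzM
    rw [this, orderOf_one] at hz
    exact hp.one_lt.ne hz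
  · intro x hx
    rw [← h] at hx
    exact hx.2

/-- The socle of a finite primitive permutation group. Let a finite group G act faithfully and primitively on a set Ω, and let N be the subgroup generated by the minimal normal subgroups of G. Then either N is an elementary abelian p-group for some prime p and acts regularly on Ω (transitively with trivial point stabilizers), or N is isomorphic to a direct product of m ≥ 1 copies of a non-abelian simple group. -/
theorem result {G Ω : Type*} [Group G] [Finite G] [MulAction G Ω] [FaithfulSMul G Ω] [Finite Ω]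
    (hprim : MulAction.IsPreprimitive G Ω) (N : Subgroup G)
    (hN : N = sSup {V : Subgroup G | V.Normal ∧ V ≠ ⊥ ∧ ∀ M : Subgroup G, M.Normal → M ≤ V → M = ⊥ ∨ M = V}) :
    (∃ p : ℕ, p.Prime ∧ IsMulCommutative N ∧ (∀ x : N, x ^ p = 1) ∧
      MulAction.IsPretransitive N Ω ∧ ∀ ω : Ω, MulAction.stabilizer N ω = ⊥) ∨
    (∃ (T : Type) (_ : Group T) (m : ℕ), 1 ≤ m ∧ IsSimpleGroup T ∧ ¬ IsMulCommutative T ∧ Nonempty (N ≃* (Fin m → T))) := by
  classical
  set 𝓜 : Set (Subgroup G) := {V : Subgroup G | V.Normal ∧ V ≠ ⊥ ∧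
    ∀ M : Subgroup G, M.Normal → M ≤ V → M = ⊥ ∨ M = V} with h𝓜
  have hdisj : ∀ V ∈ 𝓜, ∀ W ∈ 𝓜, V ≠ W → Disjoint V W := by
    intro V hV W hW hne
    rw [disjoint_iff]
    haveI := hV.1
    haveI := hW.1
    rcases hV.2.2 (V ⊓ W) inferInstance inf_le_left with h | h
    · exact h
    · exfalso
      have hle : V ≤ W := inf_eq_left.mp h
      rcases hW.2.2 V hV.1 hle with h' | h'
      · exact hV.2.1 h'
      · exact hne h'
  have hcomm : ∀ V ∈ 𝓜, ∀ W ∈ 𝓜, V ≠ W → ∀ v ∈ V, ∀ w ∈ W, v * w = w * v := by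
    intro V hV W hW hne v hv w hw
    exact Subgroup.commute_of_normal_of_disjoint V W hV.1 hW.1 (hdisj V hV W hW hne) v w hv hw
  have htr : ∀ V ∈ 𝓜, ∀ a b : Ω, ∃ v ∈ V, v • a = b :=
    fun V hV => trans_of_normal hprim V hV.1 hV.2.1
  by_cases hemp : 𝓜 = ∅
  · have hG : ∀ g : G, g = 1 := by
      by_contra hcon
      push Not at hcon
      obtain ⟨g, hg⟩ := hcon
      obtain ⟨V, ⟨hVn, hVne⟩, hVmin⟩ :=
        (measure (fun K : Subgroup G => Nat.card K)).wf.has_min {K | K.Normal ∧ K ≠ ⊥}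
          ⟨⊤, inferInstance, fun h => hg (by
            have : g ∈ (⊤ : Subgroup G) := Subgroup.mem_top g
            rw [h] at this
            exact this)⟩
      have : V ∈ 𝓜 := ⟨hVn, hVne, fun M hM hMV => by
        by_contra hh
        push Not at hh
        have := hVmin M ⟨hM, hh.1⟩
        exact hh.2 (Subgroup.eq_of_le_of_card_ge hMV (not_lt.mp this))⟩
      rw [hemp] at this
      exact this
    left
    refine ⟨2, Nat.prime_two, ⟨⟨fun x y => ?_⟩⟩, fun x => ?_, ⟨fun x y => ?_⟩, fun ω => ?_⟩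
    · apply Subtype.ext
      rw [hG (x * y : N), hG (y * x : N)]
    · apply Subtype.ext
      rw [hG (x ^ 2 : N)]
      rfl
    · obtain ⟨g, hg⟩ := hprim.toIsPretransitive.exists_smul_eq x y
      rw [hG g, one_smul] at hg
      exact ⟨1, by rw [one_smul, hg]⟩
    · rw [Subgroup.eq_bot_iff_forall]
      intro x _
      apply Subtype.ext
      rw [hG x]
      rfl
  obtain ⟨V, hV⟩ := Set.nonempty_iff_ne_empty.mpr hemp
  obtain ⟨a⟩ : Nonempty Ω := by
    by_contra hno
    rw [not_nonempty_iff] at hno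
    apply hV.2.1
    rw [Subgroup.eq_bot_iff_forall]
    intro v _
    apply FaithfulSMul.eq_of_smul_eq_smul (α := Ω)
    intro x
    exact hno.elim x
  have key : ∀ W ∈ 𝓜, ∀ W' : Subgroup G, (∀ v ∈ V, ∀ w ∈ W, v * w = w * v) →
      (∀ v ∈ V, ∀ w ∈ W', v * w = w * v) → W' ≤ W := by
    intro W hW W' h1 h2 w' hw'
    obtain ⟨w, hw, h⟩ := htr W hW a (w' • a)
    have : w⁻¹ * w' = 1 := by
      apply semireg V (htr V hV) _ _ a
      · rw [mul_smul, ← h, inv_smul_smul]
      · intro v hv
        have e1 := h1 v hv w hw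
        have e2 := h2 v hv w' hw'
        calc w⁻¹ * w' * v = w⁻¹ * (v * w') := by rw [mul_assoc, e2]
          _ = w⁻¹ * (v * w) * w⁻¹ * w' := by group
          _ = w⁻¹ * (w * v) * w⁻¹ * w' := by rw [e1]
          _ = v * (w⁻¹ * w') := by group
    rw [inv_mul_eq_one] at this
    rw [← this]
    exact hw
  haveI hVn : V.Normal := hV.1
  obtain ⟨T, iT, m, hTs, hm, ⟨e⟩⟩ := Cfsg.Agent.S0721.result V hV.2.1 hV.2.2
  by_cases hab : ∀ x ∈ V, ∀ y ∈ V, x * y = y * x
  · left
    have h1 : 𝓜 = {V} := by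
      ext W
      constructor
      · intro hW
        by_contra hne
        have hne' : V ≠ W := fun h => hne h.symm
        have hle := key V hV W hab (hcomm V hV W hW hne')
        rcases hV.2.2 W hW.1 hle with h | h
        · exact hW.2.1 h
        · exact hne h
      · intro hW
        rw [Set.mem_singleton_iff] at hW
        rw [hW]
        exact hV
    have hNV : N = V := by rw [hN, h1, sSup_singleton]
    obtain ⟨p, hp, hpV⟩ := elem_ab V hV.1 hV.2.1 hV.2.2 hab
    rw [hNV]
    refine ⟨p, hp, ⟨⟨fun x y => ?_⟩⟩, fun x => ?_, ⟨fun x y => ?_⟩, fun ω => ?_⟩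
    · exact Subtype.ext (hab x x.2 y y.2)
    · exact Subtype.ext (hpV x x.2)
    · obtain ⟨v, hv, h⟩ := htr V hV x y
      exact ⟨⟨v, hv⟩, h⟩
    · rw [Subgroup.eq_bot_iff_forall]
      intro x hx
      apply Subtype.ext
      exact semireg V (htr V hV) x (fun v hv => hab x x.2 v hv) ω hx
  · right
    have hTnc : ¬ IsMulCommutative T := by
      intro hT
      apply hab
      intro x hx y hy
      have : (⟨x, hx⟩ : V) * ⟨y, hy⟩ = ⟨y, hy⟩ * ⟨x, hx⟩ := by
        apply e.injective
        rw [map_mul, map_mul]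
        funext i
        exact hT.is_comm.comm _ _
      exact congrArg Subtype.val this
    by_cases h1 : 𝓜 = {V}
    · have hNV : N = V := by rw [hN, h1, sSup_singleton]
      rw [hNV]
      exact ⟨T, iT, m, hm, hTs, hTnc, ⟨e⟩⟩
    · obtain ⟨W, hW, hWV⟩ : ∃ W ∈ 𝓜, W ≠ V := by
        by_contra hcon
        push Not at hcon
        apply h1
        ext W
        constructor
        · intro hW
          exact hcon W hW
        · intro hW
          rw [Set.mem_singleton_iff] at hW
          rw [hW]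
          exact hV
      have hVW : V ≠ W := fun h => hWV h.symm
      have h2 : 𝓜 = {V, W} := by
        ext W'
        constructor
        · intro hW'
          by_cases hW'V : W' = V
          · left
            exact hW'V
          · right
            have hle := key W hW W' (hcomm V hV W hW hVW) (hcomm V hV W' hW' (fun h => hW'V h.symm))
            rcases hW.2.2 W' hW'.1 hle with h | h
            · exact absurd h hW'.2.1
            · exact h
        · rintro (h | h)
          · rw [h]; exact hV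
          · rw [Set.mem_singleton_iff] at h
            rw [h]; exact hW
      have hNV : N = V ⊔ W := by rw [hN, h2, sSup_pair]
      obtain ⟨f⟩ := regular_iso V W (htr V hV) (htr W hW) (hcomm V hV W hW hVW) a
      obtain ⟨g⟩ := Cfsg.Agent.H3.sup_equiv_prod V W hV.1 hW.1 (hdisj V hV W hW hVW)
      rw [hNV]
      refine ⟨T, iT, m + m, by omega, hTs, hTnc, ⟨?_⟩⟩
      exact (g.trans (MulEquiv.prodCongr e (f.symm.trans e))).trans (appendMulEquiv T m m)

end Cfsg.Agent.S3680
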