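import Cfsg.Statements.S4584
import Mathlib
import Cfsg.Agent.Lib_helper1_Basic

set_option autoImplicit false
open Cfsg

namespace Cfsg.Agent.S4584

open Subgroup in
theorem step {P : Type*} [Group P] [Finite P] {p : ℕ} [hp : Fact p.Prime] (hP : IsPGroup p P)
    {H K : Subgroup P} (h : H < K) {a : ℕ} (ha : p ^ a ≤ Nat.card H) : p ^ (a + 1) ≤ Nat.card K := by
  obtain ⟨b, hb⟩ := (hP.to_subgroup K).exists_card_eq
  have h1 := Cfsg.Agent.H1.card_lt_card_of_lt h
  rw [hb] at h1 ⊢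
  have h2 : p ^ a < p ^ b := lt_of_le_of_lt ha h1
  have h3 := (Nat.pow_lt_pow_iff_right hp.out.one_lt).mp h2
  exact Nat.pow_le_pow_right hp.out.pos h3

theorem memC {P : Type*} [Group P] (y g : P) :
    g ∈ Subgroup.centralizer ({y} : Set P) ↔ g * y = y * g := by
  rw [Subgroup.mem_centralizer_singleton_iff]

theorem idx_le {P : Type*} [Group P] [Finite P] (N : Subgroup P) (y : P)
    (hcomm : ∀ g : P, g * y * g⁻¹ * y⁻¹ ∈ N) :
    (Subgroup.centralizer ({y} : Set P)).index ≤ Nat.card N := by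
  rw [Subgroup.index_eq_card]
  apply Nat.card_le_card_of_injective
    (fun q : P ⧸ (Subgroup.centralizer ({y} : Set P)) => (⟨q.out * y * q.out⁻¹ * y⁻¹, hcomm _⟩ : N))
  intro q q' h
  have h1 : q.out * y * q.out⁻¹ * y⁻¹ = q'.out * y * q'.out⁻¹ * y⁻¹ := congrArg Subtype.val h
  have h2 : q.out * y * q.out⁻¹ = q'.out * y * q'.out⁻¹ := mul_right_cancel h1
  rw [← QuotientGroup.out_eq' q, ← QuotientGroup.out_eq' q', QuotientGroup.eq, memC]
  symm
  calc y * (q.out⁻¹ * q'.out) = q.out⁻¹ * (q.out * y * q.out⁻¹) * q'.out := by group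
    _ = q.out⁻¹ * (q'.out * y * q'.out⁻¹) * q'.out := by rw [h2]
    _ = q.out⁻¹ * q'.out * y := by group

theorem fwd {P : Type*} [Group P] [Finite P] (p : ℕ) [Fact p.Prime] (hP : Nat.card P = p ^ 4)
    (hc : Nat.card (commutator P) = p) : (Subgroup.center P).index = p ^ 2 := by
  classical
  have hp : p.Prime := Fact.out
  have hPp : IsPGroup p P := IsPGroup.of_card hP
  obtain ⟨x, y, hxy⟩ : ∃ x y : P, x * y ≠ y * x := by
    by_contra h
    push Not at h
    have h1 : commutator P = ⊥ := by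
      rw [eq_bot_iff, commutator_def, Subgroup.commutator_le]
      intro g _ k _
      rw [Subgroup.mem_bot, commutatorElement_def, h g k]
      group
    rw [h1, Subgroup.card_bot] at hc
    exact hp.one_lt.ne hc
  have hmemc : ∀ u g : P, g * u * g⁻¹ * u⁻¹ ∈ commutator P := fun u g => by
    rw [← commutatorElement_def, commutator_def]
    exact Subgroup.commutator_mem_commutator (Subgroup.mem_top g) (Subgroup.mem_top u)
  obtain ⟨Cx, hCx⟩ : ∃ C, C = Subgroup.centralizer ({x} : Set P) := ⟨_, rfl⟩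
  obtain ⟨Cy, hCy⟩ : ∃ C, C = Subgroup.centralizer ({y} : Set P) := ⟨_, rfl⟩
  have hCxm : ∀ g, g ∈ Cx ↔ g * x = x * g := fun g => by rw [hCx, memC]
  have hCym : ∀ g, g ∈ Cy ↔ g * y = y * g := fun g => by rw [hCy, memC]
  have ix : Cx.index ≤ p := by rw [hCx, ← hc]; exact idx_le _ x (hmemc x)
  have iy : Cy.index ≤ p := by rw [hCy, ← hc]; exact idx_le _ y (hmemc y)
  obtain ⟨D, hD⟩ : ∃ D, D = Cx ⊓ Cy := ⟨_, rfl⟩
  have iD : D.index ≤ p * p := by
    rw [hD]; exact le_trans Subgroup.index_inf_le (Nat.mul_le_mul ix iy)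
  have cD : p ^ 2 ≤ Nat.card D := by
    by_contra hlt
    push Not at hlt
    have h1 := Subgroup.card_mul_index D
    rw [hP] at h1
    have h2 : Nat.card D * D.index ≤ Nat.card D * (p * p) := Nat.mul_le_mul_left _ iD
    have h3 : Nat.card D * (p * p) < p ^ 2 * (p * p) :=
      Nat.mul_lt_mul_of_pos_right hlt (Nat.mul_pos hp.pos hp.pos)
    have h4 : p ^ 2 * (p * p) = p ^ 4 := by ring
    omega
  obtain ⟨E1, hE1⟩ : ∃ E, E = D ⊔ Subgroup.zpowers x := ⟨_, rfl⟩
  obtain ⟨E2, hE2⟩ : ∃ E, E = E1 ⊔ Subgroup.zpowers y := ⟨_, rfl⟩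
  have hxE1 : x ∈ E1 := by rw [hE1]; exact Subgroup.mem_sup_right (Subgroup.mem_zpowers x)
  have hyE2 : y ∈ E2 := by rw [hE2]; exact Subgroup.mem_sup_right (Subgroup.mem_zpowers y)
  have hxD : x ∉ D := by
    intro h
    rw [hD] at h
    exact hxy ((hCym x).mp (Subgroup.mem_inf.mp h).2)
  have l1 : D < E1 := lt_of_le_of_ne (by rw [hE1]; exact le_sup_left) (fun h => hxD (h ▸ hxE1))
  have hE1C : E1 ≤ Cx := by
    rw [hE1, hD]
    exact sup_le inf_le_left (Subgroup.zpowers_le.mpr ((hCxm x).mpr rfl))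
  have hyE1 : y ∉ E1 := fun h => hxy ((hCxm y).mp (hE1C h)).symm
  have l2 : E1 < E2 := lt_of_le_of_ne (by rw [hE2]; exact le_sup_left) (fun h => hyE1 (h ▸ hyE2))
  obtain ⟨d, hd⟩ := (hPp.to_subgroup D).exists_card_eq
  have hd2 : 2 ≤ d := by
    rw [hd] at cD
    exact (Nat.pow_le_pow_iff_right hp.one_lt).mp cD
  have s2 : p ^ (d + 1 + 1) ≤ Nat.card E2 := step hPp l2 (step hPp l1 (le_of_eq hd.symm))
  have hE2le : Nat.card E2 ≤ p ^ 4 := by rw [← hP]; exact Subgroup.card_le_card_group E2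
  have hd4 : d + 1 + 1 ≤ 4 := (Nat.pow_le_pow_iff_right hp.one_lt).mp (le_trans s2 hE2le)
  have hd' : d = 2 := by omega
  subst hd'
  have hE2top : E2 = ⊤ := Subgroup.eq_top_of_le_card E2 (by rw [hP]; exact s2)
  have hDcomm := IsPGroup.commutative_of_card_eq_prime_sq hd
  have hDZ : D ≤ Subgroup.center P := by
    intro dd hdd
    rw [Subgroup.mem_center_iff]
    have hdd' := hdd
    rw [hD] at hdd'
    have hT : E2 ≤ Subgroup.centralizer ({dd} : Set P) := by
      rw [hE2, hE1]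
      refine sup_le (sup_le ?_ ?_) ?_
      · intro e he
        rw [memC]
        exact congrArg Subtype.val (hDcomm ⟨e, he⟩ ⟨dd, hdd⟩)
      · rw [Subgroup.zpowers_le, memC]
        exact ((hCxm dd).mp (Subgroup.mem_inf.mp hdd').1).symm
      · rw [Subgroup.zpowers_le, memC]
        exact ((hCym dd).mp (Subgroup.mem_inf.mp hdd').2).symm
    intro g
    have : g ∈ E2 := by rw [hE2top]; exact Subgroup.mem_top g
    exact (memC dd g).mp (hT this)
  have hZD : Subgroup.center P ≤ D := by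
    intro z hz
    rw [hD, Subgroup.mem_inf, hCxm, hCym]
    exact ⟨(Subgroup.mem_center_iff.mp hz x).symm, (Subgroup.mem_center_iff.mp hz y).symm⟩
  have hZeq : Subgroup.center P = D := le_antisymm hZD hDZ
  rw [hZeq]
  have h1 := Subgroup.card_mul_index D
  rw [hP, hd] at h1
  have h2 : p ^ 4 = p ^ 2 * p ^ 2 := by ring
  rw [h2] at h1
  exact Nat.eq_of_mul_eq_mul_left (pow_pos hp.pos 2) h1

theorem bwd {P : Type*} [Group P] [Finite P] (p : ℕ) [Fact p.Prime] (hP : Nat.card P = p ^ 4)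
    (hidx : (Subgroup.center P).index = p ^ 2) : Nat.card (commutator P) = p := by
  classical
  have hp : p.Prime := Fact.out
  have hPp : IsPGroup p P := IsPGroup.of_card hP
  obtain ⟨Z, hZ⟩ : ∃ Z, Z = Subgroup.center P := ⟨_, rfl⟩
  rw [← hZ] at hidx
  have hZm : ∀ z, z ∈ Z ↔ ∀ g, g * z = z * g := fun z => by rw [hZ, Subgroup.mem_center_iff]
  have cZ : Nat.card Z = p ^ 2 := by
    have h1 := Subgroup.card_mul_index Z
    rw [hP, hidx] at h1
    have h2 : p ^ 4 = p ^ 2 * p ^ 2 := by ring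
    rw [h2] at h1
    exact Nat.eq_of_mul_eq_mul_right (pow_pos hp.pos 2) h1
  obtain ⟨x, hxZ⟩ : ∃ x, x ∉ Z := by
    by_contra h
    push Not at h
    have h1 : Z = ⊤ := by rw [eq_top_iff]; intro g _; exact h g
    rw [h1, Subgroup.index_top] at hidx
    have := Nat.one_lt_pow (n := 2) (by norm_num) hp.one_lt
    omega
  obtain ⟨y, hyx⟩ : ∃ y, y * x ≠ x * y := by
    by_contra h
    push Not at h
    exact hxZ ((hZm x).mpr h)
  have hyZ : y ∉ Z := fun h => hyx ((hZm y).mp h x).symm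
  obtain ⟨Cx, hCx⟩ : ∃ C, C = Subgroup.centralizer ({x} : Set P) := ⟨_, rfl⟩
  obtain ⟨Cy, hCy⟩ : ∃ C, C = Subgroup.centralizer ({y} : Set P) := ⟨_, rfl⟩
  have hCxm : ∀ g, g ∈ Cx ↔ g * x = x * g := fun g => by rw [hCx, memC]
  have hCym : ∀ g, g ∈ Cy ↔ g * y = y * g := fun g => by rw [hCy, memC]
  have hZCx : Z ≤ Cx := fun z hz => (hCxm z).mpr ((hZm z).mp hz x).symm
  have hZCy : Z ≤ Cy := fun z hz => (hCym z).mpr ((hZm z).mp hz y).symm
  obtain ⟨E1, hE1⟩ : ∃ E, E = Z ⊔ Subgroup.zpowers x := ⟨_, rfl⟩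
  obtain ⟨E2, hE2⟩ : ∃ E, E = E1 ⊔ Subgroup.zpowers y := ⟨_, rfl⟩
  have hxE1 : x ∈ E1 := by rw [hE1]; exact Subgroup.mem_sup_right (Subgroup.mem_zpowers x)
  have hyE2 : y ∈ E2 := by rw [hE2]; exact Subgroup.mem_sup_right (Subgroup.mem_zpowers y)
  have l1 : Z < E1 := lt_of_le_of_ne (by rw [hE1]; exact le_sup_left) (fun h => hxZ (h ▸ hxE1))
  have hE1C : E1 ≤ Cx := by
    rw [hE1]
    exact sup_le hZCx (Subgroup.zpowers_le.mpr ((hCxm x).mpr rfl))
  have hyE1 : y ∉ E1 := fun h => hyx ((hCxm y).mp (hE1C h))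
  have l2 : E1 < E2 := lt_of_le_of_ne (by rw [hE2]; exact le_sup_left) (fun h => hyE1 (h ▸ hyE2))
  have s2 : p ^ (2 + 1 + 1) ≤ Nat.card E2 := step hPp l2 (step hPp l1 (le_of_eq cZ.symm))
  have hE2top : E2 = ⊤ := Subgroup.eq_top_of_le_card E2 (by rw [hP]; exact s2)
  have hgen : ∀ T : Subgroup P, Z ≤ T → x ∈ T → y ∈ T → ∀ g, g ∈ T := by
    intro T h1 h2 h3 g
    have h4 : E2 ≤ T := by
      rw [hE2, hE1]
      exact sup_le (sup_le h1 (Subgroup.zpowers_le.mpr h2)) (Subgroup.zpowers_le.mpr h3)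
    exact h4 (by rw [hE2top]; exact Subgroup.mem_top g)
  -- the centraliser of y has index p
  have iCy : Cy.index = p := by
    obtain ⟨F, hF⟩ : ∃ F, F = Z ⊔ Subgroup.zpowers y := ⟨_, rfl⟩
    have hyF : y ∈ F := by rw [hF]; exact Subgroup.mem_sup_right (Subgroup.mem_zpowers y)
    have l3 : Z < F := lt_of_le_of_ne (by rw [hF]; exact le_sup_left) (fun h => hyZ (h ▸ hyF))
    have hFC : F ≤ Cy := by
      rw [hF]; exact sup_le hZCy (Subgroup.zpowers_le.mpr ((hCym y).mpr rfl))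
    have c3 : p ^ (2 + 1) ≤ Nat.card Cy :=
      le_trans (step hPp l3 (le_of_eq cZ.symm)) (Subgroup.card_le_of_le hFC)
    have l4 : Cy < ⊤ := lt_of_le_of_ne le_top (fun h => hyx
      ((hCym x).mp (by rw [h]; exact Subgroup.mem_top x)).symm)
    obtain ⟨k, hk⟩ := (hPp.to_subgroup Cy).exists_card_eq
    have c4 := step hPp l4 (le_of_eq hk.symm)
    rw [Subgroup.card_top, hP] at c4
    rw [hk] at c3
    have k1 := (Nat.pow_le_pow_iff_right hp.one_lt).mp c4
    have k2 := (Nat.pow_le_pow_iff_right hp.one_lt).mp c3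
    have hk3 : k = 3 := by omega
    have h1 := Subgroup.card_mul_index Cy
    rw [hP, hk, hk3] at h1
    have h2 : p ^ 4 = p ^ 3 * p := by ring
    rw [h2] at h1
    exact Nat.eq_of_mul_eq_mul_left (pow_pos hp.pos 3) h1
  haveI hCyn : Cy.Normal := by
    apply Subgroup.normal_of_index_eq_minFac_card
    rw [iCy, hP, Nat.Prime.pow_minFac hp (by norm_num)]
  have hxp : x ^ p ∈ Cy := by
    have := Subgroup.pow_index_mem Cy x
    rwa [iCy] at this
  obtain ⟨c, hc⟩ : ∃ c, c = x * y * x⁻¹ * y⁻¹ := ⟨_, rfl⟩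
  haveI hZn : Z.Normal := by rw [hZ]; infer_instance
  have hcZ : c ∈ Z := by
    have hq : Nat.card (P ⧸ Z) = p ^ 2 := by rw [← Subgroup.index_eq_card, hidx]
    have hcomm := IsPGroup.commutative_of_card_eq_prime_sq hq
    rw [← QuotientGroup.eq_one_iff, hc, QuotientGroup.mk_mul, QuotientGroup.mk_mul,
      QuotientGroup.mk_mul, QuotientGroup.mk_inv, QuotientGroup.mk_inv, hcomm (x : P ⧸ Z) (y : P ⧸ Z)]
    group
  have hc1 : c ≠ 1 := by
    intro h
    apply hyx
    rw [hc] at h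
    have : x * y = y * x := by
      calc x * y = (x * y * x⁻¹ * y⁻¹) * (y * x) := by group
        _ = y * x := by rw [h, one_mul]
    exact this.symm
  have hpow : ∀ n : ℕ, x ^ n * y * (x ^ n)⁻¹ * y⁻¹ = c ^ n := by
    intro n
    induction n with
    | zero => simp
    | succ n ih =>
      have hcn : x * c ^ n = c ^ n * x := (hZm _).mp (pow_mem hcZ n) x
      calc x ^ (n + 1) * y * (x ^ (n + 1))⁻¹ * y⁻¹
          = x * (x ^ n * y * (x ^ n)⁻¹ * y⁻¹) * (y * x⁻¹ * y⁻¹) := by rw [pow_succ']; group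
        _ = x * c ^ n * (y * x⁻¹ * y⁻¹) := by rw [ih]
        _ = c ^ n * x * (y * x⁻¹ * y⁻¹) := by rw [hcn]
        _ = c ^ n * c := by rw [hc]; group
        _ = c ^ (n + 1) := (pow_succ c n).symm
  have hcp : c ^ p = 1 := by
    rw [← hpow p, (hCym _).mp hxp]
    group
  obtain ⟨N, hN⟩ : ∃ N, N = Subgroup.zpowers c := ⟨_, rfl⟩
  have cN : Nat.card N = p := by
    rw [hN, Nat.card_zpowers]; exact orderOf_eq_prime hcp hc1
  have hNZ : N ≤ Z := by rw [hN]; exact Subgroup.zpowers_le.mpr hcZ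
  haveI hNn : N.Normal := by
    refine ⟨fun u hu g => ?_⟩
    have := (hZm u).mp (hNZ hu) g
    rw [this, mul_assoc, mul_inv_cancel, mul_one]
    exact hu
  have hcN : ((c : P) : P ⧸ N) = 1 := (QuotientGroup.eq_one_iff c).mpr (by rw [hN]; exact Subgroup.mem_zpowers c)
  have hxyq : ((x : P) : P ⧸ N) * (y : P ⧸ N) = (y : P ⧸ N) * (x : P ⧸ N) := by
    rw [hc, QuotientGroup.mk_mul, QuotientGroup.mk_mul, QuotientGroup.mk_mul, QuotientGroup.mk_inv,
      QuotientGroup.mk_inv] at hcN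
    calc ((x : P) : P ⧸ N) * (y : P ⧸ N)
        = ((x : P ⧸ N) * (y : P ⧸ N) * (x : P ⧸ N)⁻¹ * (y : P ⧸ N)⁻¹) * ((y : P ⧸ N) * (x : P ⧸ N)) := by group
      _ = (y : P ⧸ N) * (x : P ⧸ N) := by rw [hcN, one_mul]
  have hTm : ∀ u g : P, g ∈ (Subgroup.centralizer ({(u : P ⧸ N)} : Set (P ⧸ N))).comap (QuotientGroup.mk' N) ↔
      (g : P ⧸ N) * (u : P ⧸ N) = (u : P ⧸ N) * (g : P ⧸ N) := by
    intro u g
    rw [Subgroup.mem_comap, memC]
    rfl
  have hZq : ∀ u : P, ∀ z ∈ Z, ((z : P) : P ⧸ N) * (u : P ⧸ N) = (u : P ⧸ N) * (z : P ⧸ N) := by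
    intro u z hz
    rw [← QuotientGroup.mk_mul, ← QuotientGroup.mk_mul, (hZm z).mp hz u]
  have hx_all : ∀ g : P, (g : P ⧸ N) * (x : P ⧸ N) = (x : P ⧸ N) * (g : P ⧸ N) := by
    intro g
    rw [← hTm]
    apply hgen
    · intro z hz; rw [hTm]; exact hZq x z hz
    · rw [hTm]
    · rw [hTm]; exact hxyq.symm
  have hy_all : ∀ g : P, (g : P ⧸ N) * (y : P ⧸ N) = (y : P ⧸ N) * (g : P ⧸ N) := by
    intro g
    rw [← hTm]
    apply hgen
    · intro z hz; rw [hTm]; exact hZq y z hz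
    · rw [hTm]; exact hxyq
    · rw [hTm]
  have hall : ∀ u g : P, (g : P ⧸ N) * (u : P ⧸ N) = (u : P ⧸ N) * (g : P ⧸ N) := by
    intro u g
    rw [← hTm]
    apply hgen
    · intro z hz; rw [hTm]; exact hZq u z hz
    · rw [hTm]; exact (hx_all u).symm
    · rw [hTm]; exact (hy_all u).symm
  have hle : commutator P ≤ N := by
    rw [commutator_def, Subgroup.commutator_le]
    intro g _ k _
    rw [← QuotientGroup.eq_one_iff, commutatorElement_def, QuotientGroup.mk_mul, QuotientGroup.mk_mul,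
      QuotientGroup.mk_mul, QuotientGroup.mk_inv, QuotientGroup.mk_inv, hall k g]
    group
  have hge : N ≤ commutator P := by
    rw [hN, Subgroup.zpowers_le, hc, ← commutatorElement_def, commutator_def]
    exact Subgroup.commutator_mem_commutator (Subgroup.mem_top x) (Subgroup.mem_top y)
  rw [le_antisymm hle hge, cN]

/-- Let p be a prime and P a group of order p^4. Then the derived subgroup P' has order p if and only if the centre Z(P) has index p^2 in P. -/
theorem result {P : Type*} [Group P] [Finite P] (p : ℕ) [Fact p.Prime] (hP : Nat.card P = p ^ 4) :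
    Nat.card (commutator P) = p ↔ (Subgroup.center P).index = p ^ 2 := by
  exact ⟨fwd p hP, bwd p hP⟩

end Cfsg.Agent.S4584
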