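import Cfsg.Statements.S4586
import Mathlib
import Cfsg.Agent.Lib_helper1_Basic
import Cfsg.Agent.Lib_helper1_SZ
import Cfsg.Agent.S4584

set_option autoImplicit false
open Cfsg

namespace Cfsg.Agent.S4586

open Cfsg.Agent.S4584 Cfsg.Agent

theorem comm_of_mem {P : Type*} [Group P] (D : Subgroup P) [D.Normal] (a b : P)
    (h : a * b * a⁻¹ * b⁻¹ ∈ D) : ((a : P) : P ⧸ D) * (b : P ⧸ D) = (b : P ⧸ D) * (a : P ⧸ D) := by
  have h5 := (QuotientGroup.eq_one_iff (N := D) _).mpr h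
  rw [QuotientGroup.mk_mul, QuotientGroup.mk_mul, QuotientGroup.mk_mul, QuotientGroup.mk_inv,
    QuotientGroup.mk_inv] at h5
  calc ((a : P) : P ⧸ D) * (b : P ⧸ D)
      = ((a : P ⧸ D) * (b : P ⧸ D) * (a : P ⧸ D)⁻¹ * (b : P ⧸ D)⁻¹) * ((b : P ⧸ D) * (a : P ⧸ D)) := by group
    _ = (b : P ⧸ D) * (a : P ⧸ D) := by rw [h5, one_mul]

theorem key {P : Type*} [Group P] [Finite P] (p : ℕ) [Fact p.Prime] (hP : IsPGroup p P)
    (N : Subgroup P) [N.Normal] (hN : N.index = p) (x : P) (hx : x ∉ N) :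
    (commutator P).index * Nat.card (commutator N) =
      p * Nat.card {n : N // x * n * x⁻¹ * (n : P)⁻¹ ∈ (commutator N).map N.subtype} := by
  classical
  have hp : p.Prime := Fact.out
  obtain ⟨M, hM⟩ : ∃ M : Subgroup P, M = (commutator N).map N.subtype := ⟨_, rfl⟩
  have hM' : M = ⁅N, N⁆ := by rw [hM, Subgroup.map_subtype_commutator]
  haveI hMn : M.Normal := by rw [hM']; infer_instance
  have hMN : M ≤ N := by rw [hM]; exact Subgroup.map_subtype_le _
  have cM : Nat.card M = Nat.card (commutator N) := by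
    rw [hM]; exact Subgroup.card_map_of_injective N.subtype_injective
  rw [← hM, ← cM]
  have hMc : ∀ a ∈ N, ∀ b ∈ N, a * b * a⁻¹ * b⁻¹ ∈ M := by
    intro a ha b hb
    rw [hM', ← commutatorElement_def]; exact Subgroup.commutator_mem_commutator ha hb
  have hMP : M ≤ commutator P := by
    rw [hM', commutator_def]; exact Subgroup.commutator_mono le_top le_top
  have hq : ∀ a ∈ N, ∀ b ∈ N, ((a : P) : P ⧸ M) * (b : P ⧸ M) = (b : P ⧸ M) * (a : P ⧸ M) :=
    fun a ha b hb => comm_of_mem M a b (hMc a ha b hb)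
  have hconjN : ∀ g : P, ∀ n ∈ N, g * n * g⁻¹ ∈ N :=
    fun g n hn => Subgroup.Normal.conj_mem inferInstance n hn g
  have hcn : ∀ n ∈ N, x * n * x⁻¹ * n⁻¹ ∈ N := fun n hn => mul_mem (hconjN x n hn) (inv_mem hn)
  obtain ⟨f, hf⟩ : ∃ f : P → P ⧸ M, ∀ n, f n = ((x * n * x⁻¹ * n⁻¹ : P) : P ⧸ M) := ⟨_, fun _ => rfl⟩
  have hf_mul : ∀ a ∈ N, ∀ b ∈ N, f (a * b) = f a * f b := by
    intro a ha b hb
    have e : x * (a * b) * x⁻¹ * (a * b)⁻¹ = (x * a * x⁻¹) * ((x * b * x⁻¹ * b⁻¹) * a⁻¹) := by group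
    have h1 : ((x * a * x⁻¹ * ((x * b * x⁻¹ * b⁻¹) * a⁻¹) : P) : P ⧸ M) =
        ((x * a * x⁻¹ : P) : P ⧸ M) * (((x * b * x⁻¹ * b⁻¹ : P) : P ⧸ M) * ((a⁻¹ : P) : P ⧸ M)) := rfl
    have h2 : ((x * a * x⁻¹ * a⁻¹ : P) : P ⧸ M) = ((x * a * x⁻¹ : P) : P ⧸ M) * ((a⁻¹ : P) : P ⧸ M) := rfl
    rw [hf, hf, hf, e, h1, h2, hq _ (hcn b hb) _ (inv_mem ha)]
    exact (mul_assoc _ _ _).symm
  obtain ⟨ψ, hψ⟩ : ∃ ψ : N →* P ⧸ M, ∀ n : N, ψ n = f n :=
    ⟨MonoidHom.mk' (fun n : N => f n) (fun a b => hf_mul a a.2 b b.2), fun _ => rfl⟩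
  have cker : Nat.card ψ.ker = Nat.card {n : N // x * n * x⁻¹ * (n : P)⁻¹ ∈ M} := by
    apply Nat.card_congr
    apply Equiv.subtypeEquivRight
    intro n
    rw [MonoidHom.mem_ker, hψ, hf, QuotientGroup.eq_one_iff]
  rw [← cker]
  obtain ⟨D, hD⟩ : ∃ D : Subgroup P, D = ψ.range.comap (QuotientGroup.mk' M) := ⟨_, rfl⟩
  have hDm : ∀ d, d ∈ D ↔ ∃ n ∈ N, f n = (d : P ⧸ M) := by
    intro d
    rw [hD, Subgroup.mem_comap, MonoidHom.mem_range]
    constructor
    · rintro ⟨n, hn⟩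
      exact ⟨n, n.2, by rw [← hψ, hn]; rfl⟩
    · rintro ⟨n, hn, h⟩
      exact ⟨⟨n, hn⟩, by rw [hψ, h]; rfl⟩
  have iD : D.index = ψ.range.index := by
    rw [hD]; exact Subgroup.index_comap_of_surjective _ (QuotientGroup.mk'_surjective M)
  have hDdec : ∀ d ∈ D, ∃ n ∈ N, (x * n * x⁻¹ * n⁻¹)⁻¹ * d ∈ M := by
    intro d hd
    obtain ⟨n, hn, h⟩ := (hDm d).mp hd
    rw [hf] at h
    exact ⟨n, hn, QuotientGroup.eq.mp h⟩
  have hDN : D ≤ N := by
    intro d hd
    obtain ⟨n, hn, h⟩ := hDdec d hd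
    have := mul_mem (hcn n hn) (hMN h)
    rwa [mul_inv_cancel_left] at this
  have hDP : D ≤ commutator P := by
    intro d hd
    obtain ⟨n, hn, h⟩ := hDdec d hd
    have h1 : x * n * x⁻¹ * n⁻¹ ∈ commutator P := by
      rw [← commutatorElement_def, commutator_def]
      exact Subgroup.commutator_mem_commutator (Subgroup.mem_top x) (Subgroup.mem_top n)
    have := mul_mem h1 (hMP h)
    rwa [mul_inv_cancel_left] at this
  have hMD : M ≤ D := by
    intro m hm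
    rw [hDm]
    refine ⟨1, one_mem N, ?_⟩
    rw [hf, (QuotientGroup.eq_one_iff m).mpr hm]
    simp
  have hxD : ∀ n ∈ N, x * n * x⁻¹ * n⁻¹ ∈ D := by
    intro n hn
    rw [hDm]; exact ⟨n, hn, hf n⟩
  -- generation
  obtain ⟨E, hE⟩ : ∃ E, E = N ⊔ Subgroup.zpowers x := ⟨_, rfl⟩
  have hxE : x ∈ E := by rw [hE]; exact Subgroup.mem_sup_right (Subgroup.mem_zpowers x)
  have lE : N < E := lt_of_le_of_ne (by rw [hE]; exact le_sup_left) (fun h => hx (h ▸ hxE))
  obtain ⟨a, ha⟩ := (hP.to_subgroup N).exists_card_eq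
  have cP : Nat.card N * p = Nat.card P := by rw [← hN]; exact Subgroup.card_mul_index N
  have hEtop : E = ⊤ := by
    apply Subgroup.eq_top_of_le_card
    have s := step hP lE (le_of_eq ha.symm)
    rw [← cP, ha, ← pow_succ]; exact s
  have hgen : ∀ T : Subgroup P, N ≤ T → x ∈ T → ∀ g, g ∈ T := by
    intro T h1 h2 g
    have h4 : E ≤ T := by rw [hE]; exact sup_le h1 (Subgroup.zpowers_le.mpr h2)
    exact h4 (by rw [hEtop]; exact Subgroup.mem_top g)
  have hDn1 : N ≤ Subgroup.normalizer (D : Set P) := by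
    apply H1.le_normalizer_of_forall
    intro g hg d hd
    obtain ⟨n, hn, h⟩ := (hDm d).mp hd
    rw [hDm]
    refine ⟨n, hn, ?_⟩
    rw [h, QuotientGroup.mk_mul, QuotientGroup.mk_mul, hq g hg d (hDN hd), mul_assoc,
      ← QuotientGroup.mk_mul, mul_inv_cancel]
    simp
  have hDn2 : Subgroup.zpowers x ≤ Subgroup.normalizer (D : Set P) := by
    apply H1.le_normalizer_of_forall
    intro g hg d hd
    obtain ⟨k, rfl⟩ := Subgroup.mem_zpowers_iff.mp hg
    have hgx : x ^ k * x = x * x ^ k := ((Commute.refl x).zpow_left k).eq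
    obtain ⟨n, hn, h⟩ := (hDm d).mp hd
    rw [hDm]
    refine ⟨x ^ k * n * (x ^ k)⁻¹, hconjN _ n hn, ?_⟩
    have h2 : (x ^ k)⁻¹ * x⁻¹ = x⁻¹ * (x ^ k)⁻¹ := by
      rw [← mul_inv_rev, ← mul_inv_rev, hgx]
    have e : x * (x ^ k * n * (x ^ k)⁻¹) * x⁻¹ * (x ^ k * n * (x ^ k)⁻¹)⁻¹ =
        x ^ k * (x * n * x⁻¹ * n⁻¹) * (x ^ k)⁻¹ := by
      calc x * (x ^ k * n * (x ^ k)⁻¹) * x⁻¹ * (x ^ k * n * (x ^ k)⁻¹)⁻¹
          = (x * x ^ k) * n * ((x ^ k)⁻¹ * x⁻¹) * (x ^ k * n⁻¹ * (x ^ k)⁻¹) := by group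
        _ = (x ^ k * x) * n * (x⁻¹ * (x ^ k)⁻¹) * (x ^ k * n⁻¹ * (x ^ k)⁻¹) := by rw [hgx, h2]
        _ = x ^ k * (x * n * x⁻¹ * n⁻¹) * (x ^ k)⁻¹ := by group
    rw [hf, e, QuotientGroup.mk_mul, QuotientGroup.mk_mul, ← hf, h, ← QuotientGroup.mk_mul,
      ← QuotientGroup.mk_mul]
  haveI hDn : D.Normal := by
    rw [← Subgroup.normalizer_eq_top_iff, eq_top_iff]
    intro g _
    exact hgen _ hDn1 (hDn2 (Subgroup.mem_zpowers x)) g
  have hTm : ∀ u g : P, g ∈ (Subgroup.centralizer ({(u : P ⧸ D)} : Set (P ⧸ D))).comap (QuotientGroup.mk' D) ↔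
      (g : P ⧸ D) * (u : P ⧸ D) = (u : P ⧸ D) * (g : P ⧸ D) := by
    intro u g
    rw [Subgroup.mem_comap, memC]
    rfl
  have hNq : ∀ a ∈ N, ∀ b ∈ N, ((a : P) : P ⧸ D) * (b : P ⧸ D) = (b : P ⧸ D) * (a : P ⧸ D) :=
    fun a ha b hb => comm_of_mem D a b (hMD (hMc a ha b hb))
  have hxq : ∀ n ∈ N, ((x : P) : P ⧸ D) * (n : P ⧸ D) = (n : P ⧸ D) * (x : P ⧸ D) :=
    fun n hn => comm_of_mem D x n (hxD n hn)
  have stepA : ∀ g : P, (g : P ⧸ D) * (x : P ⧸ D) = (x : P ⧸ D) * (g : P ⧸ D) := by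
    intro g
    rw [← hTm]
    apply hgen
    · intro n hn; rw [hTm]; exact (hxq n hn).symm
    · rw [hTm]
  have stepB : ∀ n ∈ N, ∀ g : P, (g : P ⧸ D) * (n : P ⧸ D) = (n : P ⧸ D) * (g : P ⧸ D) := by
    intro n hn g
    rw [← hTm]
    apply hgen
    · intro m hm; rw [hTm]; exact hNq m hm n hn
    · rw [hTm]; exact hxq n hn
  have stepC : ∀ u g : P, (g : P ⧸ D) * (u : P ⧸ D) = (u : P ⧸ D) * (g : P ⧸ D) := by
    intro u g
    rw [← hTm]
    apply hgen
    · intro n hn; rw [hTm]; exact (stepB n hn u).symm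
    · rw [hTm]; exact (stepA u).symm
  have hle : commutator P ≤ D := by
    rw [commutator_def, Subgroup.commutator_le]
    intro g _ k _
    rw [← QuotientGroup.eq_one_iff, commutatorElement_def, QuotientGroup.mk_mul, QuotientGroup.mk_mul,
      QuotientGroup.mk_mul, QuotientGroup.mk_inv, QuotientGroup.mk_inv, stepC k g]
    group
  rw [le_antisymm hle hDP, iD]
  have a1 := Subgroup.card_mul_index ψ.range
  have a2 := Subgroup.card_mul_index M
  rw [Subgroup.index_eq_card M] at a2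
  have a3 := Subgroup.card_mul_index ψ.ker
  rw [Subgroup.index_ker] at a3
  have hr : 0 < Nat.card ψ.range := Nat.card_pos
  apply Nat.eq_of_mul_eq_mul_left hr
  calc Nat.card ψ.range * (ψ.range.index * Nat.card M)
      = Nat.card M * (Nat.card ψ.range * ψ.range.index) := by ring
    _ = Nat.card P := by rw [a1, a2]
    _ = (Nat.card ψ.ker * Nat.card ψ.range) * p := by rw [a3, cP]
    _ = Nat.card ψ.range * (p * Nat.card ψ.ker) := by ring

/-- Let p be a prime, P a finite p-group and N a normal subgroup of P of index p. For x ∈ P write c(x) for the number of elements n of N whose commutator x n x⁻¹ n⁻¹ lies in the derived subgroup N' (so c(x)/#N' is the order of the centralizer of x acting on N/N'). Then [P : P'] = p² if and only if c(x) = p·#N' for every x ∈ P outside N, and also if and only if c(x) = p·#N' for some x ∈ P outside N. -/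
theorem result {P : Type*} [Group P] [Finite P] (p : ℕ) [Fact p.Prime] (hP : IsPGroup p P) (N : Subgroup P) [N.Normal] (hN : N.index = p) :
    ((commutator P).index = p ^ 2 ↔ ∀ x : P, x ∉ N →
        Nat.card {n : N // x * n * x⁻¹ * (n : P)⁻¹ ∈ (commutator N).map N.subtype} = p * Nat.card (commutator N)) ∧
    ((commutator P).index = p ^ 2 ↔ ∃ x : P, x ∉ N ∧
        Nat.card {n : N // x * n * x⁻¹ * (n : P)⁻¹ ∈ (commutator N).map N.subtype} = p * Nat.card (commutator N)) := by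
  classical
  have hp : p.Prime := Fact.out
  obtain ⟨x0, hx0⟩ : ∃ x, x ∉ N := by
    by_contra h
    push Not at h
    have h1 : N = ⊤ := by rw [eq_top_iff]; intro g _; exact h g
    rw [h1, Subgroup.index_top] at hN
    exact hp.one_lt.ne hN
  have hm : 0 < Nat.card (commutator N) := Nat.card_pos
  have iffx : ∀ x : P, x ∉ N → ((commutator P).index = p ^ 2 ↔
      Nat.card {n : N // x * n * x⁻¹ * (n : P)⁻¹ ∈ (commutator N).map N.subtype} = p * Nat.card (commutator N)) := by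
    intro x hx
    have hk := key p hP N hN x hx
    constructor
    · intro h
      rw [h] at hk
      have : p * (p * Nat.card (commutator N)) =
          p * Nat.card {n : N // x * n * x⁻¹ * (n : P)⁻¹ ∈ (commutator N).map N.subtype} := by
        rw [← hk]; ring
      exact (Nat.eq_of_mul_eq_mul_left hp.pos this).symm
    · intro h
      rw [h] at hk
      have : (commutator P).index * Nat.card (commutator N) = p ^ 2 * Nat.card (commutator N) := by
        rw [hk]; ring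
      exact Nat.eq_of_mul_eq_mul_right hm this
  refine ⟨⟨fun h x hx => (iffx x hx).mp h, fun h => (iffx x0 hx0).mpr (h x0 hx0)⟩,
    ⟨fun h => ⟨x0, hx0, (iffx x0 hx0).mp h⟩, fun ⟨x, hx, h⟩ => (iffx x hx).mpr h⟩⟩

end Cfsg.Agent.S4586
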