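import Cfsg.Statements.S3807
import Mathlib
import Cfsg.Agent.Lib_helper1_Basic
import Cfsg.Agent.Lib_helper3_SelfCent
import Cfsg.Agent.S4584
import Cfsg.Agent.S4586

set_option autoImplicit false
open Cfsg

namespace Cfsg.Agent.S3807

open Cfsg.Agent.S4584 Cfsg.Agent

theorem gen_of_index {S : Type*} [Group S] [Finite S] (p : ℕ) [Fact p.Prime] (hS : IsPGroup p S)
    (B : Subgroup S) (hBi : B.index = p) (x : S) (hx : x ∉ B) :
    ∀ T : Subgroup S, B ≤ T → x ∈ T → ∀ g, g ∈ T := by
  obtain ⟨E, hE⟩ : ∃ E, E = B ⊔ Subgroup.zpowers x := ⟨_, rfl⟩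
  have hxE : x ∈ E := by rw [hE]; exact Subgroup.mem_sup_right (Subgroup.mem_zpowers x)
  have lE : B < E := lt_of_le_of_ne (by rw [hE]; exact le_sup_left) (fun h => hx (h ▸ hxE))
  obtain ⟨a, ha⟩ := (hS.to_subgroup B).exists_card_eq
  have cP : Nat.card B * p = Nat.card S := by rw [← hBi]; exact Subgroup.card_mul_index B
  have hEtop : E = ⊤ := by
    apply Subgroup.eq_top_of_le_card
    have s := step hS lE (le_of_eq ha.symm)
    rw [← cP, ha, ← pow_succ]; exact s
  intro T h1 h2 g
  have h4 : E ≤ T := by rw [hE]; exact sup_le h1 (Subgroup.zpowers_le.mpr h2)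
  exact h4 (by rw [hEtop]; exact Subgroup.mem_top g)

theorem count {S : Type*} [Group S] [Finite S] (p : ℕ) [Fact p.Prime] (hS : IsPGroup p S) (j : ℕ)
    (hZ : Nat.card (Subgroup.center S) = p ^ j) (hSc : Nat.card S = p ^ (j + 2)) :
    Nat.card {B : Subgroup S // Subgroup.center S ≤ B ∧ B.index = p} = p + 1 := by
  classical
  have hp : p.Prime := Fact.out
  obtain ⟨Z, hZd⟩ : ∃ Z, Z = Subgroup.center S := ⟨_, rfl⟩
  rw [← hZd] at hZ ⊢
  have hZm : ∀ z, z ∈ Z ↔ ∀ g, g * z = z * g := fun z => by rw [hZd, Subgroup.mem_center_iff]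
  have cardB : ∀ B : Subgroup S, B.index = p → Nat.card B = p ^ (j + 1) := by
    intro B hB
    have h1 := Subgroup.card_mul_index B
    rw [hB, hSc, pow_succ p (j + 1)] at h1
    exact Nat.eq_of_mul_eq_mul_right hp.pos h1
  have cardF : ∀ s, s ∉ Z → Nat.card (Z ⊔ Subgroup.zpowers s : Subgroup S) = p ^ (j + 1) := by
    intro s hs
    obtain ⟨F, hF⟩ : ∃ F, F = Z ⊔ Subgroup.zpowers s := ⟨_, rfl⟩
    rw [← hF]
    have hsF : s ∈ F := by rw [hF]; exact Subgroup.mem_sup_right (Subgroup.mem_zpowers s)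
    have l1 : Z < F := lt_of_le_of_ne (by rw [hF]; exact le_sup_left) (fun h => hs (h ▸ hsF))
    have hFC : F ≤ Subgroup.centralizer ({s} : Set S) := by
      rw [hF]
      refine sup_le ?_ ?_
      · intro z hz'
        rw [memC]; exact ((hZm z).mp hz' s).symm
      · rw [Subgroup.zpowers_le, memC]
    have l2 : Subgroup.centralizer ({s} : Set S) < ⊤ := by
      refine lt_of_le_of_ne le_top (fun h => hs ((hZm s).mpr (fun g => ?_)))
      exact (memC s g).mp (by rw [h]; exact Subgroup.mem_top g)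
    have s1 := step hS l1 (le_of_eq hZ.symm)
    obtain ⟨c, hc⟩ := (hS.to_subgroup (Subgroup.centralizer ({s} : Set S))).exists_card_eq
    have s2 := step hS l2 (le_of_eq hc.symm)
    rw [Subgroup.card_top, hSc] at s2
    have hc1 := (Nat.pow_le_pow_iff_right hp.one_lt).mp s2
    have h3 : Nat.card F ≤ p ^ (j + 1) := by
      calc Nat.card F ≤ Nat.card (Subgroup.centralizer ({s} : Set S)) := Subgroup.card_le_of_le hFC
        _ = p ^ c := hc
        _ ≤ p ^ (j + 1) := Nat.pow_le_pow_right hp.pos (by omega)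
    exact le_antisymm h3 s1
  have hidx : ∀ s, s ∉ Z → (Z ⊔ Subgroup.zpowers s : Subgroup S).index = p := by
    intro s hs
    have h1 := Subgroup.card_mul_index (Z ⊔ Subgroup.zpowers s : Subgroup S)
    rw [cardF s hs, hSc, pow_succ p (j + 1)] at h1
    exact Nat.eq_of_mul_eq_mul_left (pow_pos hp.pos _) h1
  have fiber : ∀ B : {B : Subgroup S // Z ≤ B ∧ B.index = p},
      Nat.card {a : {s : S // s ∉ Z} //
        (⟨Z ⊔ Subgroup.zpowers a.1, le_sup_left, hidx a.1 a.2⟩ : {B : Subgroup S // Z ≤ B ∧ B.index = p}) = B}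
        = p ^ (j + 1) - p ^ j := by
    intro B
    have e1 : {a : {s : S // s ∉ Z} //
        (⟨Z ⊔ Subgroup.zpowers a.1, le_sup_left, hidx a.1 a.2⟩ : {B : Subgroup S // Z ≤ B ∧ B.index = p}) = B}
        ≃ {b : B.1 // (b : S) ∉ Z} :=
      { toFun := fun a => ⟨⟨a.1.1, by
          have h := congrArg Subtype.val a.2
          have h' : Z ⊔ Subgroup.zpowers a.1.1 = B.1 := h
          rw [← h']; exact Subgroup.mem_sup_right (Subgroup.mem_zpowers _)⟩, a.1.2⟩
        invFun := fun b => ⟨⟨b.1.1, b.2⟩, by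
          apply Subtype.ext
          show Z ⊔ Subgroup.zpowers b.1.1 = B.1
          apply Subgroup.eq_of_le_of_card_ge (sup_le B.2.1 (Subgroup.zpowers_le.mpr b.1.2))
          rw [cardF _ b.2, cardB B.1 B.2.2]⟩
        left_inv := fun a => Subtype.ext (Subtype.ext rfl)
        right_inv := fun b => Subtype.ext (Subtype.ext rfl) }
    have e2 : {b : B.1 // (b : S) ∈ Z} ≃ Z :=
      { toFun := fun b => ⟨b.1.1, b.2⟩
        invFun := fun z => ⟨⟨z.1, B.2.1 z.2⟩, z.2⟩
        left_inv := fun a => Subtype.ext (Subtype.ext rfl)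
        right_inv := fun b => Subtype.ext rfl }
    have e3 := Nat.card_congr (Equiv.sumCompl (fun b : B.1 => (b : S) ∈ Z))
    rw [Nat.card_sum, Nat.card_congr e2, hZ, cardB B.1 B.2.2] at e3
    rw [Nat.card_congr e1]
    omega
  have tot := H3.card_eq_card_mul_of_fiber
    (fun a : {s : S // s ∉ Z} =>
      (⟨Z ⊔ Subgroup.zpowers a.1, le_sup_left, hidx a.1 a.2⟩ : {B : Subgroup S // Z ≤ B ∧ B.index = p}))
    (p ^ (j + 1) - p ^ j) fiber
  have e4 := Nat.card_congr (Equiv.sumCompl (fun s : S => s ∈ Z))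
  rw [Nat.card_sum, hSc] at e4
  have e5 : Nat.card {s : S // s ∈ Z} = p ^ j := hZ
  rw [e5] at e4
  obtain ⟨q, hq⟩ : ∃ q, q = p ^ j := ⟨_, rfl⟩
  have hq0 : 0 < q := by rw [hq]; exact pow_pos hp.pos j
  have p1 : p ^ (j + 1) = q * p := by rw [hq, pow_succ]
  have p2 : p ^ (j + 2) = q * p * p := by rw [hq, pow_succ, pow_succ]
  rw [p1, ← hq] at tot
  rw [p2, ← hq] at e4
  obtain ⟨t, ht⟩ : ∃ t, q * p = t + q := ⟨q * p - q, by
    have : q ≤ q * p := Nat.le_mul_of_pos_right q hp.pos
    omega⟩
  have ht0 : 0 < t := by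
    have : q * 2 ≤ q * p := Nat.mul_le_mul_left q hp.two_le
    omega
  have h6 : q * p * p = t * p + t + q := by
    calc q * p * p = (t + q) * p := by rw [ht]
      _ = t * p + q * p := by ring
      _ = t * p + t + q := by rw [ht]; ring
  have h7 : q * p - q = t := by omega
  rw [h7] at tot
  have h8 : Nat.card {s : S // s ∉ Z} = (p + 1) * t := by
    have : Nat.card {s : S // s ∉ Z} = t * p + t := by omega
    rw [this]; ring
  rw [h8] at tot
  exact (Nat.eq_of_mul_eq_mul_right ht0 tot).symm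

/-- Let S be a non-abelian finite p-group with an abelian subgroup A of index p. Then [S : Z(S)] = p·#[S,S], and either [S,S] has order p, S/Z(S) is elementary abelian of order p², and S has exactly p + 1 abelian subgroups of index p; or [S,S] has order at least p² and A is the only abelian subgroup of index p in S. -/
theorem result {S : Type*} [Group S] [Finite S] (p : ℕ) [Fact p.Prime] (hS : IsPGroup p S) (hna : ¬ IsMulCommutative S)
    (A : Subgroup S) (hA : IsMulCommutative ↥A) (hAi : A.index = p) :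
    (Subgroup.center S).index = p * Nat.card (commutator S) ∧
      ((Nat.card (commutator S) = p ∧ Cfsg.IsElementaryAbelian p (⊤ : Subgroup (S ⧸ Subgroup.center S)) ∧
          Nat.card (S ⧸ Subgroup.center S) = p ^ 2 ∧
          Nat.card {B : Subgroup S // IsMulCommutative ↥B ∧ B.index = p} = p + 1) ∨
        (p ^ 2 ≤ Nat.card (commutator S) ∧ ∀ B : Subgroup S, IsMulCommutative ↥B → B.index = p → B = A)) := by
  classical
  have hp : p.Prime := Fact.out
  obtain ⟨Z, hZd⟩ : ∃ Z, Z = Subgroup.center S := ⟨_, rfl⟩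
  have hZm : ∀ z, z ∈ Z ↔ ∀ g, g * z = z * g := fun z => by rw [hZd, Subgroup.mem_center_iff]
  obtain ⟨n, hn⟩ := hS.exists_card_eq
  have hn0 : n ≠ 0 := by
    rintro rfl
    rw [pow_zero] at hn
    have h1 : p ∣ 1 := by rw [← hn, ← hAi]; exact Subgroup.index_dvd_card A
    exact hp.one_lt.ne' (Nat.dvd_one.mp h1)
  haveI hAn : A.Normal := by
    apply Subgroup.normal_of_index_eq_minFac_card
    rw [hAi, hn, Nat.Prime.pow_minFac hp hn0]
  have comm_of : ∀ B : Subgroup S, IsMulCommutative B → ∀ a ∈ B, ∀ b ∈ B, a * b = b * a :=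
    fun B hB a ha b hb => congrArg Subtype.val (hB.is_comm.comm ⟨a, ha⟩ ⟨b, hb⟩)
  have hZle : ∀ B : Subgroup S, IsMulCommutative B → B.index = p → Z ≤ B := by
    intro B hB hBi z hz
    by_contra hzB
    apply hna
    have hg := gen_of_index p hS B hBi z hzB
    have hBZ : ∀ b ∈ B, b ∈ Z := by
      intro b hb
      rw [hZm]
      intro g
      have : g ∈ Subgroup.centralizer ({b} : Set S) :=
        hg _ (fun e he => (memC b e).mpr (comm_of B hB e he b hb))
          ((memC b z).mpr ((hZm z).mp hz b).symm) g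
      exact (memC b g).mp this
    have hall : ∀ g, g ∈ Z := hg Z hBZ hz
    exact ⟨⟨fun a b => ((hZm b).mp (hall b) a)⟩⟩
  obtain ⟨x, hx⟩ : ∃ x, x ∉ A := by
    by_contra h
    push Not at h
    have h1 : A = ⊤ := by rw [eq_top_iff]; intro g _; exact h g
    rw [h1, Subgroup.index_top] at hAi
    exact hp.one_lt.ne hAi
  have hgA := gen_of_index p hS A hAi x hx
  have hZA := hZle A hA hAi
  have hk := Cfsg.Agent.S4586.key p hS A hAi x hx
  have hcA : commutator A = ⊥ := by
    rw [eq_bot_iff, commutator_def, Subgroup.commutator_le]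
    intro g _ k _
    rw [Subgroup.mem_bot, commutatorElement_def, hA.is_comm.comm g k]
    group
  rw [hcA, Subgroup.card_bot, mul_one, Subgroup.map_bot] at hk
  have hmemZ : ∀ a ∈ A, x * a * x⁻¹ * a⁻¹ ∈ (⊥ : Subgroup S) → a ∈ Z := by
    intro a ha h
    rw [Subgroup.mem_bot] at h
    have hxa : x * a = a * x := by
      calc x * a = (x * a * x⁻¹ * a⁻¹) * (a * x) := by group
        _ = a * x := by rw [h, one_mul]
    rw [hZm]
    intro g
    have : g ∈ Subgroup.centralizer ({a} : Set S) :=
      hgA _ (fun e he => (memC a e).mpr (comm_of A hA e he a ha)) ((memC a x).mpr hxa) g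
    exact (memC a g).mp this
  have hmemZ' : ∀ z ∈ Z, x * z * x⁻¹ * z⁻¹ ∈ (⊥ : Subgroup S) := by
    intro z hz
    rw [Subgroup.mem_bot, (hZm z).mp hz x]
    group
  have e : {a : A // x * a * x⁻¹ * (a : S)⁻¹ ∈ (⊥ : Subgroup S)} ≃ Z :=
    { toFun := fun a => ⟨a.1.1, hmemZ a.1.1 a.1.2 a.2⟩
      invFun := fun z => ⟨⟨z.1, hZA z.2⟩, hmemZ' z.1 z.2⟩
      left_inv := fun a => Subtype.ext (Subtype.ext rfl)
      right_inv := fun b => Subtype.ext rfl }
  rw [Nat.card_congr e] at hk
  have a1 := Subgroup.card_mul_index Z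
  have a2 := Subgroup.card_mul_index (commutator S)
  rw [hk] at a2
  have hZi : Z.index = p * Nat.card (commutator S) := by
    apply Nat.eq_of_mul_eq_mul_left (Nat.card_pos : 0 < Nat.card Z)
    rw [a1, ← a2]; ring
  obtain ⟨k, hk'⟩ := (hS.to_subgroup (commutator S)).exists_card_eq
  have hk0 : k ≠ 0 := by
    rintro rfl
    rw [pow_zero] at hk'
    have h1 := Subgroup.card_eq_one.mp hk'
    apply hna
    refine ⟨⟨fun a b => ?_⟩⟩
    have h2 : a * b * a⁻¹ * b⁻¹ ∈ commutator S := by
      rw [← commutatorElement_def, commutator_def]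
      exact Subgroup.commutator_mem_commutator (Subgroup.mem_top a) (Subgroup.mem_top b)
    rw [h1, Subgroup.mem_bot] at h2
    calc a * b = (a * b * a⁻¹ * b⁻¹) * (b * a) := by group
      _ = b * a := by rw [h2, one_mul]
  by_cases hk1 : k = 1
  · rw [hk1, pow_one] at hk'
    rw [hk'] at hZi
    obtain ⟨j, hj⟩ := (hS.to_subgroup Z).exists_card_eq
    have hSc : Nat.card S = p ^ (j + 2) := by
      rw [← a1, hj, hZi]; ring
    have hchar : ∀ B : Subgroup S, (IsMulCommutative ↥B ∧ B.index = p) ↔ (Z ≤ B ∧ B.index = p) := by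
      intro B
      constructor
      · rintro ⟨h1, h2⟩; exact ⟨hZle B h1 h2, h2⟩
      · rintro ⟨h1, h2⟩
        refine ⟨?_, h2⟩
        have cB : Nat.card B = p ^ (j + 1) := by
          have h3 := Subgroup.card_mul_index B
          rw [h2, hSc, pow_succ p (j + 1)] at h3
          exact Nat.eq_of_mul_eq_mul_right hp.pos h3
        obtain ⟨b, hbB, hbZ⟩ : ∃ b ∈ B, b ∉ Z := by
          by_contra h
          push Not at h
          have := Subgroup.card_le_of_le (show B ≤ Z from h)
          rw [cB, hj] at this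
          have := (Nat.pow_le_pow_iff_right hp.one_lt).mp this
          omega
        obtain ⟨F, hF⟩ : ∃ F, F = Z ⊔ Subgroup.zpowers b := ⟨_, rfl⟩
        have hbF : b ∈ F := by rw [hF]; exact Subgroup.mem_sup_right (Subgroup.mem_zpowers b)
        have l1 : Z < F := lt_of_le_of_ne (by rw [hF]; exact le_sup_left) (fun h => hbZ (h ▸ hbF))
        have hFB : F ≤ B := by rw [hF]; exact sup_le h1 (Subgroup.zpowers_le.mpr hbB)
        have hFeq : F = B :=
          Subgroup.eq_of_le_of_card_ge hFB (by rw [cB]; exact step hS l1 (le_of_eq hj.symm))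
        have hsub : ∀ u : S, b * u = u * b → B ≤ Subgroup.centralizer ({u} : Set S) := by
          intro u hu
          rw [← hFeq, hF]
          refine sup_le ?_ ?_
          · intro z hz
            rw [memC]; exact ((hZm z).mp hz u).symm
          · rw [Subgroup.zpowers_le, memC]; exact hu
        have hb_all : ∀ u ∈ B, b * u = u * b := by
          intro u hu
          exact ((memC b u).mp (hsub b rfl hu)).symm
        exact ⟨⟨fun u v => Subtype.ext ((memC v.1 u.1).mp (hsub v.1 (hb_all v.1 v.2) u.2))⟩⟩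
    have hcount : Nat.card {B : Subgroup S // IsMulCommutative ↥B ∧ B.index = p} = p + 1 := by
      rw [Nat.card_congr (Equiv.subtypeEquivRight hchar), hZd]
      exact count p hS j (by rw [← hZd]; exact hj) hSc
    subst hZd
    refine ⟨by rw [hZi, hk'], Or.inl ⟨hk', ?_, ?_, hcount⟩⟩
    · have hq : Nat.card (S ⧸ Subgroup.center S) = p ^ 2 := by
        rw [← Subgroup.index_eq_card, hZi]; ring
      have hcommQ := IsPGroup.commutative_of_card_eq_prime_sq hq
      refine ⟨⟨⟨fun a b => Subtype.ext (hcommQ a.1 b.1)⟩⟩, fun a _ => ?_⟩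
      have h1 : orderOf a ∣ p ^ 2 := by rw [← hq]; exact orderOf_dvd_natCard a
      obtain ⟨i, hi, hoi⟩ := (Nat.dvd_prime_pow hp).mp h1
      have hi2 : i ≠ 2 := by
        rintro rfl
        haveI : IsCyclic (S ⧸ Subgroup.center S) := isCyclic_of_orderOf_eq_card a (by rw [hoi, hq])
        exact hna (MonoidHom.isMulCommutative_of_isCyclic_of_ker_le_center
          (QuotientGroup.mk' (Subgroup.center S)) (by rw [QuotientGroup.ker_mk']))
      have h2 : orderOf a ∣ p := by
        rw [hoi]
        calc p ^ i ∣ p ^ 1 := pow_dvd_pow p (by omega)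
          _ = p := pow_one p
      exact orderOf_dvd_iff_pow_eq_one.mp h2
    · rw [← Subgroup.index_eq_card, hZi]; ring
  · have hk2 : 2 ≤ k := by omega
    have hge : p ^ 2 ≤ Nat.card (commutator S) := by
      rw [hk']; exact Nat.pow_le_pow_right hp.pos hk2
    have huniq : ∀ B : Subgroup S, IsMulCommutative ↥B → B.index = p → B = A := by
      intro B hB hBi
      by_contra hne
      obtain ⟨y, hyB, hyA⟩ : ∃ y ∈ B, y ∉ A := by
        by_contra h
        push Not at h
        apply hne
        apply Subgroup.eq_of_le_of_card_ge (show B ≤ A from h)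
        have b1 := Subgroup.card_mul_index A
        have b2 := Subgroup.card_mul_index B
        rw [hAi] at b1
        rw [hBi] at b2
        exact le_of_eq (Nat.eq_of_mul_eq_mul_right hp.pos (b1.trans b2.symm))
      have hgy := gen_of_index p hS A hAi y hyA
      have hle : A ⊓ B ≤ Z := by
        intro d hd
        have hdA := (Subgroup.mem_inf.mp hd).1
        have hdB := (Subgroup.mem_inf.mp hd).2
        rw [hZm]
        intro g
        have : g ∈ Subgroup.centralizer ({d} : Set S) :=
          hgy _ (fun e he => (memC d e).mpr (comm_of A hA e he d hdA))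
            ((memC d y).mpr (comm_of B hB y hyB d hdB)) g
        exact (memC d g).mp this
      have i1 : Z.index ≤ (A ⊓ B).index := Subgroup.index_antitone hle
      have i2 : (A ⊓ B).index ≤ p * p := by
        have := Subgroup.index_inf_le (H := A) (K := B)
        rwa [hAi, hBi] at this
      rw [hZi] at i1
      have i3 : p * Nat.card (commutator S) ≤ p * p := le_trans i1 i2
      have i4 := Nat.le_of_mul_le_mul_left i3 hp.pos
      have i5 : p < p ^ 2 := by
        calc p = p ^ 1 := (pow_one p).symm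
          _ < p ^ 2 := Nat.pow_lt_pow_right hp.one_lt (by norm_num)
      omega
    subst hZd
    exact ⟨hZi, Or.inr ⟨hge, huniq⟩⟩

end Cfsg.Agent.S3807
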