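import Cfsg.Statements.S3808
import Mathlib
import Cfsg.Agent.Lib_lead_XS2
import Cfsg.Agent.Lib_helper7_CL
import Cfsg.Agent.Lib_helper5_PGrp

set_option autoImplicit false
open Cfsg

namespace Cfsg.Agent.S3808

/-- Let S be a finite p-group with an extraspecial subgroup Q of index p. Then either Z(S) = Z(Q), or S = Q·Z(S) and Z(S) has order p². -/
theorem result {S : Type*} [Group S] [Finite S] (p : ℕ) [Fact p.Prime] (hS : IsPGroup p S) (Q : Subgroup S) (hQ : Cfsg.IsExtraspecial p ↥Q) (hQi : Q.index = p) :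
    Subgroup.center S = (Subgroup.center ↥Q).map Q.subtype ∨
      (Q ⊔ Subgroup.center S = ⊤ ∧ Nat.card (Subgroup.center S) = p ^ 2) := by
  have hX := Cfsg.Agent.LeadXS.XS.of_extraspecial hQ
  have hpr : p.Prime := Fact.out
  obtain ⟨n, hn, hcard⟩ := hX.card
  have hS' : Nat.card S = p ^ (2 + 2 * n) := by
    rw [← Subgroup.card_mul_index Q, hQi, hcard]; ring
  have hQn : Q.Normal := by
    apply Subgroup.normal_of_index_eq_minFac_card
    rw [hQi, hS', Nat.Prime.pow_minFac hpr (by omega)]
  set Z : Subgroup S := (Subgroup.center ↥Q).map Q.subtype with hZdef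
  have hZeq : Z = Q ⊓ Subgroup.centralizer (Q : Set S) := Cfsg.Agent.H7.map_center_subtype Q
  have hZcard : Nat.card Z = p := by
    rw [hZdef, Subgroup.card_map_of_injective Q.subtype_injective, hX.card_center]
  have hZn : (⊤ : Subgroup S) ≤ Subgroup.normalizer (Z : Set S) := by
    have key : ∀ s : S, ∀ z ∈ Z, s * z * s⁻¹ ∈ Z := by
      intro s z hz
      rw [hZeq] at hz ⊢
      refine Subgroup.mem_inf.2 ⟨hQn.conj_mem z hz.1 s, ?_⟩
      rw [Subgroup.mem_centralizer_iff]
      intro q hq
      have h1 := Subgroup.mem_centralizer_iff.1 hz.2 (s⁻¹ * q * s) (by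
        have := hQn.conj_mem q hq s⁻¹
        simpa using this)
      calc q * (s * z * s⁻¹) = s * ((s⁻¹ * q * s) * z) * s⁻¹ := by group
        _ = s * z * s⁻¹ * q := by rw [h1]; group
    intro s _
    rw [Subgroup.mem_normalizer_iff]
    intro z
    refine ⟨key s z, fun h => ?_⟩
    have := key s⁻¹ _ h
    have e : s⁻¹ * (s * z * s⁻¹) * s⁻¹⁻¹ = z := by group
    rwa [e] at this
  have hZne : Z ≠ ⊥ := by
    intro h
    rw [h, Subgroup.card_bot] at hZcard
    exact hpr.one_lt.ne hZcard
  have hTp : IsPGroup p (⊤ : Subgroup S) := hS.to_subgroup ⊤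
  have h1 := Cfsg.Agent.H5.inf_centralizer_ne_bot_of_pgroup hTp le_top hZn hZne
  have h2 : Z ⊓ Subgroup.centralizer ((⊤ : Subgroup S) : Set S) = Z :=
    Cfsg.Agent.LeadXS.eq_of_le_of_prime_card inf_le_left hZcard h1
  have hZc : Z ≤ Subgroup.center S := by
    rw [← h2, Subgroup.coe_top, Subgroup.centralizer_univ]
    exact inf_le_right
  have hinf : Q ⊓ Subgroup.center S = Z := by
    apply le_antisymm
    · rw [hZeq]
      refine le_inf inf_le_left ?_
      intro z hz
      rw [Subgroup.mem_centralizer_iff]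
      intro q _
      exact Subgroup.mem_center_iff.1 hz.2 q
    · refine le_inf ?_ hZc
      rw [hZeq]; exact inf_le_left
  by_cases hle : Subgroup.center S ≤ Q
  · left
    rw [← hinf]
    exact (inf_eq_right.2 hle).symm
  · right
    have h3 := Subgroup.relIndex_mul_index (le_sup_left : Q ≤ Q ⊔ Subgroup.center S)
    rw [hQi] at h3
    have h4 : Q.relIndex (Q ⊔ Subgroup.center S) ≠ 1 := by
      intro h
      rw [Subgroup.relIndex_eq_one] at h
      exact hle (le_sup_right.trans h)
    have h5 : Q.relIndex (Q ⊔ Subgroup.center S) = p :=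
      (hpr.eq_one_or_self_of_dvd _ ⟨_, h3.symm⟩).resolve_left h4
    have h6 : (Q ⊔ Subgroup.center S).index = 1 := by
      rw [h5] at h3
      exact Nat.eq_of_mul_eq_mul_left hpr.pos (by rw [h3, mul_one])
    refine ⟨Subgroup.index_eq_one.1 h6, ?_⟩
    have h7 : Q.relIndex (Subgroup.center S) = p := by
      rw [← h5, sup_comm, Subgroup.relIndex_sup_right]
    have h8 := Subgroup.relIndex_mul_relIndex ⊥ Z (Subgroup.center S) bot_le hZc
    rw [Subgroup.relIndex_bot_left, Subgroup.relIndex_bot_left, hZcard, ← hinf,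
      Subgroup.inf_relIndex_right, h7] at h8
    rw [← h8]; ring

end Cfsg.Agent.S3808
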