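import Cfsg.Statements.S3809
import Mathlib
import Cfsg.Agent.Lib_lead_XS2

set_option autoImplicit false
open Cfsg

namespace Cfsg.Agent.S3809

/-- Let S be a finite p-group with an extraspecial subgroup of index p. Then S has order p^(2+2n) for some n ≥ 1, derived length at most 3, and exponent dividing p³. -/
theorem result {S : Type*} [Group S] [Finite S] (p : ℕ) [Fact p.Prime] (hS : IsPGroup p S) (Q : Subgroup S) (hQ : Cfsg.IsExtraspecial p ↥Q) (hQi : Q.index = p) :
    (∃ n : ℕ, 1 ≤ n ∧ Nat.card S = p ^ (2 + 2 * n)) ∧ derivedSeries S 3 = ⊥ ∧ ∀ x : S, x ^ (p ^ 3) = 1 := by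
  have hX := Cfsg.Agent.LeadXS.XS.of_extraspecial hQ
  have hpr : p.Prime := Fact.out
  obtain ⟨n, hn, hcard⟩ := hX.card
  have hS' : Nat.card S = p ^ (2 + 2 * n) := by
    rw [← Subgroup.card_mul_index Q, hQi, hcard]; ring
  have hQn : Q.Normal := by
    apply Subgroup.normal_of_index_eq_minFac_card
    rw [hQi, hS', Nat.Prime.pow_minFac hpr (by omega)]
  have hcomm : commutator S ≤ Q := by
    rw [← Subgroup.Normal.quotient_commutative_iff_commutator_le]
    have : Nat.card (S ⧸ Q) = p := hQi
    exact (isCyclic_of_prime_card this).isMulCommutative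
  have hpowQ : ∀ x : S, x ^ p ∈ Q := by
    intro x
    rw [← hQi]
    exact Subgroup.pow_index_mem Q x
  refine ⟨⟨n, hn, hS'⟩, ?_, ?_⟩
  · have h1 : derivedSeries S 1 ≤ Q := by
      rw [derivedSeries_succ, derivedSeries_zero]
      exact hcomm
    have h2 : derivedSeries S 2 ≤ (Subgroup.center Q).map Q.subtype := by
      rw [derivedSeries_succ]
      refine (Subgroup.commutator_mono h1 h1).trans ?_
      rw [← hX.comm, commutator_def, Subgroup.map_commutator]
      rw [← MonoidHom.range_eq_map, Subgroup.range_subtype]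
    rw [derivedSeries_succ, eq_bot_iff]
    refine (Subgroup.commutator_mono h2 h2).trans ?_
    rw [← Subgroup.map_commutator, Subgroup.map_le_iff_le_comap]
    have : ⁅Subgroup.center Q, Subgroup.center Q⁆ = ⊥ := by
      rw [Subgroup.commutator_eq_bot_iff_le_centralizer]
      intro z hz
      rw [Subgroup.mem_centralizer_iff]
      intro y _
      exact Subgroup.mem_center_iff.1 hz y
    rw [this]
    exact bot_le
  · intro x
    have h1 := hX.pow ⟨x ^ p, hpowQ x⟩
    have h2 := pow_card_eq_one' (G := Subgroup.center Q) (x := ⟨_, h1⟩)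
    rw [hX.card_center] at h2
    have h3 : ((x ^ p) ^ p) ^ p = 1 :=
      congrArg (fun v : Subgroup.center Q => ((v : Q) : S)) h2
    rw [← h3, ← pow_mul, ← pow_mul]
    congr 1
    ring

end Cfsg.Agent.S3809
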