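import Cfsg.Statements.S3810
import Mathlib
import Cfsg.Agent.Lib_helper1_Basic
import Cfsg.Agent.S4584

set_option autoImplicit false
open Cfsg

namespace Cfsg.Agent.S3810

open Cfsg.Agent.S4584

theorem exists_noncomm {P : Type*} [Group P] (p : ℕ) [Fact p.Prime]
    (hc : Nat.card (commutator P) = p) : ∃ x y : P, x * y ≠ y * x := by
  have hp : p.Prime := Fact.out
  by_contra h
  push Not at h
  have h1 : commutator P = ⊥ := by
    rw [eq_bot_iff, commutator_def, Subgroup.commutator_le]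
    intro g _ k _
    rw [Subgroup.mem_bot, commutatorElement_def, h g k]
    group
  rw [h1, Subgroup.card_bot] at hc
  exact hp.one_lt.ne hc

theorem X {Q : Type*} [Group Q] [Finite Q] (p : ℕ) [Fact p.Prime] (hQ : IsPGroup p Q)
    (hc : Nat.card (commutator Q) = p) (hz : Nat.card (Subgroup.center Q) = p)
    (B : Subgroup Q) (hB : IsMulCommutative B) (hi : B.index ≤ p) : Nat.card Q ≤ p ^ 3 := by
  classical
  have hp : p.Prime := Fact.out
  obtain ⟨u, v, huv⟩ := exists_noncomm p hc
  have hBc : ∀ a ∈ B, ∀ b ∈ B, a * b = b * a :=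
    fun a ha b hb => congrArg Subtype.val (hB.is_comm.comm ⟨a, ha⟩ ⟨b, hb⟩)
  obtain ⟨x, hx⟩ : ∃ x, x ∉ B := by
    by_contra h
    push Not at h
    exact huv (hBc u (h u) v (h v))
  obtain ⟨E, hE⟩ : ∃ E, E = B ⊔ Subgroup.zpowers x := ⟨_, rfl⟩
  have hxE : x ∈ E := by rw [hE]; exact Subgroup.mem_sup_right (Subgroup.mem_zpowers x)
  have l : B < E := lt_of_le_of_ne (by rw [hE]; exact le_sup_left) (fun h => hx (h ▸ hxE))
  obtain ⟨b, hb⟩ := (hQ.to_subgroup B).exists_card_eq
  have s := step hQ l (le_of_eq hb.symm)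
  have hEtop : E = ⊤ := by
    apply Subgroup.eq_top_of_le_card
    have h1 := Subgroup.card_mul_index B
    rw [hb] at h1
    have h2 : p ^ b * B.index ≤ p ^ b * p := Nat.mul_le_mul_left _ hi
    rw [pow_succ] at s
    omega
  obtain ⟨D, hD⟩ : ∃ D, D = B ⊓ Subgroup.centralizer ({x} : Set Q) := ⟨_, rfl⟩
  have hDZ : D ≤ Subgroup.center Q := by
    intro d hd
    rw [hD] at hd
    have hdB := (Subgroup.mem_inf.mp hd).1
    have hdx := (memC x d).mp (Subgroup.mem_inf.mp hd).2
    rw [Subgroup.mem_center_iff]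
    have hT : E ≤ Subgroup.centralizer ({d} : Set Q) := by
      rw [hE]
      refine sup_le ?_ ?_
      · intro e he
        rw [memC]; exact hBc e he d hdB
      · rw [Subgroup.zpowers_le, memC]; exact hdx.symm
    intro g
    exact (memC d g).mp (hT (by rw [hEtop]; exact Subgroup.mem_top g))
  have cD : Nat.card D ≤ p := by rw [← hz]; exact Subgroup.card_le_of_le hDZ
  have hmemc : ∀ g : Q, g * x * g⁻¹ * x⁻¹ ∈ commutator Q := fun g => by
    rw [← commutatorElement_def, commutator_def]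
    exact Subgroup.commutator_mem_commutator (Subgroup.mem_top g) (Subgroup.mem_top x)
  have ix : (Subgroup.centralizer ({x} : Set Q)).index ≤ p := by
    rw [← hc]; exact idx_le _ x hmemc
  have iD : D.index ≤ p * p := by
    rw [hD]; exact le_trans Subgroup.index_inf_le (Nat.mul_le_mul hi ix)
  have h1 := Subgroup.card_mul_index D
  calc Nat.card Q = Nat.card D * D.index := h1.symm
    _ ≤ p * (p * p) := Nat.mul_le_mul cD iD
    _ = p ^ 3 := by ring

theorem Y {Q : Type*} [Group Q] [Finite Q] (p : ℕ) [Fact p.Prime] (hQ : IsPGroup p Q)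
    (hz : p ≤ Nat.card (Subgroup.center Q)) (u v : Q) (huv : u * v ≠ v * u) :
    p ^ 2 ≤ Nat.card (Subgroup.centralizer ({u} : Set Q)) ∧ p ^ 3 ≤ Nat.card Q := by
  classical
  obtain ⟨F, hF⟩ : ∃ F, F = Subgroup.center Q ⊔ Subgroup.zpowers u := ⟨_, rfl⟩
  have huF : u ∈ F := by rw [hF]; exact Subgroup.mem_sup_right (Subgroup.mem_zpowers u)
  have huZ : u ∉ Subgroup.center Q := fun h => huv (Subgroup.mem_center_iff.mp h v).symm
  have l1 : Subgroup.center Q < F :=
    lt_of_le_of_ne (by rw [hF]; exact le_sup_left) (fun h => huZ (h ▸ huF))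
  have hFC : F ≤ Subgroup.centralizer ({u} : Set Q) := by
    rw [hF]
    refine sup_le ?_ ?_
    · intro z hz'
      rw [memC]; exact (Subgroup.mem_center_iff.mp hz' u).symm
    · rw [Subgroup.zpowers_le, memC]
  have l2 : Subgroup.centralizer ({u} : Set Q) < ⊤ :=
    lt_of_le_of_ne le_top (fun h => huv ((memC u v).mp (by rw [h]; exact Subgroup.mem_top v)).symm)
  have s1 : p ^ (1 + 1) ≤ Nat.card F := step hQ l1 (by rw [pow_one]; exact hz)
  have s2 : p ^ (1 + 1) ≤ Nat.card (Subgroup.centralizer ({u} : Set Q)) :=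
    le_trans s1 (Subgroup.card_le_of_le hFC)
  have s3 := step hQ l2 s2
  rw [Subgroup.card_top] at s3
  exact ⟨s2, s3⟩

theorem W {S : Type*} [Group S] [Finite S] (p : ℕ) [Fact p.Prime] (hS : Nat.card S = p ^ 4)
    (u v : S) (huv : u * v ≠ v * u) : ∃ A : Subgroup S, IsMulCommutative ↥A ∧ A.index = p := by
  classical
  have hp : p.Prime := Fact.out
  have hSp : IsPGroup p S := IsPGroup.of_card hS
  obtain ⟨Z, hZ⟩ : ∃ Z, Z = Subgroup.center S := ⟨_, rfl⟩
  haveI hZn : Z.Normal := by rw [hZ]; infer_instance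
  have hZm : ∀ z, z ∈ Z ↔ ∀ g, g * z = z * g := fun z => by rw [hZ, Subgroup.mem_center_iff]
  haveI : Nontrivial S := ⟨⟨u, v, fun h => huv (by rw [h])⟩⟩
  obtain ⟨j, hj⟩ := (hSp.to_subgroup Z).exists_card_eq
  have hj1 : 1 ≤ j := by
    by_contra h
    have hj0 : j = 0 := by omega
    rw [hj0, pow_zero] at hj
    haveI := hSp.center_nontrivial
    have h2 : 1 < Nat.card (Subgroup.center S) := Finite.one_lt_card
    rw [← hZ, hj] at h2
    omega
  have huZ : u ∉ Z := fun h => huv ((hZm u).mp h v).symm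
  -- find y outside Z with large centraliser
  obtain ⟨y, hyZ, hyC⟩ : ∃ y, y ∉ Z ∧ p ^ 3 ≤ Nat.card (Subgroup.centralizer ({y} : Set S)) := by
    by_cases hj2 : 2 ≤ j
    · refine ⟨u, huZ, ?_⟩
      obtain ⟨F, hF⟩ : ∃ F, F = Z ⊔ Subgroup.zpowers u := ⟨_, rfl⟩
      have huF : u ∈ F := by rw [hF]; exact Subgroup.mem_sup_right (Subgroup.mem_zpowers u)
      have l1 : Z < F := lt_of_le_of_ne (by rw [hF]; exact le_sup_left) (fun h => huZ (h ▸ huF))
      have hFC : F ≤ Subgroup.centralizer ({u} : Set S) := by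
        rw [hF]
        refine sup_le ?_ ?_
        · intro z hz'
          rw [memC]; exact ((hZm z).mp hz' u).symm
        · rw [Subgroup.zpowers_le, memC]
      have s1 : p ^ (2 + 1) ≤ Nat.card F :=
        step hSp l1 (by rw [hj]; exact Nat.pow_le_pow_right hp.pos hj2)
      exact le_trans s1 (Subgroup.card_le_of_le hFC)
    · have hj' : j = 1 := by omega
      rw [hj', pow_one] at hj
      haveI : Nontrivial (S ⧸ Z) := by
        rw [← Finite.one_lt_card_iff_nontrivial, ← Subgroup.index_eq_card]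
        by_contra h
        have h1 : Z.index = 1 := by
          have : Z.index ≠ 0 := Subgroup.index_ne_zero_of_finite
          omega
        rw [Subgroup.index_eq_one] at h1
        exact huZ (by rw [h1]; exact Subgroup.mem_top u)
      obtain ⟨y, hyc, hy1⟩ : ∃ y : S, (y : S ⧸ Z) ∈ Subgroup.center (S ⧸ Z) ∧ (y : S ⧸ Z) ≠ 1 := by
        haveI := (hSp.to_quotient Z).center_nontrivial
        obtain ⟨⟨yb, hyb⟩, hne⟩ := exists_ne (1 : Subgroup.center (S ⧸ Z))
        obtain ⟨y, rfl⟩ := QuotientGroup.mk_surjective yb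
        exact ⟨y, hyb, fun h => hne (Subtype.ext h)⟩
      have hyZ : y ∉ Z := fun h => hy1 ((QuotientGroup.eq_one_iff y).mpr h)
      have hcomm : ∀ g : S, g * y * g⁻¹ * y⁻¹ ∈ Z := by
        intro g
        rw [← QuotientGroup.eq_one_iff]
        have h1 := Subgroup.mem_center_iff.mp hyc (g : S ⧸ Z)
        rw [QuotientGroup.mk_mul, QuotientGroup.mk_mul, QuotientGroup.mk_mul, QuotientGroup.mk_inv,
          QuotientGroup.mk_inv, h1]
        group
      refine ⟨y, hyZ, ?_⟩
      have i1 := idx_le Z y hcomm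
      rw [hj] at i1
      by_contra hlt
      push Not at hlt
      have h1 := Subgroup.card_mul_index (Subgroup.centralizer ({y} : Set S))
      rw [hS] at h1
      have h2 := Nat.mul_le_mul_left (Nat.card (Subgroup.centralizer ({y} : Set S))) i1
      have h3 : Nat.card (Subgroup.centralizer ({y} : Set S)) * p < p ^ 3 * p :=
        Nat.mul_lt_mul_of_pos_right hlt hp.pos
      have h4 : p ^ 3 * p = p ^ 4 := by ring
      omega
  obtain ⟨C, hC⟩ : ∃ C, C = Subgroup.centralizer ({y} : Set S) := ⟨_, rfl⟩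
  rw [← hC] at hyC
  have hCm : ∀ g, g ∈ C ↔ g * y = y * g := fun g => by rw [hC, memC]
  have lC : C < ⊤ := by
    refine lt_of_le_of_ne le_top (fun h => hyZ ((hZm y).mpr (fun g => ?_)))
    exact (hCm g).mp (by rw [h]; exact Subgroup.mem_top g)
  obtain ⟨k, hk⟩ := (hSp.to_subgroup C).exists_card_eq
  have c4 := step hSp lC (le_of_eq hk.symm)
  rw [Subgroup.card_top, hS] at c4
  have hyC' := hyC
  rw [hk] at hyC'
  have k1 := (Nat.pow_le_pow_iff_right hp.one_lt).mp c4
  have k2 := (Nat.pow_le_pow_iff_right hp.one_lt).mp hyC'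
  have hk3 : k = 3 := by omega
  rw [hk3] at hk
  refine ⟨C, ?_, ?_⟩
  · obtain ⟨Wd, hW⟩ : ∃ Wd, Wd = Z ⊔ Subgroup.zpowers y := ⟨_, rfl⟩
    have hyW : y ∈ Wd := by rw [hW]; exact Subgroup.mem_sup_right (Subgroup.mem_zpowers y)
    have l1 : Z < Wd := lt_of_le_of_ne (by rw [hW]; exact le_sup_left) (fun h => hyZ (h ▸ hyW))
    have sW : p ^ (1 + 1) ≤ Nat.card Wd :=
      step hSp l1 (by rw [hj]; exact Nat.pow_le_pow_right hp.pos hj1)
    have hWC : Wd ≤ C := by
      rw [hW]
      refine sup_le ?_ ?_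
      · intro z hz'
        rw [hCm]; exact ((hZm z).mp hz' y).symm
      · rw [Subgroup.zpowers_le, hCm]
    have hWcent : ∀ a ∈ C, Wd ≤ Subgroup.centralizer ({a} : Set S) := by
      intro a ha
      rw [hW]
      refine sup_le ?_ ?_
      · intro z hz'
        rw [memC]; exact ((hZm z).mp hz' a).symm
      · rw [Subgroup.zpowers_le, memC]; exact ((hCm a).mp ha).symm
    have key : ∀ a ∈ C, ∀ b ∈ C, b * a = a * b := by
      intro a ha b hb
      by_cases haW : a ∈ Wd
      · exact ((memC b a).mp (hWcent b hb haW)).symm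
      · obtain ⟨F, hF⟩ : ∃ F, F = Wd ⊔ Subgroup.zpowers a := ⟨_, rfl⟩
        have haF : a ∈ F := by rw [hF]; exact Subgroup.mem_sup_right (Subgroup.mem_zpowers a)
        have l2 : Wd < F := lt_of_le_of_ne (by rw [hF]; exact le_sup_left) (fun h => haW (h ▸ haF))
        have sF := step hSp l2 sW
        have hFC : F ≤ C := by rw [hF]; exact sup_le hWC (Subgroup.zpowers_le.mpr ha)
        have hFeq : F = C := Subgroup.eq_of_le_of_card_ge hFC (by rw [hk]; exact sF)
        have hFa : F ≤ Subgroup.centralizer ({a} : Set S) := by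
          rw [hF]; exact sup_le (hWcent a ha) (by rw [Subgroup.zpowers_le, memC])
        exact (memC a b).mp (hFa (by rw [hFeq]; exact hb))
    exact ⟨⟨fun a b => Subtype.ext (key b.1 b.2 a.1 a.2)⟩⟩
  · have h1 := Subgroup.card_mul_index C
    rw [hS, hk] at h1
    have h2 : p ^ 4 = p ^ 3 * p := by ring
    rw [h2] at h1
    exact Nat.eq_of_mul_eq_mul_left (pow_pos hp.pos 3) h1

/-- Let S be a finite p-group with an extraspecial subgroup of index p. Then S has an abelian subgroup of index p if and only if S has order p⁴. -/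
theorem result {S : Type*} [Group S] [Finite S] (p : ℕ) [Fact p.Prime] (hS : IsPGroup p S) (Q : Subgroup S) (hQ : Cfsg.IsExtraspecial p ↥Q) (hQi : Q.index = p) :
    (∃ A : Subgroup S, IsMulCommutative ↥A ∧ A.index = p) ↔ Nat.card S = p ^ 4 := by
  classical
  have hp : p.Prime := Fact.out
  have hcQ : Nat.card (commutator ↥Q) = p := by rw [hQ.1.2.2]; exact hQ.2
  obtain ⟨u, v, huv⟩ := exists_noncomm p hcQ
  constructor
  · rintro ⟨A, hA, hAi⟩
    have hAc : ∀ a ∈ A, ∀ b ∈ A, a * b = b * a :=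
      fun a ha b hb => congrArg Subtype.val (hA.is_comm.comm ⟨a, ha⟩ ⟨b, hb⟩)
    have hBc : IsMulCommutative ↥(A.subgroupOf Q) :=
      ⟨⟨fun a b => Subtype.ext (Subtype.ext (hAc _ (Subgroup.mem_subgroupOf.mp a.2) _
        (Subgroup.mem_subgroupOf.mp b.2)))⟩⟩
    have hBi : (A.subgroupOf Q).index ≤ p := by
      have h1 : (A ⊓ Q).index ≤ p * p := by
        have := Subgroup.index_inf_le (H := A) (K := Q)
        rwa [hAi, hQi] at this
      have h2 := Subgroup.relIndex_mul_index (inf_le_right : A ⊓ Q ≤ Q)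
      rw [Subgroup.inf_relIndex_right, hQi] at h2
      have h3 : A.relIndex Q * p ≤ p * p := by rw [h2]; exact h1
      exact Nat.le_of_mul_le_mul_right h3 hp.pos
    have hX := X p hQ.1.1 hcQ hQ.2 (A.subgroupOf Q) hBc hBi
    have hY := (Y p hQ.1.1 (le_of_eq hQ.2.symm) u v huv).2
    have h1 := Subgroup.card_mul_index Q
    rw [hQi, le_antisymm hX hY] at h1
    rw [← h1]; ring
  · intro hS4
    exact W p hS4 (u : S) (v : S) (fun h => huv (Subtype.ext h))

end Cfsg.Agent.S3810
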