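import Cfsg.Statements.S3824
import Mathlib
import Cfsg.Agent.Lib_helper4_CharD
import Cfsg.Agent.Lib_lead_Thompson

set_option autoImplicit false
open Cfsg

namespace Cfsg.Agent.S3824

universe u

theorem aux (n : ℕ) : ∀ (G : Type u) [Group G] [Finite G] (A : Subgroup G), IsMulCommutative A →
    (∃ k : ℕ, A.index = 2 ^ k) → Nat.card G = n → Group.IsSolvable G := by
  induction n using Nat.strong_induction_on with
  | _ n ih =>
    intro G _ _ A hA hidx hn
    by_cases hsub : Subsingleton G
    · infer_instance
    rw [not_subsingleton_iff_nontrivial] at hsub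
    obtain ⟨k, hk⟩ := hidx
    by_cases hsimple : IsSimpleGroup G
    · by_cases hAb : A = ⊥
      · have hcard : Nat.card G = 2 ^ k := by rw [← hk, hAb, Subgroup.index_bot]
        have : Fact (Nat.Prime 2) := ⟨Nat.prime_two⟩
        have hp : IsPGroup 2 G := IsPGroup.of_card hcard
        have := hp.isNilpotent
        infer_instance
      · obtain ⟨a, ha1'⟩ := (Subgroup.ne_bot_iff_exists_ne_one).1 hAb
        have ha1 : (a : G) ≠ 1 := fun h1 => ha1' (Subtype.ext h1)
        have hle : A ≤ Subgroup.centralizer ({(a : G)} : Set G) := by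
          intro b hb
          rw [Subgroup.mem_centralizer_singleton_iff]
          exact Cfsg.Agent.LeadJ.comm_of hA hb a.2
        have hd : (Subgroup.centralizer ({(a : G)} : Set G)).index ∣ 2 ^ k := by
          rw [← hk]; exact Subgroup.index_dvd_of_le hle
        obtain ⟨j, _, hj⟩ := (Nat.dvd_prime_pow Nat.prime_two).mp hd
        have hprime := Cfsg.Agent.H4.prime_card_of_class_prime_pow 2 j Nat.prime_two (a : G) ha1 hj
        have : Fact (Nat.card G).Prime := ⟨hprime⟩
        have hcyc : IsCyclic G := isCyclic_of_prime_card rfl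
        exact Group.isSolvable_of_comm (isMulCommutative_iff.mp hcyc.isMulCommutative)
    · have : ∃ N : Subgroup G, N.Normal ∧ N ≠ ⊥ ∧ N ≠ ⊤ := by
        by_contra hcon
        push Not at hcon
        apply hsimple
        exact ⟨fun N hN => by
          by_cases h : N = ⊥
          · left; exact h
          · right; exact hcon N hN h⟩
      obtain ⟨N, hN, hNbot, hNtop⟩ := this
      have hlt1 : Nat.card N < n := by
        rw [← hn]
        have hne : Nat.card N ≠ Nat.card G := fun h => hNtop (Subgroup.eq_top_of_card_eq N h)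
        exact lt_of_le_of_ne (Subgroup.card_le_card_group N) hne
      have hlt2 : Nat.card (G ⧸ N) < n := by
        rw [← hn, Subgroup.card_eq_card_quotient_mul_card_subgroup N]
        have : 1 < Nat.card N := by
          rw [Finite.one_lt_card_iff_nontrivial]
          exact (Subgroup.nontrivial_iff_ne_bot N).mpr hNbot
        have hpos : 0 < Nat.card (G ⧸ N) := Nat.card_pos
        nlinarith
      have c1 : IsMulCommutative (A.subgroupOf N) :=
        Cfsg.Agent.LeadJ.comm_mk fun x hx y hy => Subtype.ext (Cfsg.Agent.LeadJ.comm_of hA hx hy)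
      have c2 : IsMulCommutative (A.map (QuotientGroup.mk' N)) := by
        apply Cfsg.Agent.LeadJ.comm_mk
        rintro _ ⟨x, hx, rfl⟩ _ ⟨y, hy, rfl⟩
        rw [← map_mul, ← map_mul, Cfsg.Agent.LeadJ.comm_of hA hx hy]
      have i1 : ∃ j, (A.subgroupOf N).index = 2 ^ j := by
        have hd : (A.subgroupOf N).index ∣ 2 ^ k := by
          rw [← hk]
          change A.relIndex N ∣ A.index
          have e1 : A.relIndex N * N.index = (A ⊓ N).index := by
            rw [← Subgroup.inf_relIndex_right]; exact Subgroup.relIndex_mul_index inf_le_right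
          have e2 : N.relIndex A * A.index = (A ⊓ N).index := by
            rw [← Subgroup.inf_relIndex_left]; exact Subgroup.relIndex_mul_index inf_le_left
          obtain ⟨t, ht⟩ := Subgroup.relIndex_dvd_index_of_normal N A
          have h0 : N.relIndex A ≠ 0 := by unfold Subgroup.relIndex; exact Subgroup.index_ne_zero_of_finite
          refine ⟨t, ?_⟩
          apply Nat.eq_of_mul_eq_mul_left (Nat.pos_of_ne_zero h0)
          rw [e2, ← e1, ht]; ring
        obtain ⟨j, _, hj⟩ := (Nat.dvd_prime_pow Nat.prime_two).mp hd
        exact ⟨j, hj⟩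
      have i2 : ∃ j, (A.map (QuotientGroup.mk' N)).index = 2 ^ j := by
        have hd : (A.map (QuotientGroup.mk' N)).index ∣ 2 ^ k := by
          rw [← hk]; exact Subgroup.index_map_dvd A (QuotientGroup.mk'_surjective N)
        obtain ⟨j, _, hj⟩ := (Nat.dvd_prime_pow Nat.prime_two).mp hd
        exact ⟨j, hj⟩
      have s1 := ih _ hlt1 N _ c1 i1 rfl
      have s2 := ih _ hlt2 (G ⧸ N) _ c2 i2 rfl
      exact (Group.isSolvable_iff_subgroup_quotient N).mpr ⟨s1, s2⟩


/-- Every finite group having an abelian subgroup whose index is a power of 2 is solvable. -/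
theorem result {G : Type*} [Group G] [Finite G]
    (A : Subgroup G) (hA : IsMulCommutative A) (hidx : ∃ k : ℕ, A.index = 2 ^ k) : Group.IsSolvable G := by
  exact aux _ G A hA hidx rfl

end Cfsg.Agent.S3824
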