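import Cfsg.Statements.S3867
import Mathlib
import Cfsg.Agent.Lib_helper1_PRed5
import Cfsg.Agent.Lib_helper1_Fact
import Cfsg.Agent.Lib_helper1_SZ

set_option autoImplicit false
open Cfsg

namespace Cfsg.Agent.S3867

open Subgroup Cfsg.Agent in
theorem cardQ {G : Type*} [Group G] [Finite G] (p : ℕ) [Fact p.Prime] (P : Sylow p G)
    (K : Subgroup G) [K.Normal] :
    Nat.card (Sylow p (G ⧸ K)) = (normalizer (((P : Subgroup G) ⊔ K : Subgroup G) : Set G)).index := by
  have hπ : Function.Surjective (QuotientGroup.mk' K) := QuotientGroup.mk'_surjective K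
  have h0 : Nat.card (Sylow p (G ⧸ K)) =
      (normalizer (((P.mapSurjective hπ : Sylow p (G ⧸ K)) : Subgroup (G ⧸ K)) : Set (G ⧸ K))).index :=
    Sylow.card_eq_index_normalizer (P.mapSurjective hπ)
  rw [h0, Sylow.coe_mapSurjective,
    ← index_comap_of_surjective _ hπ, comap_normalizer_eq_of_surjective _ hπ, comap_map_eq,
    QuotientGroup.ker_mk']

open Subgroup Cfsg.Agent in
theorem norm_le {G : Type*} [Group G] (P K : Subgroup G) [K.Normal] :
    normalizer (P : Set G) ≤ normalizer ((P ⊔ K : Subgroup G) : Set G) := by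
  apply H1.le_normalizer_of_forall
  intro g hg x hx
  obtain ⟨y, hy, m, hm, rfl⟩ := mem_sup_of_normal_right.mp hx
  have : g * (y * m) * g⁻¹ = (g * y * g⁻¹) * (g * m * g⁻¹) := by group
  rw [this]
  exact mul_mem (mem_sup_left ((mem_normalizer_iff.mp hg y).mp hy))
    (mem_sup_right (Subgroup.Normal.conj_mem inferInstance m hm g))

open Subgroup Cfsg.Agent in
theorem ppow_mem {G : Type*} [Group G] (p : ℕ) (P : Subgroup G) (hP : IsPGroup p P)
    (K : Subgroup G) [K.Normal] (d : G) (hd : d ∈ P ⊔ K) : ∃ a : ℕ, d ^ (p ^ a) ∈ K := by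
  obtain ⟨y, hy, m, hm, rfl⟩ := mem_sup_of_normal_right.mp hd
  obtain ⟨a, ha⟩ := hP ⟨y, hy⟩
  have ha' : y ^ (p ^ a) = 1 := by
    have := congrArg Subtype.val ha
    simpa using this
  refine ⟨a, ?_⟩
  rw [← QuotientGroup.eq_one_iff]
  have hm' : ((m : G) : G ⧸ K) = 1 := (QuotientGroup.eq_one_iff m).mpr hm
  rw [QuotientGroup.mk_pow, QuotientGroup.mk_mul, hm', mul_one, ← QuotientGroup.mk_pow, ha']
  rfl
open scoped Pointwise

/-- Let M and N be nontrivial normal subgroups of the finite group G with M ⊓ N trivial, and let p be a prime. Writing n(X) for the number of Sylow p-subgroups of a group X, one has n(G) · n(G/MN) = n(G/M) · n(G/N). -/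
theorem result {G : Type*} [Group G] [Finite G] (p : ℕ) [Fact p.Prime] (M N : Subgroup G) [M.Normal] [N.Normal] (hM : M ≠ ⊥) (hN : N ≠ ⊥) (hMN : M ⊓ N = ⊥) : Nat.card (Sylow p G) * Nat.card (Sylow p (G ⧸ (M ⊔ N))) = Nat.card (Sylow p (G ⧸ M)) * Nat.card (Sylow p (G ⧸ N)) := by
  classical
  obtain ⟨P⟩ : Nonempty (Sylow p G) := inferInstance
  have h0 : Nat.card (Sylow p G) = (Subgroup.normalizer ((P : Subgroup G) : Set G)).index :=
    Sylow.card_eq_index_normalizer P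
  rw [cardQ p P M, cardQ p P N, cardQ p P (M ⊔ N), h0]
  obtain ⟨N0, hN0⟩ : ∃ N0, N0 = Subgroup.normalizer ((P : Subgroup G) : Set G) := ⟨_, rfl⟩
  obtain ⟨X, hX⟩ : ∃ X, X = Subgroup.normalizer (((P : Subgroup G) ⊔ M : Subgroup G) : Set G) := ⟨_, rfl⟩
  obtain ⟨Y, hY⟩ : ∃ Y, Y = Subgroup.normalizer (((P : Subgroup G) ⊔ N : Subgroup G) : Set G) := ⟨_, rfl⟩
  obtain ⟨Z, hZ⟩ : ∃ Z, Z = Subgroup.normalizer (((P : Subgroup G) ⊔ (M ⊔ N) : Subgroup G) : Set G) := ⟨_, rfl⟩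
  rw [← hN0, ← hX, ← hY, ← hZ]
  have hN0X : N0 ≤ X := by rw [hN0, hX]; exact norm_le _ _
  have hN0Y : N0 ≤ Y := by rw [hN0, hY]; exact norm_le _ _
  have hXZ : X ≤ Z := by
    rw [hX, hZ, ← sup_assoc]; exact norm_le _ _
  have hYZ : Y ≤ Z := by
    rw [hY, hZ, sup_comm M N, ← sup_assoc]; exact norm_le _ _
  have hPMX : (P : Subgroup G) ⊔ M ≤ X := by rw [hX]; exact Subgroup.le_normalizer
  have hPNY : (P : Subgroup G) ⊔ N ≤ Y := by rw [hY]; exact Subgroup.le_normalizer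
  -- the intersection
  have hD : ((P : Subgroup G) ⊔ M) ⊓ ((P : Subgroup G) ⊔ N) = (P : Subgroup G) := by
    have hPp : IsPGroup p (P : Subgroup G) := P.isPGroup'
    refine P.is_maximal' ?_ (le_inf le_sup_left le_sup_left)
    intro dd
    obtain ⟨d, hd⟩ := dd
    have hd' : d ∈ ((P : Subgroup G) ⊔ M) ⊓ ((P : Subgroup G) ⊔ N) := hd
    have hd1 : d ∈ (P : Subgroup G) ⊔ M := (Subgroup.mem_inf.mp hd').1
    have hd2 : d ∈ (P : Subgroup G) ⊔ N := (Subgroup.mem_inf.mp hd').2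
    obtain ⟨a, ha⟩ := ppow_mem p (P : Subgroup G) hPp M d hd1
    obtain ⟨b, hb⟩ := ppow_mem p (P : Subgroup G) hPp N d hd2
    refine ⟨a + b, ?_⟩
    apply Subtype.ext
    have h1 : d ^ (p ^ (a + b)) ∈ M := by
      rw [pow_add, pow_mul]; exact Subgroup.pow_mem _ ha _
    have h2 : d ^ (p ^ (a + b)) ∈ N := by
      rw [pow_add, mul_comm, pow_mul]; exact Subgroup.pow_mem _ hb _
    have h3 : d ^ (p ^ (a + b)) ∈ M ⊓ N := Subgroup.mem_inf.mpr ⟨h1, h2⟩
    rw [hMN, Subgroup.mem_bot] at h3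
    simpa using h3
  have hinf : X ⊓ Y = N0 := by
    apply le_antisymm _ (le_inf hN0X hN0Y)
    intro g hg
    have hgX : g ∈ Subgroup.normalizer (((P : Subgroup G) ⊔ M : Subgroup G) : Set G) := by
      rw [← hX]; exact (Subgroup.mem_inf.mp hg).1
    have hgY : g ∈ Subgroup.normalizer (((P : Subgroup G) ⊔ N : Subgroup G) : Set G) := by
      rw [← hY]; exact (Subgroup.mem_inf.mp hg).2
    rw [hN0, Subgroup.mem_normalizer_iff]
    intro h
    rw [← hD, Subgroup.mem_inf, Subgroup.mem_inf, Subgroup.mem_normalizer_iff.mp hgX h,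
      Subgroup.mem_normalizer_iff.mp hgY h]
  -- Frattini
  have hfr : ∀ z ∈ Z, ∃ x ∈ X, ∃ y ∈ Y, z = x * y := by
    intro z hz
    have hsyl : ¬ p ∣ (P : Subgroup G).relIndex ((P : Subgroup G) ⊔ (M ⊔ N)) := by
      intro h
      apply P.not_dvd_index
      rw [← Subgroup.relIndex_mul_index (le_sup_left : (P : Subgroup G) ≤ (P : Subgroup G) ⊔ (M ⊔ N))]
      exact Dvd.dvd.mul_right h _
    obtain ⟨k, hk, hkz⟩ := Cfsg.Agent.H1.frattini_internal (M := Z) (K := (P : Subgroup G) ⊔ (M ⊔ N))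
      (U := (P : Subgroup G)) (by rw [hZ]) le_sup_left P.2 hsyl z hz
    have hk' : k⁻¹ ∈ (P : Subgroup G) ⊔ (M ⊔ N) := inv_mem hk
    obtain ⟨y, hy, w, hw, hyw⟩ := Subgroup.mem_sup_of_normal_right.mp hk'
    obtain ⟨m, hm, n, hn, hmn⟩ := Subgroup.mem_sup_of_normal_right.mp hw
    refine ⟨y * m, hPMX (mul_mem (Subgroup.mem_sup_left hy) (Subgroup.mem_sup_right hm)),
      n * (k * z), mul_mem (hPNY (Subgroup.mem_sup_right hn)) (hN0Y (by rw [hN0]; exact hkz)), ?_⟩
    have : y * m * (n * (k * z)) = (y * (m * n)) * k * z := by group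
    rw [this, hmn, hyw]
    group
  have hXYset : (X : Set G) * (Y : Set G) = (Z : Set G) := by
    ext z
    constructor
    · rintro ⟨x, hx, y, hy, rfl⟩
      exact mul_mem (hXZ hx) (hYZ hy)
    · intro hz
      obtain ⟨x, hx, y, hy, rfl⟩ := hfr z hz
      exact ⟨x, hx, y, hy, rfl⟩
  have hYXset : (Y : Set G) * (X : Set G) = (Z : Set G) := by
    ext z
    constructor
    · rintro ⟨y, hy, x, hx, rfl⟩
      exact mul_mem (hYZ hy) (hXZ hx)
    · intro hz
      obtain ⟨x, hx, y, hy, h⟩ := hfr z⁻¹ (inv_mem hz)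
      refine ⟨y⁻¹, inv_mem hy, x⁻¹, inv_mem hx, ?_⟩
      show y⁻¹ * x⁻¹ = z
      rw [← mul_inv_rev, ← h, inv_inv]
  have hsup : X ⊔ Y = Z := by
    apply le_antisymm (sup_le hXZ hYZ)
    intro z hz
    obtain ⟨x, hx, y, hy, rfl⟩ := hfr z hz
    exact mul_mem (Subgroup.mem_sup_left hx) (Subgroup.mem_sup_right hy)
  have hcard := Cfsg.Agent.H1.card_sup_mul_card_inf_of_mul_comm (H := X) (K := Y) (by rw [hXYset, hYXset])
  rw [hsup, hinf] at hcard
  have e1 := Subgroup.card_mul_index N0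
  have e2 := Subgroup.card_mul_index X
  have e3 := Subgroup.card_mul_index Y
  have e4 := Subgroup.card_mul_index Z
  have hpos : 0 < Nat.card Z * Nat.card N0 := Nat.mul_pos Nat.card_pos Nat.card_pos
  apply Nat.eq_of_mul_eq_mul_left hpos
  calc Nat.card Z * Nat.card N0 * (N0.index * Z.index)
      = (Nat.card N0 * N0.index) * (Nat.card Z * Z.index) := by ring
    _ = (Nat.card X * X.index) * (Nat.card Y * Y.index) := by rw [e1, e2, e3, e4]
    _ = (Nat.card X * Nat.card Y) * (X.index * Y.index) := by ring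
    _ = Nat.card Z * Nat.card N0 * (X.index * Y.index) := by rw [hcard]

end Cfsg.Agent.S3867
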