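import Cfsg.Statements.S3869
import Mathlib
import Cfsg.Agent.Lib_helper3_IrrCyc

set_option autoImplicit false
open Cfsg

namespace Cfsg.Agent.S3869

theorem top_of_le {G : Type*} [Group G] {p : ℕ} (hp : p.Prime) (A : Subgroup G)
    (hidx : A.index = p) (K : Subgroup G) (hAK : A ≤ K) (x : G) (hxK : x ∈ K) (hxA : x ∉ A) :
    K = ⊤ := by
  have h1 : A.relIndex K * K.index = A.index := Subgroup.relIndex_mul_index hAK
  rw [hidx] at h1
  have h2 : K.index ∣ p := Dvd.intro_left _ h1
  rcases (Nat.dvd_prime hp).1 h2 with h | h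
  · exact Subgroup.index_eq_one.1 h
  · exfalso
    rw [h] at h1
    have h3 : A.relIndex K = 1 := by
      have := hp.pos
      exact Nat.eq_of_mul_eq_mul_right this (by rw [h1, one_mul])
    rw [Subgroup.relIndex_eq_one] at h3
    exact hxA (h3 hxK)

theorem comm_of_centralizes {G : Type*} [Group G] {p : ℕ} (hp : p.Prime) (A : Subgroup G)
    (hidx : A.index = p) (hAc : ∀ a ∈ A, ∀ b ∈ A, a * b = b * a) (x : G) (hxA : x ∉ A)
    (hx : ∀ a ∈ A, x * a = a * x) : ∀ g h : G, g * h = h * g := by
  have h1 : Subgroup.centralizer (A : Set G) = ⊤ := by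
    apply top_of_le hp A hidx _ _ x _ hxA
    · intro a ha
      rw [Subgroup.mem_centralizer_iff]
      intro b hb
      exact hAc b hb a ha
    · rw [Subgroup.mem_centralizer_iff]
      intro b hb
      exact (hx b hb).symm
  have h2 : Subgroup.centralizer ({x} : Set G) = ⊤ := by
    apply top_of_le hp A hidx _ _ x _ hxA
    · intro a ha
      rw [Subgroup.mem_centralizer_singleton_iff]
      exact (hx a ha).symm
    · rw [Subgroup.mem_centralizer_singleton_iff]
  have h3 : Subgroup.center G = ⊤ := by
    apply top_of_le hp A hidx _ _ x _ hxA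
    · intro a ha
      rw [Subgroup.mem_center_iff]
      intro g
      have : g ∈ Subgroup.centralizer (A : Set G) := by rw [h1]; trivial
      rw [Subgroup.mem_centralizer_iff] at this
      exact (this a ha).symm
    · rw [Subgroup.mem_center_iff]
      intro g
      have : g ∈ Subgroup.centralizer ({x} : Set G) := by rw [h2]; trivial
      rw [Subgroup.mem_centralizer_singleton_iff] at this
      exact this
  intro g h
  have : h ∈ Subgroup.center G := by rw [h3]; trivial
  rw [Subgroup.mem_center_iff] at this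
  exact this g

theorem normal_of_le {G : Type*} [Group G] {p : ℕ} (hp : p.Prime) (A : Subgroup G)
    (hidx : A.index = p) (hAc : ∀ a ∈ A, ∀ b ∈ A, a * b = b * a) (x : G) (hxA : x ∉ A)
    (B : Subgroup G) (hBA : B ≤ A) (hx : x ∈ Subgroup.normalizer (B : Set G)) : B.Normal := by
  rw [← Subgroup.normalizer_eq_top_iff]
  apply top_of_le hp A hidx _ _ x hx hxA
  intro a ha
  rw [Subgroup.mem_normalizer_iff]
  intro h
  constructor
  · intro hh
    rw [hAc a ha h (hBA hh), mul_inv_cancel_right]
    exact hh
  · intro hh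
    have h1 : h ∈ A := by
      have := A.mul_mem (A.mul_mem (A.inv_mem ha) (hBA hh)) ha
      simpa [mul_assoc] using this
    rw [hAc a ha h h1, mul_inv_cancel_right] at hh
    exact hh

theorem card_A {G : Type*} [Group G] [Finite G] {p q : ℕ} [Fact p.Prime] (hq : q.Prime)
    (hpq : q ≠ p) (hna : ¬ IsMulCommutative G) (A : Subgroup G) [A.Normal]
    (hA : Cfsg.IsElementaryAbelian q A) (hidx : A.index = p)
    (hmin : ∀ B : Subgroup G, B.Normal → B ≤ A → B = ⊥ ∨ B = A) :
    Nat.card ↥A = q ^ orderOf (q : ZMod p) := by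
  haveI : Fact q.Prime := ⟨hq⟩
  have hp : p.Prime := Fact.out
  have hAc : ∀ a ∈ A, ∀ b ∈ A, a * b = b * a := by
    intro a ha b hb
    have := hA.1.is_comm.comm ⟨a, ha⟩ ⟨b, hb⟩
    exact congrArg Subtype.val this
  have hpG : p ∣ Nat.card G := by rw [← A.card_mul_index, hidx]; exact dvd_mul_left _ _
  obtain ⟨x, hx⟩ := exists_prime_orderOf_dvd_card' p hpG
  have hxA : x ∉ A := by
    intro h
    have h1 := hA.2 x h
    have h2 : orderOf x ∣ q := orderOf_dvd_of_pow_eq_one h1
    rw [hx] at h2
    exact hpq ((Nat.prime_dvd_prime_iff_eq hp hq).1 h2).symm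
  letI : CommGroup A := { (inferInstance : Group A) with mul_comm := hA.1.is_comm.comm }
  apply H3.card_of_irred_mulAut hpq (fun a => Subtype.ext (hA.2 a a.2)) (MulAut.conjNormal x)
  · rw [← map_pow, ← hx, pow_orderOf_eq_one, map_one]
  · intro h
    apply hna
    refine ⟨⟨comm_of_centralizes hp A hidx hAc x hxA ?_⟩⟩
    intro a ha
    have h1 := congrArg Subtype.val (DFunLike.congr_fun h (⟨a, ha⟩ : A))
    rw [MulAut.conjNormal_apply] at h1
    have h2 : x * a * x⁻¹ = a := h1
    rw [mul_inv_eq_iff_eq_mul] at h2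
    exact h2
  · intro B hB
    have hB' : ∀ b ∈ B.map A.subtype, x * b * x⁻¹ ∈ B.map A.subtype := by
      rintro _ ⟨b, hb, rfl⟩
      exact ⟨_, hB b hb, by rw [Subgroup.coe_subtype, MulAut.conjNormal_apply]⟩
    have hk : ∀ k : ℕ, ∀ b ∈ B.map A.subtype, x ^ k * b * (x ^ k)⁻¹ ∈ B.map A.subtype := by
      intro k
      induction k with
      | zero => intro b hb; simpa using hb
      | succ k ih =>
        intro b hb
        have := ih _ (hB' b hb)
        rw [pow_succ, mul_inv_rev]
        simpa [mul_assoc] using this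
    have hn : (B.map A.subtype).Normal := by
      apply normal_of_le hp A hidx hAc x hxA _ (Subgroup.map_subtype_le B)
      rw [Subgroup.mem_normalizer_iff]
      intro h
      refine ⟨hB' h, fun hh => ?_⟩
      have h1 := hk (p - 1) _ hh
      have h2 : x ^ (p - 1) * x = 1 := by
        rw [← pow_succ, Nat.sub_add_cancel hp.one_le, ← hx, pow_orderOf_eq_one]
      have h3 : x ^ (p - 1) * (x * h * x⁻¹) * (x ^ (p - 1))⁻¹ = h := by
        have h4 : x ^ (p - 1) = x⁻¹ := eq_inv_of_mul_eq_one_left h2
        rw [h4]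
        group
      rw [h3] at h1
      exact h1
    rcases hmin _ hn (Subgroup.map_subtype_le B) with h | h
    · left
      exact (Subgroup.map_eq_bot_iff_of_injective _ A.subtype_injective).1 h
    · right
      rw [eq_top_iff]
      intro a _
      have h1 : (a : G) ∈ B.map A.subtype := by rw [h]; exact a.2
      obtain ⟨b, hb, hba⟩ := h1
      have : b = a := Subtype.ext hba
      rw [← this]
      exact hb

theorem pclosed_of_comm {H : Type*} [Group H] (p : ℕ) (h : ∀ a b : H, a * b = b * a) :
    Cfsg.IsPClosed p H := by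
  intro P
  refine ⟨fun n hn g => ?_⟩
  rw [h g n, mul_inv_cancel_right]
  exact hn

theorem comm_mem {G : Type*} [Group G] {p : ℕ} (hp : p.Prime) (A : Subgroup G) [A.Normal]
    (hidx : A.index = p) (g h : G) : g * h * g⁻¹ * h⁻¹ ∈ A := by
  haveI : Fact p.Prime := ⟨hp⟩
  have hc : IsCyclic (G ⧸ A) := isCyclic_of_prime_card (p := p) hidx
  rw [← QuotientGroup.eq_one_iff]
  have h1 := hc.isMulCommutative.is_comm.comm (g : G ⧸ A) (h : G ⧸ A)
  rw [QuotientGroup.mk_mul, QuotientGroup.mk_mul, QuotientGroup.mk_mul, h1, QuotientGroup.mk_inv, QuotientGroup.mk_inv]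
  group

/-- Let p and q be distinct primes and G a finite non-abelian group with a normal elementary abelian q-subgroup A that is a minimal normal subgroup of G and has index p. Then A has order q^e with e the multiplicative order of q modulo p, and G is minimal non-p-closed: its Sylow p-subgroups are not normal, while in every proper subgroup and in every proper quotient of G the Sylow p-subgroups are normal. -/
theorem result {G : Type*} [Group G] [Finite G] {p q : ℕ} [Fact p.Prime] (hq : q.Prime) (hpq : q ≠ p)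
    (hna : ¬ IsMulCommutative G) (A : Subgroup G) [A.Normal] (hA : Cfsg.IsElementaryAbelian q A) (hidx : A.index = p)
    (hmin : ∀ B : Subgroup G, B.Normal → B ≤ A → B = ⊥ ∨ B = A) :
    Nat.card ↥A = q ^ orderOf (q : ZMod p) ∧ ¬ Cfsg.IsPClosed p G ∧ (∀ H : Subgroup G, H ≠ ⊤ → Cfsg.IsPClosed p ↥H) ∧
      ∀ (N : Subgroup G) [N.Normal], N ≠ ⊥ → Cfsg.IsPClosed p (G ⧸ N) := by
  have hp : p.Prime := Fact.out
  have hAc : ∀ a ∈ A, ∀ b ∈ A, a * b = b * a := by
    intro a ha b hb
    have := hA.1.is_comm.comm ⟨a, ha⟩ ⟨b, hb⟩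
    exact congrArg Subtype.val this
  have hnc : ∀ x : G, x ∉ A → ¬ (∀ a ∈ A, x * a = a * x) := by
    intro x hxA hx
    exact hna ⟨⟨comm_of_centralizes hp A hidx hAc x hxA hx⟩⟩
  refine ⟨card_A hq hpq hna A hA hidx hmin, ?_, ?_, ?_⟩
  · intro hcl
    have hpG : p ∣ Nat.card G := by rw [← A.card_mul_index, hidx]; exact dvd_mul_left _ _
    obtain ⟨x, hx⟩ := exists_prime_orderOf_dvd_card' p hpG
    have hxA : x ∉ A := by
      intro h
      have h1 := hA.2 x h
      have h2 : orderOf x ∣ q := orderOf_dvd_of_pow_eq_one h1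
      rw [hx] at h2
      exact hpq ((Nat.prime_dvd_prime_iff_eq hp hq).1 h2).symm
    have hz : IsPGroup p (Subgroup.zpowers x) := by
      rw [IsPGroup.iff_card]
      exact ⟨1, by rw [Nat.card_zpowers, hx, pow_one]⟩
    obtain ⟨P, hP⟩ := hz.exists_le_sylow
    haveI := hcl P
    have hdis : Disjoint (P : Subgroup G) A := by
      rw [Subgroup.disjoint_def]
      intro g hgP hgA
      obtain ⟨k, hk⟩ := (IsPGroup.iff_orderOf.1 P.2 ⟨g, hgP⟩)
      rw [Subgroup.orderOf_mk] at hk
      have h2 : orderOf g ∣ q := orderOf_dvd_of_pow_eq_one (hA.2 g hgA)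
      have h3 : (p ^ k).Coprime q := Nat.Coprime.pow_left _ ((Nat.coprime_primes hp hq).2 hpq.symm)
      rw [← hk] at h3
      have h4 : orderOf g = 1 := Nat.Coprime.eq_one_of_dvd h3 h2
      exact orderOf_eq_one_iff.1 h4
    apply hnc x hxA
    intro a ha
    exact Subgroup.commute_of_normal_of_disjoint _ _ inferInstance inferInstance hdis x a
      (hP (Subgroup.mem_zpowers x)) ha
  · intro H hH
    apply pclosed_of_comm
    by_cases hHA : H ≤ A
    · intro a b
      exact Subtype.ext (hAc a (hHA a.2) b (hHA b.2))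
    · obtain ⟨h0, hh0, hh0A⟩ := SetLike.not_le_iff_exists.1 hHA
      have hn : (H ⊓ A).Normal := by
        apply normal_of_le hp A hidx hAc h0 hh0A _ inf_le_right
        have h1 : h0 ∈ Subgroup.normalizer (H : Set G) := Subgroup.le_normalizer hh0
        have h2 : h0 ∈ Subgroup.normalizer (A : Set G) := by
          rw [Subgroup.normalizer_eq_top]; trivial
        rw [Subgroup.mem_normalizer_iff] at h1 h2 ⊢
        intro g
        rw [Subgroup.mem_inf, Subgroup.mem_inf, ← h1 g, ← h2 g]
      rcases hmin _ hn inf_le_right with h | h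
      · intro a b
        have h1 : (a : G) * b * (a : G)⁻¹ * (b : G)⁻¹ ∈ H ⊓ A :=
          ⟨H.mul_mem (H.mul_mem (H.mul_mem a.2 b.2) (H.inv_mem a.2)) (H.inv_mem b.2),
            comm_mem hp A hidx _ _⟩
        rw [h, Subgroup.mem_bot, mul_inv_eq_one, mul_inv_eq_iff_eq_mul] at h1
        exact Subtype.ext h1
      · exfalso
        exact hH (top_of_le hp A hidx H (inf_eq_right.1 h) h0 hh0 hh0A)
  · intro N _ hN
    apply pclosed_of_comm
    rcases hmin (N ⊓ A) inferInstance inf_le_right with h | h
    · exfalso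
      obtain ⟨⟨n, hn⟩, hn1⟩ := Subgroup.ne_bot_iff_exists_ne_one.1 hN
      have hn1' : n ≠ 1 := fun h0 => hn1 (Subtype.ext h0)
      have hnA : n ∉ A := by
        intro hnA
        have : n ∈ N ⊓ A := ⟨hn, hnA⟩
        rw [h] at this
        exact hn1' this
      apply hnc n hnA
      intro a ha
      exact Subgroup.commute_of_normal_of_disjoint _ _ inferInstance inferInstance
        (disjoint_iff.2 h) n a hn ha
    · have hAN : A ≤ N := inf_eq_right.1 h
      intro a b
      induction a using QuotientGroup.induction_on with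
      | H a =>
        induction b using QuotientGroup.induction_on with
        | H b =>
          rw [← QuotientGroup.mk_mul, ← QuotientGroup.mk_mul, QuotientGroup.eq]
          have := hAN (comm_mem hp A hidx b⁻¹ a⁻¹)
          simpa [mul_assoc] using this

end Cfsg.Agent.S3869
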