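import Cfsg.Statements.S3868
import Mathlib
import Cfsg.Agent.S3869
import Cfsg.Agent.S3680
import Cfsg.Agent.Lib_helper1_Coprime

set_option autoImplicit false
open Cfsg

namespace Cfsg.Agent.S3868

theorem sup_normal_of_quot {G : Type*} [Group G] [Finite G] {p : ℕ} [Fact p.Prime] (P : Sylow p G)
    (M : Subgroup G) [M.Normal] (h : Cfsg.IsPClosed p (G ⧸ M)) :
    ((P : Subgroup G) ⊔ M).Normal := by
  have h1 := h (P.mapSurjective (QuotientGroup.mk'_surjective M))
  rw [Sylow.coe_mapSurjective] at h1
  have h2 := h1.comap (QuotientGroup.mk' M)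
  rw [Subgroup.comap_map_eq, QuotientGroup.ker_mk'] at h2
  exact h2

theorem normal_of_sylow_normal {G : Type*} [Group G] [Finite G] {p : ℕ} [Fact p.Prime]
    (K : Subgroup G) (hK : K.Normal) (S : Sylow p K) (hS : (S : Subgroup K).Normal) :
    ((S : Subgroup K).map K.subtype).Normal := by
  haveI := S.characteristic_of_normal hS
  exact ConjAct.normal_of_characteristic_of_normal

theorem comm_of_pclosed {G : Type*} [Group G] [Finite G] {p : ℕ} [Fact p.Prime] (H : Subgroup G)
    (hcl : Cfsg.IsPClosed p H) (R Q : Subgroup G) (hR : IsPGroup p R) (hRH : R ≤ H) (hQH : Q ≤ H)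
    (hQn : H ≤ Subgroup.normalizer (Q : Set G)) (hQ : ¬ p ∣ Nat.card Q) :
    ∀ r ∈ R, ∀ y ∈ Q, r * y = y * r := by
  have hp : p.Prime := Fact.out
  have hR' : IsPGroup p (R.subgroupOf H) := hR.comap_subtype
  obtain ⟨S, hS⟩ := hR'.exists_le_sylow
  haveI := hcl S
  haveI : (Q.subgroupOf H).Normal := Subgroup.normal_subgroupOf_of_le_normalizer hQn
  have hdis : Disjoint (S : Subgroup H) (Q.subgroupOf H) := by
    apply Subgroup.disjoint_of_coprime_natCard
    obtain ⟨k, hk⟩ := IsPGroup.iff_card.1 S.2
    rw [hk, Nat.card_congr (Subgroup.subgroupOfEquivOfLe hQH).toEquiv]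
    exact Nat.Coprime.pow_left k ((Nat.Prime.coprime_iff_not_dvd hp).2 hQ)
  intro r hr y hy
  have := Subgroup.commute_of_normal_of_disjoint _ _ inferInstance inferInstance hdis
    (⟨r, hRH hr⟩ : H) (⟨y, hQH hy⟩ : H) (hS (Subgroup.mem_subgroupOf.2 hr))
    (Subgroup.mem_subgroupOf.2 hy)
  exact congrArg Subtype.val this

/-- Structure of the non-simple minimal non-p-closed groups. Call a finite group p-closed when its Sylow p-subgroups are normal, and minimal non-p-closed when it is not p-closed but every proper subgroup and every proper quotient is. If such a group G is not simple, then there is a prime q ≠ p such that G has order p · q^e, where e is the multiplicative order of q modulo p, and G has a normal subgroup A of order q^e that is elementary abelian and is a minimal normal subgroup of G (so G is the semidirect product of A by a group of order p acting irreducibly). -/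
theorem result {G : Type*} [Group G] [Finite G] {p : ℕ} [Fact p.Prime]
    (hnc : ¬ Cfsg.IsPClosed p G) (hsub : ∀ H : Subgroup G, H ≠ ⊤ → Cfsg.IsPClosed p ↥H)
    (hquo : ∀ (N : Subgroup G) [N.Normal], N ≠ ⊥ → Cfsg.IsPClosed p (G ⧸ N)) (hns : ¬ IsSimpleGroup G) :
    ∃ q : ℕ, q.Prime ∧ q ≠ p ∧ Nat.card G = p * q ^ orderOf (q : ZMod p) ∧
      ∃ A : Subgroup G, A.Normal ∧ Nat.card ↥A = q ^ orderOf (q : ZMod p) ∧ Cfsg.IsElementaryAbelian q A ∧
        ∀ B : Subgroup G, B.Normal → B ≤ A → B = ⊥ ∨ B = A := by
  classical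
  have hp : p.Prime := Fact.out
  obtain ⟨P, hPn⟩ : ∃ P : Sylow p G, ¬ (P : Subgroup G).Normal := by
    by_contra h
    push Not at h
    exact hnc h
  have hnt : Nontrivial G := by
    by_contra h
    rw [not_nontrivial_iff_subsingleton] at h
    apply hPn
    refine ⟨fun n hn g => ?_⟩
    rw [Subsingleton.elim (g * n * g⁻¹) n]
    exact hn
  obtain ⟨M, hMn, hMb, hMt⟩ : ∃ M : Subgroup G, M.Normal ∧ M ≠ ⊥ ∧ M ≠ ⊤ := by
    by_contra h
    push Not at h
    apply hns
    refine ⟨fun H hH => ?_⟩
    by_cases hb : H = ⊥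
    · left; exact hb
    · right; exact h H hH hb
  obtain ⟨N, ⟨hNn, hNb⟩, hNmin⟩ := (measure (fun K : Subgroup G => Nat.card K)).wf.has_min
    {K : Subgroup G | K.Normal ∧ K ≠ ⊥} ⟨M, hMn, hMb⟩
  have hmin : ∀ B : Subgroup G, B.Normal → B ≤ N → B = ⊥ ∨ B = N := by
    intro B hB hBN
    by_cases hb : B = ⊥
    · left; exact hb
    · right
      have := hNmin B ⟨hB, hb⟩
      exact Subgroup.eq_of_le_of_card_ge hBN (not_lt.1 this)
  have hNt : N ≠ ⊤ := by
    intro h
    rcases hmin M hMn (by rw [h]; exact le_top) with h1 | h1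
    · exact hMb h1
    · exact hMt (h1.trans h)
  haveI := hNn
  have hnormal_of : ∀ K : Subgroup G, K.Normal → (P : Subgroup G) ≤ K → K = ⊤ := by
    intro K hK hPK
    by_contra hKt
    have hcl := hsub K hKt
    have h1 := hcl (P.subtype hPK)
    have h2 := normal_of_sylow_normal K hK (P.subtype hPK) h1
    apply hPn
    have h3 : ((P.subtype hPK : Sylow p K) : Subgroup K).map K.subtype = P := by
      rw [Sylow.coe_subtype, Subgroup.subgroupOf_map_subtype, inf_eq_left.2 hPK]
    rwa [h3] at h2
  have hPN := hnormal_of _ (sup_normal_of_quot P N (hquo N hNb)) le_sup_left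
  have hNp : ¬ p ∣ Nat.card N := by
    intro hdvd
    obtain ⟨S⟩ : Nonempty (Sylow p N) := inferInstance
    have h1 := hsub N hNt S
    have h2 := normal_of_sylow_normal N hNn S h1
    rcases hmin _ h2 (Subgroup.map_subtype_le _) with h | h
    · have : (S : Subgroup N) = ⊥ :=
        (Subgroup.map_eq_bot_iff_of_injective _ N.subtype_injective).1 h
      exact Sylow.ne_bot_of_dvd_card S hdvd this
    · have hNpg : IsPGroup p N := by
        have : IsPGroup p ((S : Subgroup N).map N.subtype) := S.2.map _
        rwa [h] at this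
      have h3 : IsPGroup p ((P : Subgroup G) ⊔ N : Subgroup G) :=
        IsPGroup.to_sup_of_normal_right P.2 hNpg
      have h4 := P.3 h3 le_sup_left
      apply hPn
      rw [← h4, hPN]
      infer_instance
  have hdisj : ∀ g ∈ (P : Subgroup G), g ∈ N → g = 1 := by
    intro g hgP hgN
    have hd : Disjoint (P : Subgroup G) N := by
      apply Subgroup.disjoint_of_coprime_natCard
      obtain ⟨k, hk⟩ := IsPGroup.iff_card.1 P.2
      rw [hk]
      exact Nat.Coprime.pow_left k ((Nat.Prime.coprime_iff_not_dvd hp).2 hNp)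
    exact Subgroup.disjoint_def.1 hd hgP hgN
  have hcent : ∀ P₁ : Subgroup G, P₁ ≤ P → P₁ ≠ P → ∀ r ∈ P₁, ∀ y ∈ N, r * y = y * r := by
    intro P₁ h1 h2
    apply comm_of_pclosed (P₁ ⊔ N) (hsub _ ?_) P₁ N (P.2.to_le h1) le_sup_left le_sup_right
      (by rw [Subgroup.normalizer_eq_top]; exact le_top) hNp
    intro htop
    apply h2
    apply le_antisymm h1
    intro g hg
    have : g ∈ P₁ ⊔ N := by rw [htop]; trivial
    rw [← SetLike.mem_coe, Subgroup.mul_normal] at this
    obtain ⟨a, ha, n, hn, rfl⟩ := Set.mem_mul.1 this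
    have hn1 : n = 1 := hdisj n (by
      have := (P : Subgroup G).mul_mem (inv_mem (h1 ha)) hg
      simpa using this) hn
    rw [hn1, mul_one]
    exact ha
  have hnotcent : ¬ (∀ r ∈ (P : Subgroup G), ∀ y ∈ N, r * y = y * r) := by
    intro h
    apply hPn
    rw [← Subgroup.normalizer_eq_top_iff, eq_top_iff, ← hPN, sup_le_iff]
    refine ⟨Subgroup.le_normalizer, ?_⟩
    intro n hn
    rw [Subgroup.mem_normalizer_iff]
    intro g
    constructor
    · intro hg
      rw [← h g hg n hn, mul_inv_cancel_right]
      exact hg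
    · intro hg
      have := h _ hg n⁻¹ (N.inv_mem hn)
      have h2 : n * g * n⁻¹ = g := by
        have h3 : n * g * n⁻¹ * n⁻¹ = g * n⁻¹ := by rw [this]; group
        exact mul_right_cancel h3
      rwa [h2] at hg
  obtain ⟨x, hxP, hx⟩ : ∃ x ∈ (P : Subgroup G), Subgroup.zpowers x = P := by
    by_contra h
    push Not at h
    apply hnotcent
    intro r hr
    exact hcent (Subgroup.zpowers r) (by rwa [Subgroup.zpowers_le]) (h r hr) r
      (Subgroup.mem_zpowers r)
  have hx1 : x ≠ 1 := by
    intro h
    apply hPn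
    rw [← hx, h, Subgroup.zpowers_one_eq_bot]
    infer_instance
  have hpx : p ∣ orderOf x := by
    obtain ⟨k, hk⟩ := IsPGroup.iff_orderOf.1 P.2 ⟨x, hxP⟩
    rw [Subgroup.orderOf_mk] at hk
    rw [hk]
    apply dvd_pow_self
    rintro rfl
    rw [pow_zero, orderOf_eq_one_iff] at hk
    exact hx1 hk
  have hxp : x ^ p = 1 := by
    by_contra hne
    have hle : Subgroup.zpowers (x ^ p) ≤ P := by
      rw [Subgroup.zpowers_le]
      exact (P : Subgroup G).pow_mem hxP p
    have hneP : Subgroup.zpowers (x ^ p) ≠ P := by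
      intro h
      have h1 : Nat.card (Subgroup.zpowers (x ^ p)) = Nat.card (Subgroup.zpowers x) := by
        rw [h, hx]
      rw [Nat.card_zpowers, Nat.card_zpowers, orderOf_pow_of_dvd hp.ne_zero hpx] at h1
      have h2 : 0 < orderOf x := orderOf_pos x
      have h3 := Nat.div_lt_self h2 hp.one_lt
      omega
    have hc := hcent _ hle hneP (x ^ p) (Subgroup.mem_zpowers _)
    have hcen : x ^ p ∈ Subgroup.center G := by
      have h1 : Subgroup.centralizer ({x ^ p} : Set G) = ⊤ := by
        rw [eq_top_iff, ← hPN, sup_le_iff]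
        constructor
        · rw [← hx, Subgroup.zpowers_le, Subgroup.mem_centralizer_singleton_iff, ← pow_succ,
            ← pow_succ']
        · intro y hy
          rw [Subgroup.mem_centralizer_singleton_iff]
          exact (hc y hy).symm
      rw [Subgroup.mem_center_iff]
      intro g
      have : g ∈ Subgroup.centralizer ({x ^ p} : Set G) := by rw [h1]; trivial
      rw [Subgroup.mem_centralizer_singleton_iff] at this
      exact this
    haveI hZn : (Subgroup.zpowers (x ^ p)).Normal := by
      refine ⟨fun n hn g => ?_⟩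
      have h1 : n ∈ Subgroup.center G := (Subgroup.zpowers_le.2 hcen) hn
      rw [Subgroup.mem_center_iff.1 h1 g, mul_inv_cancel_right]
      exact hn
    have h2 := sup_normal_of_quot P (Subgroup.zpowers (x ^ p)) (hquo _ (by
      intro h
      rw [Subgroup.zpowers_eq_bot] at h
      exact hne h))
    rw [sup_eq_left.2 hle] at h2
    exact hPn h2
  have hordx : orderOf x = p := orderOf_eq_prime hxp hx1
  have hcardP : Nat.card (P : Subgroup G) = p := by
    rw [← hx, Nat.card_zpowers, hordx]
  have hPsolv : Group.IsSolvable (P : Subgroup G) := by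
    haveI := P.2.isNilpotent
    infer_instance
  have hcop : (Nat.card (P : Subgroup G)).Coprime (Nat.card N) := by
    rw [hcardP]
    exact (Nat.Prime.coprime_iff_not_dvd hp).2 hNp
  obtain ⟨q, hq, hNq⟩ : ∃ q : ℕ, q.Prime ∧ IsPGroup q N := by
    by_contra hcon
    push Not at hcon
    apply hnotcent
    have hC : (Subgroup.centralizer ((P : Subgroup G) : Set G)).subgroupOf N = ⊤ := by
      rw [← Subgroup.index_eq_one, Nat.eq_one_iff_not_exists_prime_dvd]
      intro q hq hdvd
      haveI : Fact q.Prime := ⟨hq⟩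
      obtain ⟨Q, hQ⟩ := H1.coprime_invariant_sylow_exists (P : Subgroup G) N
        (by rw [Subgroup.normalizer_eq_top]; exact le_top) hcop (Or.inl hPsolv) q
      have hQle : (Q : Subgroup N) ≤
          (Subgroup.centralizer ((P : Subgroup G) : Set G)).subgroupOf N := by
        have hH : (P : Subgroup G) ⊔ (Q : Subgroup N).map N.subtype ≠ ⊤ := by
          intro htop
          have hQn : ((Q : Subgroup N).map N.subtype).Normal := by
            rw [← Subgroup.normalizer_eq_top_iff, eq_top_iff, ← htop, sup_le_iff]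
            exact ⟨hQ, Subgroup.le_normalizer⟩
          rcases hmin _ hQn (Subgroup.map_subtype_le _) with h | h
          · rw [h, sup_bot_eq] at htop
            apply hPn
            rw [htop]
            infer_instance
          · apply hcon q hq
            have : IsPGroup q ((Q : Subgroup N).map N.subtype) := Q.2.map _
            rwa [h] at this
        have hc := comm_of_pclosed _ (hsub _ hH) P ((Q : Subgroup N).map N.subtype) P.2
          le_sup_left le_sup_right (sup_le hQ Subgroup.le_normalizer)
          (fun hd => hNp (hd.trans (Subgroup.card_dvd_of_le (Subgroup.map_subtype_le _))))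
        intro y hy
        rw [Subgroup.mem_subgroupOf, Subgroup.mem_centralizer_iff]
        intro r hr
        exact hc r hr y ⟨y, hy, rfl⟩
      exact Q.not_dvd_index (hdvd.trans (Subgroup.index_dvd_of_le hQle))
    intro r hr y hy
    have : (⟨y, hy⟩ : N) ∈ (Subgroup.centralizer ((P : Subgroup G) : Set G)).subgroupOf N := by
      rw [hC]; trivial
    rw [Subgroup.mem_subgroupOf, Subgroup.mem_centralizer_iff] at this
    exact this r hr
  haveI : Fact q.Prime := ⟨hq⟩
  haveI hNnt : Nontrivial N := (Subgroup.nontrivial_iff_ne_bot N).2 hNb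
  have hNab : ∀ a ∈ N, ∀ b ∈ N, a * b = b * a := by
    have h1 : Nontrivial (Subgroup.center N) := hNq.center_nontrivial
    have h2 : ((Subgroup.center N).map N.subtype).Normal :=
      ConjAct.normal_of_characteristic_of_normal
    rcases hmin _ h2 (Subgroup.map_subtype_le _) with h | h
    · exfalso
      have := (Subgroup.map_eq_bot_iff_of_injective _ N.subtype_injective).1 h
      exact (Subgroup.nontrivial_iff_ne_bot _).1 h1 this
    · intro a ha b hb
      have : a ∈ (Subgroup.center N).map N.subtype := by rw [h]; exact ha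
      obtain ⟨a', ha', rfl⟩ := this
      have := (Subgroup.mem_center_iff.1 ha') ⟨b, hb⟩
      exact (congrArg Subtype.val this).symm
  obtain ⟨q', hq', hexp⟩ := S3680.elem_ab N hNn hNb hmin hNab
  obtain ⟨⟨y, hyN⟩, hy1⟩ := Subgroup.ne_bot_iff_exists_ne_one.1 hNb
  have hy1' : y ≠ 1 := fun h0 => hy1 (Subtype.ext h0)
  have hqq : q' = q := by
    haveI : Fact q'.Prime := ⟨hq'⟩
    have h1 : orderOf y = q' := orderOf_eq_prime (hexp y hyN) hy1'
    obtain ⟨k, hk⟩ := IsPGroup.iff_orderOf.1 hNq ⟨y, hyN⟩
    rw [Subgroup.orderOf_mk, h1] at hk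
    have h2 : q' ∣ q := hq'.dvd_of_dvd_pow (by rw [← hk])
    exact (Nat.prime_dvd_prime_iff_eq hq' hq).1 h2
  rw [hqq] at hexp
  have hqp : q ≠ p := by
    rintro rfl
    apply hNp
    have h1 : orderOf y = q := orderOf_eq_prime (hexp y hyN) hy1'
    rw [← h1, ← Subgroup.orderOf_mk y hyN]
    exact orderOf_dvd_natCard _
  have hEA : Cfsg.IsElementaryAbelian q N :=
    ⟨⟨⟨fun a b => Subtype.ext (hNab a a.2 b b.2)⟩⟩, hexp⟩
  have hcardG : Nat.card G = p * Nat.card N := by
    have h1 := H1.card_sup_mul_card_inf' N (P : Subgroup G)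
      (by rw [Subgroup.normalizer_eq_top]; exact le_top)
    have h2 : N ⊓ (P : Subgroup G) = ⊥ := by
      rw [eq_bot_iff]
      intro g hg
      exact hdisj g hg.2 hg.1
    rw [h2, sup_comm, hPN, Subgroup.card_bot, mul_one, Subgroup.card_top, hcardP] at h1
    rw [h1, mul_comm]
  have hidx : N.index = p := by
    have h1 := N.card_mul_index
    rw [hcardG, mul_comm p] at h1
    exact Nat.eq_of_mul_eq_mul_left Nat.card_pos h1
  have hna : ¬ IsMulCommutative G := by
    intro h
    apply hPn
    refine ⟨fun n hn g => ?_⟩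
    rw [h.is_comm.comm g n, mul_inv_cancel_right]
    exact hn
  have hcardN := S3869.card_A hq hqp hna N hEA hidx hmin
  exact ⟨q, hq, hqp, by rw [hcardG, hcardN], N, hNn, hcardN, hEA, hmin⟩

end Cfsg.Agent.S3868
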