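import Cfsg.Statements.S3870
import Cfsg.Agent.Lib_helper7_Alperin

set_option autoImplicit false
open Cfsg

namespace Cfsg.Agent.S3870

/-- in a `p`-closed subgroup two `p`-subgroups lie in a common Sylow subgroup of `G`. -/
theorem common_sylow {G : Type*} [Group G] [Finite G] {p : ℕ} [Fact p.Prime] (X : Subgroup G)
    (hX : Cfsg.IsPClosed p ↥X) (A B : Subgroup G) (hA : IsPGroup p A) (hB : IsPGroup p B)
    (hAX : A ≤ X) (hBX : B ≤ X) : ∃ R : Sylow p G, A ≤ R ∧ B ≤ R := by
  obtain ⟨T, hT⟩ := (hA.comap_of_injective X.subtype X.subtype_injective).exists_le_sylow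
  obtain ⟨T', hT'⟩ := (hB.comap_of_injective X.subtype X.subtype_injective).exists_le_sylow
  haveI := hX T
  have hTT : T' = T := by
    obtain ⟨g, hg⟩ := MulAction.exists_smul_eq X T T'
    rw [← hg]
    exact Sylow.smul_eq_of_normal
  obtain ⟨R, hR⟩ := (T.2.map X.subtype).exists_le_sylow
  refine ⟨R, ?_, ?_⟩
  · intro a ha
    exact hR ⟨⟨a, hAX ha⟩, hT ha, rfl⟩
  · intro b hb
    refine hR ⟨⟨b, hBX hb⟩, ?_, rfl⟩
    rw [← hTT]
    exact hT' hb

/-- Let G be a finite simple group whose Sylow p-subgroups are not normal but such that every proper subgroup of G has a normal Sylow p-subgroup. Then any two distinct Sylow p-subgroups of G intersect trivially, and for every Sylow p-subgroup P the normalizer of every non-identity subgroup of P lies in the normalizer of P. -/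
theorem result {G : Type*} [Group G] [Finite G] [IsSimpleGroup G] {p : ℕ} [Fact p.Prime]
    (hnc : ¬ Cfsg.IsPClosed p G) (hsub : ∀ H : Subgroup G, H ≠ ⊤ → Cfsg.IsPClosed p ↥H) :
    (∀ P Q : Sylow p G, P ≠ Q → (P : Subgroup G) ⊓ (Q : Subgroup G) = ⊥) ∧
      ∀ (P : Sylow p G) (R : Subgroup G), R ≤ P → R ≠ ⊥ →
        Subgroup.normalizer (R : Set G) ≤ Subgroup.normalizer ((P : Subgroup G) : Set G) := by
  have hTI : ∀ (k : ℕ) (P Q : Sylow p G), P ≠ Q →
      Nat.card G - Nat.card ((P : Subgroup G) ⊓ (Q : Subgroup G) : Subgroup G) = k →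
      (P : Subgroup G) ⊓ (Q : Subgroup G) = ⊥ := by
    intro k
    induction k using Nat.strong_induction_on with
    | _ k ih =>
      intro P Q hPQ hk
      by_contra hD
      set D := (P : Subgroup G) ⊓ (Q : Subgroup G) with hDdef
      have hNtop : Subgroup.normalizer (D : Set G) ≠ ⊤ := by
        intro h
        have hn : D.Normal := Subgroup.normalizer_eq_top_iff.1 h
        rcases hn.eq_bot_or_eq_top with h1 | h1
        · exact hD h1
        · apply hPQ
          have hP : (P : Subgroup G) = ⊤ := top_le_iff.1 (h1 ▸ inf_le_left)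
          have hQ : (Q : Subgroup G) = ⊤ := top_le_iff.1 (h1 ▸ inf_le_right)
          exact Sylow.ext (hP.trans hQ.symm)
      have hDP : D < (P : Subgroup G) := by
        refine lt_of_le_of_ne inf_le_left ?_
        intro h
        apply hPQ
        have h1 : (P : Subgroup G) ≤ Q := h ▸ inf_le_right
        exact Sylow.ext (P.3 Q.2 h1).symm
      have hDQ : D < (Q : Subgroup G) := by
        refine lt_of_le_of_ne inf_le_right ?_
        intro h
        apply hPQ
        have h1 : (Q : Subgroup G) ≤ P := h ▸ inf_le_left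
        exact Sylow.ext (Q.3 P.2 h1)
      have hA := Cfsg.Agent.H7.lt_inf_normalizer P.2 hDP
      have hB := Cfsg.Agent.H7.lt_inf_normalizer Q.2 hDQ
      obtain ⟨R, hAR, hBR⟩ := common_sylow _ (hsub _ hNtop) _ _ (P.2.to_le inf_le_left)
        (Q.2.to_le inf_le_left) inf_le_right inf_le_right
      have key : ∀ S : Sylow p G, D < (S : Subgroup G) ⊓ Subgroup.normalizer (D : Set G) →
          (S : Subgroup G) ⊓ Subgroup.normalizer (D : Set G) ≤ R → S = R := by
        intro S hS hSR
        by_contra hne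
        have hlt : D < (S : Subgroup G) ⊓ (R : Subgroup G) :=
          lt_of_lt_of_le hS (le_inf inf_le_left hSR)
        have hcard : Nat.card D < Nat.card ((S : Subgroup G) ⊓ (R : Subgroup G) : Subgroup G) := by
          have h1 := Subgroup.card_le_of_le hlt.le
          rcases h1.lt_or_eq with h2 | h2
          · exact h2
          · exact absurd (Subgroup.eq_of_le_of_card_ge hlt.le h2.ge) hlt.ne
        have hle : Nat.card ((S : Subgroup G) ⊓ (R : Subgroup G) : Subgroup G) ≤ Nat.card G :=
          Subgroup.card_le_card_group _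
        have h3 := ih _ (by omega) S R hne rfl
        rw [h3] at hlt
        exact not_lt_bot hlt
      exact hPQ ((key P hA hAR).trans (key Q hB hBR).symm)
  refine ⟨fun P Q hPQ => hTI _ P Q hPQ rfl, ?_⟩
  intro P R hRP hR1 g hg
  apply Sylow.smul_eq_iff_mem_normalizer.1
  by_contra hne
  have h1 := hTI _ P (g • P) (fun h => hne h.symm) rfl
  apply hR1
  rw [eq_bot_iff, ← h1]
  intro r hr
  refine Subgroup.mem_inf.2 ⟨hRP hr, ?_⟩
  rw [Sylow.coe_subgroup_smul]
  have h2 : g⁻¹ * r * g ∈ R := by
    have := (Subgroup.mem_normalizer_iff.1 (inv_mem hg) r).1 hr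
    simpa using this
  exact ⟨g⁻¹ * r * g, hRP h2, by simp [MulAut.conj_apply, mul_assoc]⟩

end Cfsg.Agent.S3870
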