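import Cfsg.Statements.S3873
import Mathlib
import Cfsg.Agent.S3868

set_option autoImplicit false
open Cfsg

namespace Cfsg.Agent.S3873

/-- Say that a finite group is p-exponent closed when its elements of order dividing p form a subgroup. Let G be a finite group that is not p-exponent closed, but all of whose proper subgroups and proper quotients are, and suppose G is neither simple nor a p-group. Then there is a prime q ≠ p such that G has order p · q^e, where e is the multiplicative order of q modulo p, and G has a normal elementary abelian subgroup of order q^e that is a minimal normal subgroup of G. -/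
theorem result {G : Type*} [Group G] [Finite G] {p : ℕ} [Fact p.Prime]
    (hnc : ¬ (∃ H : Subgroup G, (H : Set G) = {g : G | g ^ p = 1})) (hsub : ∀ K : Subgroup G, K ≠ ⊤ → (∃ H : Subgroup ↥K, (H : Set ↥K) = {g : ↥K | g ^ p = 1}))
    (hquo : ∀ (N : Subgroup G) [N.Normal], N ≠ ⊥ → (∃ H : Subgroup (G ⧸ N), (H : Set (G ⧸ N)) = {g : (G ⧸ N) | g ^ p = 1}))
    (hns : ¬ IsSimpleGroup G) (hnp : ¬ IsPGroup p G) :
    ∃ q : ℕ, q.Prime ∧ q ≠ p ∧ Nat.card G = p * q ^ orderOf (q : ZMod p) ∧
      ∃ A : Subgroup G, A.Normal ∧ Nat.card ↥A = q ^ orderOf (q : ZMod p) ∧ Cfsg.IsElementaryAbelian q A ∧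
        ∀ B : Subgroup G, B.Normal → B ≤ A → B = ⊥ ∨ B = A := by
  classical
  have hp : p.Prime := Fact.out
  obtain ⟨a, b, ha, hb, hab⟩ : ∃ a b : G, a ^ p = 1 ∧ b ^ p = 1 ∧ (a * b) ^ p ≠ 1 := by
    by_contra h
    push Not at h
    apply hnc
    exact ⟨{ carrier := {g : G | g ^ p = 1}
             mul_mem' := fun {x y} hx hy => h x y hx hy
             one_mem' := one_pow p
             inv_mem' := fun {x} hx => by
               change (x⁻¹) ^ p = 1
               rw [inv_pow, (show x ^ p = 1 from hx), inv_one] }, rfl⟩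
  have hgen : Subgroup.closure ({a, b} : Set G) = ⊤ := by
    by_contra hK
    obtain ⟨H, hH⟩ := hsub _ hK
    have haK : a ∈ Subgroup.closure ({a, b} : Set G) := Subgroup.subset_closure (by simp)
    have hbK : b ∈ Subgroup.closure ({a, b} : Set G) := Subgroup.subset_closure (by simp)
    have h1 : (⟨a, haK⟩ : Subgroup.closure ({a, b} : Set G)) ∈ H := by
      rw [← SetLike.mem_coe, hH]
      exact Subtype.ext ha
    have h2 : (⟨b, hbK⟩ : Subgroup.closure ({a, b} : Set G)) ∈ H := by
      rw [← SetLike.mem_coe, hH]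
      exact Subtype.ext hb
    have h3 := H.mul_mem h1 h2
    rw [← SetLike.mem_coe, hH] at h3
    exact hab (congrArg Subtype.val h3)
  have hexpq : ∀ (M : Subgroup G) [M.Normal], M ≠ ⊥ → ∀ g : G, g ^ p ∈ M := by
    intro M _ hM g
    obtain ⟨H, hH⟩ := hquo M hM
    have h1 : H.comap (QuotientGroup.mk' M) = ⊤ := by
      rw [eq_top_iff, ← hgen, Subgroup.closure_le]
      intro y hy
      have hy' : y ^ p = 1 := by
        rcases hy with rfl | hy
        · exact ha
        · rw [Set.mem_singleton_iff] at hy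
          rw [hy]; exact hb
      change (QuotientGroup.mk' M y) ∈ (H : Set (G ⧸ M))
      rw [hH]
      change (QuotientGroup.mk' M y) ^ p = 1
      rw [← map_pow, hy', map_one]
    have h2 : g ∈ H.comap (QuotientGroup.mk' M) := by rw [h1]; trivial
    have h3 : (QuotientGroup.mk' M g) ∈ (H : Set (G ⧸ M)) := h2
    rw [hH] at h3
    have h4 : (QuotientGroup.mk' M g) ^ p = 1 := h3
    rw [← map_pow] at h4
    exact (QuotientGroup.eq_one_iff _).1 h4
  have hnt : Nontrivial G := by
    by_contra h
    rw [not_nontrivial_iff_subsingleton] at h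
    exact hab (Subsingleton.elim _ _)
  obtain ⟨M, hMn, hMb, hMt⟩ : ∃ M : Subgroup G, M.Normal ∧ M ≠ ⊥ ∧ M ≠ ⊤ := by
    by_contra h
    push Not at h
    apply hns
    refine ⟨fun H hH => ?_⟩
    by_cases hb : H = ⊥
    · left; exact hb
    · right; exact h H hH hb
  obtain ⟨N, ⟨hNn, hNb⟩, hNmin⟩ := (measure (fun K : Subgroup G => Nat.card K)).wf.has_min
    {K : Subgroup G | K.Normal ∧ K ≠ ⊥} ⟨M, hMn, hMb⟩
  have hmin : ∀ B : Subgroup G, B.Normal → B ≤ N → B = ⊥ ∨ B = N := by
    intro B hB hBN
    by_cases hb : B = ⊥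
    · left; exact hb
    · right
      have := hNmin B ⟨hB, hb⟩
      exact Subgroup.eq_of_le_of_card_ge hBN (not_lt.1 this)
  have hNt : N ≠ ⊤ := by
    intro h
    rcases hmin M hMn (by rw [h]; exact le_top) with h1 | h1
    · exact hMb h1
    · exact hMt (h1.trans h)
  haveI := hNn
  -- `N` has no element of order `p`
  have hNp : ∀ y ∈ N, y ^ p = 1 → y = 1 := by
    obtain ⟨H, hH⟩ := hsub N hNt
    have hmem : ∀ y : G, y ∈ H.map N.subtype ↔ y ∈ N ∧ y ^ p = 1 := by
      intro y
      constructor
      · rintro ⟨z, hz, rfl⟩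
        rw [hH] at hz
        exact ⟨z.2, congrArg Subtype.val hz⟩
      · rintro ⟨h1, h2⟩
        refine ⟨⟨y, h1⟩, ?_, rfl⟩
        rw [hH]
        exact Subtype.ext h2
    have hn : (H.map N.subtype).Normal := by
      refine ⟨fun n hn g => ?_⟩
      rw [hmem] at hn ⊢
      refine ⟨hNn.conj_mem n hn.1 g, ?_⟩
      rw [conj_pow, hn.2, mul_one, mul_inv_cancel]
    rcases hmin _ hn (Subgroup.map_subtype_le _) with h | h
    · intro y hy hyp
      have : y ∈ H.map N.subtype := (hmem y).2 ⟨hy, hyp⟩
      rw [h] at this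
      exact this
    · exfalso
      apply hnp
      intro g
      refine ⟨2, ?_⟩
      have h1 : g ^ p ∈ H.map N.subtype := by rw [h]; exact hexpq N hNb g
      rw [pow_two, pow_mul]
      exact ((hmem _).1 h1).2
  have hNp' : ∀ (k : ℕ), ∀ y ∈ N, y ^ (p ^ k) = 1 → y = 1 := by
    intro k
    induction k with
    | zero => intro y _ h; simpa using h
    | succ k ih =>
      intro y hy h
      rw [pow_succ, pow_mul] at h
      exact ih y hy (hNp _ (N.pow_mem hy _) h)
  have hpel : ∀ (k : ℕ) (g : G), g ^ (p ^ k) = 1 → g ^ p = 1 := by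
    intro k g hg
    apply hNp' k _ (hexpq N hNb g)
    rw [← pow_mul, mul_comm, pow_mul, hg, one_pow]
  apply S3868.result (p := p) ?_ ?_ ?_ hns
  · intro hcl
    obtain ⟨P⟩ : Nonempty (Sylow p G) := inferInstance
    haveI := hcl P
    apply hnc
    refine ⟨P, ?_⟩
    ext g
    constructor
    · intro hg
      obtain ⟨k, hk⟩ := P.2 ⟨g, hg⟩
      exact hpel k g (congrArg Subtype.val hk)
    · intro hg
      have hz : IsPGroup p (Subgroup.zpowers g) := by
        rw [IsPGroup.iff_card]
        have h1 : orderOf g ∣ p ^ 1 := by rw [pow_one]; exact orderOf_dvd_of_pow_eq_one hg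
        obtain ⟨j, -, hj⟩ := (Nat.dvd_prime_pow hp).1 h1
        exact ⟨j, by rw [Nat.card_zpowers, hj]⟩
      have h3 : IsPGroup p (Subgroup.zpowers g ⊔ (P : Subgroup G) : Subgroup G) :=
        IsPGroup.to_sup_of_normal_right hz P.2
      have h4 := P.3 h3 le_sup_right
      have h5 : g ∈ Subgroup.zpowers g ⊔ (P : Subgroup G) :=
        (le_sup_left : Subgroup.zpowers g ≤ _) (Subgroup.mem_zpowers g)
      rw [h4] at h5
      exact h5
  · intro K hK S
    obtain ⟨H, hH⟩ := hsub K hK
    have hHp : IsPGroup p H := by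
      rintro ⟨g, hg⟩
      refine ⟨1, ?_⟩
      rw [← SetLike.mem_coe, hH] at hg
      rw [pow_one]
      exact Subtype.ext hg
    have hle : (S : Subgroup K) ≤ H := by
      intro s hs
      obtain ⟨k, hk⟩ := S.2 ⟨s, hs⟩
      rw [← SetLike.mem_coe, hH]
      apply Subtype.ext
      exact hpel k s (congrArg (fun z : (S : Subgroup K) => ((z : K) : G)) hk)
    have heq := S.3 hHp hle
    rw [← heq]
    refine ⟨fun n hn g => ?_⟩
    rw [← SetLike.mem_coe, hH] at hn ⊢
    change (g * n * g⁻¹) ^ p = 1
    rw [conj_pow, (show n ^ p = 1 from hn), mul_one, mul_inv_cancel]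
  · intro M _ hM S
    have hMp : IsPGroup p (G ⧸ M) := by
      intro g
      induction g using QuotientGroup.induction_on with
      | H g =>
        refine ⟨1, ?_⟩
        rw [pow_one, ← QuotientGroup.mk_pow]
        exact (QuotientGroup.eq_one_iff _).2 (hexpq M hM g)
    have h1 := S.3 (hMp.to_subgroup ⊤) le_top
    rw [← h1]
    infer_instance

end Cfsg.Agent.S3873
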