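import Cfsg.Statements.S3889
import Mathlib

set_option autoImplicit false
open Cfsg

namespace Cfsg.Agent.S3889

/-- A finite abelian group that is the union of a family of proper subgroups any two of which intersect trivially is elementary abelian: its exponent is a prime. -/
theorem result {G : Type*} [CommGroup G] [Finite G] (𝓑 : Set (Subgroup G)) (hprop : ∀ B ∈ 𝓑, B ≠ ⊤)
    (hcov : ∀ g : G, ∃ B ∈ 𝓑, g ∈ B) (hdisj : ∀ B ∈ 𝓑, ∀ C ∈ 𝓑, B ≠ C → B ⊓ C = ⊥) :
    (Monoid.exponent G).Prime := by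
  classical
  have key : ∀ B ∈ 𝓑, ∀ C ∈ 𝓑, B ≠ C → ∀ a ∈ B, a ≠ 1 → ∀ b ∈ C, ∀ k : ℕ, a ^ k = 1 → b ^ k = 1 := by
    intro B hB C hC hBC a ha ha1 b hb k hk
    by_contra hbk
    obtain ⟨D, hD, hab⟩ := hcov (a * b)
    have h1 : b ^ k ∈ D := by
      have := D.pow_mem hab k
      rwa [mul_pow, hk, one_mul] at this
    have hDC : D = C := by
      by_contra hne
      have h2 : b ^ k ∈ D ⊓ C := ⟨h1, C.pow_mem hb k⟩
      rw [hdisj D hD C hC hne, Subgroup.mem_bot] at h2
      exact hbk h2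
    subst hDC
    have h3 : a ∈ D := by
      have := D.mul_mem hab (D.inv_mem hb)
      rwa [mul_inv_cancel_right] at this
    have h4 : a ∈ B ⊓ D := ⟨ha, h3⟩
    rw [hdisj B hB D hD hBC, Subgroup.mem_bot] at h4
    exact ha1 h4
  have hnt : Nontrivial G := by
    by_contra hn
    rw [not_nontrivial_iff_subsingleton] at hn
    obtain ⟨B, hB, -⟩ := hcov 1
    exact hprop B hB (Subsingleton.elim _ _)
  have hcard : Nat.card G ≠ 1 := by
    intro h; rw [Nat.card_eq_one_iff_unique] at h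
    exact (not_nontrivial_iff_subsingleton.2 h.1) hnt
  obtain ⟨p, hp, hpd⟩ := Nat.exists_prime_and_dvd hcard
  have : Fact p.Prime := ⟨hp⟩
  obtain ⟨c, hc⟩ := exists_prime_orderOf_dvd_card' p hpd
  have hc1 : c ≠ 1 := by
    intro h; rw [h, orderOf_one] at hc; exact hp.one_lt.ne hc
  have hcp : c ^ p = 1 := by rw [← hc]; exact pow_orderOf_eq_one c
  have hall : ∀ a : G, a ^ p = 1 := by
    intro a
    obtain ⟨B, hB, hcB⟩ := hcov c
    obtain ⟨C, hC, haC⟩ := hcov a
    by_cases hBC : B = C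
    · subst hBC
      obtain ⟨b, hb⟩ : ∃ b : G, b ∉ B := by
        by_contra hcon
        push Not at hcon
        exact hprop B hB (eq_top_iff.2 fun x _ => hcon x)
      obtain ⟨D, hD, hbD⟩ := hcov b
      have hBD : B ≠ D := by rintro rfl; exact hb hbD
      have hb1 : b ≠ 1 := by rintro rfl; exact hb B.one_mem
      have hbp := key B hB D hD hBD c hcB hc1 b hbD p hcp
      exact key D hD B hB hBD.symm b hbD hb1 a haC p hbp
    · exact key B hB C hC hBC c hcB hc1 a haC p hcp
  have hd : Monoid.exponent G ∣ p := Monoid.exponent_dvd_of_forall_pow_eq_one hall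
  rcases (Nat.dvd_prime hp).1 hd with h | h
  · rw [Monoid.exp_eq_one_iff] at h
    exact absurd hnt (not_nontrivial_iff_subsingleton.2 h)
  · rw [h]; exact hp

end Cfsg.Agent.S3889
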