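import Mathlib
import Cfsg.Statements.S3946
import Cfsg.Agent.Lib_helper1_Kegel5

set_option autoImplicit false
open Cfsg

namespace Cfsg.Agent.S3946

open SemidirectProduct

/-- Call an automorphism α of order n of a group G splitting when x · α(x) · α²(x) ⋯ α^(n−1)(x) = 1 for every x ∈ G. A finite group admitting a splitting automorphism of prime order is nilpotent (this contains the case of a fixed-point-free automorphism of prime order). -/
theorem result {G : Type*} [Group G] [Finite G] (α : MulAut G) (hp : (orderOf α).Prime)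
    (hsplit : ∀ x : G, (((List.range (orderOf α)).map (fun i : ℕ => (α ^ i) x)).prod = 1)) : Group.IsNilpotent G := by
  set p := orderOf α with hpdef
  let φ : Subgroup.zpowers α →* MulAut G := (Subgroup.zpowers α).subtype
  let a : Subgroup.zpowers α := ⟨α, Subgroup.mem_zpowers α⟩
  haveI : Finite (G ⋊[φ] Subgroup.zpowers α) := Finite.of_equiv _ equivProd.symm
  have hap : a ^ p = 1 := Subtype.ext (pow_orderOf_eq_one α)
  -- power formula
  have hpow : ∀ (g : G) (n : ℕ), ((⟨g, a⟩ : G ⋊[φ] Subgroup.zpowers α) ^ n) =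
      ⟨((List.range n).map (fun i : ℕ => (α ^ i) g)).prod, a ^ n⟩ := by
    intro g n
    induction n with
    | zero => rfl
    | succ n ih =>
      rw [pow_succ, ih]
      ext
      · rw [mul_left, List.range_succ, List.map_append, List.prod_append]
        simp only [List.map_cons, List.map_nil, List.prod_cons, List.prod_nil, mul_one]
        rfl
      · rw [mul_right, pow_succ]
  have h1 : ∀ g : G, (⟨g, a⟩ : G ⋊[φ] Subgroup.zpowers α) ^ p = 1 := by
    intro g
    rw [hpow, hsplit g, hap]
    rfl
  have hall : ∀ y : G ⋊[φ] Subgroup.zpowers α, y.right ≠ 1 → y ^ p = 1 := by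
    intro y hy
    obtain ⟨n, hn⟩ : ∃ n : ℕ, a ^ n = y.right := by
      have h2 : (y.right : MulAut G) ∈ Subgroup.zpowers α := y.right.2
      rw [← mem_powers_iff_mem_zpowers] at h2
      obtain ⟨n, hn⟩ := h2
      exact ⟨n, Subtype.ext hn⟩
    have hnp : ¬ p ∣ n := by
      rintro ⟨k, rfl⟩
      apply hy
      rw [← hn, pow_mul, hap, one_pow]
    have hcop : Nat.Coprime n p := ((Nat.Prime.coprime_iff_not_dvd hp).2 hnp).symm
    obtain ⟨m, -, hm⟩ := Nat.exists_mul_mod_eq_one_of_coprime hcop hp.one_lt
    let F : G → G := fun g => ((⟨g, a⟩ : G ⋊[φ] Subgroup.zpowers α) ^ n).left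
    have hFinj : Function.Injective F := by
      intro g g' hgg
      have h2 : (⟨g, a⟩ : G ⋊[φ] Subgroup.zpowers α) ^ n = ⟨g', a⟩ ^ n := by
        ext
        · exact hgg
        · rw [hpow, hpow]
      have h3 : ∀ g : G, ((⟨g, a⟩ : G ⋊[φ] Subgroup.zpowers α) ^ n) ^ m = ⟨g, a⟩ := by
        intro g
        rw [← pow_mul, pow_eq_pow_mod _ (h1 g), hm, pow_one]
      have h4 := congrArg (· ^ m) h2
      simp only [h3] at h4
      exact congrArg SemidirectProduct.left h4
    obtain ⟨g, hg⟩ := (Finite.injective_iff_surjective.1 hFinj) y.left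
    have hy2 : y = (⟨g, a⟩ : G ⋊[φ] Subgroup.zpowers α) ^ n := by
      ext
      · exact hg.symm
      · rw [hpow, hn]
    rw [hy2, ← pow_mul, mul_comm, pow_mul, h1, one_pow]
  have hker : (inl : G →* G ⋊[φ] Subgroup.zpowers α).range = rightHom.ker := range_inl_eq_ker_rightHom
  have hnil : Group.IsNilpotent (inl : G →* G ⋊[φ] Subgroup.zpowers α).range := by
    apply Cfsg.Agent.H1.kegel_aux p hp _ (G ⋊[φ] Subgroup.zpowers α) rfl
    · rw [hker]
      infer_instance
    · intro h
      have h2 : (⟨1, a⟩ : G ⋊[φ] Subgroup.zpowers α) ∈ (inl : G →* G ⋊[φ] Subgroup.zpowers α).range := by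
        rw [h]; trivial
      rw [hker, MonoidHom.mem_ker] at h2
      have h3 : a = 1 := h2
      have h4 : α = 1 := congrArg Subtype.val h3
      rw [hpdef, h4, orderOf_one] at hp
      exact Nat.not_prime_one hp
    · intro x hx
      apply hall
      intro h
      apply hx
      rw [hker, MonoidHom.mem_ker]
      exact h
  haveI := hnil
  exact Group.nilpotent_of_mulEquiv (MonoidHom.ofInjective (inl_injective (φ := φ))).symm

end Cfsg.Agent.S3946
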