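import Cfsg.Statements.S4035
import Cfsg.Agent.Lib_helper2_Class
import Cfsg.Agent.Lib_helper3_Conj
import Cfsg.Agent.Lib_helper1_PNilp2

set_option autoImplicit false
open Cfsg

namespace Cfsg.Agent.S4035

open scoped Pointwise

/-- core statement in terms of centralizer indices -/
theorem core {G : Type*} [Group G] [Finite G] {p : ℕ} [Fact p.Prime]
    (h : ∀ x : G, (orderOf x).Coprime p → ¬ p ∣ (Subgroup.centralizer ({x} : Set G)).index)
    (P : Sylow p G) :
    (P : Subgroup G).Normal ∧ ∃ H : Subgroup G, H.Normal ∧ ¬ p ∣ Nat.card H ∧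
      (P : Subgroup G) ⊓ H = ⊥ ∧ (P : Subgroup G) ⊔ H = ⊤ := by
  have hp : p.Prime := Fact.out
  set C := Subgroup.centralizer ((P : Subgroup G) : Set G) with hC
  have hT : (P : Subgroup G) ⊔ C = ⊤ := by
    by_contra hne
    obtain ⟨g, hg⟩ := H3.exists_not_mem_conj _ hne
    obtain ⟨u, hu, v, hv, huv, ⟨k, huk⟩, hvp⟩ := H1.exists_p_decomposition p g
    obtain ⟨b, hb⟩ := H3.exists_conj_le_of_not_dvd_index (P : Subgroup G) _ P.2 (h v hvp)
    set v' := b * v * b⁻¹ with hv'
    set u' := b * u * b⁻¹ with hu'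
    have hPv : ∀ x ∈ (P : Subgroup G), x * v' = v' * x := by
      intro x hx
      have h1 := Subgroup.mem_centralizer_singleton_iff.mp (hb x hx)
      -- h1 : b⁻¹ * x * b * v = v * (b⁻¹ * x * b)
      calc x * v' = b * ((b⁻¹ * x * b) * v) * b⁻¹ := by rw [hv']; group
        _ = b * (v * (b⁻¹ * x * b)) * b⁻¹ := by rw [h1]
        _ = v' * x := by rw [hv']; group
    have hv'C : v' ∈ C := by
      rw [hC, Subgroup.mem_centralizer_iff]
      intro x hx
      exact hPv x hx
    set K := Subgroup.centralizer ({v'} : Set G) with hK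
    have hPK : (P : Subgroup G) ≤ K := by
      intro x hx
      rw [hK, Subgroup.mem_centralizer_singleton_iff]
      exact hPv x hx
    have hcomm : Commute u v := by
      obtain ⟨i, rfl⟩ := Subgroup.mem_zpowers_iff.mp hu
      obtain ⟨j, rfl⟩ := Subgroup.mem_zpowers_iff.mp hv
      exact (Commute.refl g).zpow_zpow i j
    have hu'K : u' ∈ K := by
      rw [hK, Subgroup.mem_centralizer_singleton_iff]
      calc u' * v' = b * (u * v) * b⁻¹ := by rw [hu', hv']; group
        _ = b * (v * u) * b⁻¹ := by rw [hcomm.eq]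
        _ = v' * u' := by rw [hu', hv']; group
    have hu'p : IsPGroup p (Subgroup.zpowers (⟨u', hu'K⟩ : K)) := by
      rw [IsPGroup.iff_orderOf]
      intro y
      obtain ⟨j, hj⟩ := Subgroup.mem_zpowers_iff.mp y.2
      have h1 : (⟨u', hu'K⟩ : K) ^ p ^ k = 1 := by
        apply Subtype.ext
        show u' ^ p ^ k = 1
        rw [hu', conj_pow, huk, mul_one, mul_inv_cancel]
      have h2 : y ^ p ^ k = 1 := by
        apply Subtype.ext
        show (y : K) ^ p ^ k = 1
        rw [← hj, ← zpow_natCast, ← zpow_mul, mul_comm, zpow_mul, zpow_natCast, h1, one_zpow]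
      obtain ⟨l, _, hl⟩ := (Nat.dvd_prime_pow hp).mp (orderOf_dvd_of_pow_eq_one h2)
      exact ⟨l, hl⟩
    have hidx : ¬ p ∣ ((P : Subgroup G).subgroupOf K).index := by
      intro hdvd
      apply P.not_dvd_index
      rw [← Subgroup.relIndex_mul_index hPK]
      exact Dvd.dvd.mul_right hdvd _
    obtain ⟨c, hc⟩ := H3.exists_conj_le_of_not_dvd_index _ _ hu'p hidx
    have h1 := hc _ (Subgroup.mem_zpowers _)
    have h2 : (c : G)⁻¹ * u' * c ∈ (P : Subgroup G) := Subgroup.mem_subgroupOf.mp h1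
    have h3 : (c : G) * v' = v' * c := Subgroup.mem_centralizer_singleton_iff.mp c.2
    apply hg (b⁻¹ * c)
    have h4 : (b⁻¹ * (c : G))⁻¹ * g * (b⁻¹ * c) = ((c : G)⁻¹ * u' * c) * v' := by
      have h5 : (c : G)⁻¹ * v' * c = v' := by
        rw [mul_assoc, ← h3]; group
      calc (b⁻¹ * (c : G))⁻¹ * g * (b⁻¹ * c) = (c : G)⁻¹ * (b * g * b⁻¹) * c := by group
        _ = (c : G)⁻¹ * (u' * v') * c := by
            congr 2
            rw [hu', hv']
            conv_lhs => rw [huv]
            group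
        _ = ((c : G)⁻¹ * u' * c) * ((c : G)⁻¹ * v' * c) := by group
        _ = ((c : G)⁻¹ * u' * c) * v' := by rw [h5]
    rw [h4]
    exact Subgroup.mul_mem _ ((le_sup_left : (P : Subgroup G) ≤ _) h2)
      ((le_sup_right : C ≤ (P : Subgroup G) ⊔ C) hv'C)
  have hPn : (P : Subgroup G).Normal := by
    rw [← Subgroup.normalizer_eq_top_iff, eq_top_iff, ← hT]
    exact sup_le Subgroup.le_normalizer (Subgroup.centralizer_le_normalizer _)
  refine ⟨hPn, ?_⟩
  have hcop : Nat.Coprime (Nat.card (P : Subgroup G)) (P : Subgroup G).index := by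
    obtain ⟨j, hj⟩ := P.2.exists_card_eq
    rw [hj]
    exact Nat.Coprime.pow_left _ ((Nat.Prime.coprime_iff_not_dvd hp).mpr P.not_dvd_index)
  obtain ⟨H, hH⟩ := Subgroup.exists_right_complement'_of_coprime hcop
  have hHcard : Nat.card H = (P : Subgroup G).index := by
    have h1 := hH.card_mul_card
    have h2 := (P : Subgroup G).card_mul_index
    rw [← h2] at h1
    exact Nat.eq_of_mul_eq_mul_left Nat.card_pos h1
  have hHp : ¬ p ∣ Nat.card H := by rw [hHcard]; exact P.not_dvd_index
  have hHC : ∀ y ∈ H, ∀ x ∈ (P : Subgroup G), x * y = y * x := by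
    intro y hy x hx
    have hy' : (orderOf y).Coprime p := by
      rw [Nat.coprime_comm, Nat.Prime.coprime_iff_not_dvd hp]
      intro hdvd
      apply hHp
      have h3 := orderOf_dvd_natCard (⟨y, hy⟩ : H)
      rw [Subgroup.orderOf_mk] at h3
      exact hdvd.trans h3
    obtain ⟨b, hb⟩ := H3.exists_conj_le_of_not_dvd_index (P : Subgroup G) _ P.2 (h y hy')
    have h1 : b * x * b⁻¹ ∈ (P : Subgroup G) := hPn.conj_mem x hx b
    have h2 := Subgroup.mem_centralizer_singleton_iff.mp (hb _ h1)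
    have h3 : b⁻¹ * (b * x * b⁻¹) * b = x := by group
    rw [h3] at h2
    exact h2
  refine ⟨H, ?_, hHp, hH.disjoint.eq_bot, hH.sup_eq_top⟩
  constructor
  intro y hy g
  have h1 : g ∈ (((P : Subgroup G) : Set G) * (H : Set G)) := by rw [hH.mul_eq]; trivial
  obtain ⟨x, hx, z, hz, rfl⟩ := Set.mem_mul.mp h1
  have h2 : z * y * z⁻¹ ∈ H := H.mul_mem (H.mul_mem hz hy) (H.inv_mem hz)
  have h3 := hHC _ h2 x hx
  have h4 : x * z * y * (x * z)⁻¹ = (x * (z * y * z⁻¹)) * x⁻¹ := by group
  rw [h4, h3, mul_inv_cancel_right]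
  exact h2

/-- Let G be a finite group and p a prime such that p divides the size of no conjugacy class of p-regular elements (elements of order prime to p). Then G is the internal direct product of a Sylow p-subgroup P and a normal subgroup H of order prime to p: P is normal, P ⊓ H = 1 and PH = G. -/
theorem result {G : Type*} [Group G] [Finite G] {p : ℕ} [Fact p.Prime]
    (h : ∀ x : G, (orderOf x).Coprime p → ¬ p ∣ (ConjClasses.mk x).carrier.ncard) (P : Sylow p G) :
    (P : Subgroup G).Normal ∧ ∃ H : Subgroup G, H.Normal ∧ ¬ p ∣ Nat.card H ∧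
      (P : Subgroup G) ⊓ H = ⊥ ∧ (P : Subgroup G) ⊔ H = ⊤ := by
  apply core _ P
  intro x hx
  rw [← H2.ncard_carrier_eq_index]
  exact h x hx

end Cfsg.Agent.S4035
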