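import Cfsg.Statements.S3986
import Cfsg.Agent.S4035

set_option autoImplicit false
open Cfsg

namespace Cfsg.Agent.S3986

/-- an element commuting with all primary `p'`-elements commutes with all `p'`-elements -/
theorem commute_of_primary {G : Type*} [Group G] [Finite G] (p : ℕ) [Fact p.Prime] (x : G)
    (h : ∀ y : G, (∃ q b : ℕ, q.Prime ∧ q ≠ p ∧ orderOf y = q ^ b) → x * y = y * x) :
    ∀ (n : ℕ) (y : G), orderOf y = n → (orderOf y).Coprime p → x * y = y * x := by
  intro n
  induction n using Nat.strong_induction_on with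
  | _ n ih =>
  intro y hn hy
  by_cases h1 : n = 1
  · rw [h1, orderOf_eq_one_iff] at hn
    rw [hn, mul_one, one_mul]
  obtain ⟨q, hq, hqn⟩ := Nat.exists_prime_and_dvd h1
  haveI : Fact q.Prime := ⟨hq⟩
  have hqp : q ≠ p := by
    rintro rfl
    rw [hn] at hy
    exact (Nat.Prime.coprime_iff_not_dvd hq).mp hy.symm hqn
  obtain ⟨a, ha, b, hb, hab, ⟨k, hak⟩, hbq⟩ := H1.exists_p_decomposition q y
  have hbd : orderOf b ∣ orderOf y := orderOf_dvd_of_mem_zpowers hb
  have hblt : orderOf b < n := by
    rw [← hn]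
    refine lt_of_le_of_ne (Nat.le_of_dvd (orderOf_pos y) hbd) ?_
    intro heq
    rw [heq, hn] at hbq
    exact (Nat.Prime.coprime_iff_not_dvd hq).mp hbq.symm hqn
  have hxb := ih _ hblt b rfl (hy.coprime_dvd_left hbd)
  obtain ⟨l, _, hl⟩ := (Nat.dvd_prime_pow hq).mp (orderOf_dvd_of_pow_eq_one hak)
  have hxa := h a ⟨q, l, hq, hqp, hl⟩
  rw [hab, ← mul_assoc, hxa, mul_assoc, hxb, mul_assoc]

/-- Let p be a prime and G a finite group. Then some Sylow p-subgroup of G is a direct factor of G (it is normal and has a normal complement) if and only if every element of p-power order commutes with every element whose order is a power of a prime other than p. -/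
theorem result {G : Type*} [Group G] [Finite G] (p : ℕ) [Fact p.Prime] : (∃ (P : Sylow p G) (K : Subgroup G), (P : Subgroup G).Normal ∧ K.Normal ∧ (P : Subgroup G) ⊓ K = ⊥ ∧ (P : Subgroup G) ⊔ K = ⊤) ↔ ∀ x y : G, (∃ a : ℕ, orderOf x = p ^ a) → (∃ q b : ℕ, q.Prime ∧ q ≠ p ∧ orderOf y = q ^ b) → x * y = y * x := by
  have hp : p.Prime := Fact.out
  constructor
  · rintro ⟨P, K, hPn, hKn, hdisj, hsup⟩ x y ⟨a, ha⟩ ⟨q, b, hq, hqp, hb⟩
    have hxP : x ∈ (P : Subgroup G) := by
      have h1 : IsPGroup p (Subgroup.zpowers x) := by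
        apply IsPGroup.of_card (n := a)
        rw [Nat.card_zpowers, ha]
      obtain ⟨Q, hQ⟩ := h1.exists_le_sylow
      haveI := Sylow.unique_of_normal P hPn
      have : Q = P := Subsingleton.elim _ _
      rw [← this]
      exact hQ (Subgroup.mem_zpowers x)
    have hyK : y ∈ K := by
      have hidx : K.index ∣ Nat.card (P : Subgroup G) := by
        have h1 : (K.relIndex (P : Subgroup G)) = K.index := by
          rw [← Subgroup.relIndex_sup_left, sup_comm, hsup, Subgroup.relIndex_top_right]
        rw [← h1]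
        exact Subgroup.relIndex_dvd_card _ _
      obtain ⟨n, hn⟩ := P.2.exists_card_eq
      rw [hn] at hidx
      obtain ⟨j, _, hj⟩ := (Nat.dvd_prime_pow hp).mp hidx
      have h1 : y ^ (p ^ j) ∈ K := by rw [← hj]; exact K.pow_index_mem y
      have h2 : (p ^ j).Coprime (orderOf y) := by
        rw [hb]
        exact Nat.Coprime.pow _ _ ((Nat.coprime_primes hp hq).mpr (Ne.symm hqp))
      obtain ⟨m, hm⟩ := exists_pow_eq_self_of_coprime h2
      rw [← hm]
      exact K.pow_mem h1 m
    exact (Subgroup.commute_of_normal_of_disjoint _ _ hPn hKn (disjoint_iff.mpr hdisj) x y hxP hyK).eq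
  · intro h
    obtain ⟨P⟩ : Nonempty (Sylow p G) := inferInstance
    have hcore := S4035.core (p := p) (G := G) (by
      intro y hy hdvd
      apply P.not_dvd_index
      have hle : (P : Subgroup G) ≤ Subgroup.centralizer ({y} : Set G) := by
        intro x hx
        rw [Subgroup.mem_centralizer_singleton_iff]
        have hx' : ∃ a : ℕ, orderOf x = p ^ a := by
          obtain ⟨a, ha⟩ := (IsPGroup.iff_orderOf.mp P.2) ⟨x, hx⟩
          exact ⟨a, by rwa [Subgroup.orderOf_mk] at ha⟩
        exact commute_of_primary p x (fun y' hy' => h x y' hx' hy') _ y rfl hy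
      exact hdvd.trans (Subgroup.index_dvd_of_le hle)) P
    obtain ⟨hPn, H, hHn, _, hd, hs⟩ := hcore
    exact ⟨P, H, hPn, hHn, hd, hs⟩

end Cfsg.Agent.S3986
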