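import Cfsg.Statements.S3987
import Cfsg.Agent.S3986

set_option autoImplicit false
open Cfsg

namespace Cfsg.Agent.S3987

theorem commute_of_index_mul {G : Type*} [Group G] [Finite G] (x y : G)
    (h : (Subgroup.centralizer ({x * y} : Set G)).index =
      (Subgroup.centralizer ({x} : Set G)).index * (Subgroup.centralizer ({y} : Set G)).index) :
    x * y = y * x := by
  rw [← H2.ncard_carrier_eq_index, ← H2.ncard_carrier_eq_index, ← H2.ncard_carrier_eq_index] at h
  set A := (ConjClasses.mk x).carrier with hA
  set B := (ConjClasses.mk y).carrier with hB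
  set Z := (ConjClasses.mk (x * y)).carrier with hZ
  let φ : G × G → G := fun t => t.1 * t.2
  have hmemA : ∀ g : G, g * x * g⁻¹ ∈ A := by
    intro g
    rw [hA, ConjClasses.mem_carrier_iff_mk_eq, ConjClasses.mk_eq_mk_iff_isConj]
    exact (isConj_iff.mpr ⟨g, rfl⟩).symm
  have hmemB : ∀ g : G, g * y * g⁻¹ ∈ B := by
    intro g
    rw [hB, ConjClasses.mem_carrier_iff_mk_eq, ConjClasses.mk_eq_mk_iff_isConj]
    exact (isConj_iff.mpr ⟨g, rfl⟩).symm
  have hsub : Z ⊆ φ '' (A ×ˢ B) := by
    intro z hz
    rw [hZ, ConjClasses.mem_carrier_iff_mk_eq, ConjClasses.mk_eq_mk_iff_isConj] at hz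
    obtain ⟨g, hg⟩ := isConj_iff.mp hz.symm
    refine ⟨(g * x * g⁻¹, g * y * g⁻¹), ⟨hmemA g, hmemB g⟩, ?_⟩
    show g * x * g⁻¹ * (g * y * g⁻¹) = z
    rw [← hg]; group
  have hcard : (φ '' (A ×ˢ B)).ncard = (A ×ˢ B).ncard := by
    apply le_antisymm (Set.ncard_image_le (Set.toFinite _))
    rw [Set.ncard_prod, ← h]
    exact Set.ncard_le_ncard hsub (Set.toFinite _)
  have hinj := Set.injOn_of_ncard_image_eq hcard (Set.toFinite _)
  have h1 : ((x, y) : G × G) ∈ A ×ˢ B := by
    refine ⟨?_, ?_⟩
    · simpa using hmemA 1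
    · simpa using hmemB 1
  have h2 : (((x * y) * x * (x * y)⁻¹, (x * y) * y * (x * y)⁻¹) : G × G) ∈ A ×ˢ B :=
    ⟨hmemA _, hmemB _⟩
  have h3 := hinj h1 h2 (by show x * y = (x * y) * x * (x * y)⁻¹ * ((x * y) * y * (x * y)⁻¹); group)
  have h4 : x = (x * y) * x * (x * y)⁻¹ := congrArg Prod.fst h3
  have h5 : x * (x * y) = (x * y) * x := by
    calc x * (x * y) = ((x * y) * x * (x * y)⁻¹) * (x * y) := by rw [← h4]
      _ = (x * y) * x := by group
  have h6 : x * (x * y) = x * (y * x) := by rw [h5]; group
  exact mul_left_cancel h6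

/-- Let p be a prime and G a finite group. Then some Sylow p-subgroup of G is a direct factor of G (normal with a normal complement) if and only if for every element x of p-power order and every element y whose order is a power of a prime other than p, the conjugacy class of x y has as many elements as the product of the sizes of the classes of x and of y. -/
theorem result {G : Type*} [Group G] [Finite G] (p : ℕ) [Fact p.Prime] : (∃ (P : Sylow p G) (K : Subgroup G), (P : Subgroup G).Normal ∧ K.Normal ∧ (P : Subgroup G) ⊓ K = ⊥ ∧ (P : Subgroup G) ⊔ K = ⊤) ↔ ∀ x y : G, (∃ a : ℕ, orderOf x = p ^ a) → (∃ q b : ℕ, q.Prime ∧ q ≠ p ∧ orderOf y = q ^ b) → (Subgroup.centralizer ({x * y} : Set G)).index = (Subgroup.centralizer ({x} : Set G)).index * (Subgroup.centralizer ({y} : Set G)).index := by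
  have hp : p.Prime := Fact.out
  constructor
  · intro hex x y hx hy
    have hall := (S3986.result p).mp hex
    have hxy : Commute x y := hall x y hx hy
    obtain ⟨P, K, hPn, hKn, hdisj, hsup⟩ := hex
    obtain ⟨a, ha⟩ := hx
    obtain ⟨q, b, hq, hqp, hb⟩ := hy
    have hco : (orderOf x).Coprime (orderOf y) := by
      rw [ha, hb]
      exact Nat.Coprime.pow _ _ ((Nat.coprime_primes hp hq).mpr (Ne.symm hqp))
    have hC : Subgroup.centralizer ({x * y} : Set G) =
        Subgroup.centralizer ({x} : Set G) ⊓ Subgroup.centralizer ({y} : Set G) := by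
      apply le_antisymm
      · exact le_inf (H3.centralizer_le_of_mem_zpowers (H3.mem_zpowers_mul_of_coprime hxy hco))
          (H3.centralizer_le_of_mem_zpowers (H3.mem_zpowers_mul_of_coprime' hxy hco))
      · intro c hc
        obtain ⟨h1, h2⟩ := Subgroup.mem_inf.mp hc
        rw [Subgroup.mem_centralizer_singleton_iff] at h1 h2 ⊢
        rw [← mul_assoc, h1, mul_assoc, h2, mul_assoc]
    -- `P ≤ C(y)`
    have hPy : (P : Subgroup G) ≤ Subgroup.centralizer ({y} : Set G) := by
      intro z hz
      rw [Subgroup.mem_centralizer_singleton_iff]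
      have hz' : ∃ a : ℕ, orderOf z = p ^ a := by
        obtain ⟨a, ha⟩ := (IsPGroup.iff_orderOf.mp P.2) ⟨z, hz⟩
        exact ⟨a, by rwa [Subgroup.orderOf_mk] at ha⟩
      exact hall z y hz' ⟨q, b, hq, hqp, hb⟩
    have hxP : x ∈ (P : Subgroup G) := by
      have h1 : IsPGroup p (Subgroup.zpowers x) := by
        apply IsPGroup.of_card (n := a)
        rw [Nat.card_zpowers, ha]
      obtain ⟨Q, hQ⟩ := h1.exists_le_sylow
      haveI := Sylow.unique_of_normal P hPn
      have : Q = P := Subsingleton.elim _ _
      rw [← this]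
      exact hQ (Subgroup.mem_zpowers x)
    have hKx : K ≤ Subgroup.centralizer ({x} : Set G) := by
      intro z hz
      rw [Subgroup.mem_centralizer_singleton_iff]
      exact (Subgroup.commute_of_normal_of_disjoint _ _ hPn hKn (disjoint_iff.mpr hdisj) x z hxP
        hz).symm.eq
    have hidxK : K.index ∣ Nat.card (P : Subgroup G) := by
      have h1 : (K.relIndex (P : Subgroup G)) = K.index := by
        rw [← Subgroup.relIndex_sup_left, sup_comm, hsup, Subgroup.relIndex_top_right]
      rw [← h1]
      exact Subgroup.relIndex_dvd_card _ _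
    have hcop : ((Subgroup.centralizer ({x} : Set G)).index).Coprime
        ((Subgroup.centralizer ({y} : Set G)).index) := by
      obtain ⟨n, hn⟩ := P.2.exists_card_eq
      have h1 : (Subgroup.centralizer ({x} : Set G)).index ∣ p ^ n := by
        rw [← hn]; exact (Subgroup.index_dvd_of_le hKx).trans hidxK
      have h2 : (Subgroup.centralizer ({y} : Set G)).index ∣ (P : Subgroup G).index :=
        Subgroup.index_dvd_of_le hPy
      have h3 : (p ^ n).Coprime (P : Subgroup G).index :=
        Nat.Coprime.pow_left _ ((Nat.Prime.coprime_iff_not_dvd hp).mpr P.not_dvd_index)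
      exact (h3.coprime_dvd_left h1).coprime_dvd_right h2
    rw [hC]
    apply le_antisymm Subgroup.index_inf_le
    apply Nat.le_of_dvd (Nat.pos_of_ne_zero Subgroup.index_ne_zero_of_finite)
    exact hcop.mul_dvd_of_dvd_of_dvd (Subgroup.index_dvd_of_le inf_le_left)
      (Subgroup.index_dvd_of_le inf_le_right)
  · intro h
    apply (S3986.result p).mpr
    intro x y hx hy
    exact commute_of_index_mul x y (h x y hx hy)

end Cfsg.Agent.S3987
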