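import Cfsg.Statements.S3992
import Cfsg.Agent.S3633
import Cfsg.Agent.Lib_helper2_Solv
import Cfsg.Agent.Lib_helper3_Solv
import Cfsg.Agent.Lib_helper4_CharD
import Mathlib

set_option autoImplicit false
set_option linter.style.haveILetI false

open Cfsg

namespace Cfsg.Agent.S3992

lemma exists_other_prime {X : Type*} [Group X] [Finite X] (hX : ¬ Group.IsSolvable X) (p : ℕ)
    (hp : p.Prime) : ∃ q : ℕ, q.Prime ∧ q ≠ p ∧ q ∣ Nat.card X := by
  by_contra hcon
  haveI : Fact p.Prime := ⟨hp⟩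
  have h := Nat.eq_prime_pow_of_unique_prime_dvd (p := p) (n := Nat.card X) Nat.card_pos.ne'
    (fun {d} hd hdv => by
      by_contra hne
      exact hcon ⟨d, hd, hne, hdv⟩)
  exact hX (Cfsg.Agent.H2.isSolvable_of_isPGroup' (IsPGroup.of_card h))

def Inv {Q : Type*} [Group Q] (M T : Subgroup Q) : Prop :=
  T ≤ M ∧ ∀ m ∈ M, ∀ t ∈ T, m * t * m⁻¹ ∈ T

abbrev cj {Q : Type*} [Group Q] (g : Q) (T : Subgroup Q) : Subgroup Q :=
  T.map (MulAut.conj g).toMonoidHom

lemma mem_cj {Q : Type*} [Group Q] (g x : Q) (T : Subgroup Q) :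
    x ∈ cj g T ↔ ∃ t ∈ T, g * t * g⁻¹ = x := by
  simp [cj, Subgroup.mem_map]

lemma inv_cj {Q : Type*} [Group Q] (M T : Subgroup Q) (hM : M.Normal) (h : Inv M T) (g : Q) :
    Inv M (cj g T) := by
  constructor
  · intro x hx
    obtain ⟨t, ht, rfl⟩ := (mem_cj g x T).1 hx
    exact hM.conj_mem t (h.1 ht) g
  · intro m hm x hx
    obtain ⟨t, ht, rfl⟩ := (mem_cj g x T).1 hx
    refine (mem_cj g _ T).2 ⟨(g⁻¹ * m * g) * t * (g⁻¹ * m * g)⁻¹, h.2 _ ?_ t ht, by group⟩
    have := hM.conj_mem m hm g⁻¹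
    simpa using this

lemma inv_inf {Q : Type*} [Group Q] (M U Y : Subgroup Q) (hU : Inv M U) (hY : Inv M Y) :
    Inv M (U ⊓ Y) :=
  ⟨inf_le_left.trans hU.1, fun m hm t ht => ⟨hU.2 m hm t ht.1, hY.2 m hm t ht.2⟩⟩

lemma inv_sup {Q : Type*} [Group Q] (M U Y : Subgroup Q) (hU : Inv M U) (hY : Inv M Y) :
    Inv M (U ⊔ Y) := by
  refine ⟨sup_le hU.1 hY.1, ?_⟩
  intro m hm t ht
  have h1 : (U ⊔ Y).map (MulAut.conj m).toMonoidHom ≤ U ⊔ Y := by
    rw [Subgroup.map_sup]
    apply sup_le_sup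
    · rintro x ⟨u, hu, rfl⟩; exact hU.2 m hm u hu
    · rintro x ⟨y, hy, rfl⟩; exact hY.2 m hm y hy
  exact h1 ⟨t, ht, rfl⟩

lemma structure_lemma {Q : Type*} [Group Q] [Finite Q] [Nontrivial Q]
    (P1 : ∀ p q : ℕ, p.Prime → q.Prime → p ≠ q → ∀ a b : Q, Commute a b → orderOf a = p →
      orderOf b = q → False)
    (P2 : ∀ N : Subgroup Q, N.Normal → N ≠ ⊥ → ¬ Group.IsSolvable N) :
    ∃ M : Subgroup Q, M.Normal ∧ IsSimpleGroup M ∧ ¬ IsMulCommutative M ∧
      ∀ N : Subgroup Q, N.Normal → N ≠ ⊥ → M ≤ N := by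
  classical
  have D : ∀ A B : Subgroup Q, (∀ a ∈ A, ∀ b ∈ B, a * b = b * a) → ¬ Group.IsSolvable A →
      ¬ Group.IsSolvable B → False := by
    intro A B hAB hA hB
    obtain ⟨p, hp, -, hpA⟩ := exists_other_prime hA 2 Nat.prime_two
    obtain ⟨q, hq, hqp, hqB⟩ := exists_other_prime hB p hp
    haveI : Fact p.Prime := ⟨hp⟩
    haveI : Fact q.Prime := ⟨hq⟩
    obtain ⟨a, ha⟩ := exists_prime_orderOf_dvd_card' (G := A) p hpA
    obtain ⟨b, hb⟩ := exists_prime_orderOf_dvd_card' (G := B) q hqB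
    exact P1 p q hp hq hqp.symm a b (hAB a a.2 b b.2) (by rw [Subgroup.orderOf_coe, ha])
      (by rw [Subgroup.orderOf_coe, hb])
  obtain ⟨M, ⟨hMn, hM1⟩, hMmin⟩ := WellFounded.has_min (wellFounded_lt (α := Subgroup Q))
    {N : Subgroup Q | N.Normal ∧ N ≠ ⊥} ⟨⊤, inferInstance, top_ne_bot⟩
  have huniq : ∀ N : Subgroup Q, N.Normal → N ≠ ⊥ → M ≤ N := by
    intro N hN hN1
    by_cases h : M ⊓ N = ⊥
    · exfalso
      apply D M N _ (P2 M hMn hM1) (P2 N hN hN1)
      intro a ha b hb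
      exact Subgroup.commute_of_normal_of_disjoint M N hMn hN (disjoint_iff.2 h) a b ha hb
    · have h1 : ¬ (M ⊓ N < M) := hMmin _ ⟨inferInstance, h⟩
      have h2 : M ⊓ N = M := by
        by_contra hne
        exact h1 (lt_of_le_of_ne inf_le_left hne)
      exact inf_eq_left.1 h2
  have hnons : ∀ U : Subgroup Q, Inv M U → U ≠ ⊥ → ¬ Group.IsSolvable U := by
    intro U hU hU1 hUs
    obtain ⟨Y, ⟨hYi, hYs⟩, hYmax⟩ := WellFounded.has_min (wellFounded_gt (α := Subgroup Q))
      {Y : Subgroup Q | Inv M Y ∧ Group.IsSolvable Y} ⟨U, hU, hUs⟩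
    have hle : ∀ W : Subgroup Q, Inv M W → Group.IsSolvable W → W ≤ Y := by
      intro W hW hWs
      have hWn : W ≤ Subgroup.normalizer (Y : Set Q) := by
        intro w hw
        rw [Subgroup.mem_normalizer_iff]
        intro y
        constructor
        · intro hy; exact hYi.2 w (hW.1 hw) y hy
        · intro hy
          have := hYi.2 w⁻¹ (M.inv_mem (hW.1 hw)) _ hy
          simpa [mul_assoc] using this
      have hs : Group.IsSolvable (Y ⊔ W : Subgroup Q) :=
        Cfsg.Agent.H3.isSolvable_sup_of_le_normalizer hWn hYs hWs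
      have h1 := hYmax (Y ⊔ W) ⟨inv_sup M Y W hYi hW, hs⟩
      by_contra hn
      apply h1
      refine lt_of_le_of_ne le_sup_left ?_
      intro e
      apply hn
      rw [e]
      exact le_sup_right
    have hYn : Y.Normal := ⟨fun y hy g => hle (cj g Y) (inv_cj M Y hMn hYi g)
      (Group.isSolvable_of_surjective ((MulAut.conj g).toMonoidHom.subgroupMap_surjective Y))
      ((mem_cj g _ Y).2 ⟨y, hy, rfl⟩)⟩
    have hY0 : Y = ⊥ := by
      by_contra h
      exact P2 Y hYn h hYs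
    exact hU1 (le_bot_iff.1 (hY0 ▸ hle U hU hUs))
  obtain ⟨T, ⟨hTi, hT1⟩, hTmin⟩ := WellFounded.has_min (wellFounded_lt (α := Subgroup Q))
    {T : Subgroup Q | Inv M T ∧ T ≠ ⊥} ⟨M, ⟨le_rfl, fun m hm t ht => hMn.conj_mem t ht m⟩, hM1⟩
  have hTg : ∀ g : Q, cj g T = T := by
    intro g
    have hci := inv_cj M T hMn hTi g
    have hcard : Nat.card (cj g T) = Nat.card T :=
      Subgroup.card_map_of_injective (MulAut.conj g).injective
    by_cases h : T ⊓ cj g T = ⊥
    · exfalso
      have hc1 : cj g T ≠ ⊥ := by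
        intro e
        rw [e, Subgroup.card_bot] at hcard
        exact hT1 (Subgroup.eq_bot_of_card_eq T hcard.symm)
      apply D T (cj g T) _ (hnons T hTi hT1) (hnons _ hci hc1)
      intro a ha b hb
      have hmem : a * b * a⁻¹ * b⁻¹ ∈ T ⊓ cj g T := by
        constructor
        · have := T.mul_mem ha (hTi.2 b (hci.1 hb) a⁻¹ (T.inv_mem ha))
          simpa [mul_assoc] using this
        · exact (cj g T).mul_mem (hci.2 a (hTi.1 ha) b hb) ((cj g T).inv_mem hb)
      rw [h, Subgroup.mem_bot] at hmem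
      have : a * b = b * a := by
        have h2 := mul_inv_eq_one.1 hmem
        exact mul_inv_eq_iff_eq_mul.1 h2
      exact this
    · have hlt := hTmin _ ⟨inv_inf M T _ hTi hci, h⟩
      have he : T ⊓ cj g T = T := by
        by_contra hne
        exact hlt (lt_of_le_of_ne inf_le_left hne)
      have hle : T ≤ cj g T := inf_eq_left.1 he
      exact (Subgroup.eq_of_le_of_card_ge hle hcard.le).symm
  have hTn : T.Normal := ⟨fun t ht g => by
    have : g * t * g⁻¹ ∈ cj g T := (mem_cj g _ T).2 ⟨t, ht, rfl⟩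
    rwa [hTg g] at this⟩
  have hTM : T = M := by
    have := hMmin T ⟨hTn, hT1⟩
    by_contra hne
    exact this (lt_of_le_of_ne hTi.1 hne)
  refine ⟨M, hMn, ?_, ?_, huniq⟩
  · haveI : Nontrivial M := (Subgroup.nontrivial_iff_ne_bot M).2 hM1
    refine ⟨fun U hU => ?_⟩
    by_cases hU1 : U = ⊥
    · left; exact hU1
    right
    have hUi : Inv M (U.map M.subtype) := ⟨Subgroup.map_subtype_le U, fun m hm t ht => by
      obtain ⟨u, hu, rfl⟩ := ht
      exact ⟨⟨m, hm⟩ * u * ⟨m, hm⟩⁻¹, hU.conj_mem u hu ⟨m, hm⟩, rfl⟩⟩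
    have hU'1 : U.map M.subtype ≠ ⊥ := fun e =>
      hU1 ((Subgroup.map_eq_bot_iff_of_injective _ M.subtype_injective).1 e)
    have h1 := hTmin _ ⟨hUi, hU'1⟩
    have hU'M : U.map M.subtype = M := by
      rw [hTM] at h1
      by_contra hne
      exact h1 (lt_of_le_of_ne hUi.1 hne)
    rw [eq_top_iff]
    intro x _
    have hx : (x : Q) ∈ U.map M.subtype := by rw [hU'M]; exact x.2
    obtain ⟨u, hu, hux⟩ := hx
    have : u = x := Subtype.ext hux
    exact this ▸ hu
  · intro hc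
    apply P2 M hMn hM1
    exact Group.isSolvable_of_comm (fun a b => hc.is_comm.comm a b)

lemma not_isPrimePow_mul (p q : ℕ) (hp : p.Prime) (hq : q.Prime) (hpq : p ≠ q) :
    ¬ IsPrimePow (p * q) := by
  rintro ⟨r, k, hr, hk, e⟩
  have hr' : r.Prime := hr.nat_prime
  have h1 : p ∣ r ^ k := e ▸ dvd_mul_right p q
  have h2 : q ∣ r ^ k := e ▸ dvd_mul_left q p
  have e1 := (Nat.prime_dvd_prime_iff_eq hp hr').1 (hp.dvd_of_dvd_pow h1)
  have e2 := (Nat.prime_dvd_prime_iff_eq hq hr').1 (hq.dvd_of_dvd_pow h2)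
  exact hpq (e1.trans e2.symm)

/-- Let G be a finite non-solvable group in which every element has prime-power order, and let R be its largest solvable normal subgroup. Then R is a p-group for some prime p; G/R has a non-abelian simple normal subgroup contained in every nontrivial normal subgroup of G/R (its unique minimal normal subgroup); and the order of every solvable subgroup of G has at most two prime divisors. -/
theorem result {G : Type*} [Group G] [Finite G] (hns : ¬ Group.IsSolvable G) (hpp : ∀ g : G, g ≠ 1 → IsPrimePow (orderOf g))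
    (R : Subgroup G) [R.Normal] (hRs : Group.IsSolvable ↥R) (hRmax : ∀ N : Subgroup G, N.Normal → Group.IsSolvable ↥N → N ≤ R) :
    (∃ p : ℕ, p.Prime ∧ IsPGroup p ↥R) ∧
      (∃ M : Subgroup (G ⧸ R), M.Normal ∧ IsSimpleGroup ↥M ∧ ¬ IsMulCommutative ↥M ∧
        ∀ N : Subgroup (G ⧸ R), N.Normal → N ≠ ⊥ → M ≤ N) ∧
      ∀ H : Subgroup G, Group.IsSolvable ↥H → (Nat.card ↥H).primeFactors.card ≤ 2 := by

  classical
  have E : ∀ p q : ℕ, p.Prime → q.Prime → p ≠ q → ¬ ∃ x : G, orderOf x = p * q := by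
    rintro p q hp hq hpq ⟨x, hx⟩
    have hx1 : x ≠ 1 := by
      rintro rfl
      rw [orderOf_one] at hx
      have := Nat.mul_le_mul hp.two_le hq.two_le
      omega
    exact not_isPrimePow_mul p q hp hq hpq (hx ▸ hpp x hx1)
  refine ⟨?_, ?_, ?_⟩
  · -- R is a p-group
    by_cases hR : Nat.card R = 1
    · refine ⟨2, Nat.prime_two, ?_⟩
      haveI : Fact (Nat.Prime 2) := ⟨Nat.prime_two⟩
      exact IsPGroup.of_card (n := 0) (by rw [hR, pow_zero])
    obtain ⟨p, hp, hpR⟩ := Nat.exists_prime_and_dvd hR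
    refine ⟨p, hp, ?_⟩
    haveI : Fact p.Prime := ⟨hp⟩
    refine IsPGroup.of_card (Nat.eq_prime_pow_of_unique_prime_dvd (p := p) Nat.card_pos.ne' ?_)
    intro q hq hqR
    by_contra hqp
    -- third prime
    obtain ⟨a, n', hn', e1⟩ := Nat.exists_eq_pow_mul_and_not_dvd (n := Nat.card G) Nat.card_pos.ne' p
      hp.ne_one
    have hn'0 : n' ≠ 0 := by
      rintro rfl
      exact hn' (dvd_zero p)
    obtain ⟨b, n'', hn'', e2⟩ := Nat.exists_eq_pow_mul_and_not_dvd (n := n') hn'0 q hq.ne_one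
    by_cases h1 : n'' = 1
    · apply hns
      exact Cfsg.Agent.H4.burnside_paqb p q a b hp hq (by rw [e1, e2, h1, mul_one])
    obtain ⟨t, ht, htn⟩ := Nat.exists_prime_and_dvd h1
    have htq : t ≠ q := by
      rintro rfl
      exact hn'' htn
    have htn' : t ∣ n' := e2 ▸ Dvd.dvd.mul_left htn _
    have htp : t ≠ p := by
      rintro rfl
      exact hn' htn'
    have htG : t ∣ Nat.card G := e1 ▸ Dvd.dvd.mul_left htn' _
    rcases Cfsg.Agent.S3633.main _ R inferInstance hRs rfl p q t hp hq ht (Ne.symm hqp) htp.symm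
      htq.symm hpR hqR htG with h | h | h
    · exact E p q hp hq (Ne.symm hqp) h
    · exact E p t hp ht htp.symm h
    · exact E q t hq ht htq.symm h
  · -- structure of G / R
    haveI : Nontrivial (G ⧸ R) := by
      by_contra hnt
      rw [not_nontrivial_iff_subsingleton] at hnt
      apply hns
      refine Group.isSolvable_of_surjective (f := R.subtype) ?_
      intro x
      have : (QuotientGroup.mk x : G ⧸ R) = 1 := Subsingleton.elim _ _
      exact ⟨⟨x, (QuotientGroup.eq_one_iff x).1 this⟩, rfl⟩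
    apply structure_lemma
    · intro p q hp hq hpq a b hab ha hb
      have ho := hab.orderOf_mul_eq_mul_orderOf_of_coprime
        (by rw [ha, hb]; exact (Nat.coprime_primes hp hq).2 hpq)
      rw [ha, hb] at ho
      obtain ⟨x, hx⟩ := QuotientGroup.mk'_surjective R (a * b)
      have hdvd : p * q ∣ orderOf x := by
        rw [← ho, ← hx]
        exact orderOf_map_dvd (QuotientGroup.mk' R) x
      exact E p q hp hq hpq ⟨_, orderOf_pow_orderOf_div (orderOf_pos x).ne' hdvd⟩
    · intro N hN hN1 hNs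
      apply hN1
      have hRN : R ≤ N.comap (QuotientGroup.mk' R) := by
        intro x hx
        rw [Subgroup.mem_comap]
        have : QuotientGroup.mk' R x = 1 := (QuotientGroup.eq_one_iff x).2 hx
        rw [this]; exact N.one_mem
      have hsol : Group.IsSolvable (N.comap (QuotientGroup.mk' R)) := by
        apply Group.isSolvable_of_ker_le_range (Subgroup.inclusion hRN)
          ((QuotientGroup.mk' R).subgroupComap N)
        intro x hx
        rw [MonoidHom.mem_ker] at hx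
        have h1 : QuotientGroup.mk' R (x : G) = 1 := congrArg Subtype.val hx
        have h2 : (x : G) ∈ R := (QuotientGroup.eq_one_iff _).1 h1
        exact ⟨⟨x, h2⟩, Subtype.ext rfl⟩
      have hle := hRmax _ inferInstance hsol
      rw [Subgroup.eq_bot_iff_forall]
      intro y hy
      obtain ⟨x, rfl⟩ := QuotientGroup.mk'_surjective R y
      exact (QuotientGroup.eq_one_iff x).2 (hle hy)
  · intro H hH
    by_contra hcon
    obtain ⟨a, b, c, ha, hb, hc, hab, hac, hbc⟩ :=
      Finset.two_lt_card_iff.1 (show 2 < (Nat.card H).primeFactors.card by omega)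
    have ha' := Nat.mem_primeFactors.1 ha
    have hb' := Nat.mem_primeFactors.1 hb
    have hc' := Nat.mem_primeFactors.1 hc
    have key := Cfsg.Agent.S3633.main (G := H) _ ⊤ inferInstance inferInstance rfl a b c ha'.1 hb'.1
      hc'.1 hab hac hbc (by rw [Subgroup.card_top]; exact ha'.2.1)
      (by rw [Subgroup.card_top]; exact hb'.2.1) hc'.2.1
    rcases key with ⟨x, hx⟩ | ⟨x, hx⟩ | ⟨x, hx⟩
    · exact E a b ha'.1 hb'.1 hab ⟨(x : G), by rw [Subgroup.orderOf_coe, hx]⟩
    · exact E a c ha'.1 hc'.1 hac ⟨(x : G), by rw [Subgroup.orderOf_coe, hx]⟩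
    · exact E b c hb'.1 hc'.1 hbc ⟨(x : G), by rw [Subgroup.orderOf_coe, hx]⟩

end Cfsg.Agent.S3992
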