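import Cfsg.Statements.S4002
import Cfsg.Agent.S3633
import Mathlib

set_option autoImplicit false
set_option linter.style.haveILetI false

open Cfsg

namespace Cfsg.Agent.S4002

lemma three_primes (n : ℕ) (hn : 7 ≤ n) : ∃ a b c : ℕ, a.Prime ∧ b.Prime ∧ c.Prime ∧ a < b ∧ b < c ∧
    c ≤ n ∧ n < a * b := by
  by_cases h1 : n ≤ 14
  · exact ⟨3, 5, 7, by norm_num, by norm_num, by norm_num, by norm_num, by norm_num, hn, by omega⟩
  by_cases h2 : n ≤ 34
  · exact ⟨5, 7, 11, by norm_num, by norm_num, by norm_num, by norm_num, by norm_num, by omega,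
      by omega⟩
  have hm : 4 ≤ n / 8 := by omega
  obtain ⟨a, ha, ha1, ha2⟩ := Nat.exists_prime_lt_and_le_two_mul (n / 8) (by omega)
  obtain ⟨b, hb, hb1, hb2⟩ := Nat.exists_prime_lt_and_le_two_mul (2 * (n / 8)) (by omega)
  obtain ⟨c, hc, hc1, hc2⟩ := Nat.exists_prime_lt_and_le_two_mul (4 * (n / 8)) (by omega)
  refine ⟨a, b, c, ha, hb, hc, by omega, by omega, by omega, ?_⟩
  have h3 : (n / 8 + 1) * (2 * (n / 8) + 1) ≤ a * b := Nat.mul_le_mul ha1 hb1
  have h4 : n < 8 * (n / 8 + 1) := by omega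
  have h5 : 8 * (n / 8 + 1) ≤ (n / 8 + 1) * (2 * (n / 8) + 1) := by
    rw [mul_comm 8]
    exact Nat.mul_le_mul_left _ (by omega)
  omega

/-- If the set of element orders of a finite group G is {1, 2, …, n} with n ≥ 7, then G is not solvable. -/
theorem result {G : Type*} [Group G] [Finite G] (n : ℕ) (hn : 7 ≤ n) (h : Set.range (orderOf : G → ℕ) = {k : ℕ | 1 ≤ k ∧ k ≤ n}) : ¬ Group.IsSolvable G := by

  intro hsol
  haveI := hsol
  obtain ⟨a, b, c, ha, hb, hc, hab, hbc, hcn, hn'⟩ := three_primes n hn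
  have hdvd : ∀ k : ℕ, 1 ≤ k → k ≤ n → k ∣ Nat.card (⊤ : Subgroup G) := by
    intro k h1 h2
    have : k ∈ Set.range (orderOf : G → ℕ) := by rw [h]; exact ⟨h1, h2⟩
    obtain ⟨g, rfl⟩ := this
    rw [Subgroup.card_top]
    exact orderOf_dvd_natCard g
  have hno : ∀ k : ℕ, n < k → ¬ ∃ x : G, orderOf x = k := by
    rintro k hk ⟨x, rfl⟩
    have : orderOf x ∈ Set.range (orderOf : G → ℕ) := ⟨x, rfl⟩
    rw [h] at this
    exact absurd this.2 (by omega)
  have hac : n < a * c := lt_of_lt_of_le hn' (Nat.mul_le_mul_left a hbc.le)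
  have hbc' : n < b * c := lt_of_lt_of_le hn' (Nat.mul_le_mul hab.le hbc.le)
  have hcG : c ∣ Nat.card G := by
    have := hdvd c hc.one_lt.le hcn
    rwa [Subgroup.card_top] at this
  rcases Cfsg.Agent.S3633.main _ (⊤ : Subgroup G) inferInstance inferInstance rfl a b c ha hb hc
    hab.ne (hab.trans hbc).ne hbc.ne (hdvd a ha.one_lt.le (by omega)) (hdvd b hb.one_lt.le (by omega))
    hcG with h' | h' | h'
  · exact hno _ hn' h'
  · exact hno _ hac h'
  · exact hno _ hbc' h'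

end Cfsg.Agent.S4002
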