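import Cfsg.Statements.S4075
import Cfsg.Agent.S1477

set_option autoImplicit false
open Cfsg

namespace Cfsg.Agent.S4075

/-- Let G be a finite nilpotent group. Every non-abelian subgroup of G is self-normalizing if and only if G is abelian or G is a minimal non-abelian p-group for some prime p (non-abelian of prime-power order with every proper subgroup abelian). -/
theorem result {G : Type*} [Group G] [Finite G]
    [Group.IsNilpotent G] :
    (∀ H : Subgroup G, ¬ IsMulCommutative H → Subgroup.normalizer (H : Set G) = H) ↔
    (IsMulCommutative G ∨ (IsPrimePow (Nat.card G) ∧ ¬ IsMulCommutative G ∧ ∀ H : Subgroup G, H ≠ ⊤ → IsMulCommutative H)) := by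
  classical
  constructor
  · intro h
    by_cases hG : IsMulCommutative G
    · exact Or.inl hG
    right
    have hprop : ∀ H : Subgroup G, H ≠ ⊤ → IsMulCommutative H := by
      intro H hH
      by_contra hc
      have h1 := h H hc
      have h2 := Group.normalizerCondition_of_isNilpotent (G := G) H (lt_top_iff_ne_top.mpr hH)
      rw [h1] at h2
      exact lt_irrefl _ h2
    refine ⟨?_, hG, hprop⟩
    by_contra hpp
    apply hG
    have hsyl : ∀ (q : ℕ) [Fact q.Prime] (Q : Sylow q G), IsMulCommutative (Q : Subgroup G) := by
      intro q _ Q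
      apply hprop
      intro hQ
      apply hpp
      obtain ⟨n, hn⟩ := Q.isPGroup'.exists_card_eq
      rw [hQ, Subgroup.card_top] at hn
      rw [hn]
      refine (Fact.out : q.Prime).isPrimePow.pow ?_
      rintro rfl
      rw [pow_zero] at hn
      apply hG
      haveI : Subsingleton G := (Nat.card_eq_one_iff_unique.mp hn).1
      exact ⟨⟨fun a b => Subsingleton.elim _ _⟩⟩
    have hcomm : ∀ (q : ℕ) [Fact q.Prime] (Q : Sylow q G), ∀ e ∈ (Q : Subgroup G), ∀ g : G,
        g * e = e * g := by
      intro q _ Q e he
      have htop : Subgroup.centralizer ({e} : Set G) = ⊤ := by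
        apply Cfsg.Agent.S1477.eq_top_of_sylow
        intro r _
        by_cases hrq : r = q
        · subst hrq
          refine ⟨Q, fun t ht => ?_⟩
          rw [Subgroup.mem_centralizer_singleton_iff]
          exact congrArg Subtype.val ((hsyl r Q).is_comm.comm ⟨t, ht⟩ ⟨e, he⟩)
        · refine ⟨default, fun t ht => ?_⟩
          rw [Subgroup.mem_centralizer_singleton_iff]
          obtain ⟨k, hk⟩ := Q.isPGroup' ⟨e, he⟩
          have hk' : e ^ q ^ k = 1 := congrArg Subtype.val hk
          obtain ⟨j, hj⟩ := (IsPGroup.iff_orderOf.mp (default : Sylow r G).isPGroup') ⟨t, ht⟩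
          rw [Subgroup.orderOf_mk] at hj
          exact (Cfsg.Agent.S3939.commute_of_nilpotent hk' (by
            rw [hj]
            exact Nat.Coprime.pow_left _ ((Nat.coprime_primes Fact.out Fact.out).mpr hrq))).eq.symm
      intro g
      exact Subgroup.mem_centralizer_singleton_iff.mp (htop ▸ Subgroup.mem_top g)
    have hcen : Subgroup.center G = ⊤ := by
      apply Cfsg.Agent.S1477.eq_top_of_sylow
      intro q _
      refine ⟨default, fun e he => ?_⟩
      rw [Subgroup.mem_center_iff]
      exact fun g => hcomm q default e he g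
    exact ⟨⟨fun a b => by
      have : b ∈ Subgroup.center G := hcen ▸ Subgroup.mem_top b
      exact Subgroup.mem_center_iff.mp this a⟩⟩
  · rintro (hG | ⟨-, -, hprop⟩) H hH
    · exact absurd ⟨⟨fun a b => Subtype.ext (hG.is_comm.comm a.1 b.1)⟩⟩ hH
    · have : H = ⊤ := by
        by_contra hne
        exact hH (hprop H hne)
      rw [this]
      exact Subgroup.normalizer_eq_top (H := (⊤ : Subgroup G))

end Cfsg.Agent.S4075
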