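import Cfsg.Statements.S4113


set_option autoImplicit false
open Cfsg

namespace Cfsg.Agent.S4113

/-- Let G be a finite group, M ≤ N non-trivial proper normal subgroups, and H a subgroup with HM = G and H ∩ M = 1. Then every element of G outside N acts fixed-point-freely on M (C_G(x) ≤ N for every x ∈ M, x ≠ 1) if and only if H ∩ gHg⁻¹ ≤ H ∩ N for every g outside H, with H proper and non-trivial and H ∩ N proper in H. -/
theorem result {G : Type*} [Group G] [Finite G] (N M : Subgroup G) [N.Normal] [M.Normal] (hMN : M ≤ N) (hM1 : M ≠ ⊥) (hN2 : N ≠ ⊤)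
    (H : Subgroup G) (hHM : H ⊔ M = ⊤) (hHM' : H ⊓ M = ⊥) :
    (∀ x ∈ M, x ≠ 1 → Subgroup.centralizer ({x} : Set G) ≤ N) ↔
      (H ≠ ⊥ ∧ H ≠ ⊤ ∧ H ⊓ N < H ∧ ∀ g : G, g ∉ H → H ⊓ H.map (MulAut.conj g).toMonoidHom ≤ N) := by
  classical
  -- decomposition G = M H
  have hdec : ∀ g : G, ∃ m ∈ M, ∃ h ∈ H, g = m * h := by
    intro g
    have hg : g ∈ H ⊔ M := hHM ▸ Subgroup.mem_top g
    rw [sup_comm, Subgroup.mem_sup_of_normal_left] at hg
    obtain ⟨m, hm, h, hh, rfl⟩ := hg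
    exact ⟨m, hm, h, hh, rfl⟩
  have hint : ∀ x : G, x ∈ H → x ∈ M → x = 1 := by
    intro x hxH hxM
    have : x ∈ H ⊓ M := Subgroup.mem_inf.mpr ⟨hxH, hxM⟩
    rwa [hHM', Subgroup.mem_bot] at this
  have hHbot : H ≠ ⊥ := by
    rintro rfl
    rw [bot_sup_eq] at hHM
    exact hN2 (top_le_iff.mp (hHM ▸ hMN))
  have hHtop : H ≠ ⊤ := by
    rintro rfl
    rw [top_inf_eq] at hHM'
    exact hM1 hHM'
  have hHN : H ⊓ N < H := by
    refine lt_of_le_of_ne inf_le_left ?_
    intro h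
    have h1 : H ≤ N := inf_eq_left.mp h
    exact hN2 (top_le_iff.mp (hHM ▸ sup_le h1 hMN))
  constructor
  · intro hA
    refine ⟨hHbot, hHtop, hHN, ?_⟩
    intro g hg x hx
    obtain ⟨hxH, hxg⟩ := Subgroup.mem_inf.mp hx
    obtain ⟨y, hyH, hyx⟩ := Subgroup.mem_map.mp hxg
    have hyx' : g * y * g⁻¹ = x := by simpa using hyx
    obtain ⟨m, hm, k, hk, rfl⟩ := hdec g
    have hm1 : m ≠ 1 := by
      rintro rfl
      apply hg
      rw [one_mul]; exact hk
    set z := k * y * k⁻¹ with hz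
    have hzH : z ∈ H := H.mul_mem (H.mul_mem hk hyH) (H.inv_mem hk)
    have hx2 : x = m * z * m⁻¹ := by rw [← hyx', hz]; group
    -- x z⁻¹ ∈ M ∩ H
    have h1 : x * z⁻¹ ∈ M := by
      have : x * z⁻¹ = m * (z * m⁻¹ * z⁻¹) := by rw [hx2]; group
      rw [this]
      exact M.mul_mem hm (‹M.Normal›.conj_mem _ (M.inv_mem hm) z)
    have h2 : x * z⁻¹ = 1 := hint _ (H.mul_mem hxH (H.inv_mem hzH)) h1
    have h3 : x = z := mul_inv_eq_one.mp h2
    apply hA m hm hm1
    rw [Subgroup.mem_centralizer_singleton_iff]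
    rw [← h3] at hx2
    calc x * m = (m * x * m⁻¹) * m := by rw [← hx2]
      _ = m * x := by group
  · rintro ⟨-, -, -, hB⟩ x hxM hx1 c hc
    rw [Subgroup.mem_centralizer_singleton_iff] at hc
    by_contra hcN
    obtain ⟨m, hm, h, hh, rfl⟩ := hdec c
    have hhN : h ∉ N := by
      intro hhN
      exact hcN (N.mul_mem (hMN hm) hhN)
    -- C_M(h) = 1
    have hfree : ∀ u ∈ M, u * h = h * u → u = 1 := by
      intro u hu huh
      by_contra hu1
      have huH : u ∉ H := fun h' => hu1 (hint u h' hu)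
      apply hhN
      apply hB u huH
      refine Subgroup.mem_inf.mpr ⟨hh, Subgroup.mem_map.mpr ⟨h, hh, ?_⟩⟩
      show u * h * u⁻¹ = h
      rw [huh]; group
    -- the map u ↦ u h u⁻¹ h⁻¹ on M is injective hence surjective
    let φ : M → M := fun u => ⟨u * (h * (u : G)⁻¹ * h⁻¹), M.mul_mem u.2 (‹M.Normal›.conj_mem _ (M.inv_mem u.2) h)⟩
    have hφ : Function.Injective φ := by
      intro u v huv
      have h1 : (u : G) * (h * (u : G)⁻¹ * h⁻¹) = v * (h * (v : G)⁻¹ * h⁻¹) := congrArg Subtype.val huv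
      have h2 : ((v : G)⁻¹ * u) * h = h * ((v : G)⁻¹ * u) := by
        calc ((v : G)⁻¹ * u) * h = (v : G)⁻¹ * ((u : G) * (h * (u : G)⁻¹ * h⁻¹)) * h * u := by group
          _ = (v : G)⁻¹ * ((v : G) * (h * (v : G)⁻¹ * h⁻¹)) * h * u := by rw [h1]
          _ = h * ((v : G)⁻¹ * u) := by group
      have h3 := hfree _ (M.mul_mem (M.inv_mem v.2) u.2) h2
      apply Subtype.ext
      exact (inv_mul_eq_one.mp h3).symm
    have hsurj : Function.Surjective φ := Finite.surjective_of_injective hφ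
    obtain ⟨u, hu⟩ := hsurj ⟨m, hm⟩
    have hu' : (u : G) * (h * (u : G)⁻¹ * h⁻¹) = m := congrArg Subtype.val hu
    have hmh : m * h = u * h * (u : G)⁻¹ := by rw [← hu']; group
    rw [hmh] at hc
    have h4 : ((u : G)⁻¹ * x * u) * h = h * ((u : G)⁻¹ * x * u) := by
      calc ((u : G)⁻¹ * x * u) * h = (u : G)⁻¹ * (x * (u * h * (u : G)⁻¹)) * u := by group
        _ = (u : G)⁻¹ * ((u * h * (u : G)⁻¹) * x) * u := by rw [hc]
        _ = h * ((u : G)⁻¹ * x * u) := by group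
    have h5 : (u : G)⁻¹ * x * u ∈ M := by
      have := ‹M.Normal›.conj_mem x hxM (u : G)⁻¹
      simpa using this
    have h6 := hfree _ h5 h4
    apply hx1
    calc x = u * ((u : G)⁻¹ * x * u) * (u : G)⁻¹ := by group
      _ = 1 := by rw [h6]; group

end Cfsg.Agent.S4113
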