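import Cfsg.Statements.S4127
import Cfsg.Agent.S4035
import Cfsg.Agent.Lib_helper1_PQ

set_option autoImplicit false
open Cfsg

namespace Cfsg.Agent.S4127

open scoped Pointwise

/-- Let G be a finite group, p a prime and p^a the largest power of p dividing the size of any conjugacy class of G. If some element of p-power order has a conjugacy class of size exactly p^a, then G has a normal p-complement. -/
theorem result {G : Type*} [Group G] [Finite G] (p : ℕ) [Fact p.Prime]
    (a : ℕ) (hmax : ∀ y : G, ¬ p ^ (a + 1) ∣ (Subgroup.centralizer ({y} : Set G)).index)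
    (hx : ∃ x : G, (∃ k : ℕ, orderOf x = p ^ k) ∧ (Subgroup.centralizer ({x} : Set G)).index = p ^ a) :
    Cfsg.HasNormalPComplement p G := by
  have hp : p.Prime := Fact.out
  obtain ⟨x, ⟨k, hk⟩, hidx⟩ := hx
  set C := Subgroup.centralizer ({x} : Set G) with hC
  have hmemC : ∀ z : G, z ∈ C ↔ z * x = x * z := fun z => Subgroup.mem_centralizer_singleton_iff
  -- step 1: the hypothesis of S4035 in `C`
  have hcoreHyp : ∀ y : C, (orderOf y).Coprime p →
      ¬ p ∣ (Subgroup.centralizer ({y} : Set C)).index := by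
    intro y hy hdvd
    have hy' : (orderOf (y : G)).Coprime p := by rwa [Subgroup.orderOf_coe]
    have hxy : Commute x (y : G) := ((hmemC _).mp y.2).symm
    have hco : (orderOf x).Coprime (orderOf (y : G)) := by
      rw [hk]; exact Nat.Coprime.pow_left _ hy'.symm
    have hCxy : Subgroup.centralizer ({x * (y : G)} : Set G) =
        Subgroup.centralizer ({(y : G)} : Set G) ⊓ C := by
      apply le_antisymm
      · exact le_inf (H3.centralizer_le_of_mem_zpowers (H3.mem_zpowers_mul_of_coprime' hxy hco))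
          (H3.centralizer_le_of_mem_zpowers (H3.mem_zpowers_mul_of_coprime hxy hco))
      · intro c hc
        obtain ⟨h2, h1⟩ := Subgroup.mem_inf.mp hc
        rw [hC] at h1
        rw [Subgroup.mem_centralizer_singleton_iff] at h1 h2 ⊢
        rw [← mul_assoc, h1, mul_assoc, h2, mul_assoc]
    have hsub : Subgroup.centralizer ({y} : Set C) =
        (Subgroup.centralizer ({(y : G)} : Set G)).subgroupOf C := by
      ext z
      rw [Subgroup.mem_subgroupOf, Subgroup.mem_centralizer_singleton_iff,
        Subgroup.mem_centralizer_singleton_iff, Subtype.ext_iff]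
      rfl
    apply hmax (x * (y : G))
    rw [hCxy, ← Subgroup.relIndex_mul_index (inf_le_right : _ ⊓ C ≤ C), Subgroup.inf_relIndex_right,
      hidx, pow_succ, mul_comm]
    apply mul_dvd_mul_right
    rw [hsub] at hdvd
    exact hdvd
  obtain ⟨Pc⟩ : Nonempty (Sylow p C) := inferInstance
  obtain ⟨hPcn, H', hH'n, hH'p, hdisj, hsup⟩ := S4035.core hcoreHyp Pc
  set H := H'.map C.subtype with hH
  have hHC : H ≤ C := Subgroup.map_subtype_le H'
  have hHcard : Nat.card H = Nat.card H' := Subgroup.card_map_of_injective C.subtype_injective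
  have hHp : ¬ p ∣ Nat.card H := by rw [hHcard]; exact hH'p
  -- `p`-elements of `C` commute with `H`
  have hpel : ∀ z ∈ C, (∃ j : ℕ, orderOf z = p ^ j) → ∀ h ∈ H, z * h = h * z := by
    rintro z hz ⟨j, hj⟩ _ ⟨h, hh, rfl⟩
    have hzP : (⟨z, hz⟩ : C) ∈ (Pc : Subgroup C) := by
      have h1 : IsPGroup p (Subgroup.zpowers (⟨z, hz⟩ : C)) := by
        apply IsPGroup.of_card (n := j)
        rw [Nat.card_zpowers, Subgroup.orderOf_mk, hj]
      obtain ⟨Q, hQ⟩ := h1.exists_le_sylow
      haveI := Sylow.unique_of_normal Pc hPcn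
      have : Q = Pc := Subsingleton.elim _ _
      rw [← this]
      exact hQ (Subgroup.mem_zpowers _)
    have := (Subgroup.commute_of_normal_of_disjoint _ _ hPcn hH'n (disjoint_iff.mpr hdisj) _ h hzP
      hh).eq
    exact congrArg Subtype.val this
  have hH'idx : ∃ s : ℕ, H'.index = p ^ s := by
    have h0 : H'.index ∣ Nat.card (Pc : Subgroup C) := by
      have h1 : (H'.relIndex (Pc : Subgroup C)) = H'.index := by
        rw [← Subgroup.relIndex_sup_left, sup_comm, hsup, Subgroup.relIndex_top_right]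
      rw [← h1]
      exact Subgroup.relIndex_dvd_card _ _
    obtain ⟨n, hn⟩ := Pc.2.exists_card_eq
    rw [hn] at h0
    obtain ⟨j, _, hj⟩ := (Nat.dvd_prime_pow hp).mp h0
    exact ⟨j, hj⟩
  -- `p'`-elements of `C` lie in `H`
  have hp'el : ∀ z ∈ C, (orderOf z).Coprime p → z ∈ H := by
    intro z hz hzp
    obtain ⟨s, hs⟩ := hH'idx
    have h1 : (⟨z, hz⟩ : C) ^ (p ^ s) ∈ H' := by rw [← hs]; exact H'.pow_index_mem _
    have h2 : (p ^ s).Coprime (orderOf (⟨z, hz⟩ : C)) := by
      rw [Subgroup.orderOf_mk]; exact Nat.Coprime.pow_left _ hzp.symm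
    obtain ⟨m, hm⟩ := exists_pow_eq_self_of_coprime h2
    refine ⟨⟨z, hz⟩, ?_, rfl⟩
    rw [← hm]
    exact H'.pow_mem h1 m
  -- a Sylow subgroup containing `x`
  have hxp : IsPGroup p (Subgroup.zpowers x) := by
    apply IsPGroup.of_card (n := k)
    rw [Nat.card_zpowers, hk]
  obtain ⟨P, hP⟩ := hxp.exists_le_sylow
  have hxP : x ∈ (P : Subgroup G) := hP (Subgroup.mem_zpowers x)
  have hcompl : (P : Subgroup G).IsComplement' H := by
    obtain ⟨s, hs⟩ := hH'idx
    obtain ⟨n, hn⟩ := P.2.exists_card_eq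
    have hHidx : H.index = p ^ (s + a) := by
      rw [hH, Subgroup.index_map_subtype, hs, hidx, pow_add]
    have e1 := H.card_mul_index
    have e2 := (P : Subgroup G).card_mul_index
    rw [hHidx] at e1
    rw [hn] at e2
    have hcopH : (p ^ n).Coprime (Nat.card H) :=
      Nat.Coprime.pow_left _ ((Nat.Prime.coprime_iff_not_dvd hp).mpr hHp)
    have d1 : p ^ n ∣ p ^ (s + a) := by
      apply hcopH.dvd_of_dvd_mul_left
      rw [e1, ← e2]
      exact Dvd.intro _ rfl
    have hcopP : (p ^ (s + a)).Coprime (P : Subgroup G).index :=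
      Nat.Coprime.pow_left _ ((Nat.Prime.coprime_iff_not_dvd hp).mpr P.not_dvd_index)
    have d2 : p ^ (s + a) ∣ p ^ n := by
      apply hcopP.dvd_of_dvd_mul_right
      rw [e2, ← e1]
      exact Dvd.intro_left _ rfl
    have e3 : p ^ n = p ^ (s + a) := Nat.dvd_antisymm d1 d2
    apply Subgroup.isComplement'_of_coprime
    · rw [hn, e3, mul_comm]; exact e1
    · rw [hn]; exact hcopH
  -- the normal closure of `x`
  set M := Subgroup.normalClosure ({x} : Set G) with hM
  have hMP : M ≤ (P : Subgroup G) := by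
    rw [hM, Subgroup.normalClosure, Subgroup.closure_le]
    intro z hz
    obtain ⟨b, hb, hbz⟩ := Group.mem_conjugatesOfSet_iff.mp hz
    rw [Set.mem_singleton_iff] at hb
    subst hb
    obtain ⟨g, rfl⟩ := isConj_iff.mp hbz
    have h1 : g ∈ (((P : Subgroup G) : Set G) * (H : Set G)) := by rw [hcompl.mul_eq]; trivial
    obtain ⟨u, hu, h, hh, rfl⟩ := Set.mem_mul.mp h1
    have h2 : h * b = b * h := (hmemC h).mp (hHC hh)
    have h3 : u * h * b * (u * h)⁻¹ = u * b * u⁻¹ := by
      calc u * h * b * (u * h)⁻¹ = u * (h * b) * h⁻¹ * u⁻¹ := by group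
        _ = u * b * u⁻¹ := by rw [h2]; group
    show u * h * b * (u * h)⁻¹ ∈ (P : Subgroup G)
    rw [h3]
    exact Subgroup.mul_mem _ (Subgroup.mul_mem _ hu hxP) (Subgroup.inv_mem _ hu)
  have hMp : IsPGroup p M := P.2.to_le hMP
  have hMn : M.Normal := Subgroup.normalClosure_normal
  have hxM : x ∈ M := Subgroup.subset_normalClosure (Set.mem_singleton x)
  have hHM : H ≤ Subgroup.centralizer (M : Set G) := by
    apply H1.thompson_PQ p (Subgroup.zpowers x) H hxp
      ((Nat.Prime.coprime_iff_not_dvd hp).mpr hHp).symm _ M hMp Subgroup.le_normalizer_of_normal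
      Subgroup.le_normalizer_of_normal
    · intro z hz
      obtain ⟨hzM, hzx⟩ := Subgroup.mem_inf.mp hz
      have hzC : z ∈ C := by
        rw [hmemC]
        exact (Subgroup.mem_centralizer_iff.mp hzx x (Subgroup.mem_zpowers x)).symm
      have hzo : ∃ j : ℕ, orderOf z = p ^ j := by
        obtain ⟨j, hj⟩ := (IsPGroup.iff_orderOf.mp hMp) ⟨z, hzM⟩
        exact ⟨j, by rwa [Subgroup.orderOf_mk] at hj⟩
      rw [Subgroup.mem_centralizer_iff]
      intro h hh
      exact (hpel z hzC hzo h hh).symm
    · rw [Subgroup.zpowers_le, Subgroup.mem_centralizer_iff]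
      intro h hh
      exact (hmemC h).mp (hHC hh)
  have hEC : Subgroup.centralizer (M : Set G) ≤ C := by
    intro z hz
    rw [hmemC]
    exact (Subgroup.mem_centralizer_iff.mp hz x hxM).symm
  have hHn : H.Normal := by
    constructor
    intro h hh g
    apply hp'el
    · apply hEC
      exact (Subgroup.normal_centralizer (H := M)).conj_mem h (hHM hh) g
    · have h1 : orderOf (g * h * g⁻¹) = orderOf h := by
        have := (MulAut.conj g).orderOf_eq h
        simpa using this
      rw [h1, Nat.coprime_comm, Nat.Prime.coprime_iff_not_dvd hp]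
      intro hdvd
      apply hHp
      have h3 := orderOf_dvd_natCard (⟨h, hh⟩ : H)
      rw [Subgroup.orderOf_mk] at h3
      exact hdvd.trans h3
  exact ⟨P, H, hHn, hcompl.symm⟩

end Cfsg.Agent.S4127
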