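import Cfsg.Statements.S4236
import Cfsg.Agent.Lib_helper3_SylNum3
import Cfsg.Agent.Lib_helper3_SylNum4

set_option autoImplicit false
open Cfsg

namespace Cfsg.Agent.S4236

open Subgroup in
theorem simple_case {S : Type*} [Group S] [Finite S] [IsSimpleGroup S] :
    Nat.card (Sylow 17 S) ≠ 35 := by
  intro h35
  have hp17 : Fact (Nat.Prime 17) := ⟨by norm_num⟩
  have hp2 : Fact (Nat.Prime 2) := ⟨Nat.prime_two⟩
  obtain ⟨P⟩ : Nonempty (Sylow 17 S) := inferInstance
  obtain ⟨hP, hC⟩ := H3.simple_two_p_add_one 17 (by decide) h35 P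
  have he := H3.relIndex_centralizer_normalizer_dvd 17 (P : Subgroup S) hP
  have hN := H1.relIndex_mul_card' (centralizer_le_normalizer ((P : Subgroup S) : Set S))
  have hidx : (normalizer ((P : Subgroup S) : Set S)).index = 35 := by
    rw [← h35]; exact P.card_eq_index_normalizer.symm
  have hcard := (normalizer ((P : Subgroup S) : Set S)).index_mul_card
  rw [hidx, ← hN, hC] at hcard
  by_cases h2 : 2 ∣ Nat.card S
  · obtain ⟨T, hT⟩ := H3.exists_cyclic_sylow_of_self_centralizing 17 2 (by norm_num)
      (P : Subgroup S) hP hC (by rw [hidx]; norm_num)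
    have h1 := H3.simple_cyclic_sylow_two h2 T hT
    obtain ⟨k, hk⟩ := T.2.exists_card_eq
    have h17 : 17 ∣ 2 ^ k := by
      rw [← hk, ← h1, ← hcard]
      exact ⟨35 * (centralizer ((P : Subgroup S) : Set S)).relIndex
        (normalizer ((P : Subgroup S) : Set S)), by ring⟩
    have := (Nat.Prime.dvd_of_dvd_pow (by norm_num : Nat.Prime 17) h17)
    omega
  · obtain ⟨e, he16, hcard⟩ : ∃ e, e ∣ 16 ∧ 35 * (e * 17) = Nat.card S := ⟨_, he, hcard⟩
    have he1 : e = 1 := by
      have h3 : ¬ 2 ∣ e := fun h => h2 (hcard ▸ (h.mul_right 17).mul_left 35)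
      have hle : e ≤ 16 := Nat.le_of_dvd (by norm_num) he16
      clear hcard
      interval_cases e <;> omega
    have := H3.simple_card_of_coprime_pred (G := S) 17 35 (by rw [← hcard, he1]) (by norm_num)
      (by norm_num)
    omega

/-- No finite group has exactly 35 Sylow 17-subgroups. -/
theorem result {G : Type*} [Group G] [Finite G] : Nat.card (Sylow 17 G) ≠ 35 := by
  have hp17 : Fact (Nat.Prime 17) := ⟨by norm_num⟩
  have hp5 : Fact (Nat.Prime 5) := ⟨by norm_num⟩
  refine H3.sylow_number_reduction 17 35 5 ?_ ?_ (fun S _ _ _ => simple_case) (by norm_num) G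
  · intro a h1 h2
    have hle : a ≤ 35 := Nat.le_of_dvd (by norm_num) h1
    unfold Nat.ModEq at h2
    interval_cases a <;> omega
  · have h3 : (35 : ℕ).factorization 5 = 1 := by
      have : (35 : ℕ) = 5 * 7 := rfl
      rw [this, Nat.factorization_mul (by norm_num) (by norm_num), Finsupp.add_apply,
        Nat.Prime.factorization_self (by norm_num),
        Nat.factorization_eq_zero_of_not_dvd (by norm_num)]
    rw [h3]
    decide

end Cfsg.Agent.S4236
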