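import Mathlib
import Cfsg.Statements.S4238
import Cfsg.Agent.Lib_helper1_ExpSec

set_option autoImplicit false
open Cfsg

namespace Cfsg.Agent.S4238


/-- Let G be a finite group and p a prime. Then G has a normal p-complement if and only if every section K = H/N of G (N a normal subgroup of a subgroup H) whose largest normal subgroup of order prime to p is trivial contains an element whose order equals the exponent of K. -/
theorem result {G : Type*} [Group G] [Finite G] (p : ℕ) [Fact p.Prime] :
    Cfsg.HasNormalPComplement p G ↔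
      ∀ (H : Subgroup G) (N : Subgroup H) [N.Normal], Cfsg.pPrimeCore p (H ⧸ N) = ⊥ →
        ∃ k : H ⧸ N, orderOf k = Monoid.exponent (H ⧸ N) := by
  constructor
  · intro h H N _ hO
    have hH : Cfsg.HasNormalPComplement p ↥H := H1.hasNormalPComplement_subgroup h H
    rw [H1.hasNormalPComplement_iff] at hH
    haveI := H1.pResidual_normal (G := ↥H ⧸ N) p
    have h1 : (Nat.card (Cfsg.pResidual p (↥H ⧸ N))).Coprime p := by
      have h2 := Subgroup.card_dvd_of_le (H1.pResidual_quotient_le (p := p) N)
      exact Nat.Coprime.coprime_dvd_left (h2.trans (Subgroup.card_map_dvd _ _)) hH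
    have h3 : Cfsg.pResidual p (↥H ⧸ N) = ⊥ := by
      rw [eq_bot_iff, ← hO]
      exact H1.le_pPrimeCore p inferInstance h1
    have h4 : IsPGroup p (↥H ⧸ N) := by
      have h5 := H1.isPGroup_quotient_pResidual (G := ↥H ⧸ N) p
      intro x
      obtain ⟨k, hk⟩ := h5 (QuotientGroup.mk x)
      refine ⟨k, ?_⟩
      rw [← QuotientGroup.mk_pow, QuotientGroup.eq_one_iff, h3] at hk
      exact hk
    exact H1.exists_orderOf_eq_exponent_of_pgroup h4
  · intro h
    by_contra hcon
    obtain ⟨H, N, hN, hO, hk⟩ := H1.exists_bad_section hcon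
    exact hk (h H N hO)

end Cfsg.Agent.S4238
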