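import Mathlib
import Cfsg.Statements.S4249
import Cfsg.Agent.Lib_helper1_Kegel5

set_option autoImplicit false
open Cfsg

namespace Cfsg.Agent.S4249


/-- Let G be a finite group and p a prime such that G is not a p-group, and suppose the Hughes subgroup H_p(G), generated by all elements g with g^p ≠ 1, is a proper subgroup. Then H_p(G) is nilpotent and has index p in G. -/
theorem result {G : Type*} [Group G] [Finite G] (p : ℕ) (hp : p.Prime) (hG : ¬ IsPGroup p G)
    (hH : Subgroup.closure {g : G | g ^ p ≠ 1} ≠ ⊤) :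
    Group.IsNilpotent (Subgroup.closure {g : G | g ^ p ≠ 1}) ∧ (Subgroup.closure {g : G | g ^ p ≠ 1}).index = p := by
  have hn : (Subgroup.closure {g : G | g ^ p ≠ 1}).Normal := by
    refine ⟨fun n hn g => ?_⟩
    induction hn using Subgroup.closure_induction with
    | mem a ha =>
      apply Subgroup.subset_closure
      show (g * a * g⁻¹) ^ p ≠ 1
      rw [conj_pow]
      intro h
      apply ha
      have h2 : a ^ p = g⁻¹ * (g * a ^ p * g⁻¹) * g := by group
      rw [h2, h]
      group
    | one => simp
    | mul a b _ _ ha hb =>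
      have h3 : g * (a * b) * g⁻¹ = (g * a * g⁻¹) * (g * b * g⁻¹) := by group
      rw [h3]
      exact mul_mem ha hb
    | inv a _ ha =>
      have h3 : g * a⁻¹ * g⁻¹ = (g * a * g⁻¹)⁻¹ := by group
      rw [h3]
      exact inv_mem ha
  have hyp : ∀ x, x ∉ Subgroup.closure {g : G | g ^ p ≠ 1} → x ^ p = 1 := by
    intro x hx
    by_contra h
    exact hx (Subgroup.subset_closure h)
  exact ⟨Cfsg.Agent.H1.kegel_aux p hp _ G rfl _ hn hH hyp,
    Cfsg.Agent.H1.ht_index p hp _ G rfl _ hn hH hyp hG⟩

end Cfsg.Agent.S4249
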