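import Cfsg.Statements.S4348
import Cfsg.Agent.Lib_helper3_Sylow2

set_option autoImplicit false
open Cfsg

namespace Cfsg.Agent.S4348

/-- Let G be a finite group, p a prime and P a Sylow p-subgroup of G, and let O_p(G) be the largest normal p-subgroup of G. If P/O_p(G) is cyclic, then some element of p-power order of G lies in exactly one Sylow p-subgroup. -/
theorem result {G : Type*} [Group G] [Finite G]
    (p : ℕ) [Fact p.Prime] (P : Sylow p G)
    [hn : ((Cfsg.pCore p G).subgroupOf (P : Subgroup G)).Normal]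
    (hc : IsCyclic ((P : Subgroup G) ⧸ (Cfsg.pCore p G).subgroupOf (P : Subgroup G))) :
    ∃ x : G, (∃ k : ℕ, orderOf x = p ^ k) ∧ ∃! Q : Sylow p G, x ∈ Q := by
  classical
  obtain ⟨q, hq⟩ := hc.exists_generator
  obtain ⟨x, rfl⟩ := QuotientGroup.mk_surjective q
  refine ⟨x, H3.orderOf_of_mem_pGroup P.isPGroup' x.2, P, x.2, ?_⟩
  intro Q hxQ
  have hle : (P : Subgroup G) ≤ Q := by
    intro y hy
    obtain ⟨n, hn⟩ := Subgroup.mem_zpowers_iff.mp (hq ((⟨y, hy⟩ : (P : Subgroup G)) : (P : Subgroup G) ⧸ (Cfsg.pCore p G).subgroupOf (P : Subgroup G)))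
    have h1 : ((x ^ n : (P : Subgroup G)) : (P : Subgroup G) ⧸ (Cfsg.pCore p G).subgroupOf (P : Subgroup G)) = ((⟨y, hy⟩ : (P : Subgroup G)) : (P : Subgroup G) ⧸ (Cfsg.pCore p G).subgroupOf (P : Subgroup G)) := hn
    have h2 := QuotientGroup.eq.mp h1
    rw [Subgroup.mem_subgroupOf] at h2
    have h3 : ((x : G) ^ n)⁻¹ * y ∈ Cfsg.pCore p G := by simpa using h2
    have h4 : ((x : G) ^ n)⁻¹ * y ∈ (Q : Subgroup G) := H3.pCore_le_sylow Q h3
    have h5 : (x : G) ^ n ∈ (Q : Subgroup G) := Subgroup.zpow_mem _ hxQ n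
    have := mul_mem h5 h4
    simpa using this
  exact Sylow.ext (P.is_maximal' Q.isPGroup' hle)

end Cfsg.Agent.S4348
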