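import Cfsg.Statements.S4357
import Cfsg.Agent.Lib_helper6_SL2Redundant
import Cfsg.Agent.Lib_helper6_SL2Tori

set_option autoImplicit false
open Cfsg

namespace Cfsg.Agent.S4357

open H6.GL2C H6.Redund

theorem le_of_pow_dvd {k m n : ℕ} (hn : n = 2 ^ (k + 1) * m) (hm : Odd m) (j : ℕ)
    (h : 2 ^ j ∣ n) : j ≤ k + 1 := by
  rw [hn] at h
  have hcop : Nat.Coprime (2 ^ j) m := Nat.Coprime.pow_left _ hm.coprime_two_left
  exact (Nat.pow_dvd_pow_iff_le_right (by norm_num)).mp (hcop.dvd_of_dvd_mul_right h)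

theorem odd_card_of_two_ne_zero {F : Type*} [Field F] [Fintype F] (h : (2 : F) ≠ 0) :
    Odd (Fintype.card F) := by
  rw [← Nat.not_even_iff_odd, Nat.even_iff]
  intro he
  have hchar : ringChar F = 2 := FiniteField.even_card_iff_char_two.mpr he
  apply h
  have : ((ringChar F : ℕ) : F) = 0 := ringChar.Nat.cast_ringChar
  rw [hchar] at this
  exact_mod_cast this

/-- the non-redundancy statement when `q + 1` is a power of two -/
theorem nr_aniso {F : Type*} [Field F] [Fintype F] (h20 : (2 : F) ≠ 0) (k : ℕ)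
    (hk : Fintype.card F + 1 = 2 ^ k) (Q : Sylow 2 (Matrix.SpecialLinearGroup (Fin 2) F)) :
    ∃ x : Matrix.SpecialLinearGroup (Fin 2) F, (∃ k : ℕ, orderOf x = 2 ^ k) ∧
      ∀ P : Sylow 2 (Matrix.SpecialLinearGroup (Fin 2) F), x ∈ P → P = Q := by
  have hq2 : 2 ≤ Fintype.card F := Fintype.one_lt_card
  obtain ⟨i, rfl⟩ : ∃ i, k = i + 2 := by
    refine ⟨k - 2, ?_⟩
    by_contra hlt
    have hk1 : k ≤ 1 := by omega
    have : 2 ^ k ≤ 2 ^ 1 := Nat.pow_le_pow_right (by norm_num) hk1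
    omega
  obtain ⟨s, x, hxs, hordx, hcards⟩ := exists_orderOf_aniso (F := F)
  rw [hk] at hordx
  have hxx := mul_self_ne_one_of_orderOf x (i + 2) (by omega) hordx
  have hns := nonScalar_of_mul_self_ne_one x hxx
  have hreg := regular_of_two_power h20 x hns ⟨_, hordx⟩
  have hcard : Nat.card (Subgroup.centralizer
      ({x} : Set (Matrix.SpecialLinearGroup (Fin 2) F))) = 2 ^ (i + 2) := by
    rcases card_centralizer_regular x hns hreg with h | h
    · exfalso
      have hmem : x ∈ Subgroup.centralizer ({x} : Set (Matrix.SpecialLinearGroup (Fin 2) F)) :=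
        Subgroup.mem_centralizer_singleton_iff.mpr rfl
      have h1 := orderOf_dvd_natCard (⟨x, hmem⟩ : Subgroup.centralizer
        ({x} : Set (Matrix.SpecialLinearGroup (Fin 2) F)))
      rw [Subgroup.orderOf_mk, hordx, h, ← hk] at h1
      have := Nat.le_of_dvd (by omega) h1
      omega
    · rw [h, hk]
  apply not_redundant_of_torus h20 x (i + 2) (by omega) hordx hcard _ Q
  set a := 2 ^ i with ha
  have hapos : 0 < a := by positivity
  have hq : Fintype.card F + 1 = 4 * a := by rw [hk, pow_add]; ring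
  apply le_of_pow_dvd (m := Fintype.card F * (2 * a - 1))
  · rw [card_SL2, sq_sub_one_eq _ (by omega), hk]
    have : Fintype.card F - 1 = 2 * (2 * a - 1) := by omega
    rw [this, pow_succ (n := i + 2)]
    ring
  · apply Odd.mul (odd_card_of_two_ne_zero h20)
    rw [Nat.odd_iff]; omega

theorem nr_split {F : Type*} [Field F] [Fintype F] (h20 : (2 : F) ≠ 0) (k : ℕ) (hk2 : 2 ≤ k)
    (hk : Fintype.card F = 2 ^ k + 1) (Q : Sylow 2 (Matrix.SpecialLinearGroup (Fin 2) F)) :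
    ∃ x : Matrix.SpecialLinearGroup (Fin 2) F, (∃ k : ℕ, orderOf x = 2 ^ k) ∧
      ∀ P : Sylow 2 (Matrix.SpecialLinearGroup (Fin 2) F), x ∈ P → P = Q := by
  obtain ⟨i, rfl⟩ : ∃ i, k = i + 2 := ⟨k - 2, by omega⟩
  set a := 2 ^ i with ha
  have hapos : 0 < a := by positivity
  have hq : Fintype.card F = 4 * a + 1 := by rw [hk, pow_add]; ring
  obtain ⟨s, hord, hcard⟩ := exists_orderOf_split (F := F) (by omega)
  have hq1 : Fintype.card F - 1 = 2 ^ (i + 2) := by omega
  rw [hq1] at hord hcard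
  apply not_redundant_of_torus h20 s (i + 2) (by omega) hord hcard _ Q
  apply le_of_pow_dvd (m := Fintype.card F * (2 * a + 1))
  · rw [card_SL2, sq_sub_one_eq _ (by omega), hq1]
    have : Fintype.card F + 1 = 2 * (2 * a + 1) := by omega
    rw [this, pow_succ (n := i + 2)]
    ring
  · apply Odd.mul (odd_card_of_two_ne_zero h20)
    rw [Nat.odd_iff]; omega

theorem nr {F : Type*} [Field F] [Fintype F] (p : ℕ) [Fact p.Prime]
    (h : ¬ (p = 2 ∧ (¬ ∃ k : ℕ, Fintype.card F + 1 = 2 ^ k) ∧ (¬ ∃ k : ℕ, Fintype.card F = 2 ^ k) ∧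
        ¬ ∃ k : ℕ, Fintype.card F = 2 ^ k + 1))
    (Q : Sylow p (Matrix.SpecialLinearGroup (Fin 2) F)) :
    ∃ x : Matrix.SpecialLinearGroup (Fin 2) F, (∃ k : ℕ, orderOf x = p ^ k) ∧
      ∀ P : Sylow p (Matrix.SpecialLinearGroup (Fin 2) F), x ∈ P → P = Q := by
  have hq2 : 2 ≤ Fintype.card F := Fintype.one_lt_card
  by_cases hp : p = 2
  · subst hp
    by_cases h20 : (2 : F) = 0
    · exact not_redundant_of_good 2 (fun z hz _ => nonScalar_of_ne_one_of_two_eq_zero h20 hz) Q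
    · have hodd := odd_card_of_two_ne_zero h20
      rw [Nat.odd_iff] at hodd
      have h' : (∃ k : ℕ, Fintype.card F + 1 = 2 ^ k) ∨ (∃ k : ℕ, Fintype.card F = 2 ^ k) ∨
          ∃ k : ℕ, Fintype.card F = 2 ^ k + 1 := by
        by_contra hcon
        push Not at hcon
        apply h
        refine ⟨rfl, ?_, ?_, ?_⟩
        · rintro ⟨k, hk⟩; exact hcon.1 k hk
        · rintro ⟨k, hk⟩; exact hcon.2.1 k hk
        · rintro ⟨k, hk⟩; exact hcon.2.2 k hk
      rcases h' with ⟨k, hk⟩ | ⟨k, hk⟩ | ⟨k, hk⟩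
      · exact nr_aniso h20 k hk Q
      · exfalso
        rcases Nat.eq_zero_or_pos k with rfl | hkpos
        · simp at hk; omega
        · obtain ⟨i, rfl⟩ : ∃ i, k = i + 1 := ⟨k - 1, by omega⟩
          rw [pow_succ] at hk
          omega
      · rcases Nat.lt_or_ge k 2 with hlt | hge
        · interval_cases k
          · exfalso
            simp at hk; omega
          · exact nr_aniso h20 2 (by rw [hk]; norm_num) Q
        · exact nr_split h20 k hge hk Q
  · exact not_redundant_of_good p (good_of_ne_two p hp) Q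

theorem mem_sylow_of_central {G : Type*} [Group G] [Finite G] (p : ℕ) [Fact p.Prime]
    (P Q : Sylow p G) (x : G) (hx : x ∈ Q) (hc : ∀ g : G, g * x = x * g) : x ∈ P := by
  obtain ⟨g, hg⟩ := MulAction.exists_smul_eq G Q P
  have : x ∈ ((g • Q : Sylow p G) : Subgroup G) := by
    rw [Sylow.coe_subgroup_smul, Subgroup.mem_smul_pointwise_iff_exists]
    refine ⟨x, hx, ?_⟩
    rw [MulAut.smul_def, MulAut.conj_apply, hc g, mul_inv_cancel_right]
  rw [hg] at this
  exact this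

theorem red {F : Type*} [Field F] [Fintype F]
    (h1 : ¬ ∃ k : ℕ, Fintype.card F + 1 = 2 ^ k) (h2 : ¬ ∃ k : ℕ, Fintype.card F = 2 ^ k)
    (h3 : ¬ ∃ k : ℕ, Fintype.card F = 2 ^ k + 1)
    (Q : Sylow 2 (Matrix.SpecialLinearGroup (Fin 2) F))
    (x : Matrix.SpecialLinearGroup (Fin 2) F) (hk : ∃ k : ℕ, orderOf x = 2 ^ k) :
    ∃ P : Sylow 2 (Matrix.SpecialLinearGroup (Fin 2) F), P ≠ Q ∧ x ∈ P := by
  haveI : Fact (Nat.Prime 2) := ⟨Nat.prime_two⟩
  have hq2 : 2 ≤ Fintype.card F := Fintype.one_lt_card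
  have h20 : (2 : F) ≠ 0 := by
    intro h
    apply h2
    have hchar : ringChar F = 2 := by
      have h' : ((2 : ℕ) : F) = 0 := by exact_mod_cast h
      have := ringChar.dvd h'
      rcases (Nat.dvd_prime Nat.prime_two).mp this with h1 | h1
      · exact absurd h1 (CharP.ringChar_ne_one)
      · exact h1
    obtain ⟨n, -, hn⟩ := FiniteField.card F (ringChar F)
    exact ⟨n, by rw [hn, hchar]⟩
  have hnotT : ∀ y : Matrix.SpecialLinearGroup (Fin 2) F,
      NonScalar (y : Matrix (Fin 2) (Fin 2) F) → (∃ k : ℕ, orderOf y = 2 ^ k) →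
      ¬ ∃ k : ℕ, Nat.card (Subgroup.centralizer
        ({y} : Set (Matrix.SpecialLinearGroup (Fin 2) F))) = 2 ^ k := by
    rintro y hns hyk ⟨k, hk⟩
    rcases card_centralizer_regular y hns (regular_of_two_power h20 y hns hyk) with h | h
    · exact h3 ⟨k, by omega⟩
    · exact h1 ⟨k, by omega⟩
  have hexP : ∃ P : Sylow 2 (Matrix.SpecialLinearGroup (Fin 2) F), P ≠ Q := by
    obtain ⟨w, hw⟩ : ∃ w : Matrix.SpecialLinearGroup (Fin 2) F,
        (w : Matrix (Fin 2) (Fin 2) F) = !![0, -1; 1, 0] :=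
      ⟨⟨!![0, -1; 1, 0], by simp [Matrix.det_fin_two]⟩, rfl⟩
    have hwns : NonScalar (w : Matrix (Fin 2) (Fin 2) F) := Or.inr (Or.inl (by rw [hw]; simp))
    have hw4 : w ^ (2 ^ 2) = 1 := by
      apply Subtype.ext
      have e : w ^ (2 ^ 2) = (w * w) * (w * w) := by
        rw [show (2 ^ 2 : ℕ) = 2 + 2 from rfl, pow_add, sq]
      rw [e, Matrix.SpecialLinearGroup.coe_mul, Matrix.SpecialLinearGroup.coe_mul, hw,
        Matrix.mul_fin_two, Matrix.mul_fin_two]
      ext a b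
      fin_cases a <;> fin_cases b <;> simp
    obtain ⟨R, hR⟩ := (isPGroup_zpowers 2 w 2 hw4).exists_le_sylow
    have hwR : w ∈ R := hR (Subgroup.mem_zpowers w)
    by_cases hRQ : R = Q
    · have hwk : ∃ k : ℕ, orderOf w = 2 ^ k :=
        (Nat.dvd_prime_pow Nat.prime_two).mp (orderOf_dvd_of_pow_eq_one hw4) |>.imp
          (fun _ h => h.2)
      obtain ⟨P, hP, -⟩ := exists_sylow_ne h20 Q w (hRQ ▸ hwR) hwns (hnotT w hwns hwk)
      exact ⟨P, hP⟩
    · exact ⟨R, hRQ⟩
  by_cases hxQ : x ∈ Q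
  · by_cases hns : NonScalar (x : Matrix (Fin 2) (Fin 2) F)
    · exact exists_sylow_ne h20 Q x hxQ hns (hnotT x hns hk)
    · obtain ⟨P, hP⟩ := hexP
      refine ⟨P, hP, mem_sylow_of_central 2 P Q x hxQ ?_⟩
      have hc := (mem_center_iff_not_nonScalar x).mpr hns
      exact fun g => Subgroup.mem_center_iff.mp hc g
  · obtain ⟨k, hk⟩ := hk
    obtain ⟨P, hP⟩ := (isPGroup_zpowers 2 x k (by rw [← hk, pow_orderOf_eq_one])).exists_le_sylow
    have hxP : x ∈ P := hP (Subgroup.mem_zpowers x)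
    refine ⟨P, ?_, hxP⟩
    rintro rfl
    exact hxQ hxP

/-- Let F be a finite field with q elements, p a prime and G = SL(2, F). Say a Sylow p-subgroup Q of G is redundant when every element of p-power order lies in some Sylow p-subgroup other than Q. Then G has a redundant Sylow p-subgroup if and only if p = 2 and q is not of any of the forms 2ᵏ - 1, 2ᵏ, 2ᵏ + 1. -/
theorem result {F : Type*} [Field F] [Fintype F] (p : ℕ) [Fact p.Prime] :
    (∃ Q : Sylow p (Matrix.SpecialLinearGroup (Fin 2) F), ∀ x : Matrix.SpecialLinearGroup (Fin 2) F,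
        (∃ k : ℕ, orderOf x = p ^ k) → ∃ P : Sylow p (Matrix.SpecialLinearGroup (Fin 2) F), P ≠ Q ∧ x ∈ P) ↔
      (p = 2 ∧ (¬ ∃ k : ℕ, Fintype.card F + 1 = 2 ^ k) ∧ (¬ ∃ k : ℕ, Fintype.card F = 2 ^ k) ∧
        ¬ ∃ k : ℕ, Fintype.card F = 2 ^ k + 1) := by
  constructor
  · rintro ⟨Q, hQ⟩
    by_contra hcon
    obtain ⟨x, hk, hu⟩ := nr p hcon Q
    obtain ⟨P, hne, hxP⟩ := hQ x hk
    exact hne (hu P hxP)
  · rintro ⟨rfl, h1, h2, h3⟩
    obtain ⟨Q⟩ : Nonempty (Sylow 2 (Matrix.SpecialLinearGroup (Fin 2) F)) := inferInstance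
    exact ⟨Q, fun x hk => red h1 h2 h3 Q x hk⟩

end Cfsg.Agent.S4357
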