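import Cfsg.Statements.S4356
import Cfsg.Agent.S4357

set_option autoImplicit false
open Cfsg

namespace Cfsg.Agent.S4356

open H6.GL2C H6.Redund

theorem central_mul_self {F : Type*} [Field F] (z : Matrix.SpecialLinearGroup (Fin 2) F)
    (hz : z ∈ Subgroup.center (Matrix.SpecialLinearGroup (Fin 2) F)) : z * z = 1 := by
  by_contra h
  exact (mem_center_iff_not_nonScalar z).mp hz (nonScalar_of_mul_self_ne_one z h)

theorem central_mem_sylow_two {F : Type*} [Field F] [Fintype F]
    (P : Sylow 2 (Matrix.SpecialLinearGroup (Fin 2) F)) (z : Matrix.SpecialLinearGroup (Fin 2) F)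
    (hz : z ∈ Subgroup.center (Matrix.SpecialLinearGroup (Fin 2) F)) : z ∈ P := by
  haveI : Fact (Nat.Prime 2) := ⟨Nat.prime_two⟩
  obtain ⟨R, hR⟩ := (isPGroup_zpowers 2 z 1 (by
    rw [pow_one, sq]; exact central_mul_self z hz)).exists_le_sylow
  exact S4357.mem_sylow_of_central 2 P R z (hR (Subgroup.mem_zpowers z))
    (fun g => Subgroup.mem_center_iff.mp hz g)

/-- Let F be a finite field with q elements, p a prime and G = PSL(2, F). Say a Sylow p-subgroup Q of G is redundant when every element of p-power order lies in some Sylow p-subgroup other than Q. Then G has a redundant Sylow p-subgroup if and only if p = 2 and q is not of any of the forms 2ᵏ - 1, 2ᵏ, 2ᵏ + 1. -/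
theorem result {F : Type*} [Field F] [Fintype F] (p : ℕ) [Fact p.Prime] :
    (∃ Q : Sylow p (Matrix.ProjectiveSpecialLinearGroup (Fin 2) F), ∀ x : Matrix.ProjectiveSpecialLinearGroup (Fin 2) F,
        (∃ k : ℕ, orderOf x = p ^ k) → ∃ P : Sylow p (Matrix.ProjectiveSpecialLinearGroup (Fin 2) F), P ≠ Q ∧ x ∈ P) ↔
      (p = 2 ∧ (¬ ∃ k : ℕ, Fintype.card F + 1 = 2 ^ k) ∧ (¬ ∃ k : ℕ, Fintype.card F = 2 ^ k) ∧
        ¬ ∃ k : ℕ, Fintype.card F = 2 ^ k + 1) := by
  have hpp : p.Prime := Fact.out
  constructor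
  · rintro ⟨Qb, hQ⟩
    by_contra hcon
    obtain ⟨Q, rfl⟩ := Sylow.mapSurjective_surjective (proj_surjective (F := F)) p Qb
    obtain ⟨x, ⟨k, hk⟩, hu⟩ := S4357.nr p hcon Q
    have hxb : ∃ j : ℕ, orderOf (proj F x) = p ^ j := by
      have h1 : orderOf (proj F x) ∣ p ^ k := by
        rw [← hk]; exact orderOf_map_dvd _ x
      obtain ⟨j, -, hj⟩ := (Nat.dvd_prime_pow hpp).mp h1
      exact ⟨j, hj⟩
    obtain ⟨Pb, hne, hxP⟩ := hQ (proj F x) hxb
    obtain ⟨P, rfl⟩ := Sylow.mapSurjective_surjective (proj_surjective (F := F)) p Pb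
    apply hne
    have hxP' : proj F x ∈ (P : Subgroup (Matrix.SpecialLinearGroup (Fin 2) F)).map (proj F) := by
      have h0 : proj F x ∈ ((P.mapSurjective (proj_surjective (F := F)) :
          Sylow p (Matrix.ProjectiveSpecialLinearGroup (Fin 2) F)) :
          Subgroup (Matrix.ProjectiveSpecialLinearGroup (Fin 2) F)) := hxP
      rwa [Sylow.coe_mapSurjective] at h0
    obtain ⟨y, hyP, hyx⟩ := hxP'
    have hz : y⁻¹ * x ∈ Subgroup.center (Matrix.SpecialLinearGroup (Fin 2) F) := by
      rw [← proj_ker, MonoidHom.mem_ker, map_mul, map_inv, hyx, inv_mul_cancel]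
    have hzz := central_mul_self _ hz
    have hzP : y⁻¹ * x ∈ P := by
      by_cases hp2 : p = 2
      · subst hp2
        exact central_mem_sylow_two P _ hz
      · obtain ⟨j, hj⟩ := P.isPGroup' ⟨y, hyP⟩
        have hj' : y ^ (p ^ j) = 1 := congrArg Subtype.val hj
        have hcomm : Commute y⁻¹ x := by
          have h1 := Subgroup.mem_center_iff.mp hz y
          -- y * (y⁻¹ * x) = (y⁻¹ * x) * y
          have h2 : x * y = y * x := by
            have : y * (y⁻¹ * x * y) = y * x := by rw [← h1]; group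
            rw [← this]; group
          exact (Commute.inv_left (show Commute y x from h2.symm))
        have h3 : (y⁻¹ * x) ^ (p ^ (j + k)) = 1 := by
          rw [hcomm.mul_pow, inv_pow, pow_add, pow_mul, hj', one_pow, inv_one, one_mul, mul_comm,
            pow_mul, ← hk, pow_orderOf_eq_one, one_pow]
        have h4 : orderOf (y⁻¹ * x) ∣ 2 := orderOf_dvd_of_pow_eq_one (by rw [sq]; exact hzz)
        have h5 : orderOf (y⁻¹ * x) ∣ p ^ (j + k) := orderOf_dvd_of_pow_eq_one h3
        have hcop : Nat.Coprime 2 (p ^ (j + k)) := by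
          apply Nat.Coprime.pow_right
          exact (Nat.coprime_primes Nat.prime_two hpp).mpr (Ne.symm hp2)
        have h6 : orderOf (y⁻¹ * x) = 1 := Nat.eq_one_of_dvd_coprimes hcop h4 h5
        rw [orderOf_eq_one_iff] at h6
        rw [h6]; exact P.one_mem
    have hxP'' : x ∈ P := by
      have := (P : Subgroup (Matrix.SpecialLinearGroup (Fin 2) F)).mul_mem hyP hzP
      rwa [mul_inv_cancel_left] at this
    rw [hu P hxP'']
  · rintro ⟨rfl, h1, h2, h3⟩
    obtain ⟨Q⟩ : Nonempty (Sylow 2 (Matrix.SpecialLinearGroup (Fin 2) F)) := inferInstance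
    refine ⟨Q.mapSurjective (proj_surjective (F := F)), ?_⟩
    rintro xb ⟨k, hk⟩
    obtain ⟨x, rfl⟩ := proj_surjective xb
    have hz : x ^ (2 ^ k) ∈ Subgroup.center (Matrix.SpecialLinearGroup (Fin 2) F) := by
      rw [← proj_ker, MonoidHom.mem_ker, map_pow, ← hk, pow_orderOf_eq_one]
    have hx : x ^ (2 ^ (k + 1)) = 1 := by
      rw [pow_succ, pow_mul, sq]; exact central_mul_self _ hz
    have hxk : ∃ j : ℕ, orderOf x = 2 ^ j := by
      obtain ⟨j, -, hj⟩ := (Nat.dvd_prime_pow Nat.prime_two).mp (orderOf_dvd_of_pow_eq_one hx)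
      exact ⟨j, hj⟩
    obtain ⟨P, hne, hxP⟩ := S4357.red h1 h2 h3 Q x hxk
    refine ⟨P.mapSurjective (proj_surjective (F := F)), ?_, ?_⟩
    · intro heq
      apply hne
      have h5 : (P : Subgroup (Matrix.SpecialLinearGroup (Fin 2) F)).map (proj F) =
          (Q : Subgroup (Matrix.SpecialLinearGroup (Fin 2) F)).map (proj F) := by
        rw [← Sylow.coe_mapSurjective (proj_surjective (F := F)),
          ← Sylow.coe_mapSurjective (proj_surjective (F := F)), heq]
      have h6 := congrArg (Subgroup.comap (proj F)) h5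
      rw [Subgroup.comap_map_eq, Subgroup.comap_map_eq, proj_ker,
        sup_eq_left.mpr (fun z hz => central_mem_sylow_two P z hz),
        sup_eq_left.mpr (fun z hz => central_mem_sylow_two Q z hz)] at h6
      exact Sylow.ext h6
    · have h0 : proj F x ∈ ((P.mapSurjective (proj_surjective (F := F)) :
          Sylow 2 (Matrix.ProjectiveSpecialLinearGroup (Fin 2) F)) :
          Subgroup (Matrix.ProjectiveSpecialLinearGroup (Fin 2) F)) := by
        rw [Sylow.coe_mapSurjective]
        exact ⟨x, hxP, rfl⟩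
      exact h0

end Cfsg.Agent.S4356
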