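import Mathlib
import Cfsg.Statements.S4419
import Cfsg.Agent.Lib_helper1_MinAct3
import Cfsg.Agent.Lib_helper1_Cores2

set_option autoImplicit false
open Cfsg

namespace Cfsg.Agent.S4419

open Cfsg.Agent.H1
open scoped Pointwise commutatorElement

/-- Let p be a prime and G a finite group whose Sylow p-subgroups are metacyclic (a cyclic normal subgroup with cyclic quotient). Then G has a normal p-complement if and only if the order of G/O_{p′,p}(G) is coprime to p² − 1. -/
theorem result {G : Type*} [Group G] [Finite G] (p : ℕ) [Fact p.Prime] (S : Sylow p G) (hS : Cfsg.IsMetacyclic ↥(S : Subgroup G)) : Cfsg.HasNormalPComplement p G ↔ Nat.Coprime (Nat.card (G ⧸ Cfsg.pPrimePCore p G)) (p ^ 2 - 1) := by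
  have hp : p.Prime := Fact.out
  have hKn : (Cfsg.pPrimeCore p G).Normal := pPrimeCore_normal (G := G) p
  constructor
  · rintro ⟨P, N, hN, hc⟩
    have hNK : N ≤ Cfsg.pPrimeCore p G := by
      apply le_pPrimeCore p hN
      exact coprime_card_of_complement P N hc
    have hpg : IsPGroup p (G ⧸ Cfsg.pPrimeCore p G) := by
      have h1 : IsPGroup p (G ⧸ N) := isPGroup_quotient_of_complement P N hc
      exact h1.of_surjective (QuotientGroup.map N (Cfsg.pPrimeCore p G) (MonoidHom.id G) hNK)
        (by
          intro x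
          obtain ⟨g, rfl⟩ := QuotientGroup.mk_surjective x
          exact ⟨(g : G ⧸ N), rfl⟩)
    have htop : Cfsg.pPrimePCore p G = ⊤ := by
      unfold Cfsg.pPrimePCore
      have : Cfsg.pCore p (G ⧸ Cfsg.pPrimeCore p G) = ⊤ := by
        rw [eq_top_iff]
        apply le_pCore p inferInstance
        exact hpg.of_equiv Subgroup.topEquiv.symm
      rw [this, Subgroup.comap_top]
    rw [← Subgroup.index_eq_card, htop, Subgroup.index_top]
    exact Nat.coprime_one_left _
  · intro hcop
    by_contra hcon
    obtain ⟨U, y, hm⟩ := exists_minAct hcon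
    obtain ⟨q, hq, hqp, ⟨z, hzA, hzq, hzc⟩, j, hj1, hqj, hjd⟩ := hm.exists_prime_elt
    have : Fact q.Prime := ⟨hq⟩
    -- U is two generated
    obtain ⟨S', hS'⟩ := hm.pgroup.exists_le_sylow
    obtain ⟨g, rfl⟩ := MulAction.exists_smul_eq G S S'
    rw [Sylow.coe_subgroup_smul] at hS'
    let φ : U →* (S : Subgroup G) :=
      ((MulAut.conj g⁻¹).toMonoidHom.comp U.subtype).codRestrict (S : Subgroup G) (fun u => by
        have := mem_conj_smul.mp (hS' u.2)
        simpa using this)
    have hφ : Function.Injective φ := by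
      intro a b hab
      have := congrArg Subtype.val hab
      have h2 : g⁻¹ * (a : G) * g = g⁻¹ * (b : G) * g := by simpa [φ] using this
      exact Subtype.ext (by simpa using h2)
    obtain ⟨N, hNn, hNc, hNq⟩ := hS
    obtain ⟨d, t, hdt⟩ := exists_two_gen_of_injective_metacyclic φ hφ N hNc hNq
    have hdvd := frattini_index_dvd_of_two_gen hm.pgroup d t hdt
    have hj2 : j ≤ 2 := (Nat.pow_dvd_pow_iff_le_right hp.one_lt).mp (hjd.trans hdvd)
    have hq2 : q ∣ p ^ 2 - 1 := by
      interval_cases j
      · have h5 : p ^ 2 - 1 = (p ^ 1 - 1) * (p + 1) := by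
          have h6 := Nat.sq_sub_sq p 1
          rw [one_pow] at h6
          rw [h6, pow_one, mul_comm]
        rw [h5]
        exact hqj.mul_right _
      · exact hqj
    -- q divides the index
    have hLn : (Cfsg.pPrimePCore p G).Normal := by
      unfold Cfsg.pPrimePCore
      have := pCore_normal (G := G ⧸ Cfsg.pPrimeCore p G) p
      infer_instance
    have hqi : q ∣ (Cfsg.pPrimePCore p G).index := by
      by_contra hndvd
      have hzL : Subgroup.zpowers z ≤ Cfsg.pPrimePCore p G :=
        le_of_isPGroup_of_not_dvd_index hzq hndvd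
      have hzL' : z ∈ Cfsg.pPrimePCore p G := hzL (Subgroup.mem_zpowers z)
      unfold Cfsg.pPrimePCore at hzL'
      rw [Subgroup.mem_comap] at hzL'
      have hzK : z ∈ Cfsg.pPrimeCore p G := by
        rw [← QuotientGroup.eq_one_iff]
        have h1 : IsPGroup p (Subgroup.zpowers (QuotientGroup.mk' (Cfsg.pPrimeCore p G) z)) :=
          (pCore_isPGroup p).to_le (Subgroup.zpowers_le.mpr hzL')
        have h2 : IsPGroup q (Subgroup.zpowers (QuotientGroup.mk' (Cfsg.pPrimeCore p G) z)) := by
          have := hzq.map (QuotientGroup.mk' (Cfsg.pPrimeCore p G))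
          rwa [MonoidHom.map_zpowers] at this
        obtain ⟨a, ha⟩ := h1.exists_card_eq
        obtain ⟨b, hb⟩ := h2.exists_card_eq
        have h3 : Nat.card (Subgroup.zpowers (QuotientGroup.mk' (Cfsg.pPrimeCore p G) z)) = 1 := by
          have hc : Nat.Coprime (p ^ a) (q ^ b) :=
            Nat.Coprime.pow _ _ ((Nat.coprime_primes hp hq).mpr hqp.symm)
          rw [← ha, ← hb] at hc
          exact (Nat.coprime_self _).mp hc
        rw [Subgroup.card_eq_one, Subgroup.zpowers_eq_bot] at h3
        exact h3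
      apply hzc
      rw [Subgroup.mem_centralizer_iff]
      intro u hu
      have h1 : ⁅u, z⁆ ∈ U := hm.comm_mem_U hu hzA
      have h2 : ⁅u, z⁆ ∈ Cfsg.pPrimeCore p G := by
        rw [commutatorElement_def]
        exact mul_mem (hKn.conj_mem z hzK u) (inv_mem hzK)
      have h3 : ⁅u, z⁆ ∈ U ⊓ Cfsg.pPrimeCore p G := ⟨h1, h2⟩
      have hcop2 : Nat.Coprime (Nat.card U) (Nat.card (Cfsg.pPrimeCore p G)) := by
        obtain ⟨k, hk⟩ := hm.pgroup.exists_card_eq
        rw [hk]
        exact (Nat.Coprime.pow_left k (card_pPrimeCore_coprime p).symm)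
      rw [(Subgroup.disjoint_of_coprime_natCard hcop2).eq_bot, Subgroup.mem_bot] at h3
      exact (commutatorElement_eq_one_iff_mul_comm.mp h3)
    rw [← Subgroup.index_eq_card] at hcop
    exact hq.one_lt.ne' (Nat.eq_one_of_dvd_coprimes hcop hqi hq2)

end Cfsg.Agent.S4419
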