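import Cfsg.Statements.S5292
import Cfsg.Agent.Lib_helper8_FusEH
import Cfsg.Agent.Lib_helper8_FusCE

set_option autoImplicit false
universe u
open Cfsg

namespace Cfsg.Agent.S5292

/-- Let F be a saturated fusion system over a finite p-group S. Then F is the fusion system of some finite p-solvable group on a Sylow p-subgroup if and only if F is constrained (some subgroup normal in F is centric in F) and the group of automorphisms that F induces on its largest normal subgroup O_p(F) is p-solvable. -/
theorem result {Ω : Type u} [Group Ω] {S : Subgroup Ω} [Finite S] (p : ℕ) [Fact p.Prime] (hS : IsPGroup p S)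
    (F : Cfsg.FusionSystem S) (hF : F.IsSaturated p) :
    (∃ (G : Type u) (_ : Group G) (_ : Finite G) (ι : S →* G), Cfsg.IsPSolvable p G ∧ F.IsRealizedBy ι ∧
        ∃ T : Sylow p G, (T : Subgroup G) = ι.range) ↔
      (F.IsConstrained p ∧ Cfsg.IsPSolvable p ↥(F.autGroup F.core)) := by
  open Cfsg.Agent.H8 Cfsg.Agent in
  have hp : p.Prime := Fact.out
  constructor
  · rintro ⟨G, _, _, ι, hsol, hr, T, hT⟩
    obtain ⟨hr₂, hT₂⟩ := realized_quot hr T hT
    have hsol₂ : Cfsg.IsPSolvable p (G ⧸ Cfsg.pPrimeCore p G) := H7.isPSolvable_quotient hp hsol _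
    have hcon := H7.hall_higman_123 hsol₂ (H1.pPrimeCore_quotient_eq_bot p)
    have hM : F.IsModel p (G ⧸ Cfsg.pPrimeCore p G) ((QuotientGroup.mk' _).comp ι) :=
      ⟨inferInstance, hr₂, hT₂, hcon⟩
    refine ⟨model_isConstrained hM, ?_⟩
    have hcS : F.core ≤ S := (isNormal_core F).1
    exact H7.isPSolvable_of_surjective hp (autHom hr₂ hcS) (autHom_surjective hr₂ hcS)
      (H7.isPSolvable_subgroup hp hsol₂ _)
  · rintro ⟨hcon, hsol⟩
    obtain ⟨G, _, ι, hM⟩ := exists_model_of_constrained hS hcon
    obtain ⟨hfin, hr, hT, hc⟩ := id hM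
    refine ⟨G, inferInstance, hfin, ι, ?_, hr, hT⟩
    have hcS : F.core ≤ S := (isNormal_core F).1
    have htop := model_core_normal hM
    have hker : ∃ m, Nat.card (autHom hr hcS).ker = p ^ m := by
      apply IsPGroup.iff_card.1
      have h1 : IsPGroup p ((Cfsg.pCore p G).comap
          (Subgroup.normalizer (imG ι F.core : Set G)).subtype) :=
        (H1.pCore_isPGroup p).comap_of_injective _ (Subgroup.subtype_injective _)
      exact h1.to_le (fun n hn =>
        hc (Subgroup.centralizer_le (model_pCore_le_imG hM) (autHom_ker_le hr hcS hn)))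
    have hN := isPSolvable_of_ker (autHom hr hcS) (autHom_surjective hr hcS) hsol hker
    exact H7.isPSolvable_of_surjective hp (Subgroup.subtype _)
      (fun g => ⟨⟨g, by rw [htop]; trivial⟩, rfl⟩) hN

end Cfsg.Agent.S5292
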