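import Cfsg.Statements.S5299
import Cfsg.Agent.Lib_helper8_FusEA

set_option autoImplicit false
universe u
open Cfsg

namespace Cfsg.Agent.S5299

/-- Let F be a saturated fusion system over a finite p-group S, H a finite group and Q a p-subgroup of H. If Q is not involved in S (no section of S is isomorphic to Q), then F is H-free: H is involved in no model of the normalizer system of a fully normalized centric subgroup. -/
theorem result {Ω : Type u} [Group Ω] {S : Subgroup Ω} [Finite S] (p : ℕ) [Fact p.Prime] (hS : IsPGroup p S)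
    (F : Cfsg.FusionSystem S) (hF : F.IsSaturated p) (H : Type*) [Group H] [Finite H] (Q : Subgroup H) (hQ : IsPGroup p Q)
    (hfree : ¬ Cfsg.Involves (↥Q) (↥S)) : F.IsSectionFree p H := by
  open Cfsg.Agent.H8 in
  intro Q₀ hfn hcen N hN L _ ι hL hinv
  obtain ⟨hfin, ⟨hinj, -⟩, ⟨T, hT⟩, -⟩ := hL
  apply hfree
  have h1 : Cfsg.Involves (↥Q) H :=
    involves_of_injective Q.subtype Q.subtype_injective (involves_self ↥Q)
  have h2 : Cfsg.Involves (↥Q) L := involves_trans h1 hinv
  have h3 := involves_sylow hQ h2 T
  let e : ↥(T : Subgroup L) ≃* ↥(Cfsg.FusionSystem.normalizerIn S Q₀) :=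
    (MulEquiv.subgroupCongr hT).trans (MonoidHom.ofInjective hinj).symm
  let j : ↥(T : Subgroup L) →* ↥S :=
    (Subgroup.inclusion (inf_le_left : Cfsg.FusionSystem.normalizerIn S Q₀ ≤ S)).comp e.toMonoidHom
  have hj : Function.Injective j := by
    intro x y hxy
    exact e.injective (Subgroup.inclusion_injective
      (inf_le_left : Cfsg.FusionSystem.normalizerIn S Q₀ ≤ S) hxy)
  exact involves_of_injective j hj h3

end Cfsg.Agent.S5299
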