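import Cfsg.Statements.S5522
import Cfsg.Agent.Lib_H9_Aut15

set_option autoImplicit false
open Cfsg

namespace Cfsg.Agent.S5522

open Cfsg.Agent.H9


/-- The Mathieu group M₁₁, realised as the stabiliser of one point of the dodecad of squares inside the stabiliser M₁₂ of that dodecad in M₂₄, acts on the twelve coordinate positions outside the dodecad of squares (its 3-transitive action of degree 12); in this action every element of prime order fixes a point, i.e. the action is elusive. -/
theorem result (g : Equiv.Perm Cfsg.GolayPt) (hg : g ∈ Cfsg.Spor.M11) (hord : (orderOf g).Prime) :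
    ∃ x : Cfsg.GolayPt, x ∉ Cfsg.Spor.squareDodecad ∧ g x = x := by
  rw [M11_eq] at hg
  rw [squareDodecad_eq]
  have hd := D0_mem
  have hg1 : g ≠ 1 := by
    rintro rfl
    rw [orderOf_one] at hord
    exact Nat.not_prime_one hord
  have h4 : (ofMask 340831 ∩ fixF g).card ≤ 4 := by
    by_contra hcon
    exact hg1 (dod_sharp_card hd hg.1 hg.2.1 (by omega))
  have hfix0 : pt 0 ∈ fixF g := mem_fixF.mpr (hg.2.2 _ (Finset.mem_singleton_self _))
  have hdvd : orderOf g ∣ 7920 := by
    have := orderOf_dvd_natCard (⟨g, hg⟩ : SG (ofMask 340831) {pt 0})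
    rwa [Subgroup.orderOf_mk, card_SG_dod1 hd pt0_mem_D0] at this
  have hcases : orderOf g = 2 ∨ orderOf g = 3 ∨ orderOf g = 5 ∨ orderOf g = 11 := by
    have e : (7920 : ℕ) = 2 ^ 4 * 3 ^ 2 * 5 * 11 := by norm_num
    rw [e] at hdvd
    rcases (Nat.Prime.dvd_mul hord).mp hdvd with h | h
    · rcases (Nat.Prime.dvd_mul hord).mp h with h | h
      · rcases (Nat.Prime.dvd_mul hord).mp h with h | h
        · exact Or.inl ((Nat.prime_dvd_prime_iff_eq hord Nat.prime_two).mp (hord.dvd_of_dvd_pow h))
        · exact Or.inr (Or.inl ((Nat.prime_dvd_prime_iff_eq hord Nat.prime_three).mp (hord.dvd_of_dvd_pow h)))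
      · exact Or.inr (Or.inr (Or.inl ((Nat.prime_dvd_prime_iff_eq hord Nat.prime_five).mp h)))
    · exact Or.inr (Or.inr (Or.inr ((Nat.prime_dvd_prime_iff_eq hord (by norm_num)).mp h)))
  have hbig : 5 ≤ (fixF g).card → ∃ x, x ∉ ofMask 340831 ∧ g x = x := by
    intro h5
    by_contra hcon
    push Not at hcon
    have hsub : fixF g ⊆ ofMask 340831 ∩ fixF g := by
      intro x hx
      refine Finset.mem_inter.mpr ⟨?_, hx⟩
      by_contra hxd
      exact hcon x hxd (mem_fixF.mp hx)
    have := Finset.card_le_card hsub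
    omega
  have hmod : ∀ p : ℕ, p.Prime → orderOf g = p → 12 % p ≠ 0 → ∃ x, x ∉ ofMask 340831 ∧ g x = x := by
    intro p hp ho h12
    have : Fact p.Prime := ⟨hp⟩
    have hm := card_inv_mod (p := p) (σ := g) (by rw [← ho]; exact pow_orderOf_eq_one g) (SG_compl_inv hg)
    rw [(compl_mem_dodecads hd).2] at hm
    have hne : ((ofMask 340831)ᶜ ∩ fixF g).card ≠ 0 := by
      intro h0
      rw [h0] at hm
      unfold Nat.ModEq at hm
      rw [Nat.zero_mod] at hm
      exact h12 hm.symm
    obtain ⟨x, hx⟩ := Finset.card_pos.mp (Nat.pos_of_ne_zero hne)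
    rw [Finset.mem_inter] at hx
    exact ⟨x, Finset.mem_compl.mp hx.1, mem_fixF.mp hx.2⟩
  rcases hcases with h | h | h | h
  · apply hbig
    have := invol_fix_octad hg.1 h (Finset.card_ne_zero_of_mem hfix0)
    rw [this.2]; norm_num
  · apply hbig
    rcases ord3_cases hg.1 h with ⟨_, _, _, h6⟩ | ⟨_, _, _, h0⟩
    · rw [h6]; norm_num
    · exact absurd h0 (Finset.card_ne_zero_of_mem hfix0)
  · exact hmod 5 (by norm_num) h (by norm_num)
  · exact hmod 11 (by norm_num) h (by norm_num)

end Cfsg.Agent.S5522
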