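import Cfsg.Statements.S5727
import Mathlib

set_option autoImplicit false
open Cfsg

namespace Cfsg.Agent.S5727

open MulAction

/-- the index in a Sylow subgroup of a point stabiliser is divisible by the `p`-part of the degree -/
theorem pow_dvd_index {G Ω : Type*} [Group G] [Finite G] [MulAction G Ω] [Finite Ω]
    [IsPretransitive G Ω] (p : ℕ) [Fact p.Prime] (P : Sylow p G) (ω : Ω) (j : ℕ)
    (hj : p ^ j ∣ Nat.card Ω) : p ^ j ∣ (stabilizer (P : Subgroup G) ω).index := by
  set S := stabilizer (P : Subgroup G) ω with hS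
  have h1 : Nat.card S * S.index = Nat.card (P : Subgroup G) := S.card_mul_index
  have h2 : Nat.card (stabilizer G ω) * Nat.card Ω = Nat.card G := by
    rw [← index_stabilizer_of_transitive G ω, Subgroup.card_mul_index]
  have h3 : Nat.card (P : Subgroup G) * (P : Subgroup G).index = Nat.card G :=
    (P : Subgroup G).card_mul_index
  have h4 : Nat.card S ∣ Nat.card (stabilizer G ω) := by
    have hle : S.map (P : Subgroup G).subtype ≤ stabilizer G ω := by
      rintro _ ⟨x, hx, rfl⟩
      exact hx
    have := Subgroup.card_dvd_of_le hle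
    rwa [Subgroup.card_map_of_injective (Subgroup.subtype_injective _)] at this
  have h5 : Nat.card S * p ^ j ∣ Nat.card S * (S.index * (P : Subgroup G).index) := by
    rw [← mul_assoc, h1, h3, ← h2]
    exact mul_dvd_mul h4 hj
  have h6 : p ^ j ∣ S.index * (P : Subgroup G).index :=
    (Nat.mul_dvd_mul_iff_left Nat.card_pos).mp h5
  have hcop : Nat.Coprime (p ^ j) (P : Subgroup G).index :=
    Nat.Coprime.pow_left _ ((Nat.Prime.coprime_iff_not_dvd Fact.out).mpr P.not_dvd_index)
  exact hcop.dvd_of_dvd_mul_right h6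

theorem case_lt {G Ω : Type*} [Group G] [Finite G] [MulAction G Ω] [FaithfulSMul G Ω] [Fintype Ω]
    [IsPretransitive G Ω] (p m : ℕ) [Fact p.Prime] (hm : 1 ≤ m) (hmp : m < p)
    (hΩ : Fintype.card Ω = m * p) : ∃ g : G, orderOf g = p ∧ ∀ ω : Ω, g • ω ≠ ω := by
  classical
  have hp : p.Prime := Fact.out
  obtain ⟨P⟩ : Nonempty (Sylow p G) := inferInstance
  haveI : Fintype (P : Subgroup G) := Fintype.ofFinite _
  have hidx : ∀ ω : Ω, (stabilizer (P : Subgroup G) ω).index = p := by
    intro ω
    have h1 : p ∣ (stabilizer (P : Subgroup G) ω).index := by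
      have := pow_dvd_index p P ω 1 (by
        rw [Nat.card_eq_fintype_card, hΩ, pow_one]; exact Dvd.intro_left m rfl)
      simpa using this
    obtain ⟨k, hk⟩ := (P.2).index (stabilizer (P : Subgroup G) ω)
    have h2 : (stabilizer (P : Subgroup G) ω).index ≤ m * p := by
      rw [index_stabilizer, ← hΩ, ← Nat.card_eq_fintype_card, ← Set.ncard_univ]
      exact Set.ncard_le_ncard (Set.subset_univ _) Set.finite_univ
    have h3 : (stabilizer (P : Subgroup G) ω).index < p ^ 2 := by
      have : m * p < p * p := Nat.mul_lt_mul_of_pos_right hmp hp.pos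
      rw [pow_two]; omega
    rw [hk] at h1 h3 ⊢
    have hk2 : k < 2 := (Nat.pow_lt_pow_iff_right hp.one_lt).mp h3
    have hk0 : k ≠ 0 := by
      rintro rfl
      rw [pow_zero] at h1
      exact hp.one_lt.ne' (Nat.dvd_one.mp h1)
    have : k = 1 := by omega
    rw [this, pow_one]
  have hnorm : ∀ ω : Ω, (stabilizer (P : Subgroup G) ω).Normal := by
    intro ω
    apply Subgroup.normal_of_index_eq_minFac_card
    obtain ⟨n, hn⟩ := IsPGroup.iff_card.mp P.2
    have hn0 : n ≠ 0 := by
      rintro rfl
      have := (stabilizer (P : Subgroup G) ω).card_mul_index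
      rw [hidx ω, hn, pow_zero] at this
      exact hp.one_lt.ne' (Nat.eq_one_of_mul_eq_one_left this)
    rw [hidx ω, hn, Nat.pow_minFac hn0, hp.minFac_eq]
  have hcardS : ∀ ω : Ω, Nat.card (stabilizer (P : Subgroup G) ω) * p = Nat.card (P : Subgroup G) := by
    intro ω
    have := (stabilizer (P : Subgroup G) ω).card_mul_index
    rwa [hidx ω] at this
  -- an element without fixed points
  have hex : ∃ g : (P : Subgroup G), ∀ ω : Ω, g • ω ≠ ω := by
    by_contra hcon
    push Not at hcon
    have hcount := Finset.sum_card_bipartiteAbove_eq_sum_card_bipartiteBelow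
      (s := (Finset.univ : Finset (P : Subgroup G))) (t := (Finset.univ : Finset Ω))
      (fun g ω => g • ω = ω)
    have hR : ∀ ω : Ω, (Finset.bipartiteBelow (fun (g : (P : Subgroup G)) (ω : Ω) => g • ω = ω)
        Finset.univ ω).card * p = Nat.card (P : Subgroup G) := by
      intro ω
      rw [← hcardS ω]
      congr 1
      rw [Nat.card_eq_fintype_card, Fintype.card_subtype]
      rfl
    have hL : ∀ g : (P : Subgroup G), p ≤ (Finset.bipartiteAbove
        (fun (g : (P : Subgroup G)) (ω : Ω) => g • ω = ω) Finset.univ g).card := by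
      intro g
      obtain ⟨ω, hω⟩ := hcon g
      have h1 : (orbit (P : Subgroup G) ω).ncard = p := by rw [← index_stabilizer, hidx ω]
      refine h1.symm.le.trans ?_
      rw [← Set.ncard_coe_finset]
      apply Set.ncard_le_ncard _ (Finset.finite_toSet _)
      rintro _ ⟨x, rfl⟩
      simp only [Finset.bipartiteAbove, Finset.coe_filter, Finset.mem_univ, true_and,
        Set.mem_setOf_eq]
      have h2 : x⁻¹ * g * x⁻¹⁻¹ ∈ stabilizer (P : Subgroup G) ω :=
        (hnorm ω).conj_mem g hω x⁻¹
      rw [mem_stabilizer_iff, inv_inv, mul_smul, mul_smul, inv_smul_eq_iff] at h2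
      exact h2
    have h1 : Nat.card (P : Subgroup G) * p ≤ ∑ g : (P : Subgroup G), (Finset.bipartiteAbove
        (fun (g : (P : Subgroup G)) (ω : Ω) => g • ω = ω) Finset.univ g).card := by
      calc Nat.card (P : Subgroup G) * p = ∑ _g : (P : Subgroup G), p := by
            rw [Finset.sum_const, Finset.card_univ, Nat.card_eq_fintype_card, smul_eq_mul]
        _ ≤ _ := Finset.sum_le_sum fun g _ => hL g
    have h2 : (∑ ω : Ω, (Finset.bipartiteBelow (fun (g : (P : Subgroup G)) (ω : Ω) => g • ω = ω)
        Finset.univ ω).card) * p = m * p * Nat.card (P : Subgroup G) := by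
      rw [Finset.sum_mul, Finset.sum_congr rfl fun ω _ => hR ω, Finset.sum_const,
        Finset.card_univ, hΩ, smul_eq_mul]
    rw [hcount] at h1
    have h3 : Nat.card (P : Subgroup G) * p * p ≤ m * p * Nat.card (P : Subgroup G) := by
      rw [← h2]; exact Nat.mul_le_mul_right p h1
    have hpos : 0 < Nat.card (P : Subgroup G) := Nat.card_pos
    have h4 : Nat.card (P : Subgroup G) * p * p = p * (p * Nat.card (P : Subgroup G)) := by ring
    have h5 : m * p * Nat.card (P : Subgroup G) = m * (p * Nat.card (P : Subgroup G)) := by ring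
    rw [h4, h5] at h3
    have := Nat.le_of_mul_le_mul_right h3 (Nat.mul_pos hp.pos hpos)
    omega
  obtain ⟨g, hg⟩ := hex
  refine ⟨(g : G), ?_, fun ω => hg ω⟩
  have hne : Nonempty Ω := by
    rw [← Fintype.card_pos_iff, hΩ]
    exact Nat.mul_pos hm hp.pos
  apply orderOf_eq_prime
  · apply FaithfulSMul.eq_of_smul_eq_smul (α := Ω)
    intro ω
    rw [one_smul]
    haveI := hnorm ω
    have := (stabilizer (P : Subgroup G) ω).pow_index_mem g
    rw [hidx ω, mem_stabilizer_iff] at this
    exact this
  · intro h1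
    obtain ⟨ω⟩ := hne
    apply hg ω
    have : g = 1 := Subtype.ext h1
    rw [this, one_smul]

theorem case_eq {G Ω : Type*} [Group G] [Finite G] [MulAction G Ω] [FaithfulSMul G Ω] [Fintype Ω]
    [IsPretransitive G Ω] (p : ℕ) [Fact p.Prime]
    (hΩ : Fintype.card Ω = p * p) : ∃ g : G, orderOf g = p ∧ ∀ ω : Ω, g • ω ≠ ω := by
  classical
  have hp : p.Prime := Fact.out
  obtain ⟨P⟩ : Nonempty (Sylow p G) := inferInstance
  have horb : ∀ ω : Ω, orbit (P : Subgroup G) ω = Set.univ := by
    intro ω
    have h1 : p ^ 2 ∣ (stabilizer (P : Subgroup G) ω).index :=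
      pow_dvd_index p P ω 2 (by rw [Nat.card_eq_fintype_card, hΩ, pow_two])
    rw [index_stabilizer] at h1
    apply Set.eq_of_subset_of_ncard_le (Set.subset_univ _) _ Set.finite_univ
    rw [Set.ncard_univ, Nat.card_eq_fintype_card, hΩ, ← pow_two]
    apply Nat.le_of_dvd _ h1
    rw [Set.ncard_pos]
    exact ⟨ω, mem_orbit_self ω⟩
  have hne : Nonempty Ω := by
    rw [← Fintype.card_pos_iff, hΩ]
    exact Nat.mul_pos hp.pos hp.pos
  haveI : Nontrivial (P : Subgroup G) := by
    by_contra hnt
    rw [not_nontrivial_iff_subsingleton] at hnt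
    obtain ⟨ω⟩ := hne
    have h1 : (orbit (P : Subgroup G) ω) ⊆ {ω} := by
      rintro _ ⟨x, rfl⟩
      have : x = 1 := Subsingleton.elim _ _
      simp [this]
    rw [horb ω] at h1
    have h2 := Set.ncard_le_ncard h1 (Set.finite_singleton ω)
    rw [Set.ncard_univ, Nat.card_eq_fintype_card, hΩ, Set.ncard_singleton] at h2
    have := Nat.mul_lt_mul'' hp.one_lt hp.one_lt
    omega
  haveI := IsPGroup.center_nontrivial P.2
  have hZ : IsPGroup p (Subgroup.center (P : Subgroup G)) := P.2.to_subgroup _
  obtain ⟨n, hn0, hn⟩ := hZ.nontrivial_iff_card.mp inferInstance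
  obtain ⟨z, hz⟩ := exists_prime_orderOf_dvd_card' (G := Subgroup.center (P : Subgroup G)) p
    (by rw [hn]; exact dvd_pow_self p hn0.ne')
  refine ⟨((z : (P : Subgroup G)) : G), ?_, ?_⟩
  · rw [Subgroup.orderOf_coe, Subgroup.orderOf_coe, hz]
  · intro ω hω
    have hz1 : ((z : (P : Subgroup G)) : G) = 1 := by
      apply FaithfulSMul.eq_of_smul_eq_smul (α := Ω)
      intro ω'
      rw [one_smul]
      have : ω' ∈ orbit (P : Subgroup G) ω := by rw [horb ω]; trivial
      obtain ⟨x, rfl⟩ := this
      have hc : (z : (P : Subgroup G)) * x = x * z := (Subgroup.mem_center_iff.mp z.2 x).symm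
      change (z : (P : Subgroup G)) • (x • ω) = x • ω
      rw [← mul_smul, hc, mul_smul]
      congr 1
    have : orderOf ((z : (P : Subgroup G)) : G) = 1 := by rw [hz1, orderOf_one]
    rw [Subgroup.orderOf_coe, Subgroup.orderOf_coe, hz] at this
    exact hp.one_lt.ne' this

/-- If a finite group acts faithfully and transitively on a set with m·p elements, where p is a prime and 1 ≤ m ≤ p, then some element of order p fixes no point. -/
theorem result {G Ω : Type*} [Group G] [Finite G] [MulAction G Ω] [FaithfulSMul G Ω] [Fintype Ω] (htr : MulAction.IsPretransitive G Ω)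
    (p m : ℕ) (hp : p.Prime) (hm : 1 ≤ m) (hmp : m ≤ p) (hΩ : Fintype.card Ω = m * p) :
    ∃ g : G, orderOf g = p ∧ ∀ ω : Ω, g • ω ≠ ω := by
  haveI : Fact p.Prime := ⟨hp⟩
  rcases Nat.lt_or_ge m p with h | h
  · exact case_lt p m hm h hΩ
  · have : m = p := le_antisymm hmp h
    subst this
    exact case_eq m hΩ

end Cfsg.Agent.S5727
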