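import Cfsg.Statements.S5726
import Cfsg.Agent.S5727

set_option autoImplicit false
open Cfsg

namespace Cfsg.Agent.S5726

/-- If a finite group acts faithfully and transitively on a set with p^k elements, p a prime and k ≥ 1, then some element of order p fixes no point. -/
theorem result {G Ω : Type*} [Group G] [Finite G] [MulAction G Ω] [FaithfulSMul G Ω] [Fintype Ω] (htr : MulAction.IsPretransitive G Ω)
    (p k : ℕ) (hp : p.Prime) (hk : 1 ≤ k) (hΩ : Fintype.card Ω = p ^ k) :
    ∃ g : G, orderOf g = p ∧ ∀ ω : Ω, g • ω ≠ ω := by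
  classical
  haveI : Fact p.Prime := ⟨hp⟩
  obtain ⟨P⟩ : Nonempty (Sylow p G) := inferInstance
  have hne : Nonempty Ω := by
    rw [← Fintype.card_pos_iff, hΩ]
    exact pow_pos hp.pos k
  obtain ⟨ω₀⟩ := hne
  have hdvd := S5727.pow_dvd_index p P ω₀ k (by rw [Nat.card_eq_fintype_card, hΩ])
  have horb : MulAction.orbit (P : Subgroup G) ω₀ = Set.univ := by
    apply Set.eq_of_subset_of_ncard_le (Set.subset_univ _) _ Set.finite_univ
    rw [Set.ncard_univ, Nat.card_eq_fintype_card, hΩ, ← MulAction.index_stabilizer]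
    exact Nat.le_of_dvd (Nat.pos_of_ne_zero (Subgroup.index_ne_zero_of_finite)) hdvd
  have hnt : Nontrivial (P : Subgroup G) := by
    by_contra hcon
    rw [not_nontrivial_iff_subsingleton] at hcon
    have h1 : (MulAction.stabilizer (P : Subgroup G) ω₀).index = 1 := by
      rw [Subgroup.index_eq_one]
      exact Subsingleton.elim _ _
    rw [h1, Nat.dvd_one] at hdvd
    have : 1 < p ^ k := Nat.one_lt_pow (by omega) hp.one_lt
    omega
  haveI := P.2.center_nontrivial
  have hZ : IsPGroup p (Subgroup.center (P : Subgroup G)) := P.2.to_subgroup _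
  obtain ⟨n, hn⟩ := IsPGroup.iff_card.1 hZ
  have hn0 : n ≠ 0 := by
    rintro rfl
    rw [pow_zero] at hn
    have := Finite.one_lt_card (α := Subgroup.center (P : Subgroup G))
    omega
  obtain ⟨z, hz⟩ := exists_prime_orderOf_dvd_card' (G := Subgroup.center (P : Subgroup G)) p
    (by rw [hn]; exact dvd_pow_self p hn0)
  refine ⟨((z : (P : Subgroup G)) : G), by rw [Subgroup.orderOf_coe, Subgroup.orderOf_coe, hz], ?_⟩
  intro ω hω
  have hall : ∀ ω' : Ω, ((z : (P : Subgroup G)) : G) • ω' = ω' := by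
    intro ω'
    have h1 : ω ∈ MulAction.orbit (P : Subgroup G) ω₀ := by rw [horb]; trivial
    have h2 : ω' ∈ MulAction.orbit (P : Subgroup G) ω₀ := by rw [horb]; trivial
    obtain ⟨x, rfl⟩ := h1
    obtain ⟨y, rfl⟩ := h2
    have hzc : ∀ g : (P : Subgroup G), g * (z : (P : Subgroup G)) = (z : (P : Subgroup G)) * g :=
      fun g => Subgroup.mem_center_iff.1 z.2 g
    have h3 : (z : (P : Subgroup G)) • ω₀ = ω₀ := by
      have h4 : (z : (P : Subgroup G)) • x • ω₀ = x • ω₀ := hω
      rw [← mul_smul, ← hzc, mul_smul] at h4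
      exact smul_left_cancel x h4
    show (z : (P : Subgroup G)) • y • ω₀ = y • ω₀
    rw [← mul_smul, ← hzc, mul_smul, h3]
  have h1 : ((z : (P : Subgroup G)) : G) = 1 := by
    apply FaithfulSMul.eq_of_smul_eq_smul (α := Ω)
    intro ω'
    rw [hall, one_smul]
  have h2 : z = 1 := Subtype.ext (Subtype.ext h1)
  rw [h2, orderOf_one] at hz
  exact hp.one_lt.ne hz

end Cfsg.Agent.S5726
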